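import Groth.Agent.H19.QuasiRegGen
import Mathlib.RingTheory.Ideal.Cotangent
import Mathlib.RingTheory.Nakayama
import Mathlib.LinearAlgebra.Dimension.StrongRankCondition
import Mathlib.LinearAlgebra.Dimension.Finrank
import Mathlib.LinearAlgebra.Dimension.Free

set_option autoImplicit false

namespace Groth.Agent.H19.QRegCot

open MvPolynomial Groth.Agent.H19.QReg Groth.Agent.H19.QRegGen

universe u

variable {A : Type u} [CommRing A]

/-- the linear form attached to a vector -/
noncomputable def linv {m : ℕ} (a : Fin m → A) : MvPolynomial (Fin m) A := ∑ j, C (a j) * X j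

lemma linv_isHomogeneous {m : ℕ} (a : Fin m → A) : (linv a).IsHomogeneous 1 :=
  IsHomogeneous.sum _ _ _ (fun _ _ => isHomogeneous_C_mul_X _ _)

lemma eval_linv {m : ℕ} (a f : Fin m → A) : eval f (linv a) = ∑ j, a j * f j := by
  simp [linv]

lemma coeff_linv {m : ℕ} (a : Fin m → A) (k : Fin m) :
    coeff (Finsupp.single k 1) (linv a) = a k := by
  classical
  simp only [linv, coeff_sum, coeff_C_mul, coeff_X]
  rw [Finset.sum_eq_single k]
  · simp
  · intro j _ hjk
    have : Finsupp.single j 1 ≠ Finsupp.single k 1 := by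
      intro h
      exact hjk (Finsupp.single_left_injective one_ne_zero h)
    simp [this]
  · intro h; exact absurd (Finset.mem_univ k) h

variable (I : Ideal A)

lemma mk_smul_toCotangent (a : A) (x : I) :
    (Ideal.Quotient.mk I a) • I.toCotangent x = I.toCotangent (a • x) := by
  rw [map_smul]
  exact algebraMap_smul (A ⧸ I) a (I.toCotangent x)

lemma sum_mk_smul_toCotangent {m : ℕ} (a : Fin m → A) (f : Fin m → I) :
    ∑ i, (Ideal.Quotient.mk I (a i)) • I.toCotangent (f i) = I.toCotangent (∑ i, a i • f i) := by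
  rw [map_sum]
  exact Finset.sum_congr rfl fun i _ => mk_smul_toCotangent I (a i) (f i)

lemma coe_sum_smul {m : ℕ} (a : Fin m → A) (f : Fin m → I) :
    ((∑ i, a i • f i : I) : A) = ∑ i, a i * (f i : A) := by
  rw [Submodule.coe_sum]
  rfl

theorem forward {m : ℕ} (f : Fin m → I) (hq : QR (fun i => (f i : A)))
    (hspan : Ideal.span (Set.range fun i => (f i : A)) = I) :
    LinearIndependent (A ⧸ I) (fun i => I.toCotangent (f i)) ∧
      Submodule.span (A ⧸ I) (Set.range fun i => I.toCotangent (f i)) = ⊤ := by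
  constructor
  · rw [Fintype.linearIndependent_iff]
    intro c hc i
    have hsurj : ∀ j, ∃ a : A, Ideal.Quotient.mk I a = c j := fun j =>
      Ideal.Quotient.mk_surjective (c j)
    choose a ha using hsurj
    simp only [← ha] at hc
    rw [sum_mk_smul_toCotangent, Ideal.toCotangent_eq_zero, coe_sum_smul] at hc
    have h1 : eval (fun i => (f i : A)) (linv a) ∈ J (fun i => (f i : A)) ^ (1 + 1) := by
      rw [eval_linv]
      change _ ∈ Ideal.span (Set.range fun i => (f i : A)) ^ (1 + 1)
      rw [hspan]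
      exact hc
    have h2 := hq 1 (linv a) (linv_isHomogeneous a) h1 (Finsupp.single i 1)
    rw [coeff_linv] at h2
    change a i ∈ Ideal.span (Set.range fun i => (f i : A)) at h2
    rw [hspan] at h2
    rw [← ha i]
    exact Ideal.Quotient.eq_zero_iff_mem.mpr h2
  · rw [eq_top_iff]
    intro y _
    obtain ⟨x, rfl⟩ := I.toCotangent_surjective y
    have hx : (x : A) ∈ Ideal.span (Set.range fun i => (f i : A)) := by
      rw [hspan]; exact x.2
    obtain ⟨a, ha⟩ := Ideal.mem_span_range_iff_exists_fun.mp hx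
    have hx' : x = ∑ i, a i • f i := by
      apply Subtype.ext
      rw [coe_sum_smul, ha]
    rw [hx', ← sum_mk_smul_toCotangent]
    exact Submodule.sum_mem _ fun i _ =>
      Submodule.smul_mem _ _ (Submodule.subset_span ⟨i, rfl⟩)

theorem span_eq_of_span_cotangent [IsLocalRing A] (hI : I ≤ IsLocalRing.maximalIdeal A)
    (hfg : I.FG) {m : ℕ} (f : Fin m → I)
    (hsp : Submodule.span (A ⧸ I) (Set.range fun i => I.toCotangent (f i)) = ⊤) :
    Ideal.span (Set.range fun i => (f i : A)) = I := by
  refine le_antisymm (Ideal.span_le.mpr (by rintro _ ⟨i, rfl⟩; exact (f i).2)) ?_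
  have hjac : I ≤ Ideal.jacobson (⊥ : Ideal A) := by
    rw [IsLocalRing.jacobson_eq_maximalIdeal ⊥ bot_ne_top]
    exact hI
  refine Submodule.le_of_le_smul_of_le_jacobson_bot (N' := I)
    (N := Ideal.span (Set.range fun i => (f i : A))) hfg hjac ?_
  intro x hx
  have hmem : I.toCotangent ⟨x, hx⟩ ∈
      Submodule.span (A ⧸ I) (Set.range fun i => I.toCotangent (f i)) := by
    rw [hsp]; exact Submodule.mem_top
  obtain ⟨c, hc⟩ := (Submodule.mem_span_range_iff_exists_fun (A ⧸ I)).mp hmem
  have hsurj : ∀ j, ∃ a : A, Ideal.Quotient.mk I a = c j := fun j =>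
    Ideal.Quotient.mk_surjective (c j)
  choose a ha using hsurj
  simp only [← ha] at hc
  rw [sum_mk_smul_toCotangent, Ideal.toCotangent_eq, coe_sum_smul] at hc
  have hx' : x = ∑ i, a i * (f i : A) - (∑ i, a i * (f i : A) - x) := by ring
  rw [hx']
  refine Submodule.sub_mem _ (Submodule.mem_sup_left ?_) (Submodule.mem_sup_right ?_)
  · exact Ideal.sum_mem _ fun i _ => Ideal.mul_mem_left _ _ (Ideal.subset_span ⟨i, rfl⟩)
  · rw [smul_eq_mul, ← pow_two]
    exact hc

theorem main [IsLocalRing A] (hI : I ≤ IsLocalRing.maximalIdeal A)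
    (hq : ∃ (r : ℕ) (g : Fin r → A), CAlgX.IsQuasiRegular g ∧ Ideal.span (Set.range g) = I)
    {m : ℕ} (f : Fin m → I) :
    (CAlgX.IsQuasiRegular (fun i => (f i : A)) ∧
        Ideal.span (Set.range fun i => (f i : A)) = I) ↔
      (LinearIndependent (A ⧸ I) (fun i => I.toCotangent (f i)) ∧
        Submodule.span (A ⧸ I) (Set.range fun i => I.toCotangent (f i)) = ⊤) := by
  constructor
  · rintro ⟨h1, h2⟩
    exact forward I f h1 h2
  · rintro ⟨hli, hsp⟩
    obtain ⟨r, g, hg, hgI⟩ := hq
    have hfg : I.FG := by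
      classical
      rw [← hgI]
      exact ⟨Finset.univ.image g, by rw [Finset.coe_image, Finset.coe_univ, Set.image_univ]⟩
    have hspan := span_eq_of_span_cotangent I hI hfg f hsp
    refine ⟨?_, hspan⟩
    -- `g` as a family in `I`
    have hgmem : ∀ j, g j ∈ I := fun j => hgI ▸ Ideal.subset_span ⟨j, rfl⟩
    set g' : Fin r → I := fun j => ⟨g j, hgmem j⟩ with hg'
    have hgq : QR (fun j => (g' j : A)) := hg
    obtain ⟨hli', hsp'⟩ := forward I g' hgq hgI
    have hnt : Nontrivial (A ⧸ I) := by
      rw [Ideal.Quotient.nontrivial_iff]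
      intro htop
      have : IsLocalRing.maximalIdeal A = ⊤ := top_le_iff.mp (htop ▸ hI)
      exact (IsLocalRing.maximalIdeal.isMaximal A).ne_top this
    let b₁ := Module.Basis.mk hli (le_of_eq hsp.symm)
    let b₂ := Module.Basis.mk hli' (le_of_eq hsp'.symm)
    have hcard : Fintype.card (Fin m) = Fintype.card (Fin r) := by
      rw [← Module.finrank_eq_card_basis b₁, ← Module.finrank_eq_card_basis b₂]
    rw [Fintype.card_fin, Fintype.card_fin] at hcard
    subst hcard
    exact qr_of_span_eq g (fun i => (f i : A)) hg (hspan.trans hgI.symm)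

end Groth.Agent.H19.QRegCot
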