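import Groth.Agent.H19.QuasiReg
import Mathlib.RingTheory.Filtration
import Mathlib.RingTheory.Jacobson.Ideal
import Mathlib.RingTheory.Regular.IsSMulRegular

/-!
# Quasi-regular sequences in the Jacobson radical of a Noetherian ring are regular
-/

set_option autoImplicit false

namespace Groth.Agent.H19.QReg

open MvPolynomial RingTheory.Sequence
open scoped Pointwise

universe u v

section

variable {A : Type u} [CommRing A] {σ : Type v}

/-- If `g` is quasi-regular and `g none * ω ∈ J^(i+1)` then `ω ∈ J^i`. -/
theorem mem_pow_of_mul_mem (g : Option σ → A) (hg : QR g) (ω : A) :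
    ∀ i : ℕ, g none * ω ∈ J g ^ (i + 1) → ω ∈ J g ^ i := by
  intro i
  induction i with
  | zero => intro _; rw [pow_zero, Ideal.one_eq_top]; exact Submodule.mem_top
  | succ i ih =>
    intro h
    have h1 : ω ∈ J g ^ i := ih (Ideal.pow_le_pow_right (Nat.le_succ _) h)
    obtain ⟨H, hH, rfl⟩ := exists_homog_of_mem_pow g h1
    have hXH : (X none * H).IsHomogeneous (i + 1) := by
      have := (isHomogeneous_X A (none : Option σ)).mul hH
      rwa [add_comm] at this
    have h2 := hg (i + 1) (X none * H) hXH (by rw [map_mul, eval_X]; exact h)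
    have h3 : CoeffsIn (J g) H := fun d => by
      have := h2 (Finsupp.single none 1 + d)
      rwa [coeff_X_mul] at this
    rw [pow_succ']
    exact eval_mem g (J g) hH h3

/-- The first element of a quasi-regular sequence in the Jacobson radical of a Noetherian ring
is a nonzerodivisor. -/
theorem eq_zero_of_mul_eq_zero [IsNoetherianRing A] (g : Option σ → A) (hg : QR g)
    (hJ : J g ≤ Ideal.jacobson ⊥) (ξ : A) (h : g none * ξ = 0) : ξ = 0 := by
  have h1 : ∀ i, ξ ∈ J g ^ i := fun i =>
    mem_pow_of_mul_mem g hg ξ i (by rw [h]; exact Ideal.zero_mem _)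
  have h2 := Ideal.iInf_pow_smul_eq_bot_of_le_jacobson (M := A) (J g) hJ
  have h3 : ξ ∈ (⨅ i : ℕ, J g ^ i • ⊤ : Submodule A A) := by
    rw [Submodule.mem_iInf]
    intro i
    rw [smul_eq_mul, Ideal.mul_top]
    exact h1 i
  rw [h2] at h3
  exact (Submodule.mem_bot A).mp h3

/-- the image family in the quotient by the first element -/
noncomputable abbrev quotFam (g : Option σ → A) : σ → A ⧸ Ideal.span {g none} :=
  fun i => Ideal.Quotient.mk (Ideal.span {g none}) (g (some i))

theorem J_quotFam (g : Option σ → A) :
    J (quotFam g) = (J g).map (Ideal.Quotient.mk (Ideal.span {g none})) := by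
  apply le_antisymm
  · rw [J, Ideal.span_le]
    rintro _ ⟨i, rfl⟩
    exact Ideal.mem_map_of_mem _ (Ideal.subset_span ⟨some i, rfl⟩)
  · rw [Ideal.map_le_iff_le_comap, J, Ideal.span_le]
    rintro _ ⟨o, rfl⟩
    rw [SetLike.mem_coe, Ideal.mem_comap]
    cases o with
    | none =>
      rw [Ideal.Quotient.eq_zero_iff_mem.mpr (Ideal.mem_span_singleton_self _)]
      exact Ideal.zero_mem _
    | some i => exact Ideal.subset_span ⟨i, rfl⟩

/-- homogeneous polynomials lift along a surjection -/
theorem exists_lift_homog {B : Type*} [CommRing B] (φ : A →+* B) (hφ : Function.Surjective φ)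
    (n : ℕ) (Q : MvPolynomial σ B) (hQ : Q.IsHomogeneous n) :
    ∃ P : MvPolynomial σ A, P.IsHomogeneous n ∧ map φ P = Q := by
  classical
  refine ⟨Q.support.sum fun d => monomial d (Function.surjInv hφ (coeff d Q)), ?_, ?_⟩
  · refine IsHomogeneous.sum _ _ _ fun d hd => ?_
    apply isHomogeneous_monomial
    exact (isHomogeneous_iff Q n).mp hQ d (mem_support_iff.mp hd)
  · rw [map_sum]
    conv_rhs => rw [← support_sum_monomial_coeff Q]
    refine Finset.sum_congr rfl fun d _ => ?_
    rw [map_monomial, Function.surjInv_eq hφ]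

/-- Matsumura 16.3, step 2: the images of the remaining elements form a quasi-regular sequence
modulo the first. -/
theorem qr_quotFam (g : Option σ → A) (hg : QR g) : QR (quotFam g) := by
  classical
  intro n Q hQ hev
  refine qr_level_of_zero (quotFam g) n ?_ Q hQ hev
  clear hev hQ Q
  intro Q hQ h0
  rcases n with _ | m
  · exact qr_zero_level _ Q hQ h0
  obtain ⟨P, hP, rfl⟩ := exists_lift_homog (Ideal.Quotient.mk (Ideal.span {g none}))
    Ideal.Quotient.mk_surjective _ Q hQ
  have h1 : Ideal.Quotient.mk (Ideal.span {g none}) (eval (fun i => g (some i)) P) = 0 := by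
    rw [← h0, eval_map, eval₂_comp]
    rfl
  rw [Ideal.Quotient.eq_zero_iff_mem, Ideal.mem_span_singleton'] at h1
  obtain ⟨ω, hω⟩ := h1
  have hren : (rename some P : MvPolynomial (Option σ) A).IsHomogeneous (m + 1) :=
    hP.rename_isHomogeneous
  have hev' : eval g (rename some P) = eval (fun i => g (some i)) P := by
    rw [eval_rename]
    rfl
  have h2 : g none * ω ∈ J g ^ (m + 1) := by
    rw [mul_comm, hω, ← hev']
    have := eval_mem g ⊤ hren (fun d => Submodule.mem_top)
    rwa [Ideal.top_mul] at this
  have h3 : ω ∈ J g ^ m := mem_pow_of_mul_mem g hg ω m h2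
  obtain ⟨H, hH, rfl⟩ := exists_homog_of_mem_pow g h3
  have hXH : (X none * H).IsHomogeneous (m + 1) := by
    have := (isHomogeneous_X A (none : Option σ)).mul hH
    rwa [add_comm] at this
  have hΦ : (rename some P - X none * H).IsHomogeneous (m + 1) := hren.sub hXH
  have hevΦ : eval g (rename some P - X none * H) = 0 := by
    rw [map_sub, hev', map_mul, eval_X, ← hω]
    ring
  have h4 := hg (m + 1) _ hΦ (by rw [hevΦ]; exact Ideal.zero_mem _)
  intro d
  rw [coeff_map, J_quotFam]
  apply Ideal.mem_map_of_mem
  have hnone : (none : Option σ) ∉ (Finsupp.mapDomain some d).support := by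
    rw [Finsupp.mem_support_iff, not_not]
    apply Finsupp.mapDomain_of_notMem_range
    simp
  have : coeff (Finsupp.mapDomain some d) (rename some P - X none * H) = coeff d P := by
    rw [coeff_sub, coeff_rename_mapDomain some (Option.some_injective _), coeff_X_mul',
      if_neg hnone, sub_zero]
  rw [← this]
  exact h4 _

end

/-- **Quasi-regular sequences in the Jacobson radical of a Noetherian ring are regular.** -/
theorem isWeaklyRegular_of_qr : ∀ (c : ℕ) (A : Type u) [CommRing A] [IsNoetherianRing A]
    (f : Fin c → A), (∀ i, f i ∈ Ring.jacobson A) → QR f → IsWeaklyRegular A (List.ofFn f) := by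
  intro c
  induction c with
  | zero =>
    intro A _ _ f _ _
    rw [List.ofFn_zero]
    exact IsWeaklyRegular.nil A A
  | succ c ih =>
    intro A _ _ f hjac hf
    set g : Option (Fin c) → A := f ∘ (finSuccEquiv c).symm with hgdef
    have hg : QR g := qr_comp_equiv f hf (finSuccEquiv c).symm
    have hg0 : g none = f 0 := by simp [hgdef]
    have hgs : ∀ i, g (some i) = f i.succ := fun i => by simp [hgdef]
    have hJ : J g ≤ Ideal.jacobson ⊥ := by
      rw [Ideal.jacobson_bot, J, Ideal.span_le]
      rintro _ ⟨o, rfl⟩
      exact hjac _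
    rw [List.ofFn_succ, isWeaklyRegular_cons_iff]
    constructor
    · rw [isSMulRegular_iff_right_eq_zero_of_smul]
      intro ξ hξ
      rw [← hg0, smul_eq_mul] at hξ
      exact eq_zero_of_mul_eq_zero g hg hJ ξ hξ
    · have hq : QR (quotFam g) := qr_quotFam g hg
      have hjac' : ∀ i, quotFam g i ∈ Ring.jacobson (A ⧸ Ideal.span {g none}) := by
        intro i
        have h1 : g (some i) ∈ (Ideal.span {g none}).jacobson :=
          Ideal.ringJacobson_le_jacobson (hjac _)
        rw [← Ideal.jacobson_bot, ← Ideal.mem_comap,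
          Ideal.comap_jacobson_of_surjective Ideal.Quotient.mk_surjective]
        have : Ideal.comap (Ideal.Quotient.mk (Ideal.span {g none})) ⊥ = Ideal.span {g none} := by
          rw [← RingHom.ker_eq_comap_bot, Ideal.mk_ker]
        rw [this]
        exact h1
      have hIH := ih (A ⧸ Ideal.span {g none}) (quotFam g) hjac' hq
      have hsub : (Ideal.span {g none} : Submodule A A) = f 0 • (⊤ : Submodule A A) := by
        rw [hg0, ← Submodule.ideal_span_singleton_smul, smul_eq_mul, Ideal.mul_top]
      let e : (A ⧸ Ideal.span {g none}) ≃+ QuotSMulTop (f 0) A :=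
        (Submodule.quotEquivOfEq _ _ hsub).toAddEquiv
      refine (AddEquiv.isWeaklyRegular_congr (e := e) ?_).mp hIH
      have hlist : List.ofFn (quotFam g) =
          (List.ofFn fun i : Fin c => f i.succ).map (Ideal.Quotient.mk (Ideal.span {g none})) := by
        rw [List.map_ofFn]
        congr 1
      rw [hlist, List.forall₂_map_left_iff, List.forall₂_same]
      intro a _ x
      obtain ⟨y, rfl⟩ := Ideal.Quotient.mk_surjective x
      rfl

end Groth.Agent.H19.QReg
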