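import Groth.Agent.H19.QuasiReg
import Mathlib.RingTheory.Flat.Equalizer
import Mathlib.RingTheory.TensorProduct.Basic
import Mathlib.RingTheory.Ideal.Quotient.Operations
import Mathlib.Data.Finsupp.ToDFinsupp
import Mathlib.LinearAlgebra.TensorProduct.RightExactness

/-!
# Base change of quasi-regular sequences with flat quotient

If `f` is a quasi-regular family in an `A`-algebra `B` with `B ⧸ (f)` flat over `A`, then all
`B ⧸ (f)^n` are flat over `A`, and the family `1 ⊗ f` in `A' ⊗[A] B` is quasi-regular for every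
`A`-algebra `A'`.
-/

set_option autoImplicit false

namespace Groth.Agent.H19.QuasiRegBC

open TensorProduct MvPolynomial Groth.Agent.H19.QReg

universe u

section flat

variable {R : Type*} [CommRing R] {M' M M'' : Type*} [AddCommGroup M'] [AddCommGroup M]
  [AddCommGroup M''] [Module R M'] [Module R M] [Module R M'']

/-- an extension of flat modules is flat -/
theorem flat_of_exact (f : M' →ₗ[R] M) (g : M →ₗ[R] M'') (hf : Function.Injective f)
    (hg : Function.Surjective g) (H : Function.Exact f g) [Module.Flat R M']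
    [Module.Flat R M''] : Module.Flat R M := by
  rw [Module.Flat.iff_rTensor_preserves_injective_linearMap]
  intro N₁ N₂ _ _ _ _ i hi
  rw [injective_iff_map_eq_zero]
  intro z hz
  have h1 : (i.rTensor M'') (g.lTensor N₁ z) = 0 := by
    have : (i.rTensor M'') (g.lTensor N₁ z) = g.lTensor N₂ (i.rTensor M z) := by
      rw [← LinearMap.comp_apply, ← LinearMap.comp_apply, LinearMap.rTensor_comp_lTensor,
        LinearMap.lTensor_comp_rTensor]
    rw [this, hz, map_zero]
  have h2 : g.lTensor N₁ z = 0 :=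
    Module.Flat.rTensor_preserves_injective_linearMap i hi (by rw [h1, map_zero])
  obtain ⟨w, rfl⟩ := (lTensor_exact N₁ H hg z).mp h2
  have h3 : f.lTensor N₂ (i.rTensor M' w) = 0 := by
    have : f.lTensor N₂ (i.rTensor M' w) = i.rTensor M (f.lTensor N₁ w) := by
      rw [← LinearMap.comp_apply, ← LinearMap.comp_apply, LinearMap.rTensor_comp_lTensor,
        LinearMap.lTensor_comp_rTensor]
    rw [this, hz]
  have hinj : Function.Injective (f.lTensor N₂) :=
    LinearMap.lTensor_injective_of_exact_of_flat g hg f hf H N₂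
  have h4 : i.rTensor M' w = 0 := hinj (by rw [h3, map_zero])
  have h5 : w = 0 :=
    Module.Flat.rTensor_preserves_injective_linearMap i hi (by rw [h4, map_zero])
  rw [h5, map_zero]

end flat

section main

variable {A B : Type u} [CommRing A] [CommRing B] [Algebra A B] {σ : Type} (f : σ → B)

/-- monomial values -/
noncomputable def mon (d : σ →₀ ℕ) : B := ∏ i ∈ d.support, f i ^ d i

theorem mon_mem (d : σ →₀ ℕ) : mon f d ∈ J f ^ d.degree := prod_pow_mem f d

theorem eval_eq_mon (P : MvPolynomial σ B) :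
    eval f P = ∑ d ∈ P.support, P.coeff d * mon f d := eval_eq f P

variable (σ) in
/-- exponents of degree `n` -/
abbrev Idx (n : ℕ) : Type := {d : σ →₀ ℕ // d.degree = n}

/-- `A`-linear quotient maps -/
noncomputable abbrev mkL (k : ℕ) : B →ₗ[A] B ⧸ J f ^ k :=
  (Ideal.Quotient.mkₐ A (J f ^ k)).toLinearMap

/-- `A`-linear quotient map to `B ⧸ J` -/
noncomputable abbrev mkC : B →ₗ[A] B ⧸ J f := (Ideal.Quotient.mkₐ A (J f)).toLinearMap

/-- `c ↦ c̃ · f^d` -/
noncomputable def μ (n : ℕ) (d : Idx σ n) : (B ⧸ J f) →ₗ[A] (B ⧸ J f ^ (n + 1)) :=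
  (Submodule.liftQ (J f)
    (LinearMap.toSpanSingleton B (B ⧸ J f ^ (n + 1)) (Ideal.Quotient.mk _ (mon f d.1))) (by
      intro b hb
      rw [LinearMap.mem_ker, LinearMap.toSpanSingleton_apply]
      have : b • (Ideal.Quotient.mk (J f ^ (n + 1)) (mon f d.1)) =
          Ideal.Quotient.mk (J f ^ (n + 1)) (b * mon f d.1) := rfl
      rw [this, Ideal.Quotient.eq_zero_iff_mem, pow_succ']
      have hm := mon_mem f d.1
      rw [d.2] at hm
      exact Ideal.mul_mem_mul hb hm)).restrictScalars A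

theorem μ_mk (n : ℕ) (d : Idx σ n) (b : B) :
    μ (A := A) f n d (Ideal.Quotient.mk (J f) b) =
      Ideal.Quotient.mk (J f ^ (n + 1)) (b * mon f d.1) := rfl

/-- the map `⨁_{|d| = n} B/J → B/J^{n+1}` -/
noncomputable def ψ (n : ℕ) : (Idx σ n →₀ B ⧸ J f) →ₗ[A] (B ⧸ J f ^ (n + 1)) :=
  Finsupp.lsum ℕ (fun d => μ (A := A) f n d)

theorem ψ_single (n : ℕ) (d : Idx σ n) (c : B ⧸ J f) :
    ψ (A := A) f n (Finsupp.single d c) = μ (A := A) f n d c := by
  rw [ψ, Finsupp.lsum_single]

/-- the projection `B/J^{n+1} → B/J^n` -/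
noncomputable def π (n : ℕ) : (B ⧸ J f ^ (n + 1)) →ₗ[A] (B ⧸ J f ^ n) :=
  (Ideal.Quotient.factorₐ A (Ideal.pow_le_pow_right (Nat.le_succ n))).toLinearMap

theorem π_mk (n : ℕ) (b : B) :
    π (A := A) f n (Ideal.Quotient.mk _ b) = Ideal.Quotient.mk _ b := rfl

theorem π_surjective (n : ℕ) : Function.Surjective (π (A := A) f n) := by
  intro y
  obtain ⟨b, rfl⟩ := Ideal.Quotient.mk_surjective y
  exact ⟨Ideal.Quotient.mk _ b, rfl⟩

theorem exact_ψ_π (n : ℕ) : Function.Exact (ψ (A := A) f n) (π (A := A) f n) := by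
  intro y
  constructor
  · intro hy
    obtain ⟨b, rfl⟩ := Ideal.Quotient.mk_surjective y
    rw [π_mk, Ideal.Quotient.eq_zero_iff_mem] at hy
    obtain ⟨P, hP, rfl⟩ := exists_homog_of_mem_pow f hy
    rw [eval_eq_mon, map_sum]
    refine LinearMap.mem_range.mp ((LinearMap.range (ψ (A := A) f n)).sum_mem fun d hd => ?_)
    have hdeg : d.degree = n := (isHomogeneous_iff P n).mp hP d (mem_support_iff.mp hd)
    refine LinearMap.mem_range.mpr ⟨Finsupp.single ⟨d, hdeg⟩ (Ideal.Quotient.mk _ (P.coeff d)), ?_⟩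
    rw [ψ_single, μ_mk]
  · rintro ⟨v, rfl⟩
    induction v using Finsupp.induction_linear with
    | zero => rw [map_zero, map_zero]
    | add v w hv hw => rw [map_add, map_add, hv, hw, add_zero]
    | single d c =>
      obtain ⟨b, rfl⟩ := Ideal.Quotient.mk_surjective c
      rw [ψ_single, μ_mk, π_mk, Ideal.Quotient.eq_zero_iff_mem]
      have hm := mon_mem f d.1
      rw [d.2] at hm
      exact Ideal.mul_mem_left _ _ hm

theorem ψ_injective (hq : QR f) (n : ℕ) : Function.Injective (ψ (A := A) f n) := by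
  classical
  rw [injective_iff_map_eq_zero]
  intro v hv
  choose w hw using fun d : Idx σ n => Ideal.Quotient.mk_surjective (v d)
  set P : MvPolynomial σ B := ∑ d ∈ v.support, monomial d.1 (w d) with hPdef
  have hP : P.IsHomogeneous n :=
    IsHomogeneous.sum _ _ _ fun d _ => isHomogeneous_monomial _ d.2
  have hev : Ideal.Quotient.mk (J f ^ (n + 1)) (eval f P) = 0 := by
    rw [hPdef, map_sum, map_sum]
    have : ψ (A := A) f n v = ∑ d ∈ v.support, μ (A := A) f n d (v d) := by
      rw [ψ, Finsupp.lsum_apply, Finsupp.sum]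
    rw [← hv, this]
    refine Finset.sum_congr rfl fun d _ => ?_
    rw [← hw d, μ_mk, eval_monomial]
    rfl
  rw [Ideal.Quotient.eq_zero_iff_mem] at hev
  have hc := hq n P hP hev
  ext d
  rw [Finsupp.zero_apply]
  by_cases hd : d ∈ v.support
  · have h1 : P.coeff d.1 = w d := by
      rw [hPdef, coeff_sum]
      rw [Finset.sum_eq_single_of_mem d hd]
      · rw [coeff_monomial, if_pos rfl]
      · intro e _ hne
        rw [coeff_monomial, if_neg]
        intro h
        exact hne (Subtype.ext h)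
    have h2 := hc d.1
    rw [h1] at h2
    rw [← hw d]
    exact Ideal.Quotient.eq_zero_iff_mem.mpr h2
  · exact Finsupp.notMem_support_iff.mp hd

theorem flat_quot_pow (hq : QR f) [Module.Flat A (B ⧸ J f)] (n : ℕ) :
    Module.Flat A (B ⧸ J f ^ n) := by
  induction n with
  | zero =>
    have : Subsingleton (B ⧸ J f ^ 0) := by
      rw [Ideal.Quotient.subsingleton_iff, pow_zero, Ideal.one_eq_top]
    infer_instance
  | succ n ih =>
    have := ih
    have : Module.Flat A (Idx σ n →₀ B ⧸ J f) := by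
      classical
      exact Module.Flat.of_linearEquiv (finsuppLequivDFinsupp A)
    exact flat_of_exact (ψ (A := A) f n) (π (A := A) f n) (ψ_injective f hq n)
      (π_surjective f n) (exact_ψ_π f n)

end main

section bc

variable {A B : Type u} [CommRing A] [CommRing B] [Algebra A B] {σ : Type} (f : σ → B)
variable (A' : Type u) [CommRing A'] [Algebra A A']

/-- the base-changed family -/
abbrev f' : σ → A' ⊗[A] B := fun i => (1 : A') ⊗ₜ[A] f i

theorem J'_eq : J (f' f A') =
    Ideal.map (Algebra.TensorProduct.includeRight : B →ₐ[A] A' ⊗[A] B) (J f) := by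
  rw [J, J, Ideal.map_span, ← Set.range_comp]
  rfl

theorem one_tmul_mon (d : σ →₀ ℕ) : mon (f' f A') d = (1 : A') ⊗ₜ[A] mon f d := by
  have : ((1 : A') ⊗ₜ[A] mon f d : A' ⊗[A] B) =
      (Algebra.TensorProduct.includeRight : B →ₐ[A] A' ⊗[A] B) (mon f d) := rfl
  rw [this, mon, mon, map_prod]
  refine Finset.prod_congr rfl fun i _ => ?_
  rw [map_pow]
  rfl

theorem lTensor_mulRight (x : B) (z : A' ⊗[A] B) :
    (LinearMap.mulRight A x).lTensor A' z = z * ((1 : A') ⊗ₜ[A] x) := by
  induction z using TensorProduct.induction_on with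
  | zero => rw [map_zero, zero_mul]
  | tmul a b =>
    rw [LinearMap.lTensor_tmul, Algebra.TensorProduct.tmul_mul_tmul, mul_one]
    rfl
  | add z w hz hw => rw [map_add, hz, hw, add_mul]

theorem lTensor_mkL_eq_zero (n : ℕ) (z : A' ⊗[A] B) (hz : z ∈ J (f' f A') ^ (n + 1)) :
    (mkL (A := A) f (n + 1)).lTensor A' z = 0 := by
  set Θ : A' ⊗[A] B →ₐ[A] A' ⊗[A] (B ⧸ J f ^ (n + 1)) :=
    Algebra.TensorProduct.map (AlgHom.id A A') (Ideal.Quotient.mkₐ A (J f ^ (n + 1))) with hΘ
  have hΘz : ∀ z, (mkL (A := A) f (n + 1)).lTensor A' z = Θ z := by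
    intro z
    induction z using TensorProduct.induction_on with
    | zero => rw [map_zero, map_zero]
    | tmul a b => rfl
    | add z w hz hw => rw [map_add, map_add, hz, hw]
  rw [hΘz]
  set K : Ideal (A' ⊗[A] (B ⧸ J f ^ (n + 1))) :=
    Ideal.map (Algebra.TensorProduct.includeRight :
      (B ⧸ J f ^ (n + 1)) →ₐ[A] A' ⊗[A] (B ⧸ J f ^ (n + 1)))
      (Ideal.map (Ideal.Quotient.mk (J f ^ (n + 1))) (J f)) with hK
  have hKpow : K ^ (n + 1) = ⊥ := by
    rw [hK, ← Ideal.map_pow, ← Ideal.map_pow, Ideal.map_quotient_self, Ideal.map_bot]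
  have hle : J (f' f A') ≤ Ideal.comap Θ K := by
    rw [J, Ideal.span_le]
    rintro _ ⟨i, rfl⟩
    rw [SetLike.mem_coe, Ideal.mem_comap]
    have : Θ ((1 : A') ⊗ₜ[A] f i) =
        (Algebra.TensorProduct.includeRight :
          (B ⧸ J f ^ (n + 1)) →ₐ[A] A' ⊗[A] (B ⧸ J f ^ (n + 1)))
          (Ideal.Quotient.mk (J f ^ (n + 1)) (f i)) := rfl
    rw [this]
    exact Ideal.mem_map_of_mem _ (Ideal.mem_map_of_mem _ (Ideal.subset_span ⟨i, rfl⟩))
  have h1 : J (f' f A') ^ (n + 1) ≤ Ideal.comap Θ (K ^ (n + 1)) :=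
    (Ideal.pow_right_mono hle (n + 1)).trans (Ideal.le_comap_pow _ _)
  have h2 := h1 hz
  rw [hKpow, Ideal.mem_comap, Ideal.mem_bot] at h2
  exact h2

theorem mem_J'_of_lTensor_mkC_eq_zero (z : A' ⊗[A] B)
    (hz : (mkC (A := A) f).lTensor A' z = 0) : z ∈ J (f' f A') := by
  have hex : Function.Exact ((J f).restrictScalars A).subtype (mkC (A := A) f) := by
    intro b
    constructor
    · intro hb
      have hb' : Ideal.Quotient.mk (J f) b = 0 := hb
      rw [Ideal.Quotient.eq_zero_iff_mem] at hb'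
      exact ⟨⟨b, hb'⟩, rfl⟩
    · rintro ⟨⟨b, hb⟩, rfl⟩
      exact Ideal.Quotient.eq_zero_iff_mem.mpr hb
  have hsurj : Function.Surjective (mkC (A := A) f) := Ideal.Quotient.mk_surjective
  obtain ⟨w, rfl⟩ := (lTensor_exact A' hex hsurj z).mp hz
  clear hz
  induction w using TensorProduct.induction_on with
  | zero => rw [map_zero]; exact Ideal.zero_mem _
  | tmul a j =>
    rw [LinearMap.lTensor_tmul]
    have h1 : (a ⊗ₜ[A] (((J f).restrictScalars A).subtype j) : A' ⊗[A] B) =
        (a ⊗ₜ[A] (1 : B)) * ((1 : A') ⊗ₜ[A] (j : B)) := by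
      rw [Algebra.TensorProduct.tmul_mul_tmul, mul_one, one_mul]
      rfl
    rw [h1, J'_eq]
    refine Ideal.mul_mem_left _ _ ?_
    exact Ideal.mem_map_of_mem _ j.2
  | add z w hz hw => rw [map_add]; exact Ideal.add_mem _ hz hw

/-- **Base change of a quasi-regular family with flat quotient.** -/
theorem main (hq : QR f) [Module.Flat A (B ⧸ J f)] : QR (f' (A := A) f A') := by
  classical
  intro n P' hP' hev d
  by_cases hd : d.degree = n
  swap
  · rw [hP'.coeff_eq_zero hd]
    exact Ideal.zero_mem _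
  by_cases hds : d ∈ P'.support
  swap
  · rw [notMem_support_iff.mp hds]
    exact Ideal.zero_mem _
  have := flat_quot_pow (A := A) f hq n
  have hinj : Function.Injective ((ψ (A := A) f n).lTensor A') :=
    LinearMap.lTensor_injective_of_exact_of_flat (π (A := A) f n) (π_surjective f n)
      (ψ (A := A) f n) (ψ_injective f hq n) (exact_ψ_π f n) A'
  -- the auxiliary maps
  let κ : Idx σ n → (B →ₗ[A] (Idx σ n →₀ B ⧸ J f)) := fun e =>
    (Finsupp.lsingle e) ∘ₗ (mkC (A := A) f)
  have hκ : ∀ e : Idx σ n, (ψ (A := A) f n) ∘ₗ κ e =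
      (mkL (A := A) f (n + 1)) ∘ₗ LinearMap.mulRight A (mon f e.1) := by
    intro e
    ext b
    show ψ (A := A) f n (Finsupp.single e (Ideal.Quotient.mk _ b)) = _
    rw [ψ_single, μ_mk]
    rfl
  set S : Finset (Idx σ n) := P'.support.subtype (fun e => e.degree = n) with hS
  set ξ : A' ⊗[A] (Idx σ n →₀ B ⧸ J f) :=
    ∑ e ∈ S, (κ e).lTensor A' (P'.coeff e.1) with hξ
  have h1 : (ψ (A := A) f n).lTensor A' ξ =
      (mkL (A := A) f (n + 1)).lTensor A' (eval (f' (A := A) f A') P') := by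
    rw [hξ, map_sum, eval_eq_mon, map_sum]
    have hfil : P'.support.filter (fun e => e.degree = n) = P'.support :=
      Finset.filter_true_of_mem fun e he =>
        (isHomogeneous_iff P' n).mp hP' e (mem_support_iff.mp he)
    rw [← hfil, ← Finset.sum_subtype_eq_sum_filter]
    refine Finset.sum_congr rfl fun e _ => ?_
    rw [← LinearMap.comp_apply, ← LinearMap.lTensor_comp, hκ, LinearMap.lTensor_comp,
      LinearMap.comp_apply, lTensor_mulRight, one_tmul_mon]
  have h2 : ξ = 0 := by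
    apply hinj
    rw [h1, lTensor_mkL_eq_zero f A' n _ hev, map_zero]
  -- extract the coefficient
  have hmem : (⟨d, hd⟩ : Idx σ n) ∈ S := by
    rw [hS, Finset.mem_subtype]
    exact hds
  have h3 : (Finsupp.lapply (R := A) (⟨d, hd⟩ : Idx σ n)).lTensor A' ξ =
      (mkC (A := A) f).lTensor A' (P'.coeff d) := by
    rw [hξ, map_sum, Finset.sum_eq_single_of_mem _ hmem]
    · rw [← LinearMap.comp_apply, ← LinearMap.lTensor_comp]
      congr 2
      ext b
      show (Finsupp.single (⟨d, hd⟩ : Idx σ n) (Ideal.Quotient.mk (J f) b)) ⟨d, hd⟩ = _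
      rw [Finsupp.single_eq_same]
      rfl
    · intro e _ hne
      rw [← LinearMap.comp_apply, ← LinearMap.lTensor_comp]
      have : (Finsupp.lapply (R := A) (⟨d, hd⟩ : Idx σ n)) ∘ₗ κ e = 0 := by
        ext b
        show (Finsupp.single e (Ideal.Quotient.mk (J f) b)) ⟨d, hd⟩ = 0
        rw [Finsupp.single_apply, if_neg hne]
      rw [this, LinearMap.lTensor_zero, LinearMap.zero_apply]
  rw [h2, map_zero] at h3
  exact mem_J'_of_lTensor_mkC_eq_zero f A' _ h3.symm

end bc

end Groth.Agent.H19.QuasiRegBC
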