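import Groth.Agent.H19.TorsSysPull

/-!
# Recognising the system `M/I^(n+1)M`, and restriction to opens

Helper library (helper19).
-/

set_option autoImplicit false
set_option linter.style.haveILetI false
universe u
open CategoryTheory CategoryTheory.Limits AlgebraicGeometry Opposite

namespace Groth.Agent.H19.TorsSys

section Basic

variable {A : Type u} [CommRing A] {X : Scheme.{u}} [X.Over (Spec (CommRingCat.of A))]

theorem IsQuot.iso_comp {J : Ideal A} {M' M Q : X.Modules} (e : M' ⟶ M) [IsIso e] {π : M ⟶ Q}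
    (h : IsQuot J π) : IsQuot J (e ≫ π) where
  epi := haveI := h.epi; epi_comp e π
  kills a ha := by
    rw [← Category.assoc, Groth.Agent.H44.smulMod_naturality, Category.assoc, h.kills a ha,
      comp_zero]
  desc g hg := by
    have h1 : ∀ a ∈ J, Formal.smulMod A M a ≫ inv e ≫ g = 0 := by
      intro a ha
      rw [← Category.assoc, Groth.Agent.H44.smulMod_naturality, Category.assoc, hg a ha,
        comp_zero]
    obtain ⟨g', hg'⟩ := h.desc (inv e ≫ g) h1
    exact ⟨g', by rw [Category.assoc, hg', IsIso.hom_inv_id_assoc]⟩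

/-- Two quotients of `M` by `J M` are canonically isomorphic. -/
theorem IsQuot.exists_iso {J : Ideal A} {M Q Q' : X.Modules} {π : M ⟶ Q} {π' : M ⟶ Q'}
    (h : IsQuot J π) (h' : IsQuot J π') : ∃ e : Q ≅ Q', π ≫ e.hom = π' := by
  haveI := h.epi
  haveI := h'.epi
  obtain ⟨f, hf⟩ := h.desc π' h'.kills
  obtain ⟨g, hg⟩ := h'.desc π h.kills
  refine ⟨⟨f, g, ?_, ?_⟩, hf⟩
  · rw [← cancel_epi π, ← Category.assoc, hf, hg, Category.comp_id]
  · rw [← cancel_epi π', ← Category.assoc, hg, hf, Category.comp_id]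

/-- If `π` and `π ≫ t` are quotients by `K M ⊆ J M`, then `t` is the quotient by `J`. -/
theorem IsQuot.of_comp {K J : Ideal A} {M Q R : X.Modules} {π : M ⟶ Q} {t : Q ⟶ R}
    (hK : IsQuot K π) (hJ : IsQuot J (π ≫ t)) : IsQuot J t where
  epi := haveI := hJ.epi; epi_of_epi π t
  kills a ha := by
    haveI := hK.epi
    rw [← cancel_epi π, comp_zero, ← Category.assoc, ← Groth.Agent.H44.smulMod_naturality,
      Category.assoc]
    exact hJ.kills a ha
  desc g hg := by
    haveI := hK.epi
    have h1 : ∀ a ∈ J, Formal.smulMod A M a ≫ π ≫ g = 0 := by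
      intro a ha
      rw [← Category.assoc, Groth.Agent.H44.smulMod_naturality, Category.assoc, hg a ha,
        comp_zero]
    obtain ⟨g', hg'⟩ := hJ.desc (π ≫ g) h1
    refine ⟨g', ?_⟩
    rw [← cancel_epi π, ← Category.assoc]
    exact hg'

/-- A system of compatible quotients `M ⟶ H_n` by `I^(n+1)` identifies `H` with the system
`(M/I^(n+1)M)`. -/
theorem exists_completion_iso_of_isQuot (I : Ideal A) (M : X.Modules) (H : ℕᵒᵖ ⥤ X.Modules)
    (ψ : ∀ n : ℕ, M ⟶ H.obj (op n))
    (hψ : ∀ n : ℕ, ψ (n + 1) ≫ H.map (homOfLE (Nat.le_succ n)).op = ψ n)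
    (hq : ∀ n : ℕ, IsQuot (I ^ (n + 1)) (ψ n)) :
    ∃ α : Formal.completion I M ≅ H,
      ∀ n : ℕ, Formal.modPowπ I (n + 1) M ≫ α.hom.app (op n) = ψ n := by
  have hw : ∀ n : ℕ, Formal.smulFamily (I ^ (n + 1)) M ≫ ψ n = 0 :=
    fun n => (smulFamily_comp_eq_zero_iff _ _).mpr (hq n).kills
  let θ : ∀ n : ℕ, Formal.modPow I (n + 1) M ⟶ H.obj (op n) := fun n =>
    cokernel.desc (Formal.smulFamily (I ^ (n + 1)) M) (ψ n) (hw n)
  haveI hθ : ∀ n : ℕ, IsIso (θ n) := fun n => (hq n).isIso_desc (hw n)
  have hπθ : ∀ n : ℕ, Formal.modPowπ I (n + 1) M ≫ θ n = ψ n :=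
    fun n => cokernel.π_desc _ _ _
  have hnat : ∀ n : ℕ, Formal.modPowTrans I (n + 1) M ≫ θ n =
      θ (n + 1) ≫ H.map (homOfLE (n.le_add_right 1)).op := by
    intro n
    rw [← cancel_epi (Formal.modPowπ I (n + 1 + 1) M)]
    rw [← Category.assoc, Formal.modPowπ_trans, hπθ n, ← Category.assoc, hπθ (n + 1)]
    exact (hψ n).symm
  have e1 : ∀ n : ℕ, (Formal.completion I M).map (homOfLE (n.le_add_right 1)).op =
      Formal.modPowTrans I (n + 1) M := fun n =>
    Functor.ofOpSequence_map_homOfLE_succ (X := fun n => Formal.modPow I (n + 1) M)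
      (fun k => Formal.modPowTrans I (k + 1) M) n
  let α : Formal.completion I M ⟶ H :=
    NatTrans.ofOpSequence (F := Formal.completion I M) (G := H) θ (fun n =>
      (congrArg (fun t => t ≫ θ n) (e1 n)).trans (hnat n))
  haveI : IsIso α := by
    haveI : ∀ n : ℕᵒᵖ, IsIso (α.app n) := fun n => hθ n.unop
    exact NatIso.isIso_of_isIso_app α
  exact ⟨asIso α, hπθ⟩

theorem isQuot_modPowπ (I : Ideal A) (n : ℕ) (M : X.Modules) :
    IsQuot (I ^ n) (Formal.modPowπ I n M) :=
  isQuot_cokernel_π (I ^ n) M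

/-- The module `M/I^n M` is killed by `I^n`. -/
theorem killedBy_modPow (I : Ideal A) (n : ℕ) (M : X.Modules) :
    Formal.KilledBy (I ^ n) (Formal.modPow I n M) := by
  intro a ha
  rw [← cancel_epi (Formal.modPowπ I n M), comp_zero, ← Groth.Agent.H44.smulMod_naturality]
  exact (isQuot_modPowπ I n M).kills a ha

theorem isQuot_modPowTrans (I : Ideal A) (n : ℕ) (M : X.Modules) :
    IsQuot (I ^ n) (Formal.modPowTrans I n M) := by
  refine IsQuot.of_comp (isQuot_modPowπ I (n + 1) M) ?_
  rw [Formal.modPowπ_trans]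
  exact isQuot_modPowπ I n M

end Basic

section Restrict

variable {X : Scheme.{u}} (U : X.Opens)

theorem restrict_map_smulModΓ (M : X.Modules) (r : Γ(X, ⊤)) :
    (Scheme.Modules.restrictFunctor U.ι).map (Formal.smulModΓ M r) =
      Formal.smulModΓ ((Scheme.Modules.restrictFunctor U.ι).obj M) (U.ι.appTop r) := by
  let adj := Scheme.Modules.restrictAdjunction U.ι
  apply (adj.homEquiv _ _).injective
  rw [adj.homEquiv_unit, adj.homEquiv_unit]
  refine (adj.unit.naturality (Formal.smulModΓ M r)).symm.trans ?_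
  refine (Groth.Agent.H44.smulModΓ_naturality (adj.unit.app M) r).trans ?_
  exact congrArg (fun t => adj.unit.app M ≫ t)
    (Groth.Agent.H30.SmulMod.pushforward_map_smulMod U.ι
      ((Scheme.Modules.restrictFunctor U.ι).obj M) r).symm

variable {A : Type u} [CommRing A] [X.Over (Spec (CommRingCat.of A))]
  [(U : Scheme.{u}).Over (Spec (CommRingCat.of A))]
  (hU : U.ι ≫ (X ↘ Spec (CommRingCat.of A)) = (U : Scheme.{u}) ↘ Spec (CommRingCat.of A))

include hU in
theorem restrict_map_smulMod (M : X.Modules) (a : A) :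
    (Scheme.Modules.restrictFunctor U.ι).map (Formal.smulMod A M a) =
      Formal.smulMod A ((Scheme.Modules.restrictFunctor U.ι).obj M) a := by
  unfold Formal.smulMod
  rw [restrict_map_smulModΓ, toGlobal_eq U.ι hU a]

include hU in
theorem IsQuot.restrict {J : Ideal A} {M Q : X.Modules} {π : M ⟶ Q} (h : IsQuot J π) :
    IsQuot J ((Scheme.Modules.restrictFunctor U.ι).map π) where
  epi := haveI := h.epi; inferInstance
  kills a ha := by
    rw [← restrict_map_smulMod U hU, ← Functor.map_comp, h.kills a ha, Functor.map_zero]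
  desc {T} g hg := by
    let adj := Scheme.Modules.restrictAdjunction U.ι
    have h1 : ∀ a ∈ J, Formal.smulMod A M a ≫ adj.homEquiv _ _ g = 0 := by
      intro a ha
      rw [← adj.homEquiv_naturality_left, restrict_map_smulMod U hU, hg a ha,
        adj.homEquiv_unit, Functor.map_zero, comp_zero]
    obtain ⟨g', hg'⟩ := h.desc (adj.homEquiv _ _ g) h1
    refine ⟨(adj.homEquiv _ _).symm g', ?_⟩
    rw [← adj.homEquiv_naturality_left_symm, hg', Equiv.symm_apply_apply]

include hU in
/-- Restriction to an open commutes with the formation of the system `(M/I^(n+1)M)`. -/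
theorem exists_completion_restrict_iso (I : Ideal A) (M : X.Modules) :
    ∃ α : Formal.completion I ((Scheme.Modules.restrictFunctor U.ι).obj M) ≅
        Formal.completion I M ⋙ Scheme.Modules.restrictFunctor U.ι,
      ∀ n : ℕ, Formal.modPowπ I (n + 1) ((Scheme.Modules.restrictFunctor U.ι).obj M) ≫
        α.hom.app (op n) = (Scheme.Modules.restrictFunctor U.ι).map (Formal.modPowπ I (n + 1) M) := by
  refine exists_completion_iso_of_isQuot I ((Scheme.Modules.restrictFunctor U.ι).obj M)
    (Formal.completion I M ⋙ Scheme.Modules.restrictFunctor U.ι)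
    (fun n => (Scheme.Modules.restrictFunctor U.ι).map (Formal.modPowπ I (n + 1) M)) ?_ ?_
  · intro n
    have e1 : (Formal.completion I M).map (homOfLE (Nat.le_succ n)).op =
        Formal.modPowTrans I (n + 1) M :=
      Functor.ofOpSequence_map_homOfLE_succ (X := fun n => Formal.modPow I (n + 1) M)
        (fun k => Formal.modPowTrans I (k + 1) M) n
    have e2 : Formal.modPowπ I (n + 1 + 1) M ≫
        (Formal.completion I M).map (homOfLE (Nat.le_succ n)).op = Formal.modPowπ I (n + 1) M :=
      (congrArg (fun t => Formal.modPowπ I (n + 1 + 1) M ≫ t) e1).trans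
        (Formal.modPowπ_trans I (n + 1) M)
    exact ((Scheme.Modules.restrictFunctor U.ι).map_comp _ _).symm.trans
      (congrArg (Scheme.Modules.restrictFunctor U.ι).map e2)
  · intro n
    exact (isQuot_modPowπ I (n + 1) M).restrict U hU

end Restrict

end Groth.Agent.H19.TorsSys
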