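import Groth.Agent.H19.QuasiReg

set_option autoImplicit false

namespace Groth.Agent.H19.QReg

open MvPolynomial RingTheory.Sequence

universe u

variable {A : Type u} [CommRing A]

theorem isWeaklyRegular_quot (K : Ideal A) {r : ℕ} (f : Fin r → A)
    (hf : IsWeaklyRegular (A ⧸ K) (List.ofFn f)) :
    IsWeaklyRegular (A ⧸ K) (List.ofFn ((Ideal.Quotient.mk K) ∘ f)) := by
  have := (isWeaklyRegular_map_algebraMap_iff (A ⧸ K) (A ⧸ K) (List.ofFn f)).mpr hf
  rw [List.map_ofFn] at this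
  exact this

theorem eval_quot (K : Ideal A) {r : ℕ} (f : Fin r → A) (P : MvPolynomial (Fin r) A) :
    eval ((Ideal.Quotient.mk K) ∘ f) (map (Ideal.Quotient.mk K) P) =
      (Ideal.Quotient.mk K) (eval f P) := by
  rw [eval_map, ← eval₂_id, eval₂_comp_left (Ideal.Quotient.mk K) (RingHom.id A) f P,
    RingHom.comp_id]

theorem J_quot (K : Ideal A) {r : ℕ} (f : Fin r → A) :
    QReg.J ((Ideal.Quotient.mk K) ∘ f) =
      (Ideal.span (Set.range f)).map (Ideal.Quotient.mk K) := by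
  unfold QReg.J
  rw [Ideal.map_span, Set.range_comp]

/-- coefficients of a homogeneous relation modulo `K` lie in `K + R` -/
theorem coeffsIn_sup_of_eval_mem (K : Ideal A) {r : ℕ} (f : Fin r → A)
    (hf : IsWeaklyRegular (A ⧸ K) (List.ofFn f)) (m : ℕ) (P : MvPolynomial (Fin r) A)
    (hP : P.IsHomogeneous m) (hx : eval f P ∈ K) :
    CoeffsIn (K ⊔ Ideal.span (Set.range f)) P := by
  have hqr : QR ((Ideal.Quotient.mk K) ∘ f) :=
    qr_of_isWeaklyRegular r _ (isWeaklyRegular_quot K f hf)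
  have h0 : (Ideal.Quotient.mk K) (eval f P) = 0 := Ideal.Quotient.eq_zero_iff_mem.mpr hx
  have hcoef := hqr m (map (Ideal.Quotient.mk K) P) (hP.map _)
    (by rw [eval_quot, h0]; exact Ideal.zero_mem _)
  intro d
  have h1 := hcoef d
  rw [coeff_map, J_quot,
    Ideal.mem_map_iff_of_surjective (Ideal.Quotient.mk K) Ideal.Quotient.mk_surjective] at h1
  obtain ⟨t, ht, hte⟩ := h1
  have h2 : P.coeff d - t ∈ K := by
    rw [← Ideal.Quotient.eq_zero_iff_mem, map_sub, hte, sub_self]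
  have : P.coeff d = (P.coeff d - t) + t := by ring
  rw [this]
  exact Ideal.add_mem _ (Ideal.mem_sup_left h2) (Ideal.mem_sup_right ht)

/-- one step: `K ∩ R^m ⊆ K R^m + K ∩ R^(m+1)` when `f` is regular on `A/K`. -/
theorem inter_pow_step (K : Ideal A) {r : ℕ} (f : Fin r → A)
    (hf : IsWeaklyRegular (A ⧸ K) (List.ofFn f)) (m : ℕ) :
    K ⊓ Ideal.span (Set.range f) ^ m ≤
      K * Ideal.span (Set.range f) ^ m ⊔ K ⊓ Ideal.span (Set.range f) ^ (m + 1) := by
  intro x hx
  obtain ⟨hxJ, hxR⟩ := Submodule.mem_inf.mp hx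
  obtain ⟨P, hP, rfl⟩ := exists_homog_of_mem_pow f hxR
  have hP2 := coeffsIn_sup_of_eval_mem K f hf m P hP hxJ
  have h3 := eval_mem f _ hP hP2
  have h4 : (K ⊔ Ideal.span (Set.range f)) * Ideal.span (Set.range f) ^ m =
      K * Ideal.span (Set.range f) ^ m ⊔ Ideal.span (Set.range f) ^ (m + 1) := by
    rw [Ideal.sup_mul, pow_succ']
  rw [h4] at h3
  obtain ⟨y, hy, z, hz, hyz⟩ := Submodule.mem_sup.mp h3
  have hyJ : y ∈ K := Ideal.mul_le_left hy
  have hzK : z ∈ K := by
    have : z = eval f P - y := by rw [← hyz]; ring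
    rw [this]
    exact K.sub_mem hxJ hyJ
  exact Submodule.mem_sup.mpr ⟨y, hy, z, Submodule.mem_inf.mpr ⟨hzK, hz⟩, hyz⟩

theorem inter_pow_eq (K : Ideal A) {r : ℕ} (f : Fin r → A)
    (hf : IsWeaklyRegular (A ⧸ K) (List.ofFn f)) (n N : ℕ) (hnN : n ≤ N) :
    K ⊓ Ideal.span (Set.range f) ^ n =
      K * Ideal.span (Set.range f) ^ n ⊔ K ⊓ Ideal.span (Set.range f) ^ N := by
  apply le_antisymm
  · obtain ⟨k, rfl⟩ := Nat.exists_eq_add_of_le hnN
    induction k with
    | zero => exact le_sup_right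
    | succ k ih =>
      refine (ih (Nat.le_add_right n k)).trans (sup_le le_sup_left ?_)
      refine (inter_pow_step K f hf (n + k)).trans (sup_le ?_ le_sup_right)
      exact le_sup_of_le_left
        (Ideal.mul_mono_right (Ideal.pow_le_pow_right (Nat.le_add_right n k)))
  · refine sup_le (Ideal.mul_le_inf.trans (inf_le_inf_left _ le_rfl)) ?_
    · exact inf_le_inf_left _ (Ideal.pow_le_pow_right hnN)

end Groth.Agent.H19.QReg
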