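import Mathlib.RingTheory.AdicCompletion.Algebra
import Mathlib.RingTheory.AdicCompletion.Basic
import Mathlib.RingTheory.Finiteness.Ideal

/-! S0546 (Stacks 090T): `I ≤ J`, `I` f.g., `M` `J`-adically complete ⇒ `I`-adically complete. -/

set_option autoImplicit false
universe u v

namespace Groth.Agent.H19.ComplSmaller

variable {A : Type u} [CommRing A] (I J : Ideal A) {M : Type v} [AddCommGroup M] [Module A M]

theorem pow_smul_top_le (hIJ : I ≤ J) (n : ℕ) :
    (I ^ n • ⊤ : Submodule A M) ≤ (J ^ n • ⊤ : Submodule A M) :=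
  Submodule.smul_mono (Ideal.pow_right_mono hIJ n) le_rfl

theorem isHausdorff_of_le (hIJ : I ≤ J) [IsHausdorff J M] : IsHausdorff I M := by
  refine ⟨fun x hx => IsHausdorff.haus ‹IsHausdorff J M› x fun n => ?_⟩
  have := hx n
  rw [SModEq.sub_mem, sub_zero] at this ⊢
  exact pow_smul_top_le I J hIJ n this

/-- Elements of `K • N` are combinations of generators of `K` with coefficients in `N`. -/
theorem exists_sum_of_mem_smul {r : ℕ} (g : Fin r → A) (K : Ideal A)
    (hg : Submodule.span A (Set.range g) = K) (N : Submodule A M) (w : M) (hw : w ∈ K • N) :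
    ∃ z : Fin r → M, (∀ j, z j ∈ N) ∧ w = ∑ j, g j • z j := by
  refine Submodule.smul_induction_on hw ?_ ?_
  · intro a ha v hv
    rw [← hg] at ha
    obtain ⟨c, rfl⟩ := (Submodule.mem_span_range_iff_exists_fun A).mp ha
    refine ⟨fun j => c j • v, fun j => N.smul_mem _ hv, ?_⟩
    rw [Finset.sum_smul]
    refine Finset.sum_congr rfl fun j _ => ?_
    rw [smul_eq_mul, mul_smul, smul_comm]
  · rintro y z ⟨c, hc1, hc2⟩ ⟨c', hc1', hc2'⟩
    refine ⟨c + c', fun j => N.add_mem (hc1 j) (hc1' j), ?_⟩
    rw [hc2, hc2']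
    simp only [Pi.add_apply, smul_add, Finset.sum_add_distrib]

theorem isPrecomplete_of_le (hIJ : I ≤ J) (hI : I.FG) [IsHausdorff J M] [IsPrecomplete J M] :
    IsPrecomplete I M := by
  classical
  refine ⟨fun f hf => ?_⟩
  -- `f` is `J`-adically Cauchy
  have hfJ : ∀ {m n}, m ≤ n → f m ≡ f n [SMOD (J ^ m • ⊤ : Submodule A M)] := by
    intro m n hmn
    have := hf hmn
    rw [SModEq.sub_mem] at this ⊢
    exact pow_smul_top_le I J hIJ m this
  obtain ⟨L, hL⟩ := IsPrecomplete.prec ‹IsPrecomplete J M› hfJ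
  refine ⟨L, fun n => ?_⟩
  obtain ⟨r, g, hg⟩ := Submodule.fg_iff_exists_fin_generating_family.mp (hI.pow (n := n))
  -- decompose the successive differences
  have hdiff : ∀ k : ℕ, ∃ z : Fin r → M, (∀ j, z j ∈ (I ^ k • ⊤ : Submodule A M)) ∧
      f (n + k + 1) - f (n + k) = ∑ j, g j • z j := by
    intro k
    refine exists_sum_of_mem_smul g (I ^ n) hg _ _ ?_
    rw [← Submodule.mul_smul, ← pow_add]
    have := hf (Nat.le_succ (n + k))
    rw [SModEq.sub_mem] at this
    rw [← neg_sub]
    exact Submodule.neg_mem _ this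
  choose z hz1 hz2 using hdiff
  obtain ⟨S, S_def⟩ : ∃ S : Fin r → ℕ → M, ∀ j N, S j N = ∑ k ∈ Finset.range N, z k j :=
    ⟨_, fun _ _ => rfl⟩
  have S_succ : ∀ j N, S j (N + 1) = S j N + z N j := fun j N => by
    rw [S_def, S_def, Finset.sum_range_succ]
  have S_zero : ∀ j, S j 0 = 0 := fun j => by rw [S_def, Finset.range_zero, Finset.sum_empty]
  have htel : ∀ N, f (n + N) - f n = ∑ j, g j • S j N := by
    intro N
    induction N with
    | zero => simp [S_zero]
    | succ N ih =>
      have : f (n + (N + 1)) - f n = (f (n + N + 1) - f (n + N)) + (f (n + N) - f n) := by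
        rw [← add_assoc]; abel
      rw [this, ih, hz2]
      simp only [S_succ, smul_add, Finset.sum_add_distrib]
      abel
  have hcauchy : ∀ j {N N' : ℕ}, N ≤ N' →
      S j N ≡ S j N' [SMOD (J ^ N • ⊤ : Submodule A M)] := by
    intro j N N' hNN'
    rw [SModEq.sub_mem]
    have h1 : S j N' = S j N + ∑ k ∈ Finset.Ico N N', z k j := by
      rw [S_def, S_def]
      exact (Finset.sum_range_add_sum_Ico _ hNN').symm
    rw [h1, sub_add_cancel_left]
    refine Submodule.neg_mem _ (Submodule.sum_mem _ fun k hk => ?_)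
    have hk' := (Finset.mem_Ico.mp hk).1
    exact Submodule.smul_mono (Ideal.pow_le_pow_right hk') le_rfl
      (pow_smul_top_le I J hIJ k (hz1 k j))
  choose Z hZ using fun j =>
    IsPrecomplete.prec ‹IsPrecomplete J M› (f := fun N => S j N) (hcauchy j)
  have hfinal : L - f n - ∑ j, g j • Z j = 0 := by
    refine IsHausdorff.haus ‹IsHausdorff J M› _ fun N => ?_
    rw [SModEq.sub_mem, sub_zero]
    have e : L - f n - ∑ j, g j • Z j =
        (L - f (n + N)) + ∑ j, g j • (S j N - Z j) := by
      have := htel N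
      simp only [smul_sub, Finset.sum_sub_distrib]
      rw [← this]
      abel
    rw [e]
    refine Submodule.add_mem _ ?_ (Submodule.sum_mem _ fun j _ => Submodule.smul_mem _ _ ?_)
    · have := hL (n + N)
      rw [SModEq.sub_mem] at this
      rw [← neg_sub]
      refine Submodule.neg_mem _ ?_
      exact Submodule.smul_mono (Ideal.pow_le_pow_right (Nat.le_add_left N n)) le_rfl this
    · have := hZ j N
      rw [SModEq.sub_mem] at this
      exact this
  rw [SModEq.sub_mem, ← neg_sub]
  refine Submodule.neg_mem _ ?_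
  rw [sub_eq_zero] at hfinal
  rw [hfinal]
  refine Submodule.sum_mem _ fun j _ => Submodule.smul_mem_smul ?_ Submodule.mem_top
  rw [← hg]
  exact Submodule.subset_span ⟨j, rfl⟩

theorem main (hIJ : I ≤ J) (hI : I.FG) [IsAdicComplete J M] : IsAdicComplete I M :=
  { isHausdorff_of_le I J hIJ, isPrecomplete_of_le I J hIJ hI with }

end Groth.Agent.H19.ComplSmaller
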