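import Groth.Prelude.Def_CAlgX
import Mathlib.RingTheory.MvPolynomial.Homogeneous
import Mathlib.Algebra.MvPolynomial.Division
import Mathlib.RingTheory.Regular.RegularSequence

/-!
# Regular sequences are quasi-regular

`QR f` is the quasi-regularity predicate of `CAlgX.IsQuasiRegular` for a family indexed by an
arbitrary type.
-/

set_option autoImplicit false

namespace Groth.Agent.H19.QReg

open MvPolynomial

universe u v w

variable {A : Type u} [CommRing A] {σ : Type v}

/-- all coefficients of `P` lie in `K` -/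
def CoeffsIn (K : Ideal A) (P : MvPolynomial σ A) : Prop := ∀ d, P.coeff d ∈ K

theorem CoeffsIn.zero (K : Ideal A) : CoeffsIn K (0 : MvPolynomial σ A) := fun d => by simp

theorem CoeffsIn.add {K : Ideal A} {P Q : MvPolynomial σ A} (hP : CoeffsIn K P)
    (hQ : CoeffsIn K Q) : CoeffsIn K (P + Q) := fun d => by
  rw [coeff_add]; exact K.add_mem (hP d) (hQ d)

theorem CoeffsIn.sub {K : Ideal A} {P Q : MvPolynomial σ A} (hP : CoeffsIn K P)
    (hQ : CoeffsIn K Q) : CoeffsIn K (P - Q) := fun d => by
  rw [coeff_sub]; exact K.sub_mem (hP d) (hQ d)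

theorem CoeffsIn.C_mul {K : Ideal A} {P : MvPolynomial σ A} (hP : CoeffsIn K P) (a : A) :
    CoeffsIn K (C a * P) := fun d => by
  rw [coeff_C_mul]; exact K.mul_mem_left a (hP d)

theorem CoeffsIn.C_mul_of_mem {K : Ideal A} (P : MvPolynomial σ A) {a : A} (ha : a ∈ K) :
    CoeffsIn K (C a * P) := fun d => by
  rw [coeff_C_mul]; exact K.mul_mem_right _ ha

theorem CoeffsIn.X_mul {K : Ideal A} {P : MvPolynomial σ A} (hP : CoeffsIn K P) (i : σ) :
    CoeffsIn K (X i * P) := fun d => by
  classical
  rw [coeff_X_mul']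
  split_ifs
  · exact hP _
  · exact K.zero_mem

theorem CoeffsIn.mono {K K' : Ideal A} (h : K ≤ K') {P : MvPolynomial σ A} (hP : CoeffsIn K P) :
    CoeffsIn K' P := fun d => h (hP d)

theorem coeffsIn_C {K : Ideal A} {a : A} (ha : a ∈ K) : CoeffsIn K (C a : MvPolynomial σ A) :=
  fun d => by
    classical
    rw [coeff_C]
    split_ifs
    · exact ha
    · exact K.zero_mem

theorem CoeffsIn.rename {τ : Type w} {K : Ideal A} {P : MvPolynomial σ A} (hP : CoeffsIn K P)
    (e : σ → τ) (he : Function.Injective e) : CoeffsIn K (rename e P) := fun d => by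
  by_cases h : ∃ u : σ →₀ ℕ, u.mapDomain e = d
  · obtain ⟨u, rfl⟩ := h
    rw [coeff_rename_mapDomain e he]
    exact hP u
  · rw [coeff_rename_eq_zero]
    · exact K.zero_mem
    · intro u hu
      exact absurd ⟨u, hu⟩ h

theorem isHomogeneous_iff (P : MvPolynomial σ A) (n : ℕ) :
    P.IsHomogeneous n ↔ ∀ d, P.coeff d ≠ 0 → d.degree = n := by
  constructor
  · intro h d hd
    by_contra hne
    exact hd (h.coeff_eq_zero hne)
  · intro h d hd
    have := h d hd
    rwa [Finsupp.degree_eq_weight_one] at this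

section basic

variable (f : σ → A)

/-- the ideal generated by the family -/
abbrev J : Ideal A := Ideal.span (Set.range f)

theorem prod_pow_mem (d : σ →₀ ℕ) : (∏ i ∈ d.support, f i ^ d i) ∈ J f ^ d.degree := by
  classical
  rw [Finsupp.degree_apply]
  induction d.support using Finset.induction_on with
  | empty => simp
  | insert a s ha ih =>
    rw [Finset.prod_insert ha, Finset.sum_insert ha, pow_add]
    exact Ideal.mul_mem_mul
      (Ideal.pow_mem_pow (Ideal.subset_span (Set.mem_range_self a)) _) ih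

theorem eval_mem (K : Ideal A) {n : ℕ} {P : MvPolynomial σ A} (hP : P.IsHomogeneous n)
    (hK : CoeffsIn K P) : eval f P ∈ K * J f ^ n := by
  rw [eval_eq]
  refine Ideal.sum_mem _ fun d hd => ?_
  have hdeg : d.degree = n := (isHomogeneous_iff P n).mp hP d (mem_support_iff.mp hd)
  refine Ideal.mul_mem_mul (hK d) ?_
  rw [← hdeg]
  exact prod_pow_mem f d

/-- values of homogeneous polynomials of degree `n` with coefficients in `K` -/
def homogIdeal (K : Ideal A) (n : ℕ) : Ideal A where
  carrier := {a | ∃ P : MvPolynomial σ A, P.IsHomogeneous n ∧ CoeffsIn K P ∧ eval f P = a}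
  add_mem' := by
    rintro _ _ ⟨P, hP, hK, rfl⟩ ⟨Q, hQ, hK', rfl⟩
    exact ⟨P + Q, hP.add hQ, hK.add hK', by rw [map_add]⟩
  zero_mem' := ⟨0, isHomogeneous_zero _ _ _, CoeffsIn.zero K, by rw [map_zero]⟩
  smul_mem' := by
    rintro c _ ⟨P, hP, hK, rfl⟩
    refine ⟨C c * P, ?_, hK.C_mul c, by rw [map_mul, eval_C, smul_eq_mul]⟩
    have := (isHomogeneous_C σ c).mul hP
    rwa [zero_add] at this

theorem mem_homogIdeal {K : Ideal A} {n : ℕ} {a : A} :
    a ∈ homogIdeal f K n ↔
      ∃ P : MvPolynomial σ A, P.IsHomogeneous n ∧ CoeffsIn K P ∧ eval f P = a := Iff.rfl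

theorem mul_pow_le_homogIdeal (K : Ideal A) (n : ℕ) : K * J f ^ n ≤ homogIdeal f K n := by
  induction n with
  | zero =>
    rw [pow_zero, Ideal.one_eq_top, Ideal.mul_top]
    intro a ha
    exact ⟨C a, isHomogeneous_C σ a, coeffsIn_C ha, eval_C a⟩
  | succ n ih =>
    rw [pow_succ, ← mul_assoc, Ideal.mul_le]
    intro r hr s hs
    have hr' := ih hr
    refine Submodule.span_induction ?_ ?_ ?_ ?_ hs
    · rintro _ ⟨i, rfl⟩
      obtain ⟨P, hP, hK, rfl⟩ := hr'
      refine ⟨X i * P, ?_, hK.X_mul i, by rw [map_mul, eval_X, mul_comm]⟩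
      have := (isHomogeneous_X A i).mul hP
      rwa [add_comm] at this
    · rw [mul_zero]; exact Ideal.zero_mem _
    · intro x y _ _ hx hy
      rw [mul_add]; exact Ideal.add_mem _ hx hy
    · intro c x _ hx
      rw [smul_eq_mul, mul_left_comm]
      exact Ideal.mul_mem_left _ c hx

theorem exists_homog_of_mem {K : Ideal A} {n : ℕ} {a : A} (ha : a ∈ K * J f ^ n) :
    ∃ P : MvPolynomial σ A, P.IsHomogeneous n ∧ CoeffsIn K P ∧ eval f P = a :=
  mul_pow_le_homogIdeal f K n ha

theorem exists_homog_of_mem_pow {n : ℕ} {a : A} (ha : a ∈ J f ^ n) :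
    ∃ P : MvPolynomial σ A, P.IsHomogeneous n ∧ eval f P = a := by
  have : a ∈ (⊤ : Ideal A) * J f ^ n := by rwa [Ideal.top_mul]
  obtain ⟨P, hP, _, h⟩ := exists_homog_of_mem f this
  exact ⟨P, hP, h⟩

end basic

/-- quasi-regularity for a family indexed by any type -/
def QR (f : σ → A) : Prop :=
  ∀ (n : ℕ) (P : MvPolynomial σ A), P.IsHomogeneous n → eval f P ∈ J f ^ (n + 1) →
    CoeffsIn (J f) P

theorem isQuasiRegular_iff {c : ℕ} (f : Fin c → A) : CAlgX.IsQuasiRegular f ↔ QR f := Iff.rfl

/-- it is enough to treat polynomials vanishing at `f` -/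
theorem qr_level_of_zero (f : σ → A) (n : ℕ)
    (h : ∀ P : MvPolynomial σ A, P.IsHomogeneous n → eval f P = 0 → CoeffsIn (J f) P)
    (P : MvPolynomial σ A) (hP : P.IsHomogeneous n) (hev : eval f P ∈ J f ^ (n + 1)) :
    CoeffsIn (J f) P := by
  rw [pow_succ'] at hev
  obtain ⟨P₁, hP₁, hK, he⟩ := exists_homog_of_mem f hev
  have h0 := h (P - P₁) (hP.sub hP₁) (by rw [map_sub, he, sub_self])
  have : P = (P - P₁) + P₁ := by ring
  rw [this]
  exact h0.add hK

/-- the colon property of quasi-regular sequences -/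
theorem colon_pow (f : σ → A) (hf : QR f) (x : A) (hx : ∀ a, x * a ∈ J f → a ∈ J f) (n : ℕ) :
    ∀ a, x * a ∈ J f ^ n → a ∈ J f ^ n := by
  induction n with
  | zero => intro a _; rw [pow_zero, Ideal.one_eq_top]; exact Submodule.mem_top
  | succ n ih =>
    intro a ha
    have ha' : a ∈ J f ^ n := ih a (Ideal.pow_le_pow_right (Nat.le_succ n) ha)
    obtain ⟨P, hP, rfl⟩ := exists_homog_of_mem_pow f ha'
    have hxP : (C x * P).IsHomogeneous n := by
      have := (isHomogeneous_C σ x).mul hP
      rwa [zero_add] at this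
    have h1 := hf n (C x * P) hxP (by rw [map_mul, eval_C]; exact ha)
    have h2 : CoeffsIn (J f) P := fun d => hx _ (by rw [← coeff_C_mul]; exact h1 d)
    rw [pow_succ']
    exact eval_mem f (J f) hP h2

section step

variable (f' : σ → A) (x : A)

/-- the family on `Option σ` obtained by adjoining `x` -/
def optFam : Option σ → A := fun o => o.elim x f'

theorem J_le_J_optFam : J f' ≤ J (optFam f' x) := by
  apply Ideal.span_mono
  rintro _ ⟨i, rfl⟩
  exact ⟨some i, rfl⟩

theorem mem_J_optFam : x ∈ J (optFam f' x) := Ideal.subset_span ⟨none, rfl⟩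

theorem qr_zero_level (g : σ → A) (P : MvPolynomial σ A) (hP : P.IsHomogeneous 0)
    (h0 : eval g P = 0) : CoeffsIn (J g) P := by
  have h1 := (totalDegree_eq_zero_iff_eq_C (p := P)).mp ((totalDegree_zero_iff_isHomogeneous (p := P)).mpr hP)
  rw [h1, eval_C] at h0
  rw [h1, h0, map_zero]
  exact CoeffsIn.zero _

theorem qr_option (hf : QR f') (hx : ∀ a, x * a ∈ J f' → a ∈ J f') : QR (optFam f' x) := by
  classical
  intro n
  induction n using Nat.strong_induction_on with
  | _ n IH =>
  intro P hP hev
  refine qr_level_of_zero (optFam f' x) n ?_ P hP hev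
  clear hev hP P
  intro P hP h0
  rcases n with _ | m
  · exact qr_zero_level _ P hP h0
  set H := divMonomial P (Finsupp.single (none : Option σ) 1) with hHdef
  set G := modMonomial P (Finsupp.single (none : Option σ) 1) with hGdef
  have hdecomp : X none * H + G = P := divMonomial_add_modMonomial_single P none
  have hH : H.IsHomogeneous m := by
    rw [isHomogeneous_iff]
    intro d hd
    rw [hHdef, coeff_divMonomial] at hd
    have := (isHomogeneous_iff P (m + 1)).mp hP _ hd
    rw [map_add, Finsupp.degree_single] at this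
    omega
  have hG : G.IsHomogeneous (m + 1) := by
    rw [isHomogeneous_iff]
    intro d hd
    by_cases hle : Finsupp.single (none : Option σ) 1 ≤ d
    · rw [hGdef, coeff_modMonomial_of_le P hle] at hd
      exact absurd rfl hd
    · rw [hGdef, coeff_modMonomial_of_not_le P hle] at hd
      exact (isHomogeneous_iff P (m + 1)).mp hP _ hd
  have hvars : (G.vars : Set (Option σ)) ⊆ Set.range some := by
    intro i hi
    rw [Finset.mem_coe, mem_vars_iff_mem_support] at hi
    obtain ⟨d, hd, hid⟩ := hi
    rcases i with _ | j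
    · exfalso
      have hle : Finsupp.single (none : Option σ) 1 ≤ d := by
        rw [Finsupp.single_le_iff]
        rw [Finsupp.mem_support_iff] at hid
        omega
      rw [mem_support_iff, hGdef, coeff_modMonomial_of_le P hle] at hd
      exact hd rfl
    · exact ⟨j, rfl⟩
  obtain ⟨G', hG'⟩ := exists_rename_eq_of_vars_subset_range G some (Option.some_injective σ) hvars
  have hG'h : G'.IsHomogeneous (m + 1) :=
    (IsHomogeneous.rename_isHomogeneous_iff (Option.some_injective σ)).mp (by rw [hG']; exact hG)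
  have hevG : eval (optFam f' x) G = eval f' G' := by
    rw [← hG', eval_rename]
    rfl
  have hsum : x * eval (optFam f' x) H + eval f' G' = 0 := by
    rw [← hevG, ← h0, ← hdecomp, map_add, map_mul, eval_X]
    rfl
  have hG'mem : eval f' G' ∈ J f' ^ (m + 1) := by
    have := eval_mem f' ⊤ hG'h (fun d => Submodule.mem_top)
    rwa [Ideal.top_mul] at this
  have hxH : x * eval (optFam f' x) H ∈ J f' ^ (m + 1) := by
    have : x * eval (optFam f' x) H = - eval f' G' := eq_neg_of_add_eq_zero_left hsum
    rw [this]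
    exact neg_mem hG'mem
  have hHmem : eval (optFam f' x) H ∈ J f' ^ (m + 1) := colon_pow f' hf x hx (m + 1) _ hxH
  have hHJ : CoeffsIn (J (optFam f' x)) H :=
    IH m (Nat.lt_succ_self m) H hH (Ideal.pow_right_mono (J_le_J_optFam f' x) _ hHmem)
  obtain ⟨h', hh', hh'ev⟩ := exists_homog_of_mem_pow f' hHmem
  have hQ : (C x * h' + G').IsHomogeneous (m + 1) := by
    refine IsHomogeneous.add ?_ hG'h
    have := (isHomogeneous_C σ x).mul hh'
    rwa [zero_add] at this
  have hQev : eval f' (C x * h' + G') ∈ J f' ^ (m + 1 + 1) := by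
    rw [map_add, map_mul, eval_C, hh'ev, hsum]
    exact Ideal.zero_mem _
  have hQJ := hf (m + 1) _ hQ hQev
  have hG'J : CoeffsIn (J (optFam f' x)) G' := by
    have : G' = (C x * h' + G') - C x * h' := by ring
    rw [this]
    exact (hQJ.mono (J_le_J_optFam f' x)).sub (CoeffsIn.C_mul_of_mem h' (mem_J_optFam f' x))
  rw [← hdecomp, ← hG']
  exact (hHJ.X_mul none).add (hG'J.rename some (Option.some_injective σ))

end step

section transport

variable {τ : Type w}

theorem qr_comp_equiv (g : τ → A) (hg : QR g) (e : σ ≃ τ) : QR (g ∘ e) := by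
  have hJ : J (g ∘ e) = J g := by
    unfold J
    rw [Set.range_comp, e.range_eq_univ, Set.image_univ]
  intro n P hP hev
  have h1 : (rename e P).IsHomogeneous n := hP.rename_isHomogeneous
  have h2 : eval g (rename e P) ∈ J g ^ (n + 1) := by
    rw [eval_rename, ← hJ]
    exact hev
  have h3 := hg n _ h1 h2
  intro d
  rw [hJ, ← coeff_rename_mapDomain e e.injective]
  exact h3 _

end transport

section main

open RingTheory.Sequence

theorem ofList_ofFn {c : ℕ} (f : Fin c → A) : Ideal.ofList (List.ofFn f) = J f := by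
  unfold Ideal.ofList J
  congr 1
  ext r
  simp [List.mem_ofFn']

theorem qr_fin_zero (f : Fin 0 → A) : QR f := by
  intro n P _ hev d
  have hd : d = 0 := Subsingleton.elim _ _
  have hP : P = C (P.coeff 0) := eq_C_of_isEmpty P
  rw [hP, eval_C] at hev
  rw [hd]
  exact Ideal.pow_le_self (Nat.succ_ne_zero n) hev

/-- **Regular sequences are quasi-regular.** -/
theorem qr_of_isWeaklyRegular : ∀ (c : ℕ) (f : Fin c → A),
    IsWeaklyRegular A (List.ofFn f) → QR f := by
  intro c
  induction c with
  | zero => intro f _; exact qr_fin_zero f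
  | succ c ih =>
    intro f hf
    set f' : Fin c → A := fun i => f i.castSucc with hf'
    set x : A := f (Fin.last c) with hx
    have hlist : List.ofFn f = List.ofFn f' ++ [x] := by
      rw [List.ofFn_succ', List.concat_eq_append]
    rw [hlist, isWeaklyRegular_append_iff, isWeaklyRegular_singleton_iff] at hf
    obtain ⟨h1, h2⟩ := hf
    have hqr' : QR f' := ih f' h1
    have hcolon : ∀ a, x * a ∈ J f' → a ∈ J f' := by
      intro a ha
      have hN : ∀ b : A, b ∈ (Ideal.ofList (List.ofFn f') • ⊤ : Submodule A A) ↔ b ∈ J f' := by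
        intro b
        rw [ofList_ofFn, smul_eq_mul, Ideal.mul_top]
      have h3 : x • (Submodule.Quotient.mk a :
          A ⧸ (Ideal.ofList (List.ofFn f') • ⊤ : Submodule A A)) = x • 0 := by
        rw [smul_zero, ← Submodule.Quotient.mk_smul, Submodule.Quotient.mk_eq_zero, hN, smul_eq_mul]
        exact ha
      have h4 := h2 h3
      rwa [Submodule.Quotient.mk_eq_zero, hN] at h4
    have hopt := qr_option f' x hqr' hcolon
    have hfe : f = optFam f' x ∘ finSuccEquivLast := by
      funext i
      refine Fin.lastCases ?_ (fun j => ?_) i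
      · simp [optFam, hx]
      · simp [optFam, hf']
    rw [hfe]
    exact qr_comp_equiv _ hopt finSuccEquivLast

theorem isQuasiRegular_of_isWeaklyRegular {c : ℕ} (f : Fin c → A)
    (hf : IsWeaklyRegular A (List.ofFn f)) : CAlgX.IsQuasiRegular f :=
  qr_of_isWeaklyRegular c f hf

end main

end Groth.Agent.H19.QReg
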