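import Mathlib.RingTheory.Flat.Equalizer
import Mathlib.RingTheory.Flat.Stability
import Mathlib.Algebra.Module.Projective
import Mathlib.RingTheory.Nilpotent.Basic
import Mathlib.LinearAlgebra.TensorProduct.Quotient
import Mathlib.RingTheory.TensorProduct.Basic
import Mathlib.Algebra.Exact.Basic

/-! S6270: flat + projective modulo a nilpotent ideal ⇒ projective. -/

set_option autoImplicit false
universe u
open scoped TensorProduct
open Function (Injective Surjective Exact)

namespace Groth.Agent.H19.NilpProj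

variable {R : Type u} [CommRing R] (I : Ideal R)

theorem one_tmul_eq_zero_iff {K : Type*} [AddCommGroup K] [Module R K] (k : K) :
    (1 : R ⧸ I) ⊗ₜ[R] k = 0 ↔ k ∈ I • (⊤ : Submodule R K) := by
  rw [← (TensorProduct.quotTensorEquivQuotSMul K I).map_eq_zero_iff,
    TensorProduct.quotTensorEquivQuotSMul_mk_one_tmul, Submodule.Quotient.mk_eq_zero]

theorem isUnit_of_sub_mem {K : Type*} [AddCommGroup K] [Module R K] (hI : IsNilpotent I)
    (u : Module.End R K) (h : ∀ k, u k - k ∈ I • (⊤ : Submodule R K)) : IsUnit u := by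
  have hν : ∀ n : ℕ, Submodule.map ((u - 1) ^ n) ⊤ ≤ I ^ n • (⊤ : Submodule R K) := by
    intro n
    induction n with
    | zero => simp
    | succ n ih =>
      rw [pow_succ', Module.End.mul_eq_comp, Submodule.map_comp]
      refine (Submodule.map_mono ih).trans ?_
      rw [Submodule.map_smul'', pow_succ, Submodule.mul_smul]
      refine Submodule.smul_mono le_rfl ?_
      rintro _ ⟨k, -, rfl⟩
      exact h k
  obtain ⟨n, hn⟩ := hI
  have h0 : (u - 1) ^ n = 0 := by
    ext k
    have := hν n ⟨k, trivial, rfl⟩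
    rw [hn, Ideal.zero_eq_bot, Submodule.bot_smul] at this
    simpa using this
  have hnil : IsNilpotent (u - 1) := ⟨n, h0⟩
  have := hnil.isUnit_add_one
  simpa using this

/-- Key step: a short exact sequence `0 → K → F → M → 0` with `F` projective, `M` flat and
`M/IM` projective over `R/I` (with `I` nilpotent) splits. -/
theorem exists_section (hI : IsNilpotent I) {K F M : Type u} [AddCommGroup K] [Module R K]
    [AddCommGroup F] [Module R F] [AddCommGroup M] [Module R M] [Module.Flat R M]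
    [Module.Projective R F]
    (hproj : Module.Projective (R ⧸ I) ((R ⧸ I) ⊗[R] M))
    (i : K →ₗ[R] F) (p : F →ₗ[R] M) (hi : Injective i) (hex : Exact i p) (hp : Surjective p) :
    ∃ s : M →ₗ[R] F, p ∘ₗ s = LinearMap.id := by
  have hp₀ : Surjective (p.baseChange (R ⧸ I)) := by
    rw [LinearMap.baseChange_eq_ltensor]
    exact LinearMap.lTensor_surjective _ hp
  have hi₀ : Injective (i.baseChange (R ⧸ I)) := by
    rw [LinearMap.baseChange_eq_ltensor]
    exact LinearMap.lTensor_injective_of_exact_of_flat p hp i hi hex (R ⧸ I)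
  have hex₀ : Exact (i.baseChange (R ⧸ I)) (p.baseChange (R ⧸ I)) := by
    have := lTensor_exact (R ⧸ I) hex hp
    intro x
    rw [LinearMap.baseChange_eq_ltensor, this x]
    simp [LinearMap.baseChange_eq_ltensor]
  obtain ⟨s₀, hs₀⟩ := Module.projective_lifting_property (p.baseChange (R ⧸ I)) LinearMap.id hp₀
  have hs₀' : ∀ y, p.baseChange (R ⧸ I) (s₀ y) = y := fun y => LinearMap.congr_fun hs₀ y
  -- the projector onto the kernel
  let q₀ : (R ⧸ I) ⊗[R] F →ₗ[R ⧸ I] (R ⧸ I) ⊗[R] F :=
    LinearMap.id - s₀ ∘ₗ p.baseChange (R ⧸ I)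
  have hq₀ : ∀ y, p.baseChange (R ⧸ I) (q₀ y) = 0 := by
    intro y
    simp only [q₀, LinearMap.sub_apply, LinearMap.id_apply, LinearMap.comp_apply, map_sub, hs₀',
      sub_self]
  let N : Submodule R ((R ⧸ I) ⊗[R] F) := LinearMap.ker ((p.baseChange (R ⧸ I)).restrictScalars R)
  let f' : K →ₗ[R] N := (TensorProduct.mk R (R ⧸ I) F 1 ∘ₗ i).codRestrict N (by
    intro k
    show p.baseChange (R ⧸ I) ((1 : R ⧸ I) ⊗ₜ[R] i k) = 0
    rw [LinearMap.baseChange_tmul, hex.apply_apply_eq_zero, TensorProduct.tmul_zero])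
  let g' : F →ₗ[R] N :=
    ((q₀.restrictScalars R) ∘ₗ TensorProduct.mk R (R ⧸ I) F 1).codRestrict N (by
      intro x
      exact hq₀ _)
  have hf' : Surjective f' := by
    rintro ⟨n, hn⟩
    obtain ⟨z, hz⟩ := (hex₀ n).mp hn
    obtain ⟨k, rfl⟩ := TensorProduct.mk_surjective R K (R ⧸ I) Ideal.Quotient.mk_surjective z
    refine ⟨k, Subtype.ext ?_⟩
    exact hz
  obtain ⟨r, hr⟩ := Module.projective_lifting_property f' g' hf'
  have hr' : ∀ x : F, (1 : R ⧸ I) ⊗ₜ[R] (i (r x)) = q₀ (1 ⊗ₜ x) := by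
    intro x
    have := congrArg Subtype.val (LinearMap.congr_fun hr x)
    exact this
  let u : Module.End R K := r ∘ₗ i
  have hu : ∀ k, u k - k ∈ I • (⊤ : Submodule R K) := by
    intro k
    rw [← one_tmul_eq_zero_iff]
    apply hi₀
    rw [map_zero]
    have h1 : i.baseChange (R ⧸ I) ((1 : R ⧸ I) ⊗ₜ[R] (u k - k)) =
        (1 : R ⧸ I) ⊗ₜ[R] (i (r (i k))) - (1 : R ⧸ I) ⊗ₜ[R] (i k) := by
      simp [u, TensorProduct.tmul_sub]
    rw [h1, hr']
    have h2 : p.baseChange (R ⧸ I) ((1 : R ⧸ I) ⊗ₜ[R] (i k)) = 0 := by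
      rw [LinearMap.baseChange_tmul, hex.apply_apply_eq_zero, TensorProduct.tmul_zero]
    simp only [q₀, LinearMap.sub_apply, LinearMap.id_apply, LinearMap.comp_apply, h2, map_zero,
      sub_zero, sub_self]
  obtain ⟨u', hu'⟩ := (isUnit_of_sub_mem I hI u hu).exists_left_inv
  have hsplit : ∃ l, l ∘ₗ i = LinearMap.id := ⟨u' ∘ₗ r, by rw [LinearMap.comp_assoc]; exact hu'⟩
  exact ((hex.split_tfae hi hp).out 0 1).mpr hsplit

theorem main (hI : IsNilpotent I) (M : Type u) [AddCommGroup M] [Module R M] [Module.Flat R M]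
    (hproj : Module.Projective (R ⧸ I) ((R ⧸ I) ⊗[R] M)) : Module.Projective R M := by
  let p : (M →₀ R) →ₗ[R] M := Finsupp.linearCombination R id
  have hp : Surjective p := Finsupp.linearCombination_surjective R Function.surjective_id
  obtain ⟨s, hs⟩ := exists_section I hI (K := LinearMap.ker p) (F := M →₀ R) (M := M) hproj
    (LinearMap.ker p).subtype p
    (Submodule.injective_subtype _) (LinearMap.exact_subtype_ker_map p) hp
  exact Module.Projective.of_split s p hs

end Groth.Agent.H19.NilpProj
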