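import Groth.Prelude.Def_CInt
import Mathlib.AlgebraicGeometry.Noetherian
import Mathlib.RingTheory.Ideal.AssociatedPrime.Localization
import Mathlib.RingTheory.Ideal.AssociatedPrime.Finiteness

universe u
open CategoryTheory AlgebraicGeometry TopologicalSpace

namespace Groth.Agent.H19.AssPoints

/-- The maximal ideal of `A_P` is associated iff `P` is an associated prime of `A`. -/
lemma maximalIdeal_isAssociatedPrime_iff {A : Type*} [CommRing A] [IsNoetherianRing A]
    (P : Ideal A) [P.IsPrime] (S : Type*) [CommRing S] [Algebra A S]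
    [IsLocalization.AtPrime S P] [IsLocalRing S] :
    IsAssociatedPrime (IsLocalRing.maximalIdeal S) S ↔ IsAssociatedPrime P A := by
  have h := Module.associatedPrimes.preimage_comap_associatedPrimes_eq_associatedPrimes_of_isLocalizedModule
    P.primeCompl S (Algebra.linearMap A S)
  have h2 : IsLocalRing.maximalIdeal S ∈ associatedPrimes S S ↔
      IsLocalRing.maximalIdeal S ∈
        (Ideal.comap (algebraMap A S)) ⁻¹' (associatedPrimes A A) := by rw [h]
  rw [Set.mem_preimage] at h2
  have h3 : (IsLocalRing.maximalIdeal S).comap (algebraMap A S) = P :=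
    IsLocalization.AtPrime.under_maximalIdeal S P
  rw [h3] at h2
  exact h2

variable {X : Scheme.{u}}

lemma mem_iff_not_mem_basicOpen {W : X.Opens} {x : X} (hx : x ∈ W)
    (P : Ideal Γ(X, W)) [P.IsPrime]
    (hloc : @IsLocalization.AtPrime _ _ (X.presheaf.stalk x) _
      (TopCat.Presheaf.algebra_section_stalk X.presheaf (⟨x, hx⟩ : W)) P _)
    (g : Γ(X, W)) : g ∈ P ↔ x ∉ X.basicOpen g := by
  let _ := TopCat.Presheaf.algebra_section_stalk X.presheaf (⟨x, hx⟩ : W)
  rw [Scheme.mem_basicOpen X g x hx]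
  have := IsLocalization.AtPrime.isUnit_to_map_iff (X.presheaf.stalk x) P g
  rw [Ideal.mem_primeCompl_iff] at this
  constructor
  · intro hg hu
    exact (this.mp hu) hg
  · intro hg
    by_contra hg'
    exact hg (this.mpr hg')

lemma isAssociatedPrime_stalk_iff [IsLocallyNoetherian X] {W : X.Opens} (hW : IsAffineOpen W)
    {x : X} (hx : x ∈ W) (P : Ideal Γ(X, W)) [P.IsPrime]
    (hloc : @IsLocalization.AtPrime _ _ (X.presheaf.stalk x) _
      (TopCat.Presheaf.algebra_section_stalk X.presheaf (⟨x, hx⟩ : W)) P _) :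
    IsAssociatedPrime (IsLocalRing.maximalIdeal (X.presheaf.stalk x)) (X.presheaf.stalk x) ↔
      IsAssociatedPrime P Γ(X, W) := by
  have hN : IsNoetherianRing Γ(X, W) := IsLocallyNoetherian.component_noetherian ⟨W, hW⟩
  let _ := TopCat.Presheaf.algebra_section_stalk X.presheaf (⟨x, hx⟩ : W)
  exact maximalIdeal_isAssociatedPrime_iff P (X.presheaf.stalk x)

/-- A schematically dense open contains every associated point. -/
theorem mem_of_isAssociatedPrime [IsLocallyNoetherian X] (U : X.Opens)
    (hU : CInt.IsSchematicallyDense U) (x : X)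
    (hx : IsAssociatedPrime (IsLocalRing.maximalIdeal (X.presheaf.stalk x))
      (X.presheaf.stalk x)) : x ∈ U := by
  by_contra hxU
  obtain ⟨_, ⟨W, hW, rfl⟩, hxW, -⟩ :=
    X.isBasis_affineOpens.exists_subset_of_mem_open (Set.mem_univ x) isOpen_univ
  have hN : IsNoetherianRing Γ(X, W) := IsLocallyNoetherian.component_noetherian ⟨W, hW⟩
  have hloc := hW.isLocalization_stalk ⟨x, hxW⟩
  have hass := (isAssociatedPrime_stalk_iff hW hxW _ hloc).mp hx
  rw [isAssociatedPrime_iff] at hass
  obtain ⟨hprime, b, hb⟩ := hass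
  have hb0 : b ≠ 0 := by
    rintro rfl
    apply hprime.ne_top
    rw [hb, Ideal.eq_top_iff_one, Submodule.mem_colon_singleton]
    simp
  have hres : X.presheaf.map (homOfLE (inf_le_left : W ⊓ U ≤ W)).op b = 0 := by
    refine TopCat.Presheaf.section_ext X.sheaf (W ⊓ U) _ 0 (fun y hy => ?_)
    change X.presheaf.germ (W ⊓ U) y hy
        (X.presheaf.map (homOfLE (inf_le_left : W ⊓ U ≤ W)).op b) =
      X.presheaf.germ (W ⊓ U) y hy 0
    have h1 : X.presheaf.germ (W ⊓ U) y hy
        (X.presheaf.map (homOfLE (inf_le_left : W ⊓ U ≤ W)).op b) =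
        X.presheaf.germ W y hy.1 b :=
      X.presheaf.germ_res_apply (homOfLE (inf_le_left : W ⊓ U ≤ W)) y hy b
    rw [h1, map_zero]
    obtain ⟨g, hgle, hyg⟩ := hW.exists_basicOpen_le (V := W ⊓ U) ⟨y, hy⟩ hy.1
    have hxg : x ∉ X.basicOpen g := fun h => hxU (hgle h).2
    have hgP := (mem_iff_not_mem_basicOpen hxW _ hloc g).mpr hxg
    rw [hb, Submodule.mem_colon_singleton, Submodule.mem_bot, smul_eq_mul] at hgP
    have hu : IsUnit (X.presheaf.germ W y hy.1 g) := (Scheme.mem_basicOpen X g y hy.1).mp hyg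
    have h3 : X.presheaf.germ W y hy.1 g * X.presheaf.germ W y hy.1 b = 0 := by
      rw [← map_mul, hgP, map_zero]
    exact (hu.mul_right_eq_zero).mp h3
  exact hb0 ((injective_iff_map_eq_zero _).mp (hU W) b hres)

/-- An open containing every associated point is schematically dense. -/
theorem isSchematicallyDense_of_forall [IsLocallyNoetherian X] (U : X.Opens)
    (h : ∀ x : X, IsAssociatedPrime (IsLocalRing.maximalIdeal (X.presheaf.stalk x))
      (X.presheaf.stalk x) → x ∈ U) : CInt.IsSchematicallyDense U := by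
  intro V
  rw [injective_iff_map_eq_zero]
  intro s hs
  refine TopCat.Presheaf.section_ext X.sheaf V s 0 (fun y hy => ?_)
  change X.presheaf.germ V y hy s = X.presheaf.germ V y hy 0
  rw [map_zero]
  by_contra hne
  obtain ⟨_, ⟨W, hW, rfl⟩, hyW, hWV⟩ :=
    X.isBasis_affineOpens.exists_subset_of_mem_open hy V.isOpen
  have hWV' : W ≤ V := hWV
  set s' : Γ(X, W) := X.presheaf.map (homOfLE hWV').op s with hs'
  have hs'0 : s' ≠ 0 := by
    intro h0
    apply hne
    have h1 : X.presheaf.germ W y hyW s' = X.presheaf.germ V y hy s :=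
      X.presheaf.germ_res_apply (homOfLE hWV') y hyW s
    rw [← h1, h0, map_zero]
  have hN : IsNoetherianRing Γ(X, W) := IsLocallyNoetherian.component_noetherian ⟨W, hW⟩
  obtain ⟨P, hP, hle⟩ := exists_le_isAssociatedPrime_of_isNoetherianRing Γ(X, W) s' hs'0
  have hPprime : P.IsPrime := hP.isPrime
  set z : X := hW.fromSpec ⟨P, hPprime⟩ with hz
  have hzW : z ∈ W := by
    have : z ∈ hW.fromSpec.opensRange := ⟨_, rfl⟩
    rwa [hW.opensRange_fromSpec] at this
  have hloc := hW.isLocalization_stalk' ⟨P, hPprime⟩ hzW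
  have hzass := (isAssociatedPrime_stalk_iff hW hzW P hloc).mpr hP
  have hzU : z ∈ U := h z hzass
  -- the germ of `s'` at `z` vanishes
  have hgerm : X.presheaf.germ W z hzW s' = 0 := by
    have h1 : X.presheaf.germ W z hzW s' = X.presheaf.germ V z (hWV' hzW) s :=
      X.presheaf.germ_res_apply (homOfLE hWV') z hzW s
    have h2 : X.presheaf.germ (V ⊓ U) z ⟨hWV' hzW, hzU⟩
        (X.presheaf.map (homOfLE (inf_le_left : V ⊓ U ≤ V)).op s) =
        X.presheaf.germ V z (hWV' hzW) s :=
      X.presheaf.germ_res_apply (homOfLE (inf_le_left : V ⊓ U ≤ V)) z ⟨hWV' hzW, hzU⟩ s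
    rw [h1, ← h2, hs, map_zero]
  let _ := TopCat.Presheaf.algebra_section_stalk X.presheaf (⟨z, hzW⟩ : W)
  have hgerm' : algebraMap Γ(X, W) (X.presheaf.stalk z) s' = 0 := hgerm
  have hloc' : IsLocalization P.primeCompl (X.presheaf.stalk z) := hloc
  obtain ⟨g, hg⟩ := (IsLocalization.map_eq_zero_iff P.primeCompl (X.presheaf.stalk z) s').mp hgerm'
  have hgP : (g : Γ(X, W)) ∈ P := by
    apply hle
    rw [Submodule.mem_colon_singleton, Submodule.mem_bot, smul_eq_mul]
    exact hg
  exact g.2 hgP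

theorem main (X : Scheme.{u}) [IsLocallyNoetherian X] (U : X.Opens) :
    CInt.IsSchematicallyDense U ↔
      ∀ x : ↥X, IsAssociatedPrime (IsLocalRing.maximalIdeal ↑(X.presheaf.stalk x))
        ↑(X.presheaf.stalk x) → x ∈ U :=
  ⟨fun hU x hx => mem_of_isAssociatedPrime U hU x hx, isSchematicallyDense_of_forall U⟩

end Groth.Agent.H19.AssPoints
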