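import Groth.Agent.H12.LimSys
import Mathlib.LinearAlgebra.TensorProduct.RightExactness
import Mathlib.RingTheory.Noetherian.Basic

/-!
# Algebra for coherent systems on affine formal schemes

Helper library (helper19).
* `one_tmul_surjective`, `one_tmul_eq_zero_iff`: for a surjective `R → B`, the map `x ↦ 1 ⊗ x`,
  `N → B ⊗[R] N` is surjective with kernel `(ker) • N`.
* `exists_limit`: EGA 0_I 7.2.9 packaged: a tower of `A`-modules `N n` with surjective transition
  maps of kernel `I^(n+1) N (n+1)` and `N 0` finite, over a Noetherian `I`-adically complete ring,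
  is `L / I^(n+1) L` for a finite `A`-module `L`.
-/

set_option autoImplicit false
universe u
open TensorProduct

namespace Groth.Agent.H19.AffSysAlg

section Tensor

variable {R B : Type*} [CommRing R] [CommRing B] [Algebra R B]
  (hB : Function.Surjective (algebraMap R B)) (N : Type*) [AddCommGroup N] [Module R N]

include hB in
lemma one_tmul_surjective : Function.Surjective (fun x : N => (1 : B) ⊗ₜ[R] x) := by
  intro z
  induction z using TensorProduct.induction_on with
  | zero => exact ⟨0, by simp⟩
  | tmul b x =>
    obtain ⟨r, rfl⟩ := hB b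
    refine ⟨r • x, ?_⟩
    show (1 : B) ⊗ₜ[R] (r • x) = algebraMap R B r ⊗ₜ[R] x
    rw [TensorProduct.tmul_smul, TensorProduct.smul_tmul', Algebra.smul_def, mul_one]
  | add z w hz hw =>
    obtain ⟨x, hx⟩ := hz
    obtain ⟨y, hy⟩ := hw
    exact ⟨x + y, by simp only [TensorProduct.tmul_add]; rw [← hx, ← hy]⟩

include hB in
lemma one_tmul_eq_zero_iff (x : N) :
    (1 : B) ⊗ₜ[R] x = 0 ↔ x ∈ (RingHom.ker (algebraMap R B)) • (⊤ : Submodule R N) := by
  set K := RingHom.ker (algebraMap R B)
  constructor
  · intro h
    have hex : Function.Exact (Submodule.subtype K) (Algebra.linearMap R B) := by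
      intro r
      constructor
      · intro hr
        exact ⟨⟨r, hr⟩, rfl⟩
      · rintro ⟨k, rfl⟩
        exact k.2
    have hsurj : Function.Surjective (Algebra.linearMap R B) := hB
    have hex2 := rTensor_exact N hex hsurj
    have h1 : (LinearMap.rTensor N (Algebra.linearMap R B)) ((1 : R) ⊗ₜ[R] x) = 0 := by
      rw [LinearMap.rTensor_tmul]
      simpa using h
    obtain ⟨z, hz⟩ := (hex2 _).mp h1
    have h2 := congrArg (TensorProduct.lid R N) hz
    rw [TensorProduct.lid_tmul, one_smul] at h2
    rw [← h2]
    clear hz h2 h1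
    induction z using TensorProduct.induction_on with
    | zero => simp
    | tmul k y =>
      rw [LinearMap.rTensor_tmul, TensorProduct.lid_tmul]
      exact Submodule.smul_mem_smul k.2 Submodule.mem_top
    | add z w hz hw =>
      rw [map_add, map_add]
      exact Submodule.add_mem _ hz hw
  · intro h
    refine Submodule.smul_induction_on h (fun r hr n _ => ?_) (fun x y hx hy => ?_)
    · rw [TensorProduct.tmul_smul, TensorProduct.smul_tmul', Algebra.smul_def, mul_one,
        (RingHom.mem_ker).mp hr, TensorProduct.zero_tmul]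
    · rw [TensorProduct.tmul_add, hx, hy, add_zero]

end Tensor

section Limit

variable {A : Type u} [CommRing A] (I : Ideal A)
  (N : ℕ → Type u) [∀ n, AddCommGroup (N n)] [∀ n, Module A (N n)]
  (t : ∀ n, N (n + 1) →ₗ[A] N n)

/-- The module of compatible sequences. -/
def limSub : Submodule A (∀ n, N n) where
  carrier := {y | ∀ n, t n (y (n + 1)) = y n}
  add_mem' := by
    intro a b ha hb n
    simp only [Pi.add_apply, map_add, ha n, hb n]
  zero_mem' := by
    intro n
    simp only [Pi.zero_apply, map_zero]
  smul_mem' := by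
    intro c a ha n
    simp only [Pi.smul_apply, map_smul, ha n]

/-- The projections of the module of compatible sequences. -/
def limProj (n : ℕ) : limSub N t →ₗ[A] N n :=
  (LinearMap.proj n).comp (limSub N t).subtype

lemma limProj_apply (n : ℕ) (y : limSub N t) : limProj N t n y = y.1 n := rfl

lemma limProj_comp (n : ℕ) : t n ∘ₗ limProj N t (n + 1) = limProj N t n :=
  LinearMap.ext fun y => y.2 n

lemma limProj_inj (y : limSub N t) (h : ∀ n, limProj N t n y = 0) : y = 0 :=
  Subtype.ext (funext h)

lemma limProj_lift (y : ∀ n, N n) (hy : ∀ n, t n (y (n + 1)) = y n) :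
    ∃ x : limSub N t, ∀ n, limProj N t n x = y n :=
  ⟨⟨y, hy⟩, fun _ => rfl⟩

variable [IsNoetherianRing A] [IsAdicComplete I A]

theorem limit_main (ht : ∀ n, Function.Surjective (t n))
    (hker : ∀ n, LinearMap.ker (t n) = I ^ (n + 1) • (⊤ : Submodule A (N (n + 1))))
    [Module.Finite A (N 0)] :
    Module.Finite A (limSub N t) ∧ (∀ n, Function.Surjective (limProj N t n)) ∧
      (∀ n, LinearMap.ker (limProj N t n) = I ^ (n + 1) • (⊤ : Submodule A (limSub N t))) := by
  have hI : I.FG := IsNoetherian.noetherian I
  have hsurj : ∀ n, Function.Surjective (limProj N t n) := fun n =>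
    Groth.Agent.H12.pi_surjective (π := limProj N t) ht (limProj_comp N t) (limProj_lift N t) n
  have hk : ∀ n, LinearMap.ker (limProj N t n) = I ^ (n + 1) • (⊤ : Submodule A (limSub N t)) :=
    Groth.Agent.H12.ker_pi_eq hI ht hker (limProj_comp N t) (limProj_inj N t) (limProj_lift N t)
  have hcompl : IsAdicComplete I (limSub N t) :=
    Groth.Agent.H12.isAdicComplete_limit hI ht hker (limProj_comp N t) (limProj_inj N t)
      (limProj_lift N t)
  refine ⟨?_, hsurj, hk⟩
  obtain ⟨k, x, hx⟩ := Module.Finite.exists_fin (R := A) (M := N 0)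
  choose l hl using fun i => hsurj 0 (x i)
  have hsup : Submodule.span A (Set.range l) ⊔ I • (⊤ : Submodule A (limSub N t)) = ⊤ := by
    rw [eq_top_iff]
    intro y _
    have hy : limProj N t 0 y ∈ Submodule.span A (Set.range x) := by rw [hx]; trivial
    obtain ⟨c, hc⟩ := (Submodule.mem_span_range_iff_exists_fun A).mp hy
    have hdiff : y - ∑ i, c i • l i ∈ LinearMap.ker (limProj N t 0) := by
      rw [LinearMap.mem_ker, map_sub, map_sum, ← hc, sub_eq_zero]
      refine (Finset.sum_congr rfl fun i _ => ?_).symm
      rw [map_smul, hl]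
    rw [hk 0, zero_add, pow_one] at hdiff
    have : y = ∑ i, c i • l i + (y - ∑ i, c i • l i) := by abel
    rw [this]
    refine Submodule.add_mem_sup ?_ hdiff
    exact Submodule.sum_mem _ fun i _ => Submodule.smul_mem _ _ (Submodule.subset_span ⟨i, rfl⟩)
  have hspan := Groth.Agent.H12.span_eq_top_of_sup_smul_eq_top (I := I) l hsup
  exact ⟨⟨(Set.finite_range l).toFinset, by simpa using hspan⟩⟩

end Limit

end Groth.Agent.H19.AffSysAlg
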