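import Groth.Agent.H19.AffSysCmp2

/-!
# Coherent systems on the completion of `Spec A` along `V(J)`: main theorem

Helper library (helper19).
-/

set_option autoImplicit false
universe u
open CategoryTheory AlgebraicGeometry Scheme.Modules TopologicalSpace Opposite

namespace Groth.Agent.H19.AffSysCompl

open Groth.Agent.H19.AffSysMod Groth.Agent.H19.AffSysCmp Groth.Agent.H19.AffSysPull

section General

variable {X : Scheme.{u}} (𝓘 : X.IdealSheafData) (F : X.Modules) (n : ℕ)

lemma complTransIso_app_eq : (FSch.complTransIso 𝓘 n).app F =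
    (pullbackComp ((FSch.completionAlong X 𝓘).ι n) (FSch.completionToX X 𝓘 (n + 1)) ≪≫
      pullbackCongr (FSch.completionToX_comm X 𝓘 n)).app F := rfl

lemma complMod_e_eq : (FSch.complMod 𝓘 F).e n =
    (pullbackComp ((FSch.completionAlong X 𝓘).ι n) (FSch.completionToX X 𝓘 (n + 1)) ≪≫
      pullbackCongr (FSch.completionToX_comm X 𝓘 n)).app F :=
  (FSch.complMod_e 𝓘 F n).trans (complTransIso_app_eq 𝓘 F n)

/-- The completion of a module is the system of pullbacks along `completionToX`. -/
lemma complMod_eq_pullSys : FSch.complMod 𝓘 F =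
    pullSys (FSch.completionAlong X 𝓘) (FSch.completionToX X 𝓘) (FSch.completionToX_comm X 𝓘) F :=
  rfl

end General

/-- EGA I 10.11.3 b) ⇒ c), strong form: every coherent system on the completion of `Spec A` along
`V(J)` (`A` Noetherian and `J`-adically complete) is isomorphic as a system to `M^Δ` for a finite
`A`-module `M`. -/
theorem main (A : Type u) [CommRing A] [IsNoetherianRing A]
    (J : Ideal A) [IsAdicComplete J A]
    (𝔐 : FSch.ModSys (FSch.completionAlong (Spec (CommRingCat.of A)) (FSch.idealSpec A J)))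
    (h𝔐 : 𝔐.IsCoh) :
    ∃ M : ModuleCat.{u} A, Module.Finite A M ∧
      Nonempty (𝔐 ≅ FSch.complMod (FSch.idealSpec A J) (tilde (R := CommRingCat.of A) M)) := by
  have hq : ∀ n, (𝔐.F n).IsQuasicoherent := fun n => (h𝔐 n).1
  have hf : SheafOfModules.IsFiniteType (R := ((FSch.completionAlong (Spec (CommRingCat.of A))
      (FSch.idealSpec A J)).X 0).ringCatSheaf) (𝔐.F 0) := (h𝔐 0).2
  obtain ⟨L, fin, ⟨e⟩⟩ := exists_iso_pullSys
    (FSch.completionAlong (Spec (CommRingCat.of A)) (FSch.idealSpec A J))
    (FSch.completionToX (Spec (CommRingCat.of A)) (FSch.idealSpec A J)) J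
    (FSch.completionToX_comm (Spec (CommRingCat.of A)) (FSch.idealSpec A J))
    (rho_surjective A J) (rho_ker A J) 𝔐
  refine ⟨L, fin, ?_⟩
  rw [complMod_eq_pullSys]
  exact ⟨e⟩

end Groth.Agent.H19.AffSysCompl
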