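import Groth.Agent.H19.AffSysFF
import Groth.Agent.H19.AffSysComplMain

/-!
# Full faithfulness of `M ↦ M^Δ` on the completion of `Spec A` along `V(J)`

Helper library (helper19).
-/

set_option autoImplicit false
universe u
open CategoryTheory AlgebraicGeometry Scheme.Modules TopologicalSpace Opposite

namespace Groth.Agent.H19.AffSysCompl

open Groth.Agent.H19.AffSysMod Groth.Agent.H19.AffSysCmp Groth.Agent.H19.AffSysPull
  Groth.Agent.H19.AffSysFF

section General

variable {X : Scheme.{u}} (𝓘 : X.IdealSheafData) {F G : X.Modules}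

/-- The compatibility of a morphism `F^Δ ⟶ G^Δ` with the transition isomorphisms, with these
spelled out. -/
lemma complMod_hom_comm (φ : FSch.complMod 𝓘 F ⟶ FSch.complMod 𝓘 G) (n : ℕ) :
    (pullback ((FSch.completionAlong X 𝓘).ι n)).map
        ((φ : FSch.ModSys.Hom (FSch.complMod 𝓘 F) (FSch.complMod 𝓘 G)).app (n + 1)) ≫
      ((pullbackComp ((FSch.completionAlong X 𝓘).ι n) (FSch.completionToX X 𝓘 (n + 1)) ≪≫
        pullbackCongr (FSch.completionToX_comm X 𝓘 n)).app G).hom =
    ((pullbackComp ((FSch.completionAlong X 𝓘).ι n) (FSch.completionToX X 𝓘 (n + 1)) ≪≫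
        pullbackCongr (FSch.completionToX_comm X 𝓘 n)).app F).hom ≫
      (φ : FSch.ModSys.Hom (FSch.complMod 𝓘 F) (FSch.complMod 𝓘 G)).app n := by
  have h := (φ : FSch.ModSys.Hom (FSch.complMod 𝓘 F) (FSch.complMod 𝓘 G)).comm n
  rw [complMod_e_eq, complMod_e_eq] at h
  exact h

/-- Bijectivity of `c ↦ (f c)^Δ` from levelwise criteria. -/
lemma bijective_complModMap_of {C : Type*} (f : C → (F ⟶ G))
    (hinj : ∀ c c' : C, (∀ n, (pullback (FSch.completionToX X 𝓘 n)).map (f c) =
      (pullback (FSch.completionToX X 𝓘 n)).map (f c')) → c = c')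
    (hsurj : ∀ (Φ : ∀ n, (pullback (FSch.completionToX X 𝓘 n)).obj F ⟶
        (pullback (FSch.completionToX X 𝓘 n)).obj G),
      (∀ n, (pullback ((FSch.completionAlong X 𝓘).ι n)).map (Φ (n + 1)) ≫
        ((pullbackComp ((FSch.completionAlong X 𝓘).ι n) (FSch.completionToX X 𝓘 (n + 1)) ≪≫
          pullbackCongr (FSch.completionToX_comm X 𝓘 n)).app G).hom =
        ((pullbackComp ((FSch.completionAlong X 𝓘).ι n) (FSch.completionToX X 𝓘 (n + 1)) ≪≫
          pullbackCongr (FSch.completionToX_comm X 𝓘 n)).app F).hom ≫ Φ n) →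
      ∃ c : C, ∀ n, (pullback (FSch.completionToX X 𝓘 n)).map (f c) = Φ n) :
    Function.Bijective (fun c => FSch.complModMap 𝓘 (f c)) := by
  constructor
  · intro c c' h
    have h' : FSch.complModMap 𝓘 (f c) = FSch.complModMap 𝓘 (f c') := h
    exact hinj c c' (fun n => congrArg
      (fun φ : FSch.ModSys.Hom (FSch.complMod 𝓘 F) (FSch.complMod 𝓘 G) => φ.app n) h')
  · intro φ
    obtain ⟨c, hc⟩ := hsurj
      (fun n => (φ : FSch.ModSys.Hom (FSch.complMod 𝓘 F) (FSch.complMod 𝓘 G)).app n)
      (fun n => complMod_hom_comm 𝓘 φ n)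
    exact ⟨c, FSch.ModSys.Hom.ext (funext hc)⟩

end General

/-- EGA I 10.11.4-type statement: `u ↦ u^Δ` is bijective on finite modules. -/
theorem main_ff (A : Type u) [CommRing A] [IsNoetherianRing A]
    (J : Ideal A) [IsAdicComplete J A] (M N : ModuleCat.{u} A) [Module.Finite A N] :
    Function.Bijective (fun u : M ⟶ N ↦
      FSch.complModMap (FSch.idealSpec A J) ((tilde.functor (CommRingCat.of A)).map u)) := by
  have hinj := eq_of_pullback_map_eq
      (FSch.completionAlong (Spec (CommRingCat.of A)) (FSch.idealSpec A J))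
      (FSch.completionToX (Spec (CommRingCat.of A)) (FSch.idealSpec A J)) J
      (rho_surjective A J) (rho_ker A J) M N
  have hsurj := exists_linear_of_compatible
      (FSch.completionAlong (Spec (CommRingCat.of A)) (FSch.idealSpec A J))
      (FSch.completionToX (Spec (CommRingCat.of A)) (FSch.idealSpec A J)) J
      (FSch.completionToX_comm (Spec (CommRingCat.of A)) (FSch.idealSpec A J))
      (rho_surjective A J) (rho_ker A J) M N
  exact bijective_complModMap_of (FSch.idealSpec A J)
    (F := tilde (R := CommRingCat.of A) M) (G := tilde (R := CommRingCat.of A) N)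
    (fun u : M ⟶ N => (tilde.functor (CommRingCat.of A)).map u) hinj hsurj

end Groth.Agent.H19.AffSysCompl
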