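import Groth.Agent.H19.AffSysCmp2
import Mathlib.RingTheory.AdicCompletion.AsTensorProduct

/-!
# Full faithfulness of `L ↦ pullSys (tilde L)` on finite modules over a complete Noetherian ring

Helper library (helper19).
-/

set_option autoImplicit false
set_option linter.style.haveILetI false
set_option linter.unusedSectionVars false
universe u
open CategoryTheory AlgebraicGeometry Scheme.Modules TopologicalSpace Opposite

namespace Groth.Agent.H19.AffSysFF

open Groth.Agent.H44 Groth.Agent.H19.AffSysAlg Groth.Agent.H19.AffSysPull Groth.Agent.H19.AffSysMod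
  Groth.Agent.H19.AffSysCompl Groth.Agent.H19.AffSysCmp

section Alg

variable {R : Type u} [CommRing R] [IsNoetherianRing R] (I : Ideal R) [IsAdicComplete I R]
  (M : Type u) [AddCommGroup M] [Module R M] [Module.Finite R M]

/-- Finite modules over a complete Noetherian ring are complete. -/
theorem isAdicComplete_of_finite : IsAdicComplete I M := by
  haveI : IsHausdorff I M := IsHausdorff.of_le_jacobson I M (IsAdicComplete.le_jacobson_bot I)
  haveI : IsPrecomplete I M := by
    rw [← AdicCompletion.of_surjective_iff]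
    intro y
    obtain ⟨x, rfl⟩ := (AdicCompletion.ofTensorProductEquivOfFiniteNoetherian I M).surjective y
    induction x using TensorProduct.induction_on with
    | zero => exact ⟨0, by rw [map_zero, map_zero]⟩
    | add a b ha hb =>
      obtain ⟨m, hm⟩ := ha
      obtain ⟨m', hm'⟩ := hb
      exact ⟨m + m', by rw [map_add, map_add, hm, hm']⟩
    | tmul r m =>
      obtain ⟨r₀, rfl⟩ := AdicCompletion.of_surjective I R r
      refine ⟨r₀ • m, ?_⟩
      rw [AdicCompletion.ofTensorProductEquivOfFiniteNoetherian_apply,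
        AdicCompletion.ofTensorProduct_tmul, _root_.map_smul]
      have h1 : AdicCompletion.of I R r₀ = algebraMap R (AdicCompletion I R) r₀ := by
        rw [AdicCompletion.algebraMap_apply]
        rfl
      rw [h1, algebraMap_smul]
  exact {}

end Alg

section Sig

variable {X : Scheme.{u}} {A : Type u} [CommRing A] (j : X ⟶ Spec (CommRingCat.of A))

lemma unitL_map {M N : ModuleCat.{u} A} (u : M ⟶ N) (m : M) :
    ((tilde.functor (CommRingCat.of A)).map u).app ⊤ (unitL M m) = unitL N (u m) := by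
  have h := (tilde.adjunction (R := CommRingCat.of A)).unit.naturality u
  have h' := congrArg (fun g => g.hom m) h
  exact h'.symm

lemma sig_map {M N : ModuleCat.{u} A} (u : M ⟶ N) (m : M) :
    ((pullback j).map ((tilde.functor (CommRingCat.of A)).map u)).app ⊤ (sig j M m) =
      sig j N (u m) := by
  exact (pullTop_naturality j ((tilde.functor (CommRingCat.of A)).map u) (unitL M m)).trans
    (congrArg (pullTop j (tilde (R := CommRingCat.of A) N)) (unitL_map u m))

lemma sig_zero (L : ModuleCat.{u} A) : sig j L 0 = 0 := by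
  have h := sig_add j L 0 0
  rw [add_zero] at h
  exact left_eq_add.mp h

lemma sig_neg (L : ModuleCat.{u} A) (l : L) : sig j L (-l) = -sig j L l := by
  have h := sig_add j L l (-l)
  rw [add_neg_cancel, sig_zero] at h
  exact (neg_eq_of_add_eq_zero_right h.symm).symm

lemma sig_sub (L : ModuleCat.{u} A) (l l' : L) : sig j L (l - l') = sig j L l - sig j L l' := by
  rw [sub_eq_add_neg, sig_add, sig_neg, ← sub_eq_add_neg]

end Sig

section PullSysMap

variable (𝔛 : FSch.Sys.{u}) {Y : Scheme.{u}} (jj : ∀ n, 𝔛.X n ⟶ Y)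
  (hj : ∀ n, 𝔛.ι n ≫ jj (n + 1) = jj n)

/-- Functoriality of `pullSys`. -/
noncomputable def pullSysMap {F G : Y.Modules} (φ : F ⟶ G) :
    pullSys 𝔛 jj hj F ⟶ pullSys 𝔛 jj hj G :=
  (⟨fun n => (pullback (jj n)).map φ, fun n => by
    rw [pullSys_e, pullSys_e, Iso.app_hom, Iso.app_hom]
    exact (pullbackComp (𝔛.ι n) (jj (n + 1)) ≪≫ pullbackCongr (hj n)).hom.naturality φ⟩ :
    FSch.ModSys.Hom (pullSys 𝔛 jj hj F) (pullSys 𝔛 jj hj G))

lemma pullSysMap_app {F G : Y.Modules} (φ : F ⟶ G) (n : ℕ) :
    (pullSysMap 𝔛 jj hj φ : FSch.ModSys.Hom _ _).app n = (pullback (jj n)).map φ := rfl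

end PullSysMap

section System

variable (𝔛 : FSch.Sys.{u}) [∀ n, IsAffine (𝔛.X n)] {A : Type u} [CommRing A]
  (jj : ∀ n, 𝔛.X n ⟶ Spec (CommRingCat.of A)) (I : Ideal A) [IsNoetherianRing A]
  [IsAdicComplete I A] (hj : ∀ n, 𝔛.ι n ≫ jj (n + 1) = jj n)
  (hs : ∀ n, Function.Surjective (rho 𝔛 jj n)) (hk : ∀ n, RingHom.ker (rho 𝔛 jj n) = I ^ (n + 1))
  (M N : ModuleCat.{u} A) [Module.Finite A N]

include hs hk in
lemma sig_eq_iff (n : ℕ) (x x' : N) :
    sig (jj n) N x = sig (jj n) N x' ↔ x - x' ∈ I ^ (n + 1) • (⊤ : Submodule A N) := by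
  rw [← hk n]
  refine Iff.trans ?_ (sig_eq_zero_iff (jj n) N (hs n) (x - x'))
  rw [sig_sub, sub_eq_zero]

include hs hk in
/-- An element of a finite module is determined by its images in all levels. -/
lemma eq_of_sig_eq (x x' : N) (h : ∀ n, sig (jj n) N x = sig (jj n) N x') : x = x' := by
  haveI : IsAdicComplete I N := isAdicComplete_of_finite I N
  rw [← sub_eq_zero]
  apply IsHausdorff.haus' (I := I) (M := N)
  intro n
  rw [SModEq.zero]
  have h1 := (sig_eq_iff 𝔛 jj I hs hk N n x x').mp (h n)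
  exact Submodule.smul_mono_left (Ideal.pow_le_pow_right (Nat.le_succ n)) h1

include hs hk in
/-- A compatible family of sections of the `(jj n)^* (tilde N)` comes from an element of `N`. -/
lemma exists_of_compatible (y : ∀ n, Γ((pullback (jj n)).obj (tilde (R := CommRingCat.of A) N), ⊤))
    (hy : ∀ n (x : N), sig (jj (n + 1)) N x = y (n + 1) → sig (jj n) N x = y n) :
    ∃ x : N, ∀ n, sig (jj n) N x = y n := by
  haveI : IsAdicComplete I N := isAdicComplete_of_finite I N
  have hx : ∀ n, ∃ x : N, sig (jj n) N x = y n := fun n => sig_surjective (jj n) N (hs n) (y n)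
  choose x hx using hx
  have hstep : ∀ n, x (n + 1) - x n ∈ I ^ (n + 1) • (⊤ : Submodule A N) := fun n =>
    (sig_eq_iff 𝔛 jj I hs hk N n _ _).mp ((hy n _ (hx (n + 1))).trans (hx n).symm)
  have hcauchy : ∀ {a b : ℕ}, a ≤ b → x a ≡ x b [SMOD (I ^ a • ⊤ : Submodule A N)] := by
    intro a b hab
    induction b, hab using Nat.le_induction with
    | base => exact SModEq.refl _
    | succ b hab ih =>
      refine ih.trans ?_
      rw [SModEq.comm, SModEq.sub_mem]
      exact Submodule.smul_mono_left (Ideal.pow_le_pow_right (Nat.le_succ_of_le hab)) (hstep b)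
  obtain ⟨z, hz⟩ := IsPrecomplete.prec (inferInstance : IsPrecomplete I N) hcauchy
  refine ⟨z, fun n => ?_⟩
  have h1 : sig (jj n) N (x (n + 1)) = y n := hy n _ (hx (n + 1))
  rw [← h1, sig_eq_iff 𝔛 jj I hs hk N n]
  have h2 := hz (n + 1)
  rw [SModEq.comm, SModEq.sub_mem] at h2
  exact h2

include hs hk in
/-- A linear map to a finite module is determined by its pullbacks to all levels. -/
theorem eq_of_pullback_map_eq (u v : M ⟶ N)
    (hn : ∀ n, (pullback (jj n)).map ((tilde.functor (CommRingCat.of A)).map u) =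
      (pullback (jj n)).map ((tilde.functor (CommRingCat.of A)).map v)) : u = v := by
  apply ModuleCat.hom_ext
  apply LinearMap.ext
  intro m
  apply eq_of_sig_eq 𝔛 jj I hs hk N
  intro n
  rw [← sig_map, ← sig_map, hn n]

include hs hk in
theorem pullSysMap_tilde_injective :
    Function.Injective (fun u : M ⟶ N =>
      pullSysMap 𝔛 jj hj ((tilde.functor (CommRingCat.of A)).map u)) := by
  intro u v h
  have h' : pullSysMap 𝔛 jj hj ((tilde.functor (CommRingCat.of A)).map u) =
      pullSysMap 𝔛 jj hj ((tilde.functor (CommRingCat.of A)).map v) := h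
  exact eq_of_pullback_map_eq 𝔛 jj I hs hk M N u v (fun n =>
    congrArg (fun φ : FSch.ModSys.Hom (pullSys 𝔛 jj hj (tilde (R := CommRingCat.of A) M))
      (pullSys 𝔛 jj hj (tilde (R := CommRingCat.of A) N)) => φ.app n) h')

include hs hk in
/-- A compatible family of morphisms `(jj n)^* (tilde M) ⟶ (jj n)^* (tilde N)` comes from a linear
map `M ⟶ N`. -/
theorem exists_linear_of_compatible
    (Φ : ∀ n, (pullback (jj n)).obj (tilde (R := CommRingCat.of A) M) ⟶
      (pullback (jj n)).obj (tilde (R := CommRingCat.of A) N))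
    (hΦ : ∀ n, (pullback (𝔛.ι n)).map (Φ (n + 1)) ≫
        ((pullbackComp (𝔛.ι n) (jj (n + 1)) ≪≫ pullbackCongr (hj n)).app
          (tilde (R := CommRingCat.of A) N)).hom =
      ((pullbackComp (𝔛.ι n) (jj (n + 1)) ≪≫ pullbackCongr (hj n)).app
          (tilde (R := CommRingCat.of A) M)).hom ≫ Φ n) :
    ∃ u : M ⟶ N, ∀ n, (pullback (jj n)).map ((tilde.functor (CommRingCat.of A)).map u) = Φ n := by
  have hcompat : ∀ (m : M) (n : ℕ) (x : N),
      sig (jj (n + 1)) N x = (Φ (n + 1)).app ⊤ (sig (jj (n + 1)) M m) →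
        sig (jj n) N x = (Φ n).app ⊤ (sig (jj n) M m) := by
    intro m n x hx
    have hc' := congrArg (fun ψ => ψ.app ⊤ (pullTop (𝔛.ι n) _ (sig (jj (n + 1)) M m))) (hΦ n)
    have lhs : ((pullback (𝔛.ι n)).map (Φ (n + 1)) ≫
        ((pullbackComp (𝔛.ι n) (jj (n + 1)) ≪≫ pullbackCongr (hj n)).app
          (tilde (R := CommRingCat.of A) N)).hom).app ⊤
          (pullTop (𝔛.ι n) _ (sig (jj (n + 1)) M m)) = sig (jj n) N x := by
      rw [Scheme.Modules.Hom.comp_app, ConcreteCategory.comp_apply, pullTop_naturality, ← hx]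
      exact pullbackComp_pullbackCongr_sig 𝔛 jj hj N n x
    have rhs : (((pullbackComp (𝔛.ι n) (jj (n + 1)) ≪≫ pullbackCongr (hj n)).app
          (tilde (R := CommRingCat.of A) M)).hom ≫ Φ n).app ⊤
        (pullTop (𝔛.ι n) _ (sig (jj (n + 1)) M m)) = (Φ n).app ⊤ (sig (jj n) M m) := by
      rw [Scheme.Modules.Hom.comp_app, ConcreteCategory.comp_apply]
      exact congrArg _ (pullbackComp_pullbackCongr_sig 𝔛 jj hj M n m)
    exact lhs.symm.trans (hc'.trans rhs)
  have hex : ∀ m : M, ∃ x : N, ∀ n, sig (jj n) N x = (Φ n).app ⊤ (sig (jj n) M m) :=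
    fun m => exists_of_compatible 𝔛 jj I hs hk N
      (fun n => (Φ n).app ⊤ (sig (jj n) M m)) (hcompat m)
  choose f hf using hex
  have hadd : ∀ m m', f (m + m') = f m + f m' := by
    intro m m'
    apply eq_of_sig_eq 𝔛 jj I hs hk N
    intro n
    rw [hf, sig_add, sig_add, map_add, hf, hf]
  have hsmul : ∀ (a : A) (m : M), f (a • m) = a • f m := by
    intro a m
    apply eq_of_sig_eq 𝔛 jj I hs hk N
    intro n
    rw [hf, sig_smul, sig_smul, Scheme.Modules.Hom.app_smul, hf]
  let u : M ⟶ N := ModuleCat.ofHom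
    { toFun := f, map_add' := hadd, map_smul' := hsmul }
  refine ⟨u, fun n => ?_⟩
  apply hom_ext_sig (jj n) M
  intro m
  exact (sig_map (jj n) u m).trans (hf m n)

include hs hk in
theorem pullSysMap_tilde_surjective :
    Function.Surjective (fun u : M ⟶ N =>
      pullSysMap 𝔛 jj hj ((tilde.functor (CommRingCat.of A)).map u)) := by
  intro φ
  let φ' : FSch.ModSys.Hom (pullSys 𝔛 jj hj (tilde (R := CommRingCat.of A) M))
    (pullSys 𝔛 jj hj (tilde (R := CommRingCat.of A) N)) := φ
  obtain ⟨u, hu⟩ := exists_linear_of_compatible 𝔛 jj I hj hs hk M N (fun n => φ'.app n)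
    (fun n => φ'.comm n)
  exact ⟨u, FSch.ModSys.Hom.ext (funext hu)⟩

include hs hk in
/-- `u ↦ pullSysMap (tilde u)` is bijective for `N` finite over a complete Noetherian ring. -/
theorem pullSysMap_tilde_bijective :
    Function.Bijective (fun u : M ⟶ N =>
      pullSysMap 𝔛 jj hj ((tilde.functor (CommRingCat.of A)).map u)) :=
  ⟨pullSysMap_tilde_injective 𝔛 jj I hj hs hk M N, pullSysMap_tilde_surjective 𝔛 jj I hj hs hk M N⟩

end System

end Groth.Agent.H19.AffSysFF
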