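import Groth.Agent.H19.AffSysPull
import Groth.Prelude.Def_FSch3

/-!
# Systems of quasi-coherent modules on an affine adic system

Helper library (helper19).  Setting: a system `𝔛` of affine schemes with compatible morphisms
`j n : X n ⟶ Spec A` such that `ρ n : A → Γ(X n, ⊤)` is surjective with kernel `I^(n+1)`
(`A` Noetherian, `I`-adically complete).  For a system of quasi-coherent modules `𝔐` with `𝔐.F 0` of
finite type we produce a finite `A`-module `L` with `Γ(𝔐.F n, ⊤) = L / I^(n+1) L` compatibly.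
-/

set_option autoImplicit false
set_option linter.style.haveILetI false
set_option linter.unusedSectionVars false
universe u
open CategoryTheory AlgebraicGeometry Scheme.Modules TopologicalSpace Opposite

namespace Groth.Agent.H19.AffSysMod

open Groth.Agent.H44 Groth.Agent.H19.AffSysAlg Groth.Agent.H19.AffSysPull

section Alg

/-- For a surjection `ρ : A → B` and a `B`-module `N` regarded as an `A`-module through `ρ`:
`(ρ J) • N = J • N`. -/
lemma mem_map_smul_top_iff {A B : Type*} [CommRing A] [CommRing B] (ρ : A →+* B)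
    (hρ : Function.Surjective ρ) (J : Ideal A) (N : Type*) [AddCommGroup N] [Module B N] (x : N) :
    letI : Module A N := Module.compHom N ρ
    x ∈ (J.map ρ) • (⊤ : Submodule B N) ↔ x ∈ J • (⊤ : Submodule A N) := by
  letI : Module A N := Module.compHom N ρ
  constructor
  · intro h
    refine Submodule.smul_induction_on h (fun k hk n _ => ?_) (fun x y hx hy => ?_)
    · obtain ⟨a, ha, rfl⟩ := (Ideal.mem_map_iff_of_surjective ρ hρ).mp hk
      exact Submodule.smul_mem_smul (M := N) ha (Submodule.mem_top (x := n))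
    · exact Submodule.add_mem _ hx hy
  · intro h
    refine Submodule.smul_induction_on h (fun a ha n _ => ?_) (fun x y hx hy => ?_)
    · exact Submodule.smul_mem_smul (Ideal.mem_map_of_mem ρ ha) (Submodule.mem_top (x := n))
    · exact Submodule.add_mem _ hx hy

lemma finite_compHom {A B : Type*} [CommRing A] [CommRing B] (ρ : A →+* B)
    (hρ : Function.Surjective ρ) (N : Type*) [AddCommGroup N] [Module B N] [Module.Finite B N] :
    letI : Module A N := Module.compHom N ρ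
    Module.Finite A N := by
  letI : Module A N := Module.compHom N ρ
  obtain ⟨k, x, hx⟩ := Module.Finite.exists_fin (R := B) (M := N)
  refine ⟨⟨(Set.finite_range x).toFinset, ?_⟩⟩
  rw [eq_top_iff]
  intro y _
  have hy : y ∈ Submodule.span B (Set.range x) := by rw [hx]; trivial
  obtain ⟨c, hc⟩ := (Submodule.mem_span_range_iff_exists_fun B).mp hy
  choose a ha using fun i => hρ (c i)
  rw [← hc]
  refine Submodule.sum_mem _ fun i _ => ?_
  rw [← ha i]
  refine Submodule.smul_mem (M := N) _ (a i) (Submodule.subset_span ?_)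
  simp

lemma ker_eq_map_of_comp {A B B' : Type*} [CommRing A] [CommRing B] [CommRing B']
    (ρ : A →+* B) (hρ : Function.Surjective ρ) (v : B →+* B') :
    RingHom.ker v = (RingHom.ker (v.comp ρ)).map ρ := by
  ext k
  constructor
  · intro hk
    obtain ⟨a, rfl⟩ := hρ k
    exact Ideal.mem_map_of_mem ρ ((RingHom.mem_ker).mpr hk)
  · intro hk
    obtain ⟨a, ha, rfl⟩ := (Ideal.mem_map_iff_of_surjective ρ hρ).mp hk
    exact ha

end Alg

variable (𝔛 : FSch.Sys.{u}) {A : Type u} [CommRing A]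
  (j : ∀ n, 𝔛.X n ⟶ Spec (CommRingCat.of A))

/-- The ring maps `A → Γ(X n, ⊤)`. -/
noncomputable def rho (n : ℕ) : A →+* Γ(𝔛.X n, ⊤) :=
  (j n).appTop.hom.comp (Scheme.ΓSpecIso (CommRingCat.of A)).inv.hom

variable {𝔛}

lemma iota_rho (hj : ∀ n, 𝔛.ι n ≫ j (n + 1) = j n) (n : ℕ) :
    (𝔛.ι n).appTop.hom.comp (rho 𝔛 j (n + 1)) = rho 𝔛 j n := by
  unfold rho
  rw [← RingHom.comp_assoc, ← CommRingCat.hom_comp, ← Scheme.Hom.comp_appTop, hj n]

lemma iota_rho_apply (hj : ∀ n, 𝔛.ι n ≫ j (n + 1) = j n) (n : ℕ) (a : A) :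
    (𝔛.ι n).appTop.hom (rho 𝔛 j (n + 1) a) = rho 𝔛 j n a :=
  congrArg (fun g => g a) (iota_rho j hj n)

variable (𝔐 : FSch.ModSys 𝔛)

/-- The transition map on global sections `Γ(F (n+1)) → Γ(F n)`. -/
noncomputable def tr (n : ℕ) : Γ(𝔐.F (n + 1), ⊤) →+ Γ(𝔐.F n, ⊤) :=
  AddMonoidHom.mk' (fun x => (𝔐.e n).hom.app ⊤ (pullTop (𝔛.ι n) (𝔐.F (n + 1)) x)) (fun a b => by
    rw [map_add, map_add])

lemma tr_apply (n : ℕ) (x : Γ(𝔐.F (n + 1), ⊤)) :
    tr 𝔐 n x = (𝔐.e n).hom.app ⊤ (pullTop (𝔛.ι n) (𝔐.F (n + 1)) x) := rfl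

lemma tr_smul (n : ℕ) (b : Γ(𝔛.X (n + 1), ⊤)) (x : Γ(𝔐.F (n + 1), ⊤)) :
    tr 𝔐 n (b • x) = (𝔛.ι n).appTop b • tr 𝔐 n x := by
  rw [tr_apply, tr_apply, pullTop_smul, Scheme.Modules.Hom.app_smul, appLE_top_eq]

lemma e_app_bijective (n : ℕ) : Function.Bijective ((𝔐.e n).hom.app ⊤) := by
  have : IsIso ((𝔐.e n).hom.app ⊤) :=
    inferInstanceAs (IsIso ((Scheme.Modules.toPresheaf _ ⋙ (evaluation _ _).obj (op ⊤)).map (𝔐.e n).hom))
  exact ConcreteCategory.bijective_of_isIso ((𝔐.e n).hom.app ⊤)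

section Limit

variable [∀ n, IsAffine (𝔛.X n)] (I : Ideal A) [IsNoetherianRing A] [IsAdicComplete I A]
  (hj : ∀ n, 𝔛.ι n ≫ j (n + 1) = j n)
  (hs : ∀ n, Function.Surjective (rho 𝔛 j n)) (hk : ∀ n, RingHom.ker (rho 𝔛 j n) = I ^ (n + 1))

include hj hs in
lemma iota_appTop_surjective (n : ℕ) : Function.Surjective (𝔛.ι n).appTop := by
  intro b
  obtain ⟨a, rfl⟩ := hs n b
  exact ⟨rho 𝔛 j (n + 1) a, iota_rho_apply j hj n a⟩

include hj hs hk in
lemma ker_iota_appTop (n : ℕ) :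
    RingHom.ker (𝔛.ι n).appTop.hom = (I ^ (n + 1)).map (rho 𝔛 j (n + 1)) := by
  rw [ker_eq_map_of_comp (rho 𝔛 j (n + 1)) (hs (n + 1)) (𝔛.ι n).appTop.hom, iota_rho j hj n, hk n]

variable [∀ n, (𝔐.F n).IsQuasicoherent]

include hj hs in
lemma tr_surjective (n : ℕ) : Function.Surjective (tr 𝔐 n) := by
  intro y
  obtain ⟨z, rfl⟩ := (e_app_bijective 𝔐 n).2 y
  obtain ⟨x, rfl⟩ := pullTop_surjective (𝔛.ι n) (𝔐.F (n + 1)) (iota_appTop_surjective j hj hs n) z
  exact ⟨x, rfl⟩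

include hj hs hk in
lemma tr_eq_zero_iff (n : ℕ) (x : Γ(𝔐.F (n + 1), ⊤)) :
    letI : Module A Γ(𝔐.F (n + 1), ⊤) := Module.compHom _ (rho 𝔛 j (n + 1))
    tr 𝔐 n x = 0 ↔ x ∈ I ^ (n + 1) • (⊤ : Submodule A Γ(𝔐.F (n + 1), ⊤)) := by
  letI : Module A Γ(𝔐.F (n + 1), ⊤) := Module.compHom _ (rho 𝔛 j (n + 1))
  rw [← mem_map_smul_top_iff (rho 𝔛 j (n + 1)) (hs (n + 1)) (I ^ (n + 1)),
    ← ker_iota_appTop j I hj hs hk n,
    ← pullTop_eq_zero_iff (𝔛.ι n) (𝔐.F (n + 1)) (iota_appTop_surjective j hj hs n), tr_apply]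
  constructor
  · intro h
    apply (e_app_bijective 𝔐 n).1
    rw [h, map_zero]
  · intro h
    rw [h, map_zero]

variable [SheafOfModules.IsFiniteType (R := (𝔛.X 0).ringCatSheaf) (𝔐.F 0)]

include hj hs hk in
theorem exists_limit :
    ∃ (L : Type u) (_ : AddCommGroup L) (_ : Module A L) (_ : Module.Finite A L)
      (π : ∀ n, L →+ Γ(𝔐.F n, ⊤)),
      (∀ n (a : A) (l : L), π n (a • l) = rho 𝔛 j n a • π n l) ∧
      (∀ n, Function.Surjective (π n)) ∧
      (∀ n (l : L), π n l = 0 ↔ l ∈ I ^ (n + 1) • (⊤ : Submodule A L)) ∧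
      (∀ n (l : L), tr 𝔐 n (π (n + 1) l) = π n l) := by
  letI mod : ∀ n, Module A Γ(𝔐.F n, ⊤) := fun n => Module.compHom _ (rho 𝔛 j n)
  let N : ℕ → Type u := fun n => Γ(𝔐.F n, ⊤)
  let t : ∀ n, N (n + 1) →ₗ[A] N n := fun n =>
    { toFun := tr 𝔐 n
      map_add' := map_add _
      map_smul' := fun a x => by
        show tr 𝔐 n (rho 𝔛 j (n + 1) a • x) = rho 𝔛 j n a • tr 𝔐 n x
        rw [tr_smul]
        exact congrArg (fun b => b • tr 𝔐 n x) (iota_rho_apply j hj n a) }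
  have ht : ∀ n, Function.Surjective (t n) := tr_surjective j 𝔐 hj hs
  have hker : ∀ n, LinearMap.ker (t n) = I ^ (n + 1) • (⊤ : Submodule A (N (n + 1))) := by
    intro n
    ext x
    rw [LinearMap.mem_ker]
    exact tr_eq_zero_iff j 𝔐 I hj hs hk n x
  haveI hfin0 : Module.Finite Γ(𝔛.X 0, ⊤) Γ(𝔐.F 0, ⊤) :=
    finite_sections_of_isFiniteType (𝔐.F 0) (isAffineOpen_top _)
  haveI : Module.Finite A (N 0) := finite_compHom (rho 𝔛 j 0) (hs 0) Γ(𝔐.F 0, ⊤)
  obtain ⟨hfin, hsurj, hkerπ⟩ := limit_main I N t ht hker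
  refine ⟨limSub N t, inferInstance, inferInstance, hfin,
    fun n => (limProj N t n).toAddMonoidHom, ?_, hsurj, ?_, ?_⟩
  · intro n a l
    exact (limProj N t n).map_smul a l
  · intro n l
    rw [← hkerπ n, LinearMap.mem_ker]
    rfl
  · intro n l
    exact l.2 n

end Limit

end Groth.Agent.H19.AffSysMod
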