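import Groth.Agent.H19.AffSysAlg
import Groth.Agent.H44.PullUnit
import Groth.Agent.H12.QCohIso
import Groth.Agent.H44.FiniteSections

/-!
# Pulling back global sections along a morphism of affine schemes which is surjective on functions

Helper library (helper19).  For `f : X ⟶ Y` between affine schemes with `Γ(Y) → Γ(X)` surjective and
`F` quasi-coherent on `Y`, the map `Γ(F, ⊤) → Γ(f^*F, ⊤)` is surjective with kernel
`ker(Γ(Y) → Γ(X)) • Γ(F, ⊤)`.
-/

set_option autoImplicit false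
set_option linter.style.haveILetI false
universe u
open CategoryTheory AlgebraicGeometry Scheme.Modules TopologicalSpace Opposite TensorProduct

namespace Groth.Agent.H19.AffSysPull

open Groth.Agent.H44 Groth.Agent.H19.AffSysAlg

variable {X Y : Scheme.{u}} (f : X ⟶ Y) (F : Y.Modules)

/-- Pull back a global section. -/
noncomputable def pullTop : Γ(F, ⊤) →+ Γ((pullback f).obj F, ⊤) :=
  AddMonoidHom.mk' (fun m => pullSectLE f F ⊤ ⊤ le_top m) (fun a b => by
    unfold pullSectLE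
    rw [map_add, map_add])

lemma pullTop_apply (m : Γ(F, ⊤)) : pullTop f F m = pullSectLE f F ⊤ ⊤ le_top m := rfl

lemma pullTop_smul (r : Γ(Y, ⊤)) (m : Γ(F, ⊤)) :
    pullTop f F (r • m) = f.appLE ⊤ ⊤ le_top r • pullTop f F m :=
  pullSectLE_smul f F ⊤ ⊤ le_top r m

lemma appLE_top_eq (r : Γ(Y, ⊤)) : f.appLE ⊤ ⊤ le_top r = f.appTop r := by
  rw [Scheme.Hom.appTop, Scheme.Hom.app_eq_appLE]
  rfl

lemma pullTop_naturality {M N : Y.Modules} (ψ : M ⟶ N) (m : Γ(M, ⊤)) :
    ((pullback f).map ψ).app ⊤ (pullTop f M m) = pullTop f N (ψ.app ⊤ m) :=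
  pullSectLE_naturality f ψ ⊤ ⊤ le_top m

variable [IsAffine X] [IsAffine Y] [F.IsQuasicoherent]

set_option maxRecDepth 4000 in
lemma equiv_pullTop (m : Γ(F, ⊤)) :
    letI := (f.appLE ⊤ ⊤ le_top).hom.toAlgebra
    pullbackSectionsEquiv f F (isAffineOpen_top X) (isAffineOpen_top Y) le_top (pullTop f F m) =
      (1 : Γ(X, ⊤)) ⊗ₜ[Γ(Y, ⊤)] m :=
  pullbackSectionsEquiv_pullSectLE f F (isAffineOpen_top X) (isAffineOpen_top Y) le_top m

theorem pullTop_surjective (hf : Function.Surjective f.appTop) :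
    Function.Surjective (pullTop f F) := by
  letI := (f.appLE ⊤ ⊤ le_top).hom.toAlgebra
  have hB : Function.Surjective (algebraMap Γ(Y, ⊤) Γ(X, ⊤)) := by
    intro b
    obtain ⟨r, hr⟩ := hf b
    exact ⟨r, (appLE_top_eq f r).trans hr⟩
  intro z
  obtain ⟨m, hm⟩ := one_tmul_surjective hB Γ(F, ⊤)
    (pullbackSectionsEquiv f F (isAffineOpen_top X) (isAffineOpen_top Y) le_top z)
  refine ⟨m, ?_⟩
  apply (pullbackSectionsEquiv f F (isAffineOpen_top X) (isAffineOpen_top Y) le_top).injective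
  rw [equiv_pullTop]
  exact hm

theorem pullTop_eq_zero_iff (hf : Function.Surjective f.appTop) (m : Γ(F, ⊤)) :
    pullTop f F m = 0 ↔
      m ∈ (RingHom.ker f.appTop.hom) • (⊤ : Submodule Γ(Y, ⊤) Γ(F, ⊤)) := by
  letI := (f.appLE ⊤ ⊤ le_top).hom.toAlgebra
  have hB : Function.Surjective (algebraMap Γ(Y, ⊤) Γ(X, ⊤)) := by
    intro b
    obtain ⟨r, hr⟩ := hf b
    exact ⟨r, (appLE_top_eq f r).trans hr⟩
  have hker : RingHom.ker (algebraMap Γ(Y, ⊤) Γ(X, ⊤)) = RingHom.ker f.appTop.hom := by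
    ext r
    rw [RingHom.mem_ker, RingHom.mem_ker]
    exact Eq.congr_left (appLE_top_eq f r)
  rw [← hker, ← one_tmul_eq_zero_iff hB Γ(F, ⊤) m, ← equiv_pullTop f F m,
    LinearEquiv.map_eq_zero_iff]

end Groth.Agent.H19.AffSysPull
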