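import Mathlib.RingTheory.SurjectiveOnStalks
import Mathlib.RingTheory.Ideal.Maps
import Mathlib.RingTheory.Nilpotent.Lemmas

namespace Groth.Agent.H19.SurjStalksNilp

variable {B A A' : Type*} [CommRing B] [CommRing A] [CommRing A']

section

variable (φ : B →+* A) (P : Ideal A) (J : Ideal B)

/-- The approximation property modulo `K^k`, `K = J.map φ`. -/
def Approx (k : ℕ) (s : A) : Prop :=
  ∃ x r : B, ∃ c : A, c ∉ P ∧ φ r ∉ P ∧ c * φ r * s - c * φ x ∈ (J.map φ) ^ k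

/-- Approximation of elements of `K^k` by images of elements of `J^k`, modulo `K^(k+1)`. -/
def ApproxJ (k : ℕ) (e : A) : Prop :=
  ∃ y r : B, ∃ c : A, y ∈ J ^ k ∧ c ∉ P ∧ φ r ∉ P ∧
    c * φ r * e - c * φ y ∈ (J.map φ) ^ (k + 1)

variable {φ P J}

lemma map_mem_pow {k : ℕ} {y : B} (hy : y ∈ J ^ k) : φ y ∈ (J.map φ) ^ k := by
  rw [← Ideal.map_pow]
  exact Ideal.mem_map_of_mem φ hy

lemma approxJ_of_mem [P.IsPrime] (h1 : ∀ s, Approx φ P J 1 s) (k : ℕ) (e : A)
    (he : e ∈ (J.map φ) ^ k) : ApproxJ φ P J k e := by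
  rw [← Ideal.map_pow] at he
  refine Submodule.span_induction (p := fun e _ => ApproxJ φ P J k e) ?_ ?_ ?_ ?_ he
  · rintro _ ⟨j, hj, rfl⟩
    refine ⟨j, 1, 1, hj, ?_, ?_, ?_⟩
    · exact fun h => ‹P.IsPrime›.ne_top ((Ideal.eq_top_iff_one P).mpr h)
    · rw [map_one]
      exact fun h => ‹P.IsPrime›.ne_top ((Ideal.eq_top_iff_one P).mpr h)
    · simp
  · exact ⟨0, 1, 1, Ideal.zero_mem _,
      fun h => ‹P.IsPrime›.ne_top ((Ideal.eq_top_iff_one P).mpr h),
      by rw [map_one]; exact fun h => ‹P.IsPrime›.ne_top ((Ideal.eq_top_iff_one P).mpr h),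
      by simp⟩
  · rintro e₁ e₂ - - ⟨y₁, r₁, c₁, hy₁, hc₁, hr₁, h₁⟩ ⟨y₂, r₂, c₂, hy₂, hc₂, hr₂, h₂⟩
    refine ⟨r₂ * y₁ + r₁ * y₂, r₁ * r₂, c₁ * c₂,
      Ideal.add_mem _ (Ideal.mul_mem_left _ _ hy₁) (Ideal.mul_mem_left _ _ hy₂),
      fun h => (‹P.IsPrime›.mem_or_mem h).elim hc₁ hc₂, ?_, ?_⟩
    · rw [map_mul]
      exact fun h => (‹P.IsPrime›.mem_or_mem h).elim hr₁ hr₂
    · have e : c₁ * c₂ * φ (r₁ * r₂) * (e₁ + e₂) - c₁ * c₂ * φ (r₂ * y₁ + r₁ * y₂) =
          c₂ * φ r₂ * (c₁ * φ r₁ * e₁ - c₁ * φ y₁) + c₁ * φ r₁ * (c₂ * φ r₂ * e₂ - c₂ * φ y₂) := by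
        simp only [map_mul, map_add]
        ring
      rw [e]
      exact Ideal.add_mem _ (Ideal.mul_mem_left _ _ h₁) (Ideal.mul_mem_left _ _ h₂)
  · rintro a e - ⟨y, r, c, hy, hc, hr, h⟩
    obtain ⟨xa, ra, ca, hca, hra, ha⟩ := h1 a
    rw [pow_one] at ha
    refine ⟨xa * y, r * ra, c * ca, Ideal.mul_mem_left _ _ hy,
      fun h => (‹P.IsPrime›.mem_or_mem h).elim hc hca, ?_, ?_⟩
    · rw [map_mul]
      exact fun h => (‹P.IsPrime›.mem_or_mem h).elim hr hra
    · have e' : c * ca * φ (r * ra) * (a • e) - c * ca * φ (xa * y) =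
          (ca * φ ra * a - ca * φ xa) * (c * φ r * e - c * φ y) +
          c * ((ca * φ ra * a - ca * φ xa) * φ y) + ca * φ xa * (c * φ r * e - c * φ y) := by
        simp only [map_mul, smul_eq_mul]
        ring
      rw [e']
      refine Ideal.add_mem _ (Ideal.add_mem _ (Ideal.mul_mem_left _ _ h) ?_)
        (Ideal.mul_mem_left _ _ h)
      refine Ideal.mul_mem_left _ _ ?_
      rw [pow_succ']
      exact Ideal.mul_mem_mul ha (map_mem_pow hy)

lemma approx_succ [P.IsPrime] (hKP : J.map φ ≤ P) (h1 : ∀ s, Approx φ P J 1 s) (k : ℕ)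
    (hk : ∀ s, Approx φ P J k s) (s : A) : Approx φ P J (k + 1) s := by
  obtain ⟨x, r, c, hc, hr, he⟩ := hk s
  obtain ⟨y, r', c', hy, hc', hr', hd1⟩ := approxJ_of_mem h1 k _ he
  obtain ⟨x₀, r₀, c₀, hc₀, hr₀, hd0⟩ := h1 c
  rw [pow_one] at hd0
  have hx₀ : φ x₀ ∉ P := by
    intro hx
    have h2 : c₀ * φ r₀ * c ∈ P := by
      have := Ideal.add_mem _ (hKP hd0) (Ideal.mul_mem_left P c₀ hx)
      rwa [sub_add_cancel] at this
    rcases ‹P.IsPrime›.mem_or_mem h2 with h3 | h3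
    · rcases ‹P.IsPrime›.mem_or_mem h3 with h4 | h4
      · exact hc₀ h4
      · exact hr₀ h4
    · exact hc h3
  refine ⟨x₀ * r' * x + r₀ * y, x₀ * r' * r, c₀ * c' * c, ?_, ?_, ?_⟩
  · intro h
    rcases ‹P.IsPrime›.mem_or_mem h with h3 | h3
    · rcases ‹P.IsPrime›.mem_or_mem h3 with h4 | h4
      · exact hc₀ h4
      · exact hc' h4
    · exact hc h3
  · rw [map_mul, map_mul]
    intro h
    rcases ‹P.IsPrime›.mem_or_mem h with h3 | h3
    · rcases ‹P.IsPrime›.mem_or_mem h3 with h4 | h4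
      · exact hx₀ h4
      · exact hr' h4
    · exact hr h3
  · have e : c₀ * c' * c * φ (x₀ * r' * r) * s - c₀ * c' * c * φ (x₀ * r' * x + r₀ * y) =
        c₀ * φ x₀ * (c' * φ r' * (c * φ r * s - c * φ x) - c' * φ y) -
          c' * (φ y * (c₀ * φ r₀ * c - c₀ * φ x₀)) := by
      simp only [map_mul, map_add]
      ring
    rw [e]
    refine Ideal.sub_mem _ (Ideal.mul_mem_left _ _ hd1) (Ideal.mul_mem_left _ _ ?_)
    rw [pow_succ]
    exact Ideal.mul_mem_mul (map_mem_pow hy) hd0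

end

/-- If `π ∘ φ` is surjective on stalks, `π` is surjective and its kernel is generated by the image
of a nilpotent ideal, then `φ` is surjective on stalks. -/
theorem surjectiveOnStalks_of_comp (φ : B →+* A) (π : A →+* A') (hπ : Function.Surjective π)
    (J : Ideal B) (m : ℕ) (hJ : J ^ m = ⊥) (hker : RingHom.ker π = J.map φ)
    (h : (π.comp φ).SurjectiveOnStalks) : φ.SurjectiveOnStalks := by
  intro P hP
  rw [RingHom.surjective_localRingHom_iff]
  have hKm : (J.map φ) ^ m = ⊥ := by rw [← Ideal.map_pow, hJ, Ideal.map_bot]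
  have hKP : J.map φ ≤ P := by
    intro a ha
    have : a ^ m ∈ P := by
      have h1 : a ^ m ∈ (J.map φ) ^ m := Ideal.pow_mem_pow ha m
      rw [hKm] at h1
      rw [(Submodule.mem_bot A).mp h1]
      exact P.zero_mem
    exact hP.mem_of_pow_mem m this
  have hcomap : (P.map π).comap π = P := by
    rw [Ideal.comap_map_of_surjective π hπ]
    refine sup_eq_left.mpr ?_
    change RingHom.ker π ≤ P
    rw [hker]
    exact hKP
  have hP' : (P.map π).IsPrime :=
    Ideal.map_isPrime_of_surjective hπ (by rw [hker]; exact hKP)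
  have h1 : ∀ s, Approx φ P J 1 s := by
    intro s
    obtain ⟨x, r, c', hc', hr, he⟩ :=
      (RingHom.surjective_localRingHom_iff (f := π.comp φ) (P.map π)).mp (h (P.map π) hP') (π s)
    obtain ⟨c, rfl⟩ := hπ c'
    refine ⟨x, r, c, fun hc => hc' (Ideal.mem_map_of_mem π hc), fun hr' => hr ?_, ?_⟩
    · exact Ideal.mem_map_of_mem π hr'
    · rw [pow_one, ← hker, RingHom.mem_ker, map_sub, map_mul, map_mul, map_mul, sub_eq_zero]
      exact he
  have hall : ∀ k, ∀ s, Approx φ P J k s := by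
    intro k
    induction k with
    | zero =>
      intro s
      obtain ⟨x, r, c, hc, hr, -⟩ := h1 s
      exact ⟨x, r, c, hc, hr, by rw [pow_zero, Ideal.one_eq_top]; exact Submodule.mem_top⟩
    | succ k ih => exact approx_succ hKP h1 k ih
  intro s
  obtain ⟨x, r, c, hc, hr, he⟩ := hall m s
  rw [hKm, Submodule.mem_bot, sub_eq_zero] at he
  exact ⟨x, r, c, hc, hr, he⟩

end Groth.Agent.H19.SurjStalksNilp
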