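import Groth.Agent.H19.FormalBC
import Groth.Agent.H19.SurjStalksNilp
import Mathlib.AlgebraicGeometry.Morphisms.SurjectiveOnStalks

universe u
open CategoryTheory CategoryTheory.Limits AlgebraicGeometry

namespace Groth.Agent.H19.FormalClosedImm

open Scheme.IdealSheafData Groth.Agent.H19.FormalNoeth Groth.Agent.H19.FormalBC

lemma surjective_toX (𝔛 : FSch.Sys.{u}) (hF : 𝔛.IsFormal) (m : ℕ) :
    Function.Surjective (𝔛.toX m).base := by
  induction m with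
  | zero => exact fun x => ⟨x, rfl⟩
  | succ m ih =>
    intro x
    obtain ⟨y, rfl⟩ := (hF m).2 x
    obtain ⟨z, rfl⟩ := ih y
    exact ⟨z, rfl⟩

lemma appLE_of_eq {X Y : Scheme.{u}} {g g' : X ⟶ Y} (h : g = g') (U : Y.Opens) (W : X.Opens)
    (e : W ≤ g ⁻¹ᵁ U) : g.appLE U W e = g'.appLE U W (h ▸ e) := by
  subst h; rfl

variable {𝔛 𝔜 : FSch.Sys.{u}} (f : 𝔛 ⟶ 𝔜)

lemma isClosedEmbedding_app (hF𝔛 : 𝔛.IsFormal) (hF𝔜 : 𝔜.IsFormal) (hf : FSch.IsAdicHom f)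
    [IsClosedImmersion ((f : FSch.Hom 𝔛 𝔜).app 0)] (n : ℕ) :
    Topology.IsClosedEmbedding ((f : FSch.Hom 𝔛 𝔜).app n).base := by
  have hX := isClosedImmersion_toX 𝔛 hF𝔛 n
  have hY := isClosedImmersion_toX 𝔜 hF𝔜 n
  have w : 𝔛.toX n ≫ (f : FSch.Hom 𝔛 𝔜).app n = (f : FSch.Hom 𝔛 𝔜).app 0 ≫ 𝔜.toX n :=
    (isPullback_toX f hf n).w
  have wpt : ∀ a, ((f : FSch.Hom 𝔛 𝔜).app n).base ((𝔛.toX n).base a) =
      (𝔜.toX n).base (((f : FSch.Hom 𝔛 𝔜).app 0).base a) := by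
    intro a
    have := congrArg (fun g => g.base a) w
    exact this
  have hcomp : Topology.IsClosedEmbedding
      (fun a => (𝔜.toX n).base (((f : FSch.Hom 𝔛 𝔜).app 0).base a)) :=
    (𝔜.toX n).isClosedEmbedding.comp ((f : FSch.Hom 𝔛 𝔜).app 0).isClosedEmbedding
  refine Topology.IsClosedEmbedding.of_continuous_injective_isClosedMap
    ((f : FSch.Hom 𝔛 𝔜).app n).continuous ?_ ?_
  · intro a b hab
    obtain ⟨a', rfl⟩ := surjective_toX 𝔛 hF𝔛 n a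
    obtain ⟨b', rfl⟩ := surjective_toX 𝔛 hF𝔛 n b
    rw [wpt, wpt] at hab
    rw [hcomp.injective hab]
  · intro C hC
    have hC' : IsClosed ((𝔛.toX n).base ⁻¹' C) := hC.preimage (𝔛.toX n).continuous
    have himg : ((f : FSch.Hom 𝔛 𝔜).app n).base '' C =
        (fun a => (𝔜.toX n).base (((f : FSch.Hom 𝔛 𝔜).app 0).base a)) ''
          ((𝔛.toX n).base ⁻¹' C) := by
      ext y
      constructor
      · rintro ⟨x, hx, rfl⟩
        obtain ⟨a, rfl⟩ := surjective_toX 𝔛 hF𝔛 n x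
        exact ⟨a, hx, (wpt a).symm⟩
      · rintro ⟨a, ha, rfl⟩
        exact ⟨(𝔛.toX n).base a, ha, wpt a⟩
    rw [himg]
    exact hcomp.isClosedMap _ hC'

lemma surjectiveOnStalks_app (hF𝔛 : 𝔛.IsFormal) (hF𝔜 : 𝔜.IsFormal) (hA𝔜 : 𝔜.IsAdic)
    (hf : FSch.IsAdicHom f) [IsClosedImmersion ((f : FSch.Hom 𝔛 𝔜).app 0)] (n : ℕ) :
    SurjectiveOnStalks ((f : FSch.Hom 𝔛 𝔜).app n) := by
  have hX := isClosedImmersion_toX 𝔛 hF𝔛 n
  have hY := isClosedImmersion_toX 𝔜 hF𝔜 n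
  have w : 𝔛.toX n ≫ (f : FSch.Hom 𝔛 𝔜).app n = (f : FSch.Hom 𝔛 𝔜).app 0 ≫ 𝔜.toX n :=
    (isPullback_toX f hf n).w
  set g := (f : FSch.Hom 𝔛 𝔜).app n with hg
  set g₀ := (f : FSch.Hom 𝔛 𝔜).app 0 with hg₀
  rw [HasRingHomProperty.iff_appLE (P := @SurjectiveOnStalks)]
  intro U V e
  have hg₀s : SurjectiveOnStalks g₀ := inferInstance
  -- the kernel ideal on `U` is nilpotent
  have hJ : ((𝔜.toX n).ker.ideal U) ^ (n + 1) = ⊥ := by
    have := congrArg (fun K => K.ideal U) (ker_toX_pow 𝔜 hF𝔜 hA𝔜 n)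
    simpa using this
  -- kernel of restriction to level 0
  have hker : RingHom.ker ((𝔛.toX n).app V.1).hom =
      ((𝔜.toX n).ker.ideal U).map (g.appLE U.1 V.1 e).hom := by
    rw [← Scheme.Hom.ker_apply, ker_toX_eq f hF𝔜 hf n, ComapAff.ideal_comap_appLE g _ U V e]
  have hsurj : Function.Surjective ((𝔛.toX n).app V.1).hom :=
    (𝔛.toX n).app_surjective V.1 V.2
  refine SurjStalksNilp.surjectiveOnStalks_of_comp (g.appLE U.1 V.1 e).hom
    ((𝔛.toX n).app V.1).hom hsurj _ (n + 1) hJ hker ?_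
  -- the composite factors through level 0
  have e1 : g.appLE U.1 V.1 e ≫ (𝔛.toX n).app V.1 =
      (𝔜.toX n).app U.1 ≫ g₀.appLE ((𝔜.toX n) ⁻¹ᵁ U.1) ((𝔛.toX n) ⁻¹ᵁ V.1)
        (by
          intro x hx
          have h1 : (𝔛.toX n).base x ∈ V.1 := hx
          have h2 := e h1
          have h3 : g.base ((𝔛.toX n).base x) = (𝔜.toX n).base (g₀.base x) := by
            have := congrArg (fun k => k.base x) w
            exact this
          change (𝔜.toX n).base (g₀.base x) ∈ U.1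
          rw [← h3]
          exact h2) := by
    rw [Scheme.Hom.app_eq_appLE (𝔛.toX n), Scheme.Hom.appLE_comp_appLE, appLE_of_eq w,
      Scheme.Hom.comp_appLE]
  have e2 : ((𝔛.toX n).app V.1).hom.comp (g.appLE U.1 V.1 e).hom =
      (g.appLE U.1 V.1 e ≫ (𝔛.toX n).app V.1).hom := rfl
  rw [e2, e1, CommRingCat.hom_comp]
  refine RingHom.SurjectiveOnStalks.comp ?_ ?_
  · exact HasRingHomProperty.appLE (P := @SurjectiveOnStalks) g₀ hg₀s
      ⟨_, U.2.preimage (𝔜.toX n)⟩ ⟨_, V.2.preimage (𝔛.toX n)⟩ _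
  · exact RingHom.surjectiveOnStalks_of_surjective ((𝔜.toX n).app_surjective U.1 U.2)

theorem isClosedImmersion_app (hF𝔛 : 𝔛.IsFormal) (hF𝔜 : 𝔜.IsFormal) (hA𝔜 : 𝔜.IsAdic)
    (hf : FSch.IsAdicHom f) [IsClosedImmersion ((f : FSch.Hom 𝔛 𝔜).app 0)] (n : ℕ) :
    IsClosedImmersion ((f : FSch.Hom 𝔛 𝔜).app n) := by
  have := surjectiveOnStalks_app f hF𝔛 hF𝔜 hA𝔜 hf n
  exact ⟨isClosedEmbedding_app f hF𝔛 hF𝔜 hf n⟩

end Groth.Agent.H19.FormalClosedImm
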