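import Mathlib.AlgebraicGeometry.IdealSheaf.Functorial
import Mathlib.AlgebraicGeometry.Pullbacks
import Mathlib.AlgebraicGeometry.Morphisms.ClosedImmersion

universe u
open CategoryTheory CategoryTheory.Limits AlgebraicGeometry

namespace Groth.Agent.H19.ComapAff

open Scheme.IdealSheafData

variable {X Y : Scheme.{u}}

/-- Affine case: the inverse image ideal sheaf is the extension of the ideal on global sections. -/
lemma ideal_comap_top [IsAffine X] [IsAffine Y] (f : X ⟶ Y) (K : Y.IdealSheafData) :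
    (K.comap f).ideal ⟨⊤, isAffineOpen_top X⟩ =
      (K.ideal ⟨⊤, isAffineOpen_top Y⟩).map f.appTop.hom := by
  apply le_antisymm
  · have h1 : K.comap f ≤ ofIdealTop ((K.ideal ⟨⊤, isAffineOpen_top Y⟩).map f.appTop.hom) := by
      rw [← le_map_iff_comap_le]
      apply le_of_isAffine
      rw [ideal_map_of_isAffineHom]
      have h2 : (ofIdealTop ((K.ideal ⟨⊤, isAffineOpen_top Y⟩).map f.appTop.hom)).ideal
          ⟨f ⁻¹ᵁ ⊤, (isAffineOpen_top Y).preimage f⟩ =
          (K.ideal ⟨⊤, isAffineOpen_top Y⟩).map f.appTop.hom :=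
        (equivOfIsAffine (X := X)).right_inv _
      rw [h2]
      exact Ideal.le_comap_map
    have h3 := h1 ⟨⊤, isAffineOpen_top X⟩
    have h4 : (ofIdealTop ((K.ideal ⟨⊤, isAffineOpen_top Y⟩).map f.appTop.hom)).ideal
        ⟨⊤, isAffineOpen_top X⟩ = (K.ideal ⟨⊤, isAffineOpen_top Y⟩).map f.appTop.hom :=
      (equivOfIsAffine (X := X)).right_inv _
    rwa [h4] at h3
  · rw [Ideal.map_le_iff_le_comap]
    have h1 := le_map_comap K f ⟨⊤, isAffineOpen_top Y⟩
    rw [ideal_map_of_isAffineHom] at h1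
    exact h1

/-- Restriction to an affine open in terms of `topIso`. -/
lemma ideal_comap_ι (I : X.IdealSheafData) (W : X.affineOpens) :
    haveI : IsAffine ↑W.1 := W.2
    (I.comap W.1.ι).ideal ⟨⊤, isAffineOpen_top _⟩ = (I.ideal W).map W.1.topIso.inv.hom := by
  have : IsAffine ↑W.1 := W.2
  rw [ideal_comap_of_isOpenImmersion]
  have h := I.map_ideal' (U := ⟨W.1.ι ''ᵁ ⊤, (isAffineOpen_top _).image_of_isOpenImmersion _⟩)
    (V := W) (eqToHom (by simp)).op
  rw [← h]
  simp
  rfl

/-- Affine-local description of the inverse image ideal sheaf. -/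
theorem ideal_comap_appLE (f : X ⟶ Y) (K : Y.IdealSheafData) (U : Y.affineOpens)
    (V : X.affineOpens) (e : V.1 ≤ f ⁻¹ᵁ U.1) :
    (K.comap f).ideal V = (K.ideal U).map (f.appLE U.1 V.1 e).hom := by
  have hV : IsAffine ↑V.1 := V.2
  have hU : IsAffine ↑U.1 := U.2
  have hc : (K.comap f).comap V.1.ι = (K.comap U.1.ι).comap (f.resLE U.1 V.1 e) := by
    rw [← comap_comp, ← comap_comp, Scheme.Hom.resLE_comp_ι]
  have h1 := congrArg (fun J => J.ideal ⟨⊤, isAffineOpen_top _⟩) hc
  simp only at h1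
  rw [ideal_comap_ι, ideal_comap_top, ideal_comap_ι, Scheme.Hom.appTop,
    Scheme.Hom.resLE_app_top, Ideal.map_map, ← CommRingCat.hom_comp,
    Iso.inv_hom_id_assoc, CommRingCat.hom_comp, ← Ideal.map_map] at h1
  have hb : Function.Bijective V.1.topIso.inv.hom :=
    ConcreteCategory.bijective_of_isIso V.1.topIso.inv
  have h2 := congrArg (Ideal.comap V.1.topIso.inv.hom) h1
  rwa [Ideal.comap_map_of_bijective _ hb, Ideal.comap_map_of_bijective _ hb] at h2

end Groth.Agent.H19.ComapAff
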