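import Groth.Prelude.Def_FSch3
import Mathlib.AlgebraicGeometry.Noetherian
import Groth.Agent.H20.ComapMul
import Groth.Agent.H20.ComplNoeth
import Groth.Agent.H19.ComapAff

universe u
open CategoryTheory CategoryTheory.Limits AlgebraicGeometry

namespace Groth.Agent.H19.FormalNoeth

open Scheme.IdealSheafData

/-- A ring with a finitely generated nilpotent ideal and Noetherian quotient is Noetherian. -/
lemma isNoetherianRing_of_nilpotent {A : Type*} [CommRing A] (I : Ideal A) (hI : I.FG) (m : ℕ)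
    (hm : I ^ m = ⊥) [IsNoetherianRing (A ⧸ I)] : IsNoetherianRing A := by
  have hbot : (I ^ m • ⊤ : Submodule A A) = ⊥ := by
    rw [hm]
    exact Submodule.bot_smul _
  have : IsHausdorff I A := ⟨fun x hx => by
    have h := hx m
    rw [hbot] at h
    exact SModEq.bot.mp h⟩
  have : IsPrecomplete I A := ⟨fun f hf => ⟨f m, fun n => by
    rcases le_total n m with h | h
    · exact hf h
    · have h1 := hf h
      rw [hbot] at h1
      rw [SModEq.bot.mp h1]⟩⟩
  exact Groth.Agent.H20.ComplNoeth.isNoetherianRing_of_isAdicComplete I hI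

lemma ker_eq_comap_of_isPullback {P X Y Z : Scheme.{u}} {fst : P ⟶ X} {snd : P ⟶ Z}
    {f : X ⟶ Y} {i : Z ⟶ Y} [IsClosedImmersion i] (H : IsPullback fst snd f i) :
    fst.ker = i.ker.comap f := by
  rw [← H.isoPullback_hom_fst, Scheme.Hom.ker_comp_of_isIso,
    Scheme.IdealSheafData.ker_fst_of_isClosedImmersion]

lemma isClosedImmersion_toX (𝔛 : FSch.Sys.{u}) (hF : 𝔛.IsFormal) (m : ℕ) :
    IsClosedImmersion (𝔛.toX m) := by
  induction m with
  | zero => exact inferInstanceAs (IsClosedImmersion (𝟙 _))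
  | succ m ih =>
    have := (hF m).1
    exact inferInstanceAs (IsClosedImmersion (𝔛.toX m ≫ 𝔛.ι m))

lemma isPullback_of_mono' {C : Type*} [Category C] {A B D : C} (f : A ⟶ B) (g : B ⟶ D) [Mono g] :
    IsPullback f (𝟙 A) g (f ≫ g) := by
  have h1 : IsPullback f (𝟙 A) (𝟙 B) f := IsPullback.id_vert f
  have h2 : IsPullback (𝟙 B) (𝟙 B) g g := (IsKernelPair.id_of_mono g)
  have := h1.paste_horiz h2
  rwa [Category.comp_id] at this

/-- `ker (toX n) = ker (toX (n+1))` pulled back along the transition map. -/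
lemma ker_toX_eq_comap (𝔛 : FSch.Sys.{u}) (hF : 𝔛.IsFormal) (n : ℕ) :
    (𝔛.toX n).ker = (𝔛.toX (n + 1)).ker.comap (𝔛.ι n) := by
  have := (hF n).1
  have := isClosedImmersion_toX 𝔛 hF (n + 1)
  have sq : IsPullback (𝔛.toX n) (𝟙 _) (𝔛.ι n) (𝔛.toX (n + 1)) :=
    isPullback_of_mono' (𝔛.toX n) (𝔛.ι n)
  exact ker_eq_comap_of_isPullback sq

lemma ker_comap_self {X Y : Scheme.{u}} (i : X ⟶ Y) [IsClosedImmersion i] :
    i.ker.comap i = ⊥ := by
  have sq : IsPullback (𝟙 X) (𝟙 X) i i := IsKernelPair.id_of_mono i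
  rw [← ker_eq_comap_of_isPullback sq]
  exact Scheme.Hom.ker_eq_bot_of_isIso _

/-- In an adic formal system the ideal of `X 0` in `X n` has vanishing `(n+1)`-st power. -/
lemma ker_toX_pow (𝔛 : FSch.Sys.{u}) (hF : 𝔛.IsFormal) (hA : 𝔛.IsAdic) (n : ℕ) :
    (𝔛.toX n).ker ^ (n + 1) = ⊥ := by
  have := (hF n).1
  rw [ker_toX_eq_comap 𝔛 hF n, ← Groth.Agent.H20.comap_pow, ← hA n, ker_comap_self]

/-- A closed subscheme with nilpotent, locally finitely generated ideal which is locally Noetherian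
forces the ambient scheme to be locally Noetherian. -/
theorem isLocallyNoetherian_of_thickening {Z X : Scheme.{u}} (i : Z ⟶ X) [IsClosedImmersion i]
    [IsLocallyNoetherian Z] (m : ℕ) (hm : i.ker ^ m = ⊥)
    (hfg : ∀ x : X, ∃ U : X.affineOpens, x ∈ U.1 ∧ (i.ker.ideal U).FG) :
    IsLocallyNoetherian X := by
  choose U hxU hU using hfg
  refine isLocallyNoetherian_of_affine_cover (S := U) ?_ fun x => ?_
  · rw [eq_top_iff]
    intro x _
    exact TopologicalSpace.Opens.mem_iSup.mpr ⟨x, hxU x⟩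
  · have hpow : (i.ker.ideal (U x)) ^ m = ⊥ := by
      have := congrArg (fun K => K.ideal (U x)) hm
      simpa using this
    have surj : Function.Surjective (i.app (U x).1).hom := i.app_surjective (U x).1 (U x).2
    have hker : RingHom.ker (i.app (U x).1).hom = i.ker.ideal (U x) :=
      (Scheme.Hom.ker_apply i (U x)).symm
    have hN : IsNoetherianRing Γ(Z, i ⁻¹ᵁ (U x).1) :=
      IsLocallyNoetherian.component_noetherian ⟨_, (U x).2.preimage i⟩
    have hQ : IsNoetherianRing (Γ(X, (U x).1) ⧸ i.ker.ideal (U x)) := by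
      rw [← hker]
      exact isNoetherianRing_of_ringEquiv _ (RingHom.quotientKerEquivOfSurjective surj).symm
    exact isNoetherianRing_of_nilpotent (i.ker.ideal (U x)) (hU x) m hpow

/-- Nilpotent Nakayama. -/
lemma eq_of_le_sup_sq {A : Type*} [CommRing A] (I F : Ideal A) (hF : F ≤ I)
    (h : I ≤ F ⊔ I ^ 2) (m : ℕ) (hm : I ^ m = ⊥) : I = F := by
  have claim : ∀ k : ℕ, I ≤ F ⊔ I ^ (k + 1) := by
    intro k
    induction k with
    | zero => rw [zero_add, pow_one]; exact le_sup_right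
    | succ k ih =>
      have h2 : I ^ 2 ≤ F ⊔ I ^ (k + 2) := by
        calc I ^ 2 = I * I := pow_two I
          _ ≤ I * (F ⊔ I ^ (k + 1)) := Ideal.mul_mono_right ih
          _ = I * F ⊔ I * I ^ (k + 1) := Ideal.mul_sup _ _ _
          _ ≤ F ⊔ I ^ (k + 2) := by
            refine sup_le_sup Ideal.mul_le_right ?_
            rw [← pow_succ']
      exact h.trans (sup_le le_sup_left h2)
  refine le_antisymm ?_ hF
  have := claim m
  rwa [pow_succ, hm, Ideal.bot_mul, sup_bot_eq] at this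

lemma fg_of_map_fg_of_ker_le_sq {A B : Type*} [CommRing A] [CommRing B] (φ : A →+* B)
    (hφ : Function.Surjective φ) (I : Ideal A) (hfg : (I.map φ).FG)
    (hker : RingHom.ker φ ≤ I ^ 2) (m : ℕ) (hm : I ^ m = ⊥) : I.FG := by
  classical
  obtain ⟨s, hs⟩ := hfg
  have hlift : ∀ b : s, ∃ a ∈ I, φ a = b.1 := by
    intro b
    have hb : b.1 ∈ I.map φ := by
      rw [← hs]
      exact Ideal.subset_span b.2
    exact (Ideal.mem_map_iff_of_surjective φ hφ).mp hb
  choose lift hliftI hliftφ using hlift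
  set F : Ideal A := Ideal.span (Set.range lift) with hFdef
  have hFI : F ≤ I := by
    rw [hFdef, Ideal.span_le]
    rintro _ ⟨b, rfl⟩
    exact hliftI b
  have hFmap : F.map φ = I.map φ := by
    rw [hFdef, Ideal.map_span, ← hs]
    congr 1
    ext b
    constructor
    · rintro ⟨_, ⟨c, rfl⟩, rfl⟩
      rw [hliftφ]
      exact c.2
    · intro hb
      exact ⟨lift ⟨b, hb⟩, ⟨_, rfl⟩, hliftφ _⟩
  have h1 : I ≤ F ⊔ I ^ 2 := by
    calc I ≤ (I.map φ).comap φ := Ideal.le_comap_map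
      _ = (F.map φ).comap φ := by rw [hFmap]
      _ = F ⊔ (⊥ : Ideal B).comap φ := Ideal.comap_map_of_surjective φ hφ F
      _ ≤ F ⊔ I ^ 2 := sup_le_sup le_rfl hker
  rw [eq_of_le_sup_sq I F hFI h1 m hm, hFdef]
  exact ⟨Finset.univ.image lift, by rw [Finset.coe_image, Finset.coe_univ, Set.image_univ]⟩

lemma idealFT_ker_toX_succ (𝔛 : FSch.Sys.{u}) (hF : 𝔛.IsFormal) (hA : 𝔛.IsAdic)
    (hft : FSch.IdealFT (𝔛.ι 0).ker) : ∀ n, FSch.IdealFT (𝔛.toX (n + 1)).ker
  | 0 => by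
    have : 𝔛.toX 1 = 𝔛.ι 0 := Category.id_comp _
    rw [this]
    exact hft
  | n + 1 => by
    intro U
    have hci := (hF (n + 1)).1
    have ih := idealFT_ker_toX_succ 𝔛 hF hA hft n
      ⟨(𝔛.ι (n + 1)) ⁻¹ᵁ U.1, U.2.preimage _⟩
    rw [ker_toX_eq_comap 𝔛 hF (n + 1),
      ComapAff.ideal_comap_appLE (𝔛.ι (n + 1)) _ U ⟨_, U.2.preimage _⟩ le_rfl,
      Scheme.Hom.appLE_eq_app] at ih
    refine fg_of_map_fg_of_ker_le_sq ((𝔛.ι (n + 1)).app U.1).hom
      ((𝔛.ι (n + 1)).app_surjective U.1 U.2) _ ih ?_ (n + 3) ?_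
    · rw [← Scheme.Hom.ker_apply, hA (n + 1), ideal_pow, Pi.pow_apply]
      exact Ideal.pow_le_pow_right (by omega)
    · have := congrArg (fun K => K.ideal U) (ker_toX_pow 𝔛 hF hA (n + 2))
      simpa using this

theorem isLocallyNoetherian_of_idealFT (𝔛 : FSch.Sys.{u}) (hF : 𝔛.IsFormal) (hA : 𝔛.IsAdic)
    [IsLocallyNoetherian (𝔛.X 0)] (hft : FSch.IdealFT (𝔛.ι 0).ker) (n : ℕ) :
    IsLocallyNoetherian (𝔛.X n) := by
  cases n with
  | zero => infer_instance
  | succ n =>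
    have := isClosedImmersion_toX 𝔛 hF (n + 1)
    refine isLocallyNoetherian_of_thickening (𝔛.toX (n + 1)) (n + 2)
      (ker_toX_pow 𝔛 hF hA (n + 1)) fun x => ?_
    obtain ⟨_, ⟨U, hU, rfl⟩, hxU, -⟩ :=
      (𝔛.X (n + 1)).isBasis_affineOpens.exists_subset_of_mem_open (Set.mem_univ x) isOpen_univ
    exact ⟨⟨U, hU⟩, hxU, idealFT_ker_toX_succ 𝔛 hF hA hft n ⟨U, hU⟩⟩

end Groth.Agent.H19.FormalNoeth
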