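import Groth.Agent.H12.RingLim
import Groth.Agent.H87.ThickAffF
import Groth.Agent.H19.FormalNoeth
import Groth.Agent.H19.FormalClosedImm
import Groth.Agent.H20.ComplNoeth
import Groth.Prelude.Def_FSch3

/-!
# An affine adic system of thickenings is a formal spectrum

Helper library (helper19).  An adic system of thickenings with `X 0` affine Noetherian and
`ker (X 0 → X 1)` of finite type is isomorphic to `spf A J` with `A` Noetherian `J`-adically complete.
-/

set_option autoImplicit false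
set_option linter.style.haveILetI false
universe u
open CategoryTheory AlgebraicGeometry

namespace Groth.Agent.H19.AffineAdicSys

section Alg

variable (B : ℕ → Type u) [∀ n, CommRing (B n)] (u : ∀ n, B (n + 1) →+* B n)

/-- The inverse limit of a tower of rings, as a subring of the product. -/
def limSubring : Subring (∀ n, B n) where
  carrier := {y | ∀ n, u n (y (n + 1)) = y n}
  mul_mem' := by
    intro a b ha hb n
    simp only [Pi.mul_apply, map_mul, ha n, hb n]
  one_mem' := by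
    intro n
    simp only [Pi.one_apply, map_one]
  add_mem' := by
    intro a b ha hb n
    simp only [Pi.add_apply, map_add, ha n, hb n]
  zero_mem' := by
    intro n
    simp only [Pi.zero_apply, map_zero]
  neg_mem' := by
    intro a ha n
    simp only [Pi.neg_apply, map_neg, ha n]

/-- The projections of the inverse limit. -/
def limProj (n : ℕ) : limSubring B u →+* B n :=
  (Pi.evalRingHom B n).comp (limSubring B u).subtype

lemma limProj_apply (n : ℕ) (x : limSubring B u) : limProj B u n x = x.1 n := rfl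

lemma limProj_comp (n : ℕ) : (u n).comp (limProj B u (n + 1)) = limProj B u n :=
  RingHom.ext fun x => x.2 n

lemma limProj_inj (x : limSubring B u) (h : ∀ n, limProj B u n x = 0) : x = 0 :=
  Subtype.ext (funext h)

lemma limProj_lift (y : ∀ n, B n) (hy : ∀ n, u n (y (n + 1)) = y n) :
    ∃ x : limSubring B u, ∀ n, limProj B u n x = y n :=
  ⟨⟨y, hy⟩, fun _ => rfl⟩

end Alg

section Sys

/-- A morphism of systems which is an isomorphism at every level is an isomorphism. -/
lemma isIso_of_levelwise {𝔛 𝔜 : FSch.Sys.{u}} (f : 𝔛 ⟶ 𝔜)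
    (h : ∀ n, IsIso ((f : FSch.Hom 𝔛 𝔜).app n)) : IsIso f := by
  refine ⟨⟨(⟨fun n => inv ((f : FSch.Hom 𝔛 𝔜).app n), fun n => ?_⟩ : FSch.Hom 𝔜 𝔛), ?_, ?_⟩⟩
  · rw [IsIso.inv_comp_eq, ← Category.assoc, IsIso.eq_comp_inv]
    exact ((f : FSch.Hom 𝔛 𝔜).comm n).symm
  · exact FSch.Hom.ext (funext fun n => IsIso.hom_inv_id _)
  · exact FSch.Hom.ext (funext fun n => IsIso.inv_hom_id _)

variable (𝔛 : FSch.Sys.{u})

lemma isAffine_level (hF : 𝔛.IsFormal) [IsAffine (𝔛.X 0)] (n : ℕ) : IsAffine (𝔛.X n) := by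
  have := Groth.Agent.H19.FormalNoeth.isClosedImmersion_toX 𝔛 hF n
  exact Groth.Agent.H87.ThickAff.isAffine_of_thickening (𝔛.toX n)
    (Groth.Agent.H19.FormalClosedImm.surjective_toX 𝔛 hF n)

/-- The abstract comparison: a ring `A` with surjections `p n` onto the global sections of the
levels, with kernels the powers of `J`, compatible with the transition maps, gives an isomorphism
of systems onto `spf A J`. -/
lemma nonempty_iso_spf (𝔛 : FSch.Sys.{u}) [∀ n, IsAffine (𝔛.X n)]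
    (A : Type u) [CommRing A] (J : Ideal A) (p : ∀ n, A →+* Γ(𝔛.X n, ⊤))
    (hs : ∀ n, Function.Surjective (p n)) (hk : ∀ n, RingHom.ker (p n) = J ^ (n + 1))
    (hp : ∀ n, ((𝔛.ι n).appTop.hom).comp (p (n + 1)) = p n) :
    Nonempty (𝔛 ≅ FSch.spf A J) := by
  let e : ∀ n, (A ⧸ J ^ (n + 1)) ≃+* Γ(𝔛.X n, ⊤) := fun n =>
    (Ideal.quotEquivOfEq (hk n).symm).trans (RingHom.quotientKerEquivOfSurjective (hs n))
  have he : ∀ n (a : A), e n (Ideal.Quotient.mk _ a) = p n a := fun n a => rfl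
  let E : ∀ n, CommRingCat.of (A ⧸ J ^ (n + 1)) ≅ Γ(𝔛.X n, ⊤) := fun n =>
    (e n).toCommRingCatIso
  let f : 𝔛 ⟶ FSch.spf A J :=
    (⟨fun n => (𝔛.X n).isoSpec.hom ≫ Spec.map (E n).hom, fun n => ?_⟩ : FSch.Hom 𝔛 (FSch.spf A J))
  · have : IsIso f := isIso_of_levelwise f fun n => by
      show IsIso ((𝔛.X n).isoSpec.hom ≫ Spec.map (E n).hom)
      infer_instance
    exact ⟨asIso f⟩
  · show ((𝔛.X n).isoSpec.hom ≫ Spec.map (E n).hom) ≫ CohB1.specQuotTrans J n =
      𝔛.ι n ≫ (𝔛.X (n + 1)).isoSpec.hom ≫ Spec.map (E (n + 1)).hom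
    rw [← Scheme.isoSpec_hom_naturality_assoc, Category.assoc]
    congr 1
    rw [CohB1.specQuotTrans, ← Spec.map_comp, ← Spec.map_comp]
    congr 1
    apply CommRingCat.hom_ext
    apply Ideal.Quotient.ringHom_ext
    ext a
    have h1 := congrArg (fun g => g a) (hp n)
    exact (h1.symm : p n a = (𝔛.ι n).appTop.hom (p (n + 1) a))

lemma ker_ideal_top {X Y : Scheme.{u}} (i : X ⟶ Y) [IsClosedImmersion i] [IsAffine Y] :
    i.ker.ideal ⟨⊤, isAffineOpen_top Y⟩ = RingHom.ker i.appTop.hom :=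
  Scheme.Hom.ker_apply i ⟨⊤, isAffineOpen_top Y⟩

theorem main (𝔛 : FSch.Sys.{u}) (hF : 𝔛.IsFormal) (hA : 𝔛.IsAdic)
    [IsAffine (𝔛.X 0)] [IsLocallyNoetherian (𝔛.X 0)] (hft : FSch.IdealFT (𝔛.ι 0).ker) :
    ∃ (A : Type u) (_ : CommRing A) (J : Ideal A),
      IsNoetherianRing A ∧ IsAdicComplete J A ∧ Nonempty (𝔛 ≅ FSch.spf A J) := by
  have hAff : ∀ n, IsAffine (𝔛.X n) := isAffine_level 𝔛 hF
  have hCI : ∀ n, IsClosedImmersion (𝔛.ι n) := fun n => (hF n).1
  have hCI' : ∀ n, IsClosedImmersion (𝔛.toX n) :=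
    Groth.Agent.H19.FormalNoeth.isClosedImmersion_toX 𝔛 hF
  let B : ℕ → Type u := fun n => Γ(𝔛.X n, ⊤)
  let u : ∀ n, B (n + 1) →+* B n := fun n => (𝔛.ι n).appTop.hom
  let v : ∀ n, B n →+* B 0 := fun n => (𝔛.toX n).appTop.hom
  have hu : ∀ n, Function.Surjective (u n) := fun n =>
    (𝔛.ι n).app_surjective ⊤ (isAffineOpen_top _)
  have hv0 : v 0 = RingHom.id (B 0) := by
    show (𝟙 (𝔛.X 0) : 𝔛.X 0 ⟶ 𝔛.X 0).appTop.hom = RingHom.id _
    rw [Scheme.Hom.id_appTop]
    rfl
  have hv : ∀ n, (v n).comp (u n) = v (n + 1) := by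
    intro n
    show ((𝔛.toX n).appTop.hom).comp ((𝔛.ι n).appTop.hom) = (𝔛.toX n ≫ 𝔛.ι n).appTop.hom
    rw [Scheme.Hom.comp_appTop, CommRingCat.hom_comp]
  have hker : ∀ n, RingHom.ker (u n) = RingHom.ker (v (n + 1)) ^ (n + 1) := by
    intro n
    have h := congrArg (fun I => I.ideal ⟨⊤, isAffineOpen_top _⟩) (hA n)
    simp only [Scheme.IdealSheafData.ideal_pow, Pi.pow_apply] at h
    rw [ker_ideal_top, ker_ideal_top] at h
    exact h
  have hfg : (RingHom.ker (v 1)).FG := by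
    have h := hft ⟨⊤, isAffineOpen_top _⟩
    rw [ker_ideal_top] at h
    have h1 : 𝔛.toX 1 = 𝔛.ι 0 := Category.id_comp _
    show (RingHom.ker (𝔛.toX 1).appTop.hom).FG
    rw [h1]
    exact h
  obtain ⟨hcompl, hpn, hJfg⟩ := Groth.Agent.H12.ring_limit_main B u hu v hv0 hv hker hfg
    (limSubring B u) (limProj B u) (limProj_comp B u) (limProj_inj B u) (limProj_lift B u)
  refine ⟨limSubring B u, inferInstance, RingHom.ker (limProj B u 0), ?_, hcompl, ?_⟩
  · have : IsNoetherianRing (B 0) :=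
      IsLocallyNoetherian.component_noetherian (X := 𝔛.X 0) ⟨⊤, isAffineOpen_top _⟩
    have : IsNoetherianRing (limSubring B u ⧸ RingHom.ker (limProj B u 0)) :=
      isNoetherianRing_of_ringEquiv (B 0)
        (RingHom.quotientKerEquivOfSurjective (hpn 0).1).symm
    exact Groth.Agent.H20.ComplNoeth.isNoetherianRing_of_isAdicComplete _ hJfg
  · exact nonempty_iso_spf 𝔛 (limSubring B u) (RingHom.ker (limProj B u 0)) (limProj B u)
      (fun n => (hpn n).1) (fun n => (hpn n).2) (limProj_comp B u)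

end Sys

end Groth.Agent.H19.AffineAdicSys
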