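import Mathlib

/-!
# Pushforward of sheaves of sets along a closed embedding (H19)
-/

namespace Groth.Agent.H19.ClosedPush

open CategoryTheory CategoryTheory.Limits TopologicalSpace Opposite Topology

universe u

section General

universe v₁ v₂ v₃ u₁ u₂ u₃

variable {C : Type u₁} [Category.{v₁} C] {D : Type u₂} [Category.{v₂} D]
  (E : Type u₃) [Category.{v₃} E]
  {f : C ⥤ D} {g : D ⥤ C} (adj : f ⊣ g) [IsIso adj.counit]

include adj in
/-- Precomposition with (the opposite of) a left adjoint whose right adjoint is fully faithful is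
fully faithful. -/
theorem fullyFaithful_whiskeringLeft_op :
    Nonempty ((Functor.whiskeringLeft Cᵒᵖ Dᵒᵖ E).obj f.op).FullyFaithful := by
  have h1 : IsIso (Adjunction.whiskerLeft E adj.op).unit := by
    have h2 : ∀ P : Dᵒᵖ ⥤ E, IsIso ((Adjunction.whiskerLeft E adj.op).unit.app P) := by
      intro P
      have h3 : ∀ X, IsIso (((Adjunction.whiskerLeft E adj.op).unit.app P).app X) := by
        intro X
        rw [Adjunction.whiskerLeft_unit_app_app]
        have h4 : IsIso (adj.op.unit.app X) := by
          show IsIso (adj.counit.app X.unop).op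
          infer_instance
        infer_instance
      exact NatIso.isIso_of_isIso_app _
    exact NatIso.isIso_of_isIso_app _
  exact ⟨(Adjunction.whiskerLeft E adj.op).fullyFaithfulLOfIsIsoUnit⟩

end General

section Top

variable {Z X : TopCat.{u}} (i : Z ⟶ X) (hi : IsClosedEmbedding i)

/-- The largest open subset of `X` with given preimage in `Z`. -/
def gObj (W : Opens Z) : Opens X :=
  ⟨(i '' (W : Set Z)ᶜ)ᶜ, (hi.isClosedMap _ W.isOpen.isClosed_compl).isOpen_compl⟩

variable {i} in
theorem mem_gObj {W : Opens Z} {x : X} : x ∈ gObj i hi W ↔ ∀ z, i z = x → z ∈ W := by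
  show x ∉ i '' (W : Set Z)ᶜ ↔ _
  constructor
  · intro h z hz
    by_contra hzW
    exact h ⟨z, hzW, hz⟩
  · rintro h ⟨z, hzW, hz⟩
    exact hzW (h z hz)

theorem map_gObj (W : Opens Z) : (Opens.map i).obj (gObj i hi W) = W := by
  ext z
  show i z ∈ gObj i hi W ↔ z ∈ W
  rw [mem_gObj]
  exact ⟨fun h => h z rfl, fun h z' hz' => hi.injective hz' ▸ h⟩

theorem le_gObj_iff (V : Opens X) (W : Opens Z) :
    V ≤ gObj i hi W ↔ (Opens.map i).obj V ≤ W := by
  constructor
  · intro h z hz
    exact (mem_gObj hi).mp (h hz) z rfl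
  · intro h x hx
    rw [mem_gObj]
    rintro z rfl
    exact h hx

theorem gObj_mono {W W' : Opens Z} (h : W ≤ W') : gObj i hi W ≤ gObj i hi W' :=
  (le_gObj_iff i hi _ _).mpr ((map_gObj i hi W).le.trans h)

/-- `gObj` as a functor. -/
def gFunctor : Opens Z ⥤ Opens X where
  obj W := gObj i hi W
  map h := homOfLE (gObj_mono i hi h.le)

/-- `gFunctor` is right adjoint to the preimage functor. -/
def gAdj : Opens.map i ⊣ gFunctor i hi :=
  Adjunction.mkOfUnitCounit
    { unit :=
        { app := fun V => homOfLE ((le_gObj_iff i hi V _).mpr le_rfl)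
          naturality := fun _ _ _ => Subsingleton.elim _ _ }
      counit :=
        { app := fun W => homOfLE (map_gObj i hi W).le
          naturality := fun _ _ _ => Subsingleton.elim _ _ }
      left_triangle := by
        ext
        exact Subsingleton.elim _ _
      right_triangle := by
        ext
        exact Subsingleton.elim _ _ }

instance isIso_gAdj_counit : IsIso (gAdj i hi).counit := by
  have : ∀ W, IsIso ((gAdj i hi).counit.app W) := fun W =>
    ⟨⟨homOfLE (map_gObj i hi W).ge, Subsingleton.elim _ _, Subsingleton.elim _ _⟩⟩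
  exact NatIso.isIso_of_isIso_app _

include hi in
/-- The pushforward of presheaves along a closed embedding is fully faithful. -/
theorem presheafPushforward_fullyFaithful (E : Type*) [Category E] :
    Nonempty (TopCat.Presheaf.pushforward E i).FullyFaithful :=
  fullyFaithful_whiskeringLeft_op E (gAdj i hi)

include hi in
/-- The pushforward of sheaves along a closed embedding is fully faithful. -/
theorem sheafPushforward_fullyFaithful (E : Type*) [Category E] :
    Nonempty (TopCat.Sheaf.pushforward E i).FullyFaithful := by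
  obtain ⟨h⟩ := presheafPushforward_fullyFaithful i hi E
  have h2 : (TopCat.Sheaf.forget E Z ⋙ TopCat.Presheaf.pushforward E i).FullyFaithful :=
    (fullyFaithfulSheafToPresheaf _ _).comp h
  have h3 : (TopCat.Sheaf.pushforward E i ⋙ TopCat.Sheaf.forget E X).FullyFaithful := h2
  exact ⟨Functor.FullyFaithful.ofCompFaithful h3⟩

/-- If all sections of a presheaf of sets over small opens in `V₀` are unique, so are the
stalks at points of `V₀`. -/
theorem stalk_unique_of_sections_unique {X : TopCat.{u}} (G : X.Presheaf (Type u)) (V₀ : Opens X)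
    (h : ∀ V ≤ V₀, Nonempty (Unique (G.obj (op V)))) (x : X) (hx : x ∈ V₀) :
    Nonempty (Unique (G.stalk x)) := by
  obtain ⟨u0⟩ := h V₀ le_rfl
  refine ⟨{ default := G.germ V₀ x hx u0.default, uniq := ?_ }⟩
  intro t
  obtain ⟨U, hU, hxU, s, rfl⟩ := G.exists_le_germ_eq t hx
  have h1 := G.germ_res_apply (homOfLE hU) x hxU u0.default
  show G.germ U x hxU s = G.germ V₀ x hx u0.default
  rw [← h1]
  congr 1
  obtain ⟨u1⟩ := h U hU
  exact (u1.uniq _).trans (u1.uniq _).symm

/-- If all stalks of a sheaf of sets at points of `V₀` are one-point sets, so are the sets of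
sections over opens contained in `V₀`. -/
theorem sections_unique_of_stalk_unique {X : TopCat.{u}} (G : X.Sheaf (Type u)) (V₀ : Opens X)
    (h : ∀ x ∈ V₀, Nonempty (Unique (G.presheaf.stalk x))) (V : Opens X) (hV : V ≤ V₀) :
    Nonempty (Unique (G.obj.obj (op V))) := by
  have hsub : ∀ V' : Opens X, V' ≤ V₀ → Subsingleton (G.obj.obj (op V')) := by
    intro V' hV'
    refine ⟨fun s t => TopCat.Presheaf.section_ext G V' s t (fun x hx => ?_)⟩
    obtain ⟨u⟩ := h x (hV' hx)
    exact (u.uniq _).trans (u.uniq _).symm
  have hne : Nonempty (G.obj.obj (op V)) := by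
    have hex : ∀ x : V, ∃ (U : Opens X) (_ : U ≤ V) (_ : x.1 ∈ U),
        Nonempty (G.obj.obj (op U)) := by
      intro x
      obtain ⟨u⟩ := h x.1 (hV x.2)
      obtain ⟨U, hU, hxU, s, -⟩ := G.presheaf.exists_le_germ_eq u.default x.2
      exact ⟨U, hU, hxU, ⟨s⟩⟩
    choose U hU hxU hs using hex
    let sf : ∀ x : V, G.obj.obj (op (U x)) := fun x => (hs x).some
    have compat : TopCat.Presheaf.IsCompatible G.obj U sf := by
      intro x y
      have := hsub (U x ⊓ U y) (inf_le_left.trans ((hU x).trans hV))
      exact Subsingleton.elim _ _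
    obtain ⟨s, -, -⟩ := G.existsUnique_gluing' U V (fun x => homOfLE (hU x))
      (fun y hy => Opens.mem_iSup.mpr ⟨⟨y, hy⟩, hxU ⟨y, hy⟩⟩) sf compat
    exact ⟨s⟩
  obtain ⟨s⟩ := hne
  have := hsub V hV
  exact ⟨⟨⟨s⟩, fun t => Subsingleton.elim _ _⟩⟩

/-- The complement of the range of a closed embedding, as an open subset. -/
def compl : Opens X := ⟨(Set.range i)ᶜ, hi.isClosed_range.isOpen_compl⟩

theorem map_eq_bot_of_le_compl (V : Opens X) (hV : V ≤ compl i hi) :
    (Opens.map i).obj V = ⊥ := by
  ext z
  simp only [Opens.coe_bot, Set.mem_empty_iff_false, iff_false]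
  intro hz
  exact hV hz ⟨z, rfl⟩

include hi in
/-- Stalks of the pushforward along a closed embedding at points outside are one-point sets. -/
theorem stalk_pushforward_unique (F : Z.Sheaf (Type u)) (x : X) (hx : x ∉ Set.range i) :
    Nonempty (Unique (((TopCat.Sheaf.pushforward (Type u) i).obj F).presheaf.stalk x)) := by
  refine stalk_unique_of_sections_unique _ (compl i hi) ?_ x hx
  intro V hV
  exact ⟨Types.isTerminalEquivUnique _
    (F.isTerminalOfEqEmpty (map_eq_bot_of_le_compl i hi V hV))⟩

include hi in
/-- S7572. -/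
theorem stalk_unique_and_counit_isIso (F : Z.Sheaf (Type u)) :
    (∀ x : X, x ∉ Set.range i →
      Nonempty (Unique (((TopCat.Sheaf.pushforward (Type u) i).obj F).presheaf.stalk x))) ∧
    IsIso ((TopCat.Sheaf.pullbackPushforwardAdjunction (Type u) i).counit.app F) := by
  refine ⟨fun x hx => stalk_pushforward_unique i hi F x hx, ?_⟩
  obtain ⟨h⟩ := sheafPushforward_fullyFaithful i hi (Type u)
  have h1 : (TopCat.Sheaf.pushforward (Type u) i).Full := h.full
  have h2 : (TopCat.Sheaf.pushforward (Type u) i).Faithful := h.faithful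
  infer_instance

end Top

end Groth.Agent.H19.ClosedPush
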