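import Mathlib
import Groth.Agent.H19.ClosedPush

/-!
# Essential image of the pushforward of sheaves of sets along a closed embedding (H19)
-/

namespace Groth.Agent.H19.ClosedPush

open CategoryTheory CategoryTheory.Limits TopologicalSpace Opposite Topology

universe u

/-- Restrictions in a presheaf on a space compose (whatever the inclusion morphisms are). -/
theorem res_res {X : TopCat.{u}} (G : X.Presheaf (Type u)) {A B C : Opens X}
    (f : A ⟶ B) (g : B ⟶ C) (h : A ⟶ C) (s : G.obj (op C)) :
    G.map f.op (G.map g.op s) = G.map h.op s := by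
  have : h = f ≫ g := Subsingleton.elim _ _
  rw [this, op_comp, G.map_comp]
  rfl

section Top

variable {Z X : TopCat.{u}} (i : Z ⟶ X) (hi : IsClosedEmbedding i)

theorem compl_le_gObj (W : Opens Z) : compl i hi ≤ gObj i hi W := by
  intro x hx
  rw [mem_gObj]
  rintro z rfl
  exact (hx ⟨z, rfl⟩).elim

theorem gObj_iSup_le {ι : Type u} (W : ι → Opens Z) :
    gObj i hi (iSup W) ≤
      iSup (fun o : Option ι => o.elim (compl i hi) (fun a => gObj i hi (W a))) := by
  intro x hx
  rw [mem_gObj] at hx
  by_cases hxr : x ∈ Set.range i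
  · obtain ⟨z, rfl⟩ := hxr
    obtain ⟨a, ha⟩ := Opens.mem_iSup.mp (hx z rfl)
    refine Opens.mem_iSup.mpr ⟨some a, ?_⟩
    show i z ∈ gObj i hi (W a)
    rw [mem_gObj]
    intro z' hz'
    exact hi.injective hz' ▸ ha
  · exact Opens.mem_iSup.mpr ⟨none, hxr⟩

theorem gObj_inf_le (W W' : Opens Z) : gObj i hi W ⊓ gObj i hi W' ≤ gObj i hi (W ⊓ W') := by
  rw [le_gObj_iff]
  intro z hz
  exact ⟨(mem_gObj hi).mp hz.1 z rfl, (mem_gObj hi).mp hz.2 z rfl⟩

theorem gObj_map_le (V : Opens X) : gObj i hi ((Opens.map i).obj V) ≤ V ⊔ compl i hi := by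
  intro x hx
  rw [mem_gObj] at hx
  by_cases hxr : x ∈ Set.range i
  · obtain ⟨z, rfl⟩ := hxr
    exact Or.inl (hx z rfl)
  · exact Or.inr hxr

variable (G : X.Sheaf (Type u))
  (hG : ∀ x : X, x ∉ Set.range i → Nonempty (Unique (G.presheaf.stalk x)))

include hG in
theorem unique_sections_compl (V : Opens X) (hV : V ≤ compl i hi) :
    Nonempty (Unique (G.obj.obj (op V))) :=
  sections_unique_of_stalk_unique G (compl i hi) (fun x hx => hG x hx) V hV

include hG in
theorem subsingleton_sections_compl (V : Opens X) (hV : V ≤ compl i hi) :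
    Subsingleton (G.obj.obj (op V)) := by
  obtain ⟨u⟩ := unique_sections_compl i hi G hG V hV
  exact ⟨fun a b => (u.uniq a).trans (u.uniq b).symm⟩

include hG in
/-- The presheaf `W ↦ G (gObj W)` on `Z` is a sheaf. -/
theorem isSheaf_comp_gFunctor : TopCat.Presheaf.IsSheaf ((gFunctor i hi).op ⋙ G.obj) := by
  rw [TopCat.Presheaf.isSheaf_iff_isSheafUniqueGluing_types]
  intro ι W sf hsf
  have hsub := subsingleton_sections_compl i hi G hG
  obtain ⟨u0⟩ := unique_sections_compl i hi G hG (compl i hi) le_rfl
  let U' : Option ι → Opens X := fun o => o.elim (compl i hi) (fun a => gObj i hi (W a))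
  let sf' : ∀ o : Option ι, G.obj.obj (op (U' o)) := fun o =>
    match o with
    | none => u0.default
    | some a => sf a
  have hU'le : ∀ o, U' o ≤ gObj i hi (iSup W) := by
    rintro (_ | a)
    · exact compl_le_gObj i hi _
    · exact gObj_mono i hi (le_iSup W a)
  have compat : TopCat.Presheaf.IsCompatible G.obj U' sf' := by
    rintro (_ | a) (_ | b)
    · exact (hsub _ inf_le_left).elim _ _
    · exact (hsub _ inf_le_left).elim _ _
    · exact (hsub _ inf_le_right).elim _ _
    · have h1 := hsf a b
      have h2 := congrArg (G.obj.map (homOfLE (gObj_inf_le i hi (W a) (W b))).op) h1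
      refine Eq.trans ?_ (h2.trans ?_)
      · exact (res_res G.obj _ ((gFunctor i hi).map (Opens.infLELeft (W a) (W b))) _ _).symm
      · exact res_res G.obj _ ((gFunctor i hi).map (Opens.infLERight (W a) (W b))) _ _
  obtain ⟨s, hs, hs'⟩ := G.existsUnique_gluing' U' (gObj i hi (iSup W))
    (fun o => homOfLE (hU'le o)) (gObj_iSup_le i hi W) sf' compat
  refine ⟨s, ?_, ?_⟩
  · intro a
    exact hs (some a)
  · intro t ht
    apply hs'
    rintro (_ | a)
    · exact (hsub _ le_rfl).elim _ _
    · exact ht a

include hG in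
/-- Restriction from `gObj (i ⁻¹ V)` to `V` is bijective. -/
theorem res_bijective (V : Opens X) :
    Function.Bijective (G.obj.map ((gAdj i hi).unit.app V).op) := by
  have hsub := subsingleton_sections_compl i hi G hG
  obtain ⟨u0⟩ := unique_sections_compl i hi G hG (compl i hi) le_rfl
  constructor
  · intro s s' h
    exact G.eq_of_locally_eq₂ ((gAdj i hi).unit.app V)
      (homOfLE (compl_le_gObj i hi _)) (gObj_map_le i hi V) s s' h ((hsub _ le_rfl).elim _ _)
  · intro t
    let U' : Bool → Opens X := fun b => cond b V (compl i hi)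
    let sf' : ∀ b : Bool, G.obj.obj (op (U' b)) := fun b =>
      match b with
      | true => t
      | false => u0.default
    have hU'le : ∀ b, U' b ≤ gObj i hi ((Opens.map i).obj V) := by
      rintro (_ | _)
      · exact compl_le_gObj i hi _
      · exact ((gAdj i hi).unit.app V).le
    have compat : TopCat.Presheaf.IsCompatible G.obj U' sf' := by
      rintro (_ | _) (_ | _)
      · exact (hsub _ inf_le_left).elim _ _
      · exact (hsub _ inf_le_left).elim _ _
      · exact (hsub _ inf_le_right).elim _ _
      · exact congrArg (fun f => G.obj.map (Quiver.Hom.op f) t) (Subsingleton.elim _ _)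
    have hcover : gObj i hi ((Opens.map i).obj V) ≤ iSup U' := by
      refine (gObj_map_le i hi V).trans (sup_le ?_ ?_)
      · exact le_iSup U' true
      · exact le_iSup U' false
    obtain ⟨s, hs, -⟩ := G.existsUnique_gluing' U' (gObj i hi ((Opens.map i).obj V))
      (fun b => homOfLE (hU'le b)) hcover sf' compat
    exact ⟨s, hs true⟩

include hi hG in
/-- A sheaf of sets on `X` with one-point stalks outside `Z` is a pushforward from `Z`. -/
theorem mem_essImage : (TopCat.Sheaf.pushforward (Type u) i).essImage G := by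
  let F : Z.Sheaf (Type u) := ⟨(gFunctor i hi).op ⋙ G.obj, isSheaf_comp_gFunctor i hi G hG⟩
  let θ : (TopCat.Sheaf.pushforward (Type u) i).obj F ⟶ G :=
    ⟨{ app := fun V => G.obj.map ((gAdj i hi).unit.app V.unop).op
       naturality := fun V V' f => by
        have e : ((gFunctor i hi).map ((Opens.map i).map f.unop)).op ≫
            ((gAdj i hi).unit.app V'.unop).op = ((gAdj i hi).unit.app V.unop).op ≫ f :=
          Subsingleton.elim _ _
        exact ((G.obj.map_comp _ _).symm.trans (congrArg G.obj.map e)).trans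
          (G.obj.map_comp _ _) }⟩
  have h7 : IsIso ((sheafToPresheaf _ _).map θ) := by
    have h8 : ∀ V : (Opens X)ᵒᵖ, IsIso (((sheafToPresheaf _ _).map θ).app V) := by
      intro V
      induction V using Opposite.rec with
      | _ V => exact (isIso_iff_bijective _).mpr (res_bijective i hi G hG V)
    exact NatIso.isIso_of_isIso_app _
  have h9 : IsIso θ := isIso_of_fully_faithful (sheafToPresheaf _ _) _
  exact ⟨F, ⟨asIso θ⟩⟩

include hi in
/-- S7573. -/
theorem full_faithful_essImage :
    (TopCat.Sheaf.pushforward (Type u) i).Full ∧ (TopCat.Sheaf.pushforward (Type u) i).Faithful ∧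
    ∀ G : X.Sheaf (Type u), (TopCat.Sheaf.pushforward (Type u) i).essImage G ↔
      ∀ x : X, x ∉ Set.range i → Nonempty (Unique (G.presheaf.stalk x)) := by
  obtain ⟨h⟩ := sheafPushforward_fullyFaithful i hi (Type u)
  refine ⟨h.full, h.faithful, fun G => ⟨?_, fun hG => mem_essImage i hi G hG⟩⟩
  rintro ⟨F, ⟨e⟩⟩ x hx
  obtain ⟨u1⟩ := stalk_pushforward_unique i hi F x hx
  let e' := (TopCat.Presheaf.stalkFunctor (Type u) x).mapIso ((TopCat.Sheaf.forget _ _).mapIso e)
  exact ⟨@Equiv.unique _ _ u1 e'.toEquiv.symm⟩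

end Top

end Groth.Agent.H19.ClosedPush
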