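import Groth.Prelude.Def_FSch3
import Mathlib.AlgebraicGeometry.Noetherian

universe u
open CategoryTheory AlgebraicGeometry

namespace Groth.Agent.H19.ComplAdic

open Scheme.IdealSheafData

variable {X : Scheme.{u}}

/-- the ideal of `ker (inclusion h)` on `j⁻¹U`. -/
lemma ker_inclusion_ideal {J A : X.IdealSheafData} (h : J ≤ A) (U : X.affineOpens) :
    (inclusion h).ker.ideal ⟨J.subschemeι ⁻¹ᵁ U, U.2.preimage _⟩ =
      (A.ideal U).map (J.subschemeι.app U).hom := by
  have h1 : (inclusion h).ker.map J.subschemeι = A := by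
    rw [map_ker, inclusion_subschemeι, ker_subschemeι]
  have h2 := ideal_map_of_isAffineHom (inclusion h).ker J.subschemeι U
  rw [h1] at h2
  rw [h2, Ideal.map_comap_of_surjective _ (subschemeι_app_surjective J U)]

lemma ker_inclusion_pow {J A B : X.IdealSheafData} (hA : J ≤ A) (hB : J ≤ B) (m : ℕ)
    (hAB : A = B ^ m) :
    (inclusion hA).ker = (inclusion hB).ker ^ m := by
  refine ext_of_iSup_eq_top
    (fun U : X.affineOpens => ⟨J.subschemeι ⁻¹ᵁ U, U.2.preimage _⟩) ?_ ?_
  · show ⨆ U : X.affineOpens, J.subschemeι ⁻¹ᵁ (U : X.Opens) = ⊤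
    rw [← Scheme.Hom.preimage_iSup, iSup_affineOpens_eq_top]
    rfl
  · intro U
    rw [ideal_pow, Pi.pow_apply, ker_inclusion_ideal, ker_inclusion_ideal, hAB, ideal_pow,
      Pi.pow_apply, Ideal.map_pow]

lemma pow_succ_le_one (𝓘 : X.IdealSheafData) (n : ℕ) : 𝓘 ^ (n + 1) ≤ 𝓘 ^ (0 + 1) :=
  pow_le_pow_of_le_one bot_le le_top (Nat.succ_le_succ (Nat.zero_le n))

lemma toX_eq (𝓘 : X.IdealSheafData) (n : ℕ) :
    (FSch.completionAlong X 𝓘).toX n = inclusion (pow_succ_le_one 𝓘 n) := by
  induction n with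
  | zero => exact (inclusion_id _).symm
  | succ n ih =>
    have h1 : (FSch.completionAlong X 𝓘).toX (n + 1) =
        (FSch.completionAlong X 𝓘).toX n ≫ inclusion (FSch.pow_succ_le X 𝓘 n) := rfl
    rw [h1, ih]
    exact inclusion_comp _ _

lemma surjective_inclusion {I J : X.IdealSheafData} (h : I ≤ J) (hs : I.support = J.support) :
    Function.Surjective (inclusion h).base := by
  intro x
  have hx : I.subschemeι x ∈ (J.support : Set X) := by
    rw [← hs, ← range_subschemeι]
    exact ⟨x, rfl⟩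
  rw [← range_subschemeι] at hx
  obtain ⟨y, hy⟩ := hx
  refine ⟨y, ?_⟩
  apply I.subschemeι.isEmbedding.injective
  rw [← hy, ← inclusion_subschemeι h]
  rfl

theorem main (X : Scheme.{u}) [IsLocallyNoetherian X] (𝓘 : X.IdealSheafData) :
    (FSch.completionAlong X 𝓘).IsLocNoethFormal := by
  refine ⟨fun n => ⟨?_, ?_⟩, fun n => ?_, fun n => ?_⟩
  · show IsClosedImmersion (inclusion (FSch.pow_succ_le X 𝓘 n))
    infer_instance
  · exact surjective_inclusion _ rfl
  · rw [toX_eq]
    show (inclusion (FSch.pow_succ_le X 𝓘 n)).ker = _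
    exact ker_inclusion_pow _ _ (n + 1) (by rw [zero_add, pow_one])
  · show IsLocallyNoetherian (𝓘 ^ (n + 1)).subscheme
    exact LocallyOfFiniteType.isLocallyNoetherian (𝓘 ^ (n + 1)).subschemeι

end Groth.Agent.H19.ComplAdic
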