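import Mathlib.RingTheory.AdicCompletion.Algebra
import Mathlib.RingTheory.AdicCompletion.Basic
import Mathlib.RingTheory.Finiteness.Basic

/-! S0544 (Stacks 031D): `R` complete w.r.t. `I`, `M` separated, `M/IM` finite ⇒ `M` finite. -/

set_option autoImplicit false
universe u v

namespace Groth.Agent.H19.ComplFinite

variable {R : Type u} [CommRing R] (I : Ideal R) {M : Type v} [AddCommGroup M] [Module R M]

/-- Successive approximation: if `x : ι → M` is a finite family such that every `y ∈ I^m M` can be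
approximated modulo `I^(m+1) M` by a combination of the `x t` with coefficients in `I^m`, then the
`x t` span `M`, provided `R` is `I`-adically precomplete and `M` is separated. -/
theorem mem_span_of_forall_approx [IsPrecomplete I R] [IsHausdorff I M]
    {ι : Type*} [Fintype ι] (x : ι → M)
    (hstep : ∀ (m : ℕ) (y : M), y ∈ (I ^ m • ⊤ : Submodule R M) →
      ∃ c : ι → R, (∀ t, c t ∈ I ^ m) ∧ y - ∑ t, c t • x t ∈ (I ^ (m + 1) • ⊤ : Submodule R M))
    (y : M) : y ∈ Submodule.span R (Set.range x) := by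
  classical
  have hch : ∀ (m : ℕ) (y : M), ∃ c : ι → R, (y ∈ (I ^ m • ⊤ : Submodule R M) →
      (∀ t, c t ∈ I ^ m) ∧ y - ∑ t, c t • x t ∈ (I ^ (m + 1) • ⊤ : Submodule R M)) := by
    intro m y
    by_cases h : y ∈ (I ^ m • ⊤ : Submodule R M)
    · obtain ⟨c, hc⟩ := hstep m y h
      exact ⟨c, fun _ => hc⟩
    · exact ⟨0, fun h1 => absurd h1 h⟩
  choose nxt hnxt using hch
  obtain ⟨ys, ys_zero, ys_succ⟩ : ∃ ys : ℕ → M, ys 0 = y ∧
      ∀ m, ys (m + 1) = ys m - ∑ t, nxt m (ys m) t • x t :=
    ⟨fun m => Nat.rec y (fun m z => z - ∑ t, nxt m z t • x t) m, rfl, fun _ => rfl⟩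
  have hinv : ∀ m, ys m ∈ (I ^ m • ⊤ : Submodule R M) := by
    intro m
    induction m with
    | zero => simp
    | succ m ih =>
      rw [ys_succ]
      exact (hnxt m (ys m) ih).2
  obtain ⟨c, hcdef⟩ : ∃ c : ℕ → ι → R, ∀ m t, c m t = nxt m (ys m) t := ⟨_, fun _ _ => rfl⟩
  have ys_succ' : ∀ m, ys (m + 1) = ys m - ∑ t, c m t • x t := by
    intro m
    rw [ys_succ]
    simp only [hcdef]
  have hc : ∀ m t, c m t ∈ I ^ m := fun m t => by
    rw [hcdef]
    exact (hnxt m (ys m) (hinv m)).1 t
  obtain ⟨s, s_def⟩ : ∃ s : ι → ℕ → R, ∀ t N, s t N = ∑ m ∈ Finset.range N, c m t :=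
    ⟨_, fun _ _ => rfl⟩
  have s_zero : ∀ t, s t 0 = 0 := fun t => by rw [s_def, Finset.range_zero, Finset.sum_empty]
  have s_succ : ∀ t N, s t (N + 1) = s t N + c N t := fun t N => by
    rw [s_def, s_def, Finset.sum_range_succ]
  have hys : ∀ N, ys N = y - ∑ t, s t N • x t := by
    intro N
    induction N with
    | zero => simp [s_zero, ys_zero]
    | succ N ih =>
      rw [ys_succ', ih]
      simp only [s_succ, add_smul, Finset.sum_add_distrib]
      abel
  have hcauchy : ∀ t {N N' : ℕ}, N ≤ N' →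
      s t N ≡ s t N' [SMOD (I ^ N • ⊤ : Submodule R R)] := by
    intro t N N' hNN'
    rw [SModEq.sub_mem, smul_eq_mul, Ideal.mul_top]
    have h1 : s t N' = s t N + ∑ m ∈ Finset.Ico N N', c m t := by
      rw [s_def, s_def]
      exact (Finset.sum_range_add_sum_Ico _ hNN').symm
    rw [h1, sub_add_cancel_left]
    refine (I ^ N).neg_mem (Ideal.sum_mem _ fun m hm => ?_)
    have hm' := (Finset.mem_Ico.mp hm).1
    exact Ideal.pow_le_pow_right hm' (hc m t)
  choose L hL using fun t =>
    IsPrecomplete.prec ‹IsPrecomplete I R› (f := fun N => s t N) (hcauchy t)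
  have hfinal : y - ∑ t, L t • x t = 0 := by
    refine IsHausdorff.haus ‹IsHausdorff I M› _ fun N => ?_
    rw [SModEq.sub_mem, sub_zero]
    have e : y - ∑ t, L t • x t = ys N + ∑ t, (s t N - L t) • x t := by
      rw [hys]
      simp only [sub_smul, Finset.sum_sub_distrib]
      abel
    rw [e]
    refine Submodule.add_mem _ (hinv N) (Submodule.sum_mem _ fun t _ => ?_)
    have := hL t N
    rw [SModEq.sub_mem, smul_eq_mul, Ideal.mul_top] at this
    exact Submodule.smul_mem_smul this Submodule.mem_top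
  rw [sub_eq_zero] at hfinal
  rw [hfinal]
  exact Submodule.sum_mem _ fun t _ => Submodule.smul_mem _ _ (Submodule.subset_span ⟨t, rfl⟩)

theorem main [IsPrecomplete I R] [IsHausdorff I M]
    (h : Module.Finite R (M ⧸ (I • ⊤ : Submodule R M))) : Module.Finite R M := by
  classical
  obtain ⟨n, s, hs⟩ := Module.Finite.exists_fin (R := R) (M := M ⧸ (I • ⊤ : Submodule R M))
  choose x hx using fun t => Submodule.mkQ_surjective _ (s t)
  have h0 : ∀ y : M, ∃ c : Fin n → R, y - ∑ t, c t • x t ∈ (I • ⊤ : Submodule R M) := by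
    intro y
    have : Submodule.mkQ (I • ⊤ : Submodule R M) y ∈ Submodule.span R (Set.range s) :=
      hs ▸ Submodule.mem_top
    obtain ⟨c, hc⟩ := (Submodule.mem_span_range_iff_exists_fun R).mp this
    refine ⟨c, ?_⟩
    rw [← Submodule.Quotient.mk_eq_zero, Submodule.Quotient.mk_sub, sub_eq_zero]
    rw [← Submodule.mkQ_apply, ← hc, ← Submodule.mkQ_apply, map_sum]
    simp only [map_smul, hx]
  have hstep : ∀ (m : ℕ) (y : M), y ∈ (I ^ m • ⊤ : Submodule R M) →
      ∃ c : Fin n → R, (∀ t, c t ∈ I ^ m) ∧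
        y - ∑ t, c t • x t ∈ (I ^ (m + 1) • ⊤ : Submodule R M) := by
    intro m y hy
    refine Submodule.smul_induction_on hy ?_ ?_
    · intro a ha z _
      obtain ⟨c, hc⟩ := h0 z
      refine ⟨fun t => a * c t, fun t => Ideal.mul_mem_right _ _ ha, ?_⟩
      have : a • z - ∑ t, (a * c t) • x t = a • (z - ∑ t, c t • x t) := by
        rw [smul_sub, Finset.smul_sum]
        simp only [mul_smul]
      rw [this, pow_succ, Submodule.mul_smul]
      exact Submodule.smul_mem_smul ha hc
    · rintro y z ⟨c, hc1, hc2⟩ ⟨c', hc1', hc2'⟩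
      refine ⟨c + c', fun t => Ideal.add_mem _ (hc1 t) (hc1' t), ?_⟩
      have : y + z - ∑ t, (c + c') t • x t =
          (y - ∑ t, c t • x t) + (z - ∑ t, c' t • x t) := by
        simp only [Pi.add_apply, add_smul, Finset.sum_add_distrib]
        abel
      rw [this]
      exact Submodule.add_mem _ hc2 hc2'
  have htop : Submodule.span R (Set.range x) = ⊤ :=
    eq_top_iff.mpr fun y _ => mem_span_of_forall_approx I x hstep y
  exact Module.finite_def.mpr (htop ▸ Submodule.fg_span (Set.finite_range x))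

end Groth.Agent.H19.ComplFinite
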