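import Mathlib.RingTheory.AdicCompletion.Basic
import Mathlib.RingTheory.Noetherian.Basic
import Groth.Agent.H20.ComplNoeth

namespace Groth.Agent.H19.ComplSq

open Groth.Agent.H20.ComplNoeth

variable {A : Type*} [CommRing A]

/-- Lifting generators of the image ideal along a surjection. -/
lemma exists_lift_of_map_fg {B : Type*} [CommRing B] (φ : A →+* B)
    (hφ : Function.Surjective φ) (I : Ideal A) (hfg : (I.map φ).FG) :
    ∃ (r : ℕ) (f : Fin r → A), (∀ t, f t ∈ I) ∧ I ≤ Ideal.span (Set.range f) ⊔ RingHom.ker φ := by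
  classical
  obtain ⟨r, g, hg⟩ := Submodule.fg_iff_exists_fin_generating_family.mp hfg
  have hlift : ∀ t : Fin r, ∃ a ∈ I, φ a = g t := by
    intro t
    have hb : g t ∈ I.map φ := by
      rw [← hg]
      exact Submodule.subset_span ⟨t, rfl⟩
    exact (Ideal.mem_map_iff_of_surjective φ hφ).mp hb
  choose f hfI hfφ using hlift
  refine ⟨r, f, hfI, ?_⟩
  have hFmap : (Ideal.span (Set.range f)).map φ = I.map φ := by
    rw [Ideal.map_span, ← hg]
    congr 1
    ext b
    constructor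
    · rintro ⟨_, ⟨t, rfl⟩, rfl⟩
      exact ⟨t, (hfφ t).symm⟩
    · rintro ⟨t, rfl⟩
      exact ⟨f t, ⟨t, rfl⟩, hfφ t⟩
  calc I ≤ (I.map φ).comap φ := Ideal.le_comap_map
    _ = ((Ideal.span (Set.range f)).map φ).comap φ := by rw [hFmap]
    _ = Ideal.span (Set.range f) ⊔ (⊥ : Ideal B).comap φ :=
        Ideal.comap_map_of_surjective φ hφ _
    _ = Ideal.span (Set.range f) ⊔ RingHom.ker φ := rfl

/-- In a `J`-adically complete ring, `J` is finitely generated as soon as `J/J²` is. -/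
lemma fg_of_le_span_sup_sq (J : Ideal A) [IsHausdorff J A] [IsPrecomplete J A] {r : ℕ}
    (f : Fin r → A) (hfJ : ∀ t, f t ∈ J) (hJ : J ≤ Ideal.span (Set.range f) ⊔ J ^ 2) :
    J = Ideal.span (Set.range f) := by
  refine le_antisymm ?_ (Ideal.span_le.mpr (by rintro _ ⟨t, rfl⟩; exact hfJ t))
  intro x hx
  refine mem_span_of_forall_approx J J (fun _ => 1) f hfJ ?_ x hx
  intro m y hyJ hym
  cases m with
  | zero =>
    refine ⟨fun _ => 0, fun t => Ideal.zero_mem _, ?_⟩
    simpa using hyJ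
  | succ k =>
    have h1 : J ^ (k + 1) ≤ J ^ k * Ideal.span (Set.range f) ⊔ J ^ (k + 2) := by
      calc J ^ (k + 1) = J ^ k * J := pow_succ J k
        _ ≤ J ^ k * (Ideal.span (Set.range f) ⊔ J ^ 2) := Ideal.mul_mono_right hJ
        _ = J ^ k * Ideal.span (Set.range f) ⊔ J ^ k * J ^ 2 := Ideal.mul_sup _ _ _
        _ = J ^ k * Ideal.span (Set.range f) ⊔ J ^ (k + 2) := by rw [← pow_add]
    obtain ⟨u, hu, v, hv, rfl⟩ := Submodule.mem_sup.mp (h1 hym)
    have hu' : u ∈ J ^ k • Submodule.span A (Set.range f) := hu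
    obtain ⟨a, ha, rfl⟩ := (Submodule.mem_ideal_smul_span_iff_exists_sum _ f u).mp hu'
    refine ⟨fun t => a t, fun t => ?_, ?_⟩
    · simpa using ha t
    · have e : (a.sum fun i c => c • f i) = ∑ t, a t * f t := by
        rw [Finsupp.sum_fintype _ _ (fun i => by simp)]
        rfl
      rw [e, add_sub_cancel_left]
      exact hv

theorem isNoetherianRing_of_sq (J : Ideal A) [IsAdicComplete J A]
    [IsNoetherianRing (A ⧸ J ^ 2)] : IsNoetherianRing A := by
  have hfg : (J.map (Ideal.Quotient.mk (J ^ 2))).FG := IsNoetherian.noetherian _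
  obtain ⟨r, f, hfJ, hJ⟩ := exists_lift_of_map_fg (Ideal.Quotient.mk (J ^ 2))
    Ideal.Quotient.mk_surjective J hfg
  rw [Ideal.mk_ker] at hJ
  have hJeq := fg_of_le_span_sup_sq J f hfJ hJ
  have hJfg : J.FG := by
    classical
    rw [hJeq]
    exact ⟨Finset.univ.image f, by rw [Finset.coe_image, Finset.coe_univ, Set.image_univ]⟩
  have hle : J ^ 2 ≤ J := Ideal.pow_le_self (by norm_num)
  have : IsNoetherianRing (A ⧸ J) :=
    isNoetherianRing_of_surjective (A ⧸ J ^ 2) (A ⧸ J) (Ideal.Quotient.factor hle)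
      (Ideal.Quotient.factor_surjective hle)
  exact isNoetherianRing_of_isAdicComplete J hJfg

end Groth.Agent.H19.ComplSq
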