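import Mathlib
import Groth.Prelude.Def_CohTop
import Groth.Agent.H69.CS.Const

/-!
# Sections of a constant abelian sheaf on an irreducible space (H19)
-/

open CategoryTheory TopologicalSpace Opposite CategoryTheory.Limits
open Groth.Agent.H69.CS

namespace Groth.Agent.H19.ConstIrr

universe u

variable {X : TopCat.{u}}

lemma bot_mem_iff (V : Opens X) :
    (⊥ : Sieve V) ∈ Opens.grothendieckTopology X V ↔ V = ⊥ := by
  constructor
  · intro h
    ext x
    simp only [Opens.coe_bot, Set.mem_empty_iff_false, iff_false]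
    intro hx
    obtain ⟨W, f, hf, -⟩ := h x hx
    exact hf
  · rintro rfl x hx
    exact hx.elim

variable (M : AddCommGrpCat.{u})

lemma eta_injective {V : Opens X} (hV : V ≠ ⊥) :
    Function.Injective (eta (Opens.grothendieckTopology X) M V) := by
  intro m m' h
  rcases eta_injective_or M m m' h with h' | h'
  · exact h'
  · exact (hV ((bot_mem_iff V).mp h')).elim

lemma sec_subsingleton_bot (F : Sheaf (Opens.grothendieckTopology X) AddCommGrpCat.{u})
    {V : Opens X} (hV : V = ⊥) (s t : Sec F V) : s = t :=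
  sec_subsingleton_of_bot_mem F ((bot_mem_iff V).mpr hV) s t

lemma inter_ne_bot [IrreducibleSpace X] {V W : Opens X} (hV : V ≠ ⊥) (hW : W ≠ ⊥) :
    V ⊓ W ≠ ⊥ := by
  have hV' : (V : Set X).Nonempty := by
    rw [Set.nonempty_iff_ne_empty]
    intro h
    exact hV (Opens.ext h)
  have hW' : (W : Set X).Nonempty := by
    rw [Set.nonempty_iff_ne_empty]
    intro h
    exact hW (Opens.ext h)
  obtain ⟨x, hx⟩ := nonempty_preirreducible_inter V.isOpen W.isOpen hV' hW'
  intro h
  have : x ∈ (V ⊓ W : Opens X) := hx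
  rw [h] at this
  exact this

lemma eta_surjective [IrreducibleSpace X] {V : Opens X} (hV : V ≠ ⊥) :
    Function.Surjective (eta (Opens.grothendieckTopology X) M V) := by
  intro s
  obtain ⟨R, hR, hRs⟩ := eta_locally_surjective M s
  have hV' : (V : Set X).Nonempty := by
    rw [Set.nonempty_iff_ne_empty]
    intro h
    exact hV (Opens.ext h)
  obtain ⟨x, hx⟩ := hV'
  obtain ⟨W₀, g₀, hg₀, hxW₀⟩ := hR x hx
  obtain ⟨m₀, hm₀⟩ := hRs g₀ hg₀
  refine ⟨m₀, ?_⟩
  have hW₀ : W₀ ≠ ⊥ := by
    rintro rfl
    exact hxW₀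
  apply sec_ext _ R hR
  intro W g hg
  rw [res_eta]
  obtain ⟨m, hm⟩ := hRs g hg
  rw [← hm]
  by_cases hW : W = ⊥
  · exact sec_subsingleton_bot _ hW _ _
  · have hne := inter_ne_bot hW hW₀
    have e1 : res (cst (Opens.grothendieckTopology X) M)
          (homOfLE (inf_le_left : W ⊓ W₀ ≤ W)) (eta (Opens.grothendieckTopology X) M W m) =
        res (cst (Opens.grothendieckTopology X) M)
          (homOfLE (inf_le_right : W ⊓ W₀ ≤ W₀)) (eta (Opens.grothendieckTopology X) M W₀ m₀) := by
      rw [hm, hm₀, res_res, res_res]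
      rfl
    rw [res_eta, res_eta] at e1
    rw [eta_injective M hne e1]

/-- For a nonempty open `V` of an irreducible space, `M ≃ (constant sheaf M)(V)`. -/
noncomputable def etaEquiv [IrreducibleSpace X] {V : Opens X} (hV : V ≠ ⊥) :
    ↑M ≃+ Sec (cst (Opens.grothendieckTopology X) M) V :=
  AddEquiv.ofBijective (eta (Opens.grothendieckTopology X) M V)
    ⟨eta_injective M hV, eta_surjective M hV⟩

end Groth.Agent.H19.ConstIrr
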