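import Mathlib

/-!
# Sections of constant abelian sheaves are exact in the coefficient group (H19)
-/

namespace Groth.Agent.H19.ConstSections

open CategoryTheory CategoryTheory.Limits Opposite

universe u

variable {C : Type u} [SmallCategory C] (J : GrothendieckTopology C)

/-- A surjective homomorphism of abelian groups induces a surjection on the sections of the
constant sheaves: it has a set-theoretic section, to which the constant sheaf functor on sets
applies. -/
theorem surjective_of_surjective {A B : AddCommGrpCat.{u}} (g : A ⟶ B)
    (hg : Function.Surjective g) (U : C) :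
    Function.Surjective (((constantSheaf J AddCommGrpCat.{u}).map g).hom.app (op U)) := by
  obtain ⟨σ, hσ⟩ := hg.hasRightInverse
  let e := constantCommuteCompose J (forget AddCommGrpCat.{u})
  let s : (forget AddCommGrpCat.{u}).obj B ⟶ (forget AddCommGrpCat.{u}).obj A := ↾σ
  have hs : s ≫ (forget AddCommGrpCat.{u}).map g = 𝟙 _ := by
    ext b
    exact hσ b
  let cT := constantSheaf J (Type u)
  have hs' : cT.map s ≫ cT.map ((forget AddCommGrpCat.{u}).map g) = 𝟙 _ := by
    rw [← cT.map_comp, hs, cT.map_id]
  have hnat := e.hom.naturality g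
  let t := e.hom.app B ≫ cT.map s ≫ e.inv.app A
  have h1 : (constantSheaf J AddCommGrpCat.{u} ⋙
      sheafCompose J (forget AddCommGrpCat.{u})).map g =
      (e.hom.app A ≫ cT.map ((forget AddCommGrpCat.{u}).map g)) ≫ e.inv.app B :=
    (Iso.eq_comp_inv (e.app B)).mpr hnat
  have ht : t ≫ (constantSheaf J AddCommGrpCat.{u} ⋙
      sheafCompose J (forget AddCommGrpCat.{u})).map g = 𝟙 _ := by
    rw [h1]
    simp only [t, Category.assoc, Iso.inv_hom_id_app_assoc]
    rw [reassoc_of% hs']
    exact Iso.hom_inv_id_app e B
  -- evaluate at `U`
  have ht' : t.hom.app (op U) ≫ (forget AddCommGrpCat.{u}).map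
      (((constantSheaf J AddCommGrpCat.{u}).map g).hom.app (op U)) = 𝟙 _ := by
    have := congrArg (fun φ => φ.hom.app (op U)) ht
    exact this
  intro b
  refine ⟨t.hom.app (op U) b, ?_⟩
  exact congrArg (fun φ => φ b) ht'

/-- The functor of sections over `U` of the constant sheaf. -/
noncomputable abbrev secFunctor (U : C) : AddCommGrpCat.{u} ⥤ AddCommGrpCat.{u} :=
  constantSheaf J AddCommGrpCat.{u} ⋙ (sheafSections J AddCommGrpCat.{u}).obj (op U)

instance (U : C) : PreservesFiniteLimits (secFunctor J U) := by
  have h1 : PreservesFiniteLimits (constantSheaf J AddCommGrpCat.{u}) := by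
    unfold constantSheaf
    infer_instance
  have h2 : PreservesFiniteLimits ((sheafSections J AddCommGrpCat.{u}).obj (op U)) :=
    preservesFiniteLimits_of_natIso
      (sheafSectionsNatIsoEvaluation (J := J) (A := AddCommGrpCat.{u}) (X := U)).symm
  exact comp_preservesFiniteLimits _ _

/-- S9097. -/
theorem shortExact (S : ShortComplex AddCommGrpCat.{u}) (hS : S.ShortExact) (U : C)
    [(secFunctor J U).PreservesZeroMorphisms] :
    (S.map (secFunctor J U)).ShortExact := by
  have hex : (S.map (secFunctor J U)).Exact :=
    hS.exact.map_of_mono_of_preservesKernel (secFunctor J U) hS.mono_f inferInstance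
  have hmono : Mono ((secFunctor J U).map S.f) := by
    have := hS.mono_f
    infer_instance
  have hepi : Epi ((secFunctor J U).map S.g) := by
    rw [AddCommGrpCat.epi_iff_surjective]
    exact surjective_of_surjective J S.g ((AddCommGrpCat.epi_iff_surjective _).mp hS.epi_g) U
  exact { exact := hex, mono_f := hmono, epi_g := hepi }

end Groth.Agent.H19.ConstSections
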