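import Mathlib
import Groth.Agent.Lead.RegularLocal2
import Groth.Agent.H19.QuasiRegInter
import Groth.Agent.H19.QuasiRegCot

/-!
# Additivity of the embedding dimension for a flat local homomorphism with regular closed fibre
-/

set_option autoImplicit false
set_option linter.unusedSectionVars false
set_option linter.style.haveILetI false

namespace Groth.Agent.H19.CotAdd

open IsLocalRing

universe u

section gens

variable (R : Type u) [CommRing R] [IsLocalRing R] [IsNoetherianRing R]

/-- minimal generators of the maximal ideal, independent modulo `m²` -/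
theorem exists_gens (e : ℕ) (he : Module.finrank (ResidueField R) (CotangentSpace R) = e) :
    ∃ y : Fin e → R,
      Ideal.span (Set.range y) = maximalIdeal R ∧
      ∀ c : Fin e → R,
        ∑ j, c j * y j ∈ maximalIdeal R ^ 2 → ∀ j, c j ∈ maximalIdeal R := by
  classical
  subst he
  let b : Module.Basis (Fin (Module.finrank (ResidueField R) (CotangentSpace R)))
      (ResidueField R) (CotangentSpace R) := Module.finBasis _ _
  choose f hf using fun j => (maximalIdeal R).toCotangent_surjective (b j)
  refine ⟨fun j => (f j : R), ?_, ?_⟩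
  · refine QRegCot.span_eq_of_span_cotangent (maximalIdeal R) le_rfl
      (maximalIdeal R).fg_of_isNoetherianRing f ?_
    have : (fun i => (maximalIdeal R).toCotangent (f i)) = b := funext hf
    rw [this]
    exact b.span_eq
  · intro c hc j
    have h2 : (maximalIdeal R).toCotangent (∑ i, c i • f i) = 0 := by
      rw [Ideal.toCotangent_eq_zero, QRegCot.coe_sum_smul]
      exact hc
    rw [← QRegCot.sum_mk_smul_toCotangent] at h2
    simp only [hf] at h2
    have h3 := b.linearIndependent
    rw [Fintype.linearIndependent_iff] at h3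
    have h4 := h3 (fun i => Ideal.Quotient.mk (maximalIdeal R) (c i)) h2 j
    exact Ideal.Quotient.eq_zero_iff_mem.mp h4

end gens


section main

variable (A B : Type u) [CommRing A] [CommRing B] [IsLocalRing A] [IsNoetherianRing A]
  [IsLocalRing B] [IsNoetherianRing B] [Algebra A B] [IsLocalHom (algebraMap A B)]

/-- the extended ideal -/
abbrev K : Ideal B := Ideal.map (algebraMap A B) (maximalIdeal A)

theorem K_le : K A B ≤ maximalIdeal B := by
  have h : IsLocalHom (algebraMap A B) := inferInstance
  exact ((IsLocalRing.local_hom_TFAE (algebraMap A B)).out 0 2).mp h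

theorem mem_of_sum_mem [Module.Flat A B] {e : ℕ} (a : Fin e → A)
    (ha_span : Ideal.span (Set.range a) = maximalIdeal A)
    (ha_ind : ∀ c : Fin e → A, ∑ j, c j * a j ∈ maximalIdeal A ^ 2 → ∀ j, c j ∈ maximalIdeal A)
    (c : Fin e → B) (hc : ∑ j, c j * algebraMap A B (a j) ∈ K A B * maximalIdeal B) :
    ∀ j, c j ∈ maximalIdeal B := by
  have hK : K A B = Ideal.span (Set.range fun j => algebraMap A B (a j)) := by
    unfold K
    rw [← ha_span, Ideal.map_span, ← Set.range_comp]
    rfl
  rw [mul_comm, hK, ← smul_eq_mul, Ideal.span, Submodule.mem_ideal_smul_span_iff_exists_sum] at hc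
  obtain ⟨μ, hμ, hsum⟩ := hc
  rw [Finsupp.sum_fintype _ _ (fun i => by simp)] at hsum
  have hrel : ∑ j, a j • (c j - μ j) = 0 := by
    have : ∀ j, a j • (c j - μ j) = c j * algebraMap A B (a j) - μ j • algebraMap A B (a j) := by
      intro j
      rw [Algebra.smul_def, smul_eq_mul]
      ring
    simp only [this, Finset.sum_sub_distrib, hsum, sub_self]
  obtain ⟨k, α, y, hxy, hrel'⟩ := Module.Flat.isTrivialRelation_of_sum_smul_eq_zero (R := A) (M := B) hrel
  have hα : ∀ j l, α j l ∈ maximalIdeal A := by
    intro j l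
    refine ha_ind (fun j => α j l) ?_ j
    have := hrel' l
    simp only [mul_comm (a _)] at this
    rw [this]
    exact zero_mem _
  intro j
  have h1 : c j - μ j ∈ maximalIdeal B := by
    have hj := hxy j
    simp only at hj
    rw [hj]
    refine Ideal.sum_mem _ fun l _ => ?_
    rw [Algebra.smul_def]
    exact Ideal.mul_mem_right _ _ (K_le A B (Ideal.mem_map_of_mem _ (hα j l)))
  have : c j = (c j - μ j) + μ j := by ring
  rw [this]
  exact Ideal.add_mem _ h1 (hμ j)

theorem inter_sq_le {d : ℕ} (x : Fin d → B)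
    (hreg : RingTheory.Sequence.IsWeaklyRegular (B ⧸ K A B) (List.ofFn x))
    (hm : maximalIdeal B = Ideal.span (Set.range x) ⊔ K A B) :
    K A B ⊓ maximalIdeal B ^ 2 ≤ K A B * maximalIdeal B := by
  set X := Ideal.span (Set.range x) with hX
  have hXm : X ≤ maximalIdeal B := by rw [hm]; exact le_sup_left
  have hKm : K A B ≤ maximalIdeal B := K_le A B
  have hsq : maximalIdeal B ^ 2 ≤ X ^ 2 ⊔ K A B * maximalIdeal B := by
    have : maximalIdeal B ^ 2 = (X ⊔ K A B) * maximalIdeal B := by rw [pow_two, ← hm]
    rw [this, Ideal.sup_mul]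
    refine sup_le ?_ le_sup_right
    nth_rw 1 [hm]
    rw [Ideal.mul_sup, pow_two]
    refine sup_le le_sup_left (le_trans ?_ le_sup_right)
    rw [mul_comm]
    exact Ideal.mul_mono_right hXm
  intro z hz
  obtain ⟨hzK, hzm⟩ := Submodule.mem_inf.mp hz
  obtain ⟨q, hq, w, hw, hqw⟩ := Submodule.mem_sup.mp (hsq hzm)
  have hwK : w ∈ K A B := Ideal.mul_le_left hw
  have hqK : q ∈ K A B := by
    have : q = z - w := by rw [← hqw]; ring
    rw [this]
    exact Ideal.sub_mem _ hzK hwK
  -- for every `N`, `z ∈ K m + m ^ N`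
  have hN : ∀ N : ℕ, z ∈ K A B * maximalIdeal B ⊔ maximalIdeal B ^ N := by
    intro N
    rcases Nat.lt_or_ge N 2 with hN2 | hN2
    · refine Submodule.mem_sup_right ?_
      exact Ideal.pow_le_pow_right (by omega) hzm
    · have h1 := QReg.inter_pow_eq (K A B) x hreg 2 N hN2
      have h2 : q ∈ K A B ⊓ X ^ 2 := Submodule.mem_inf.mpr ⟨hqK, hq⟩
      rw [h1] at h2
      obtain ⟨q1, hq1, q2, hq2, hq12⟩ := Submodule.mem_sup.mp h2
      have hq1' : q1 ∈ K A B * maximalIdeal B := by
        refine Ideal.mul_mono_right ?_ hq1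
        exact le_trans (Ideal.pow_le_self (by norm_num)) hXm
      have hq2' : q2 ∈ maximalIdeal B ^ N :=
        Ideal.pow_right_mono hXm N (Submodule.mem_inf.mp hq2).2
      have : z = (q1 + w) + q2 := by rw [← hqw, ← hq12]; ring
      rw [this]
      exact Submodule.mem_sup.mpr ⟨q1 + w, Ideal.add_mem _ hq1' hw, q2, hq2', rfl⟩
  -- Krull intersection theorem
  have hkrull := Ideal.iInf_pow_smul_eq_bot_of_isLocalRing (R := B)
    (M := B ⧸ (K A B * maximalIdeal B)) (maximalIdeal B) Ideal.IsPrime.ne_top'
  have hz0 : (Ideal.Quotient.mk (K A B * maximalIdeal B) z) ∈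
      (⨅ i : ℕ, maximalIdeal B ^ i • (⊤ : Submodule B (B ⧸ (K A B * maximalIdeal B)))) := by
    rw [Submodule.mem_iInf]
    intro N
    obtain ⟨u, hu, v, hv, huv⟩ := Submodule.mem_sup.mp (hN N)
    have : Ideal.Quotient.mk (K A B * maximalIdeal B) z =
        v • (Ideal.Quotient.mk (K A B * maximalIdeal B) 1) := by
      rw [← huv, map_add, Ideal.Quotient.eq_zero_iff_mem.mpr hu, zero_add]
      change _ = Ideal.Quotient.mk _ (v • 1)
      rw [smul_eq_mul, mul_one]
    rw [this]
    exact Submodule.smul_mem_smul hv Submodule.mem_top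
  rw [hkrull, Submodule.mem_bot] at hz0
  exact Ideal.Quotient.eq_zero_iff_mem.mp hz0


theorem sum_mk_smul_toCotangent' {R : Type u} [CommRing R] (I : Ideal R) {ι : Type*} [Fintype ι]
    (a : ι → R) (f : ι → I) :
    ∑ i, (Ideal.Quotient.mk I (a i)) • I.toCotangent (f i) = I.toCotangent (∑ i, a i • f i) := by
  rw [map_sum]
  exact Finset.sum_congr rfl fun i _ => QRegCot.mk_smul_toCotangent I (a i) (f i)

theorem main [Module.Flat A B] [IsRegularLocalRing (B ⧸ K A B)] :
    Module.finrank (ResidueField B) (CotangentSpace B) =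
      Module.finrank (ResidueField (B ⧸ K A B)) (CotangentSpace (B ⧸ K A B)) +
        Module.finrank (ResidueField A) (CotangentSpace A) := by
  classical
  set d := Module.finrank (ResidueField (B ⧸ K A B)) (CotangentSpace (B ⧸ K A B)) with hd
  set e := Module.finrank (ResidueField A) (CotangentSpace A) with he
  obtain ⟨a, ha_span, ha_ind⟩ := exists_gens A e he.symm
  obtain ⟨xb, hxb_span, hxb_ind⟩ := exists_gens (B ⧸ K A B) d hd.symm
  choose x hx using fun i => Ideal.Quotient.mk_surjective (xb i)
  have hmap : (maximalIdeal B).map (Ideal.Quotient.mk (K A B)) = maximalIdeal (B ⧸ K A B) :=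
    map_maximalIdeal_of_surjective (Ideal.Quotient.mk (K A B)) Ideal.Quotient.mk_surjective
  have hKm := K_le A B
  have hcomap : ∀ b : B, Ideal.Quotient.mk (K A B) b ∈ maximalIdeal (B ⧸ K A B) ↔
      b ∈ maximalIdeal B := by
    intro b
    rw [← hmap, Ideal.mem_map_iff_of_surjective _ Ideal.Quotient.mk_surjective]
    constructor
    · rintro ⟨b', hb', hbb'⟩
      have h1 : b - b' ∈ K A B := by
        rw [← Ideal.Quotient.eq_zero_iff_mem, map_sub, hbb', sub_self]
      have : b = b' + (b - b') := by ring
      rw [this]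
      exact Ideal.add_mem _ hb' (hKm h1)
    · intro hb
      exact ⟨b, hb, rfl⟩
  have haK : ∀ j, algebraMap A B (a j) ∈ K A B := fun j =>
    Ideal.mem_map_of_mem _ (by rw [← ha_span]; exact Ideal.subset_span ⟨j, rfl⟩)
  have hspan : Ideal.span (Set.range xb) =
      (Ideal.span (Set.range x)).map (Ideal.Quotient.mk (K A B)) := by
    rw [Ideal.map_span, ← Set.range_comp]
    congr 2
    funext i
    exact (hx i).symm
  have hm : maximalIdeal B = Ideal.span (Set.range x) ⊔ K A B := by
    apply le_antisymm
    · intro b hb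
      have h1 : Ideal.Quotient.mk (K A B) b ∈ Ideal.span (Set.range xb) := by
        rw [hxb_span]
        exact (hcomap b).mpr hb
      rw [hspan, Ideal.mem_map_iff_of_surjective _ Ideal.Quotient.mk_surjective] at h1
      obtain ⟨b', hb', hbb'⟩ := h1
      have h2 : b - b' ∈ K A B := by
        rw [← Ideal.Quotient.eq_zero_iff_mem, map_sub, hbb', sub_self]
      have : b = b' + (b - b') := by ring
      rw [this]
      exact Ideal.add_mem _ (Ideal.mem_sup_left hb') (Ideal.mem_sup_right h2)
    · refine sup_le (Ideal.span_le.mpr ?_) hKm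
      rintro _ ⟨i, rfl⟩
      rw [SetLike.mem_coe, ← hcomap, hx i, ← hxb_span]
      exact Ideal.subset_span ⟨i, rfl⟩
  have hx_mem : ∀ i, x i ∈ maximalIdeal B := fun i => by
    rw [hm]
    exact Ideal.mem_sup_left (Ideal.subset_span ⟨i, rfl⟩)
  have hdim : ringKrullDim (B ⧸ K A B) = d := by
    rw [← IsRegularLocalRing.spanFinrank_maximalIdeal,
      spanFinrank_maximalIdeal_eq_finrank_cotangentSpace]
  have hreg0 := Lead.RLR.isRegular_ofFn (B ⧸ K A B) d hdim xb hxb_span
  have hreg : RingTheory.Sequence.IsWeaklyRegular (B ⧸ K A B) (List.ofFn x) := by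
    rw [← RingTheory.Sequence.isWeaklyRegular_map_algebraMap_iff (B ⧸ K A B) (B ⧸ K A B)
      (List.ofFn x), List.map_ofFn]
    have : (algebraMap B (B ⧸ K A B)) ∘ x = xb := funext hx
    rw [this]
    exact hreg0.toIsWeaklyRegular
  have hinter := inter_sq_le A B x hreg hm
  have hind : ∀ (b : Fin d → B) (c : Fin e → B),
      ∑ i, b i * x i + ∑ j, c j * algebraMap A B (a j) ∈ maximalIdeal B ^ 2 →
      (∀ i, b i ∈ maximalIdeal B) ∧ ∀ j, c j ∈ maximalIdeal B := by
    intro b c h
    have hb : ∀ i, b i ∈ maximalIdeal B := by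
      intro i
      rw [← hcomap]
      refine hxb_ind (fun i => Ideal.Quotient.mk (K A B) (b i)) ?_ i
      have h1 : Ideal.Quotient.mk (K A B) (∑ i, b i * x i + ∑ j, c j * algebraMap A B (a j)) =
          ∑ i, Ideal.Quotient.mk (K A B) (b i) * xb i := by
        rw [map_add, map_sum, map_sum]
        have : ∑ j, Ideal.Quotient.mk (K A B) (c j * algebraMap A B (a j)) = 0 :=
          Finset.sum_eq_zero fun j _ => by
            rw [Ideal.Quotient.eq_zero_iff_mem]
            exact Ideal.mul_mem_left _ _ (haK j)
        rw [this, add_zero]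
        refine Finset.sum_congr rfl fun i _ => ?_
        rw [map_mul, hx i]
      rw [← h1, ← hmap, ← Ideal.map_pow]
      exact Ideal.mem_map_of_mem _ h
    refine ⟨hb, ?_⟩
    have h2 : ∑ i, b i * x i ∈ maximalIdeal B ^ 2 := Ideal.sum_mem _ fun i _ => by
      rw [pow_two]
      exact Ideal.mul_mem_mul (hb i) (hx_mem i)
    have h3 : ∑ j, c j * algebraMap A B (a j) ∈ maximalIdeal B ^ 2 := by
      have := Ideal.sub_mem _ h h2
      rwa [add_sub_cancel_left] at this
    have h4 : ∑ j, c j * algebraMap A B (a j) ∈ K A B :=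
      Ideal.sum_mem _ fun j _ => Ideal.mul_mem_left _ _ (haK j)
    exact mem_of_sum_mem A B a ha_span ha_ind c (hinter ⟨h4, h3⟩)
  -- the combined family
  let v : Fin d ⊕ Fin e → maximalIdeal B :=
    Sum.elim (fun i => ⟨x i, hx_mem i⟩) (fun j => ⟨algebraMap A B (a j), hKm (haK j)⟩)
  have hli : LinearIndependent (ResidueField B) (fun s => (maximalIdeal B).toCotangent (v s)) := by
    rw [Fintype.linearIndependent_iff]
    intro g hg s
    choose gl hgl using fun s => Ideal.Quotient.mk_surjective (I := maximalIdeal B) (g s)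
    have hg' : ∑ s, (Ideal.Quotient.mk (maximalIdeal B) (gl s)) •
        (maximalIdeal B).toCotangent (v s) = 0 := by
      simp only [hgl]
      exact hg
    rw [sum_mk_smul_toCotangent', Ideal.toCotangent_eq_zero] at hg'
    have hcoe : ((∑ s, gl s • v s : maximalIdeal B) : B) =
        ∑ i, gl (Sum.inl i) * x i + ∑ j, gl (Sum.inr j) * algebraMap A B (a j) := by
      rw [Submodule.coe_sum, Fintype.sum_sum_type]
      rfl
    rw [hcoe] at hg'
    obtain ⟨h1, h2⟩ := hind (fun i => gl (Sum.inl i)) (fun j => gl (Sum.inr j)) hg'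
    rw [← hgl s]
    refine (Ideal.Quotient.eq_zero_iff_mem (I := maximalIdeal B)).mpr ?_
    rcases s with i | j
    · exact h1 i
    · exact h2 j
  have hge : d + e ≤ Module.finrank (ResidueField B) (CotangentSpace B) := by
    have := hli.fintype_card_le_finrank
    simpa using this
  have hle : Module.finrank (ResidueField B) (CotangentSpace B) ≤ d + e := by
    rw [← spanFinrank_maximalIdeal_eq_finrank_cotangentSpace]
    have hsp : maximalIdeal B = Ideal.span (Set.range fun s => ((v s : maximalIdeal B) : B)) := by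
      refine hm.trans ?_
      have hK : K A B = Ideal.span (Set.range fun j => algebraMap A B (a j)) := by
        unfold K
        rw [← ha_span, Ideal.map_span, ← Set.range_comp]
        rfl
      rw [hK, ← Ideal.span_union]
      congr 1
      ext b
      simp only [Set.mem_union, Set.mem_range, Sum.exists, v, Sum.elim_inl, Sum.elim_inr]
    rw [congrArg Submodule.spanFinrank hsp]
    have hfin : (Set.range fun s => ((v s : maximalIdeal B) : B)).Finite := Set.finite_range _
    refine le_trans (Submodule.spanFinrank_span_le_ncard_of_finite hfin) ?_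
    rw [← Set.image_univ]
    refine le_trans (Set.ncard_image_le Set.finite_univ) ?_
    rw [Set.ncard_univ, Nat.card_eq_fintype_card]
    simp
  omega

end main

end Groth.Agent.H19.CotAdd
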