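import Groth.Agent.H92.LocFreeRank
import Groth.Agent.H67.SumSections
import Groth.Prelude.Def_FinCov

/-!
# The algebra `O ⊕ L` attached to a pairing on an invertible module is locally free of rank two
(helper19)
-/

set_option autoImplicit false
set_option linter.style.haveILetI false
universe u
open CategoryTheory CategoryTheory.Limits AlgebraicGeometry TopologicalSpace Opposite

namespace Groth.Agent.H19.DblAlg

open Groth.Agent.H18 Groth.Agent.H18.PUP Groth.Agent.H18.STL Groth.Agent.H67.BasisLocal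
  Groth.Agent.H92.LocFreeRank

variable {X : Scheme.{u}} {L : X.Modules} {m : CohB1.tensorMod L L ⟶ Coh.structureModule X}
  {A : RelSpec.QCAlg X} {j : L ⟶ A.toModule}

/-- the unit section of the algebra, as a section of the underlying module -/
noncomputable def oneA (A : RelSpec.QCAlg X) (V : X.Opens) : Γ(A.toModule, V) :=
  (1 : A.presheaf.obj (op V))

theorem str_eq_smul_oneA (V : X.Opens) (s : Γ(X, V)) :
    ((A.str.app (op V)).hom s : Γ(A.toModule, V)) = s • oneA A V :=
  (mul_one ((A.str.app (op V)).hom s)).symm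

theorem mres_oneA {V V' : X.Opens} (h : V' ≤ V) : mres A.toModule h (oneA A V) = oneA A V' :=
  map_one (A.presheaf.map (homOfLE h).op).hom

theorem bijective_pair (h : FinCov.IsDblAlg L m A j) {U : X.Opens} {e : Γ(L, U)}
    (he : IsBasisOn L U e) (V : X.Opens) (hV : V ≤ U) :
    Function.Bijective (fun p : Γ(X, V) × Γ(X, V) =>
      p.1 • oneA A V + p.2 • j.app V (mres L hV e)) := by
  have h1 := h.1 V
  have h2 : Function.Bijective (fun p : Γ(X, V) × Γ(X, V) =>
      ((p.1, p.2 • mres L hV e) : Γ(X, V) × L.val.obj (op V))) := by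
    constructor
    · rintro ⟨a, b⟩ ⟨a', b'⟩ hab
      have ha : a = a' := congrArg Prod.fst hab
      have hb : b • mres L hV e = b' • mres L hV e := congrArg Prod.snd hab
      rw [ha, (he V hV).1 hb]
    · rintro ⟨a, l⟩
      obtain ⟨b, hb⟩ := (he V hV).2 l
      exact ⟨(a, b), by rw [← hb]⟩
  have h3 := h1.comp h2
  have hfun : (fun p : Γ(X, V) × Γ(X, V) => p.1 • oneA A V + p.2 • j.app V (mres L hV e)) =
      (fun p : Γ(X, V) × L.val.obj (op V) =>
        (A.str.app (op V)).hom p.1 + FinCov.toSec A ((j.val.app (op V)).hom p.2)) ∘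
      (fun p : Γ(X, V) × Γ(X, V) => ((p.1, p.2 • mres L hV e) : Γ(X, V) × L.val.obj (op V))) := by
    funext p
    show p.1 • oneA A V + p.2 • j.app V (mres L hV e) =
      (A.str.app (op V)).hom p.1 + FinCov.toSec A ((j.val.app (op V)).hom (p.2 • mres L hV e))
    rw [str_eq_smul_oneA]
    congr 1
    exact (Scheme.Modules.Hom.app_smul j p.2 (mres L hV e)).symm
  rw [hfun]
  exact h3

theorem smul_restrict_ι (M : X.Modules) (U : X.Opens) (V : (U : Scheme.{u}).Opens)
    (r : Γ((U : Scheme.{u}), V)) (x : Γ(M.restrict U.ι, V)) :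
    (r • x : Γ(M.restrict U.ι, V)) =
      ((show Γ(X, U.ι ''ᵁ V) from r) • (show Γ(M, U.ι ''ᵁ V) from x) : Γ(M, U.ι ''ᵁ V)) := by
  have h1 : (r • x : Γ(M.restrict U.ι, V)) =
      ((U.ι.appIso V).inv r) • (show Γ(M, U.ι ''ᵁ V) from x) := rfl
  rw [h1, Scheme.Opens.ι_appIso]
  rfl

theorem image_top_le (U : X.Opens) : U.ι ''ᵁ (⊤ : (U : Scheme.{u}).Opens) ≤ U :=
  (Scheme.Opens.ι_image_top U).le

theorem image_le (U : X.Opens) (V : (U : Scheme.{u}).Opens) : U.ι ''ᵁ V ≤ U :=
  (Scheme.Hom.image_mono _ le_top).trans (image_top_le U)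

/-- a morphism out of a free module is determined by the images of the basis sections -/
theorem desc_app_eq {W : Scheme.{u}} (n : ℕ) (N : W.Modules) (t : Fin n → Γ(N, (⊤ : W.Opens)))
    (V : W.Opens) (y : Γ(FlatMod.freeMod W n, V)) :
    (Sigma.desc (fun i => sectionHom N (t i)) : FlatMod.freeMod W n ⟶ N).app V y =
      ∑ i, (show Γ(W, V) from (prj W n i).app V y) • mres N (le_top : V ≤ ⊤) (t i) := by
  set ψ : FlatMod.freeMod W n ⟶ N := Sigma.desc (fun i => sectionHom N (t i)) with hψdef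
  have hψ : ∀ i, inc W n i ≫ ψ = sectionHom N (t i) := fun i =>
    Sigma.ι_desc (f := fun _ : Fin n => Coh.structureModule W) _ i
  have h1 : ψ = ∑ i, prj W n i ≫ sectionHom N (t i) := by
    calc ψ = 𝟙 _ ≫ ψ := (Category.id_comp ψ).symm
      _ = (∑ i, prj W n i ≫ inc W n i) ≫ ψ := by rw [sum_prj_inc]
      _ = ∑ i, prj W n i ≫ sectionHom N (t i) := by
          rw [Preadditive.sum_comp]
          refine Finset.sum_congr rfl fun i _ => ?_
          rw [Category.assoc, hψ]
  have h2 : appLin ψ V y = ∑ i, appLin (sectionHom N (t i)) V (appLin (prj W n i) V y) := by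
    rw [h1, appLin_sum, LinearMap.sum_apply]
    refine Finset.sum_congr rfl fun i _ => ?_
    rw [appLin_comp]
    rfl
  refine h2.trans ?_
  refine Finset.sum_congr rfl fun i _ => ?_
  exact sectionHom_app N (t i) V _

theorem hom_app_mres' {M M' : X.Modules} (φ : M ⟶ M') {U U' : X.Opens} (h : U' ≤ U)
    (s : Γ(M, U)) : mres M' h (φ.app U s) = φ.app U' (mres M h s) :=
  (ConcreteCategory.congr_hom (φ.mapPresheaf.naturality (homOfLE h).op) s).symm

/-- a section of a free module is the sum of its coordinates -/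
theorem eq_sum_inc_prj {W : Scheme.{u}} (n : ℕ) (V : W.Opens) (y : Γ(FlatMod.freeMod W n, V)) :
    y = ∑ i, appLin (inc W n i) V (appLin (prj W n i) V y) := by
  have h1 : appLin (𝟙 (FlatMod.freeMod W n)) V y = y := by rw [appLin_id]; rfl
  rw [← sum_prj_inc, appLin_sum, LinearMap.sum_apply] at h1
  refine h1.symm.trans ?_
  refine Finset.sum_congr rfl fun i _ => ?_
  rw [appLin_comp]
  rfl

theorem prj_inc_app {W : Scheme.{u}} (n : ℕ) (i k : Fin n) (V : W.Opens)
    (a : Γ(Coh.structureModule W, V)) :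
    appLin (prj W n k) V (appLin (inc W n i) V a) = if i = k then a else 0 := by
  rw [← LinearMap.comp_apply, ← appLin_comp, inc_prj]
  split_ifs with h
  · rw [appLin_id]; rfl
  · rw [appLin_zero]; rfl

theorem isFinLocFreeOfRank_two (hL : PicF.IsInvertible L) (h : FinCov.IsDblAlg L m A j) :
    FlatMod.IsFinLocFreeOfRank 2 A.toModule := by
  intro x
  obtain ⟨U, e, hxU, he⟩ := exists_basis_of_isInvertible hL x
  refine ⟨U, hxU, ?_⟩
  let N : (U : Scheme.{u}).Modules := A.toModule.restrict U.ι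
  let t : Fin 2 → Γ(N, (⊤ : (U : Scheme.{u}).Opens)) :=
    ![(oneA A (U.ι ''ᵁ ⊤) : Γ(A.toModule, U.ι ''ᵁ ⊤)),
      (j.app (U.ι ''ᵁ ⊤) (mres L (image_top_le U) e) : Γ(A.toModule, U.ι ''ᵁ ⊤))]
  let ψ : FlatMod.freeMod (U : Scheme.{u}) 2 ⟶ N := Sigma.desc (fun i => sectionHom N (t i))
  -- the pairing map
  let F : ∀ V : (U : Scheme.{u}).Opens, Γ(X, U.ι ''ᵁ V) × Γ(X, U.ι ''ᵁ V) →
      Γ(A.toModule, U.ι ''ᵁ V) := fun V p =>
    p.1 • oneA A (U.ι ''ᵁ V) + p.2 • j.app (U.ι ''ᵁ V) (mres L (image_le U V) e)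
  have hF : ∀ V, Function.Bijective (F V) := fun V => bijective_pair h he _ (image_le U V)
  have ht0 : ∀ V : (U : Scheme.{u}).Opens,
      (mres N (le_top : V ≤ ⊤) (t 0) : Γ(A.toModule, U.ι ''ᵁ V)) = oneA A (U.ι ''ᵁ V) := fun V =>
    mres_oneA (A := A) (Scheme.Hom.image_mono U.ι (le_top : V ≤ ⊤))
  have ht1 : ∀ V : (U : Scheme.{u}).Opens,
      (mres N (le_top : V ≤ ⊤) (t 1) : Γ(A.toModule, U.ι ''ᵁ V)) =
        j.app (U.ι ''ᵁ V) (mres L (image_le U V) e) := fun V =>
    (hom_app_mres' j (Scheme.Hom.image_mono U.ι (le_top : V ≤ ⊤))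
      (mres L (image_top_le U) e)).trans (congrArg (j.app (U.ι ''ᵁ V)) (mres_mres L _ _ e))
  have hψ : ∀ (V : (U : Scheme.{u}).Opens) (y : Γ(FlatMod.freeMod (U : Scheme.{u}) 2, V)),
      (ψ.app V y : Γ(A.toModule, U.ι ''ᵁ V)) =
        F V ((show Γ(X, U.ι ''ᵁ V) from (prj (U : Scheme.{u}) 2 0).app V y),
          (show Γ(X, U.ι ''ᵁ V) from (prj (U : Scheme.{u}) 2 1).app V y)) := by
    intro V y
    have h1 := desc_app_eq 2 N t V y
    rw [Fin.sum_univ_two] at h1
    refine h1.trans ?_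
    have e0 := smul_restrict_ι A.toModule U V
      (show Γ((U : Scheme.{u}), V) from (prj (U : Scheme.{u}) 2 0).app V y)
      (mres N (le_top : V ≤ ⊤) (t 0))
    have e1 := smul_restrict_ι A.toModule U V
      (show Γ((U : Scheme.{u}), V) from (prj (U : Scheme.{u}) 2 1).app V y)
      (mres N (le_top : V ≤ ⊤) (t 1))
    refine (congrArg₂ (· + ·) e0 e1).trans ?_
    show _ • _ + _ • _ = _ • _ + _ • _
    rw [ht0 V, ht1 V]
    rfl
  haveI : Mono ψ := by
    rw [mono_iff_app_injective]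
    intro V y y' hyy
    have h1 : F V _ = F V _ := (hψ V y).symm.trans (hyy.trans (hψ V y'))
    have h2 := (hF V).1 h1
    have h20 : (prj (U : Scheme.{u}) 2 0).app V y = (prj (U : Scheme.{u}) 2 0).app V y' :=
      congrArg Prod.fst h2
    have h21 : (prj (U : Scheme.{u}) 2 1).app V y = (prj (U : Scheme.{u}) 2 1).app V y' :=
      congrArg Prod.snd h2
    rw [eq_sum_inc_prj 2 V y, eq_sum_inc_prj 2 V y', Fin.sum_univ_two, Fin.sum_univ_two]
    simp only [appLin_apply]
    rw [h20, h21]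
  haveI : Epi ψ := by
    refine epi_of_locally_mem_range ψ (fun V s x hx => ⟨V, le_rfl, hx, ?_⟩)
    obtain ⟨⟨a, b⟩, hab⟩ := (hF V).2 (show Γ(A.toModule, U.ι ''ᵁ V) from s)
    let y : Γ(FlatMod.freeMod (U : Scheme.{u}) 2, V) :=
      appLin (inc (U : Scheme.{u}) 2 0) V (show Γ(Coh.structureModule (U : Scheme.{u}), V) from a) +
      appLin (inc (U : Scheme.{u}) 2 1) V (show Γ(Coh.structureModule (U : Scheme.{u}), V) from b)
    refine ⟨y, ?_⟩
    have hy0 : appLin (prj (U : Scheme.{u}) 2 0) V y = a := by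
      show appLin (prj (U : Scheme.{u}) 2 0) V (_ + _) = a
      rw [map_add, prj_inc_app, prj_inc_app]
      simp
    have hy1 : appLin (prj (U : Scheme.{u}) 2 1) V y = b := by
      show appLin (prj (U : Scheme.{u}) 2 1) V (_ + _) = b
      rw [map_add, prj_inc_app, prj_inc_app]
      simp
    refine (hψ V y).trans ?_
    have h3 : F V ((show Γ(X, U.ι ''ᵁ V) from (prj (U : Scheme.{u}) 2 0).app V y),
          (show Γ(X, U.ι ''ᵁ V) from (prj (U : Scheme.{u}) 2 1).app V y)) = F V (a, b) := by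
      have e0 : (show Γ(X, U.ι ''ᵁ V) from (prj (U : Scheme.{u}) 2 0).app V y) = a := hy0
      have e1 : (show Γ(X, U.ι ''ᵁ V) from (prj (U : Scheme.{u}) 2 1).app V y) = b := hy1
      rw [e0, e1]
    refine h3.trans (hab.trans ?_)
    exact (mres_self N _ s).symm
  haveI : IsIso ψ := isIso_of_mono_of_epi ψ
  exact ⟨(asIso ψ).symm⟩

end Groth.Agent.H19.DblAlg
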