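import Groth.Agent.H18.STL.QuasiAffine
import Groth.Agent.H19.InvSection
import Groth.Prelude.Def_FinCov

set_option autoImplicit false
set_option linter.style.haveILetI false
universe u

namespace Groth.Agent.H19.DblConstr

/-- a symmetric bilinear pairing on a module satisfying the identity that makes `R ⊕ M` a ring -/
structure PairData (R : Type u) (M : Type u) [CommRing R] [AddCommGroup M] [Module R M] where
  /-- the pairing -/
  β : M → M → R
  add_left : ∀ l l' l'', β (l + l') l'' = β l l'' + β l' l''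
  smul_left : ∀ (r : R) l l', β (r • l) l' = r * β l l'
  symm : ∀ l l', β l l' = β l' l
  assoc : ∀ l l' l'', β l l' • l'' = β l' l'' • l

variable {R : Type u} {M : Type u} [CommRing R] [AddCommGroup M] [Module R M]

namespace PairData

variable (d : PairData R M)

theorem add_right (l l' l'' : M) : d.β l (l' + l'') = d.β l l' + d.β l l'' := by
  rw [d.symm, d.add_left, d.symm l', d.symm l'']

theorem smul_right (r : R) (l l' : M) : d.β l (r • l') = r * d.β l l' := by
  rw [d.symm, d.smul_left, d.symm]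

theorem zero_left (l : M) : d.β 0 l = 0 := by
  have := d.smul_left 0 0 l
  rwa [zero_smul, zero_mul] at this

theorem zero_right (l : M) : d.β l 0 = 0 := by
  rw [d.symm, d.zero_left]

end PairData

/-- the ring `R ⊕ M` with product `(s, l)(s', l') = (ss' + β(l, l'), s l' + s' l)` -/
@[ext] structure Dbl (d : PairData R M) : Type u where
  /-- the scalar component -/
  fst : R
  /-- the module component -/
  snd : M

namespace Dbl

variable {d : PairData R M}

instance : Zero (Dbl d) := ⟨⟨0, 0⟩⟩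
instance : One (Dbl d) := ⟨⟨1, 0⟩⟩
instance : Add (Dbl d) := ⟨fun a b => ⟨a.fst + b.fst, a.snd + b.snd⟩⟩
instance : Neg (Dbl d) := ⟨fun a => ⟨-a.fst, -a.snd⟩⟩
instance : Mul (Dbl d) :=
  ⟨fun a b => ⟨a.fst * b.fst + d.β a.snd b.snd, a.fst • b.snd + b.fst • a.snd⟩⟩

@[simp] theorem zero_fst : (0 : Dbl d).fst = 0 := rfl
@[simp] theorem zero_snd : (0 : Dbl d).snd = 0 := rfl
@[simp] theorem one_fst : (1 : Dbl d).fst = 1 := rfl
@[simp] theorem one_snd : (1 : Dbl d).snd = 0 := rfl
@[simp] theorem add_fst (a b : Dbl d) : (a + b).fst = a.fst + b.fst := rfl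
@[simp] theorem add_snd (a b : Dbl d) : (a + b).snd = a.snd + b.snd := rfl
@[simp] theorem neg_fst (a : Dbl d) : (-a).fst = -a.fst := rfl
@[simp] theorem neg_snd (a : Dbl d) : (-a).snd = -a.snd := rfl
@[simp] theorem mul_fst (a b : Dbl d) : (a * b).fst = a.fst * b.fst + d.β a.snd b.snd := rfl
@[simp] theorem mul_snd (a b : Dbl d) : (a * b).snd = a.fst • b.snd + b.fst • a.snd := rfl

instance : CommRing (Dbl d) where
  add_assoc a b c := by ext <;> simp [add_assoc]
  zero_add a := by ext <;> simp
  add_zero a := by ext <;> simp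
  add_comm a b := by ext <;> simp [add_comm]
  neg_add_cancel a := by ext <;> simp
  nsmul := nsmulRec
  zsmul := zsmulRec
  left_distrib a b c := by
    ext
    · simp only [mul_fst, add_fst, add_snd, d.add_right]; ring
    · simp only [mul_snd, add_fst, add_snd, smul_add, add_smul]; abel
  right_distrib a b c := by
    ext
    · simp only [mul_fst, add_fst, add_snd, d.add_left]; ring
    · simp only [mul_snd, add_fst, add_snd, smul_add, add_smul]; abel
  zero_mul a := by ext <;> simp [d.zero_left]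
  mul_zero a := by ext <;> simp [d.zero_right]
  mul_assoc a b c := by
    ext
    · simp only [mul_fst, mul_snd, d.add_left, d.add_right, d.smul_left, d.smul_right]; ring
    · simp only [mul_fst, mul_snd, smul_add, add_smul, smul_smul]
      rw [d.assoc]
      module
  one_mul a := by ext <;> simp [d.zero_left]
  mul_one a := by ext <;> simp [d.zero_right]
  mul_comm a b := by
    ext
    · simp only [mul_fst, d.symm a.snd b.snd, mul_comm]
    · simp only [mul_snd, add_comm]

end Dbl


open CategoryTheory CategoryTheory.Limits AlgebraicGeometry TopologicalSpace Opposite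
open Groth.Agent.H18 Groth.Agent.H18.PUP Groth.Agent.H18.STL

variable {X : Scheme.{u}} (L : X.Modules) (m : CohB1.tensorMod L L ⟶ Coh.structureModule X)

/-- the pairing on sections -/
noncomputable def pair (U : X.Opens) (l l' : Γ(L, U)) : Γ(X, U) :=
  m.app U (SecTwist.tmul L L U l l')

theorem pair_add_left (U : X.Opens) (l l' l'' : Γ(L, U)) :
    pair L m U (l + l') l'' = pair L m U l l'' + pair L m U l' l'' := by
  unfold pair
  rw [tmul_add_left]
  exact map_add _ _ _

theorem pair_smul_left (U : X.Opens) (r : Γ(X, U)) (l l' : Γ(L, U)) :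
    pair L m U (r • l) l' = r * pair L m U l l' := by
  unfold pair
  rw [tmul_smul_left]
  exact Scheme.Modules.Hom.app_smul m r _

theorem pair_smul_right (U : X.Opens) (r : Γ(X, U)) (l l' : Γ(L, U)) :
    pair L m U l (r • l') = r * pair L m U l l' := by
  unfold pair
  rw [tmul_smul_right]
  exact Scheme.Modules.Hom.app_smul m r _

theorem rres_pair {U V : X.Opens} (h : V ≤ U) (l l' : Γ(L, U)) :
    rres X h (pair L m U l l') = pair L m V (mres L h l) (mres L h l') := by
  unfold pair
  rw [← mres_tmul]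
  exact Groth.Agent.H19.InvSection.app_mres m h _ |>.symm

theorem pair_symm (hL : PicF.IsInvertible L) (U : X.Opens) (l l' : Γ(L, U)) :
    pair L m U l l' = pair L m U l' l := by
  refine fun_eq_of_locally_eq _ _ (fun x hx => ?_)
  obtain ⟨U₀, e, hxU₀, he⟩ := exists_basis_of_isInvertible hL x
  refine ⟨U ⊓ U₀, inf_le_left, ⟨hx, hxU₀⟩, ?_⟩
  rw [rres_pair, rres_pair]
  obtain ⟨a, ha⟩ := (he (U ⊓ U₀) inf_le_right).2 (mres L inf_le_left l)
  obtain ⟨b, hb⟩ := (he (U ⊓ U₀) inf_le_right).2 (mres L inf_le_left l')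
  have ha' : a • mres L (inf_le_right : U ⊓ U₀ ≤ U₀) e = mres L inf_le_left l := ha
  have hb' : b • mres L (inf_le_right : U ⊓ U₀ ≤ U₀) e = mres L inf_le_left l' := hb
  rw [← ha', ← hb']
  simp only [pair_smul_left, pair_smul_right]
  ring

theorem pair_assoc (hL : PicF.IsInvertible L) (U : X.Opens) (l l' l'' : Γ(L, U)) :
    pair L m U l l' • l'' = pair L m U l' l'' • l := by
  refine Groth.Agent.H19.InvSection.eq_of_locally_eq L _ _ (fun x hx => ?_)
  obtain ⟨U₀, e, hxU₀, he⟩ := exists_basis_of_isInvertible hL x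
  refine ⟨U ⊓ U₀, inf_le_left, ⟨hx, hxU₀⟩, ?_⟩
  rw [mres_smul, mres_smul]
  have h1 := rres_pair L m (inf_le_left : U ⊓ U₀ ≤ U) l l'
  have h2 := rres_pair L m (inf_le_left : U ⊓ U₀ ≤ U) l' l''
  refine (congrArg (· • mres L inf_le_left l'') h1).trans
    (Eq.trans ?_ (congrArg (· • mres L inf_le_left l) h2).symm)
  obtain ⟨a, ha⟩ := (he (U ⊓ U₀) inf_le_right).2 (mres L inf_le_left l)
  obtain ⟨b, hb⟩ := (he (U ⊓ U₀) inf_le_right).2 (mres L inf_le_left l')
  obtain ⟨c, hc⟩ := (he (U ⊓ U₀) inf_le_right).2 (mres L inf_le_left l'')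
  have ha' : a • mres L (inf_le_right : U ⊓ U₀ ≤ U₀) e = mres L inf_le_left l := ha
  have hb' : b • mres L (inf_le_right : U ⊓ U₀ ≤ U₀) e = mres L inf_le_left l' := hb
  have hc' : c • mres L (inf_le_right : U ⊓ U₀ ≤ U₀) e = mres L inf_le_left l'' := hc
  show pair L m _ _ _ • _ = pair L m _ _ _ • _
  rw [← ha', ← hb', ← hc']
  simp only [pair_smul_left, pair_smul_right, smul_smul]
  congr 1
  ring

/-- the pairing data over an open -/
noncomputable def pd (hL : PicF.IsInvertible L) (U : X.Opens) : PairData Γ(X, U) Γ(L, U) where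
  β := pair L m U
  add_left := pair_add_left L m U
  smul_left := pair_smul_left L m U
  symm := pair_symm L m hL U
  assoc := pair_assoc L m hL U

variable (hL : PicF.IsInvertible L)

/-- restriction of sections of `O ⊕ L`, as a ring homomorphism -/
noncomputable def resHom {U V : X.Opens} (h : V ≤ U) :
    Dbl (pd L m hL U) →+* Dbl (pd L m hL V) where
  toFun a := ⟨rres X h a.fst, mres L h a.snd⟩
  map_one' := by
    apply Dbl.ext
    · exact map_one (rres X h).hom
    · exact map_zero (mres L h).hom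
  map_mul' a b := by
    apply Dbl.ext
    · show rres X h (a.fst * b.fst + pair L m U a.snd b.snd) =
        rres X h a.fst * rres X h b.fst + pair L m V (mres L h a.snd) (mres L h b.snd)
      rw [map_add, map_mul, rres_pair]
    · show mres L h (a.fst • b.snd + b.fst • a.snd) =
        rres X h a.fst • mres L h b.snd + rres X h b.fst • mres L h a.snd
      rw [map_add, mres_smul, mres_smul]
  map_zero' := by
    apply Dbl.ext
    · exact map_zero (rres X h).hom
    · exact map_zero (mres L h).hom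
  map_add' a b := by
    apply Dbl.ext
    · exact map_add (rres X h).hom _ _
    · exact map_add (mres L h).hom _ _

theorem resHom_fst {U V : X.Opens} (h : V ≤ U) (a : Dbl (pd L m hL U)) :
    (resHom L m hL h a).fst = rres X h a.fst := rfl

theorem resHom_snd {U V : X.Opens} (h : V ≤ U) (a : Dbl (pd L m hL U)) :
    (resHom L m hL h a).snd = mres L h a.snd := rfl

/-- the presheaf of rings `O ⊕ L` -/
noncomputable def dblPresheaf : TopCat.Presheaf CommRingCat.{u} X.carrier where
  obj U := CommRingCat.of (Dbl (pd L m hL U.unop))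
  map {U V} i := CommRingCat.ofHom (resHom L m hL i.unop.le)
  map_id U := by
    apply CommRingCat.hom_ext
    apply RingHom.ext
    intro a
    apply Dbl.ext
    · exact rres_self _ a.fst
    · exact mres_self L _ a.snd
  map_comp f g := by
    apply CommRingCat.hom_ext
    apply RingHom.ext
    intro a
    apply Dbl.ext
    · exact (rres_rres _ _ a.fst).symm
    · exact (mres_mres L _ _ a.snd).symm

theorem isSheaf_dblPresheaf : (dblPresheaf L m hL).IsSheaf := by
  rw [TopCat.Presheaf.isSheaf_iff_isSheafUniqueGluing]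
  intro ι U sf hsf
  have hle : ∀ i, U i ≤ iSup U := fun i => le_iSup U i
  have hcov : ∀ x ∈ iSup U, ∃ i, x ∈ U i := fun x hx => Opens.mem_iSup.mp hx
  let a : ∀ i, Γ(X, U i) := fun i => (show Dbl (pd L m hL (U i)) from sf i).fst
  let l : ∀ i, Γ(L, U i) := fun i => (show Dbl (pd L m hL (U i)) from sf i).snd
  have ha : ∀ i j, rres X (inf_le_left : U i ⊓ U j ≤ U i) (a i) =
      rres X (inf_le_right : U i ⊓ U j ≤ U j) (a j) := fun i j => congrArg Dbl.fst (hsf i j)
  have hl : ∀ i j, mres L (inf_le_left : U i ⊓ U j ≤ U i) (l i) =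
      mres L (inf_le_right : U i ⊓ U j ≤ U j) (l j) := fun i j => congrArg Dbl.snd (hsf i j)
  obtain ⟨s, hs⟩ := exists_glue_fun U (iSup U) hle hcov a ha
  obtain ⟨t, ht⟩ := exists_glue L U (iSup U) hle hcov l hl
  refine ⟨(⟨s, t⟩ : Dbl (pd L m hL (iSup U))), ?_, ?_⟩
  · intro i
    exact Dbl.ext (hs i) (ht i)
  · intro y hy
    apply Dbl.ext
    · refine fun_eq_of_locally_eq _ _ (fun x hx => ?_)
      obtain ⟨i, hi⟩ := hcov x hx
      exact ⟨U i, hle i, hi, (congrArg Dbl.fst (hy i)).trans (hs i).symm⟩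
    · refine Groth.Agent.H19.InvSection.eq_of_locally_eq L _ _ (fun x hx => ?_)
      obtain ⟨i, hi⟩ := hcov x hx
      exact ⟨U i, hle i, hi, (congrArg Dbl.snd (hy i)).trans (ht i).symm⟩

/-- the structure map on sections -/
noncomputable def strHom (U : X.Opens) : Γ(X, U) →+* Dbl (pd L m hL U) where
  toFun s := ⟨s, 0⟩
  map_one' := rfl
  map_mul' s s' := by
    apply Dbl.ext
    · show s * s' = s * s' + (pd L m hL U).β 0 0
      rw [(pd L m hL U).zero_left, add_zero]
    · show (0 : Γ(L, U)) = s • (0 : Γ(L, U)) + s' • (0 : Γ(L, U))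
      rw [smul_zero, smul_zero, add_zero]
  map_zero' := rfl
  map_add' s s' := by
    apply Dbl.ext
    · rfl
    · exact (add_zero (0 : Γ(L, U))).symm

theorem strHom_fst (U : X.Opens) (s : Γ(X, U)) : (strHom L m hL U s).fst = s := rfl

theorem strHom_snd (U : X.Opens) (s : Γ(X, U)) : (strHom L m hL U s).snd = 0 := rfl

theorem strHom_mul_fst (U : X.Opens) (c : Γ(X, U)) (z : Dbl (pd L m hL U)) :
    (strHom L m hL U c * z).fst = c * z.fst := by
  show c * z.fst + (pd L m hL U).β 0 z.snd = c * z.fst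
  rw [(pd L m hL U).zero_left, add_zero]

theorem strHom_mul_snd (U : X.Opens) (c : Γ(X, U)) (z : Dbl (pd L m hL U)) :
    (strHom L m hL U c * z).snd = c • z.snd := by
  show c • z.snd + z.fst • (0 : Γ(L, U)) = c • z.snd
  rw [smul_zero, add_zero]

theorem resHom_strHom {U V : X.Opens} (h : V ≤ U) (s : Γ(X, U)) :
    resHom L m hL h (strHom L m hL U s) = strHom L m hL V (rres X h s) := by
  apply Dbl.ext
  · rfl
  · exact map_zero (mres L h).hom

/-- the structure map `O ⟶ O ⊕ L` -/
noncomputable def dblStr : X.presheaf ⟶ dblPresheaf L m hL where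
  app U := CommRingCat.ofHom (strHom L m hL U.unop)
  naturality {U V} i := by
    apply CommRingCat.hom_ext
    apply RingHom.ext
    intro s
    exact (resHom_strHom L m hL i.unop.le s).symm

theorem isLocalization_dbl {U : X.Opens} (hU : IsAffineOpen U) (r : Γ(X, U)) :
    letI := (resHom L m hL (X.basicOpen_le r)).toAlgebra
    IsLocalization.Away (strHom L m hL U r) (Dbl (pd L m hL (X.basicOpen r))) := by
  letI := (resHom L m hL (X.basicOpen_le r)).toAlgebra
  haveI := isQuasicoherent_of_isInvertible hL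
  haveI := isQuasicoherent_structureModule X
  have halg : ∀ t : Dbl (pd L m hL U),
      algebraMap (Dbl (pd L m hL U)) (Dbl (pd L m hL (X.basicOpen r))) t =
        resHom L m hL (X.basicOpen_le r) t := fun _ => rfl
  set ρ : Γ(X, X.basicOpen r) := rres X (X.basicOpen_le r) r with hρ
  have hu : IsUnit ρ := RingedSpace.isUnit_res_basicOpen _ r
  rw [IsLocalization.Away, isLocalization_iff]
  refine ⟨?_, ?_, ?_⟩
  · rintro ⟨_, n, rfl⟩
    show IsUnit (algebraMap (Dbl (pd L m hL U)) (Dbl (pd L m hL (X.basicOpen r)))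
      ((strHom L m hL U r) ^ n))
    rw [map_pow, halg, resHom_strHom]
    exact (hu.map _).pow n
  · intro z
    obtain ⟨n1, x1', h1⟩ :=
      exists_pow_smul_eq_res_of_isQuasicoherent (Coh.structureModule X) hU r z.fst
    obtain ⟨x1, hx1⟩ : ∃ x1 : Γ(X, U), x1 = x1' := ⟨x1', rfl⟩
    subst hx1
    obtain ⟨n2, x2, h2⟩ := exists_pow_smul_eq_res_of_isQuasicoherent L hU r z.snd
    have h1' : ρ ^ n1 * z.fst = rres X (X.basicOpen_le r) x1 := h1
    have h2' : ρ ^ n2 • z.snd = mres L (X.basicOpen_le r) x2 := h2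
    refine ⟨((⟨r ^ n2 * x1, r ^ n1 • x2⟩ : Dbl (pd L m hL U)),
      ⟨(strHom L m hL U r) ^ (n1 + n2), n1 + n2, rfl⟩), ?_⟩
    show z * algebraMap (Dbl (pd L m hL U)) (Dbl (pd L m hL (X.basicOpen r)))
      ((strHom L m hL U r) ^ (n1 + n2)) =
      algebraMap (Dbl (pd L m hL U)) (Dbl (pd L m hL (X.basicOpen r)))
        (⟨r ^ n2 * x1, r ^ n1 • x2⟩ : Dbl (pd L m hL U))
    rw [halg, halg, ← map_pow, resHom_strHom, mul_comm]
    apply Dbl.ext
    · rw [strHom_mul_fst, resHom_fst]
      show rres X (X.basicOpen_le r) (r ^ (n1 + n2)) * z.fst =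
        rres X (X.basicOpen_le r) (r ^ n2 * x1)
      rw [map_pow, map_mul, map_pow, ← h1', pow_add]
      ring
    · rw [strHom_mul_snd, resHom_snd]
      show rres X (X.basicOpen_le r) (r ^ (n1 + n2)) • z.snd =
        mres L (X.basicOpen_le r) (r ^ n1 • x2)
      rw [mres_smul, ← h2', smul_smul]
      congr 1
      show rres X (X.basicOpen_le r) (r ^ (n1 + n2)) = rres X (X.basicOpen_le r) (r ^ n1) * ρ ^ n2
      rw [map_pow, map_pow, pow_add]
  · intro x y hxy
    rw [halg, halg] at hxy
    have e1 : rres X (X.basicOpen_le r) (x.fst - y.fst) = 0 := by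
      rw [map_sub, sub_eq_zero]
      exact congrArg Dbl.fst hxy
    have e2 : mres L (X.basicOpen_le r) (x.snd - y.snd) = 0 := by
      rw [map_sub, sub_eq_zero]
      exact congrArg Dbl.snd hxy
    obtain ⟨n1, h1⟩ := exists_pow_smul_eq_zero_of_isQuasicoherent (Coh.structureModule X) hU r
      (x.fst - y.fst) e1
    obtain ⟨n2, h2⟩ := exists_pow_smul_eq_zero_of_isQuasicoherent L hU r (x.snd - y.snd) e2
    have h1' : r ^ n1 * (x.fst - y.fst) = 0 := h1
    refine ⟨⟨(strHom L m hL U r) ^ (n1 + n2), n1 + n2, rfl⟩, ?_⟩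
    show (strHom L m hL U r) ^ (n1 + n2) * x = (strHom L m hL U r) ^ (n1 + n2) * y
    rw [← map_pow]
    apply Dbl.ext
    · rw [strHom_mul_fst, strHom_mul_fst, ← sub_eq_zero, ← mul_sub, pow_add, mul_comm (r ^ n1),
        mul_assoc, h1', mul_zero]
    · rw [strHom_mul_snd, strHom_mul_snd, ← sub_eq_zero, ← smul_sub, pow_add, mul_smul, h2,
        smul_zero]

theorem isQC_dbl : RelSpec.IsQC (dblPresheaf L m hL) (dblStr L m hL) :=
  fun _ hU r => isLocalization_dbl L m hL hU r

/-- the quasi-coherent algebra `O ⊕ L` -/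
noncomputable def dblAlg : RelSpec.QCAlg X where
  presheaf := dblPresheaf L m hL
  isSheaf := isSheaf_dblPresheaf L m hL
  str := dblStr L m hL
  isQC := isQC_dbl L m hL

/-- the inclusion of `L` into `O ⊕ L`, on sections -/
noncomputable def jFun (U : X.Opens) : Γ(L, U) →+ Dbl (pd L m hL U) where
  toFun l := ⟨0, l⟩
  map_zero' := rfl
  map_add' l l' := Dbl.ext (add_zero (0 : Γ(X, U))).symm rfl

theorem resHom_jFun {U V : X.Opens} (h : V ≤ U) (l : Γ(L, U)) :
    resHom L m hL h (jFun L m hL U l) = jFun L m hL V (mres L h l) :=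
  Dbl.ext (map_zero (rres X h).hom) rfl

set_option linter.unusedVariables false

theorem jFun_smul (U : X.Opens) (r : Γ(X, U)) (l : Γ(L, U)) :
    jFun L m hL U (r • l) = strHom L m hL U r * jFun L m hL U l := by
  apply Dbl.ext
  · rw [strHom_mul_fst]
    exact (mul_zero r).symm
  · rw [strHom_mul_snd]
    rfl

/-- the inclusion of `L` into `O ⊕ L` -/
noncomputable def jHom : L ⟶ (dblAlg L m hL).toModule :=
  ⟨letI := (dblAlg L m hL).moduleSect
   PresheafOfModules.homMk
    { app := fun U => AddCommGrpCat.ofHom (jFun L m hL U.unop)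
      naturality := fun U V i => by
        ext l
        exact (resHom_jFun L m hL i.unop.le l).symm }
    (fun U r l => jFun_smul L m hL U.unop r l)⟩

theorem jHom_app (U : X.Opens) (l : L.val.obj (op U)) :
    ((jHom L m hL).val.app (op U)).hom l = jFun L m hL U l := rfl

theorem isDblAlg : FinCov.IsDblAlg L m (dblAlg L m hL) (jHom L m hL) := by
  refine ⟨fun U => ⟨?_, ?_⟩, fun U l l' => ?_⟩
  · rintro ⟨s, l⟩ ⟨s', l'⟩ h
    have h1 : s + 0 = s' + 0 := congrArg Dbl.fst h
    have h2 : (0 : Γ(L, U)) + (show Γ(L, U) from l) = 0 + (show Γ(L, U) from l') :=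
      congrArg Dbl.snd h
    rw [add_zero, add_zero] at h1
    rw [zero_add, zero_add] at h2
    exact Prod.ext h1 h2
  · intro a
    refine ⟨((show Dbl (pd L m hL U) from a).fst, (show Dbl (pd L m hL U) from a).snd), ?_⟩
    exact Dbl.ext (add_zero _) (zero_add _)
  · apply Dbl.ext
    · show (0 : Γ(X, U)) * 0 + pair L m U l l' = pair L m U l l'
      rw [mul_zero, zero_add]
    · show (0 : Γ(X, U)) • (show Γ(L, U) from l') + (0 : Γ(X, U)) • (show Γ(L, U) from l) = 0
      rw [zero_smul, zero_smul, add_zero]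

theorem exists_isDblAlg (hL' : PicF.IsInvertible L) :
    ∃ (A : RelSpec.QCAlg X) (j : L ⟶ A.toModule), FinCov.IsDblAlg L m A j :=
  ⟨dblAlg L m hL', jHom L m hL', isDblAlg L m hL'⟩

end Groth.Agent.H19.DblConstr
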