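import Groth.Agent.H19.DblAlg
import Groth.Agent.H67.TraceRank

/-!
# The kernel of the trace of the algebra `O ⊕ L` attached to a pairing is `L` (helper19)
-/

set_option autoImplicit false
set_option linter.style.haveILetI false
universe u
open CategoryTheory CategoryTheory.Limits AlgebraicGeometry TopologicalSpace Opposite

namespace Groth.Agent.H19.DblTrace

/-- a rank-two algebra `R ⊕ R x` with `x² ∈ R`: it is finite free and `x` has trace zero -/
theorem free_finite_trace {R B : Type*} [CommRing R] [CommRing B] [Algebra R B] (x : B) (c : R)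
    (hbij : Function.Bijective (fun p : R × R => p.1 • (1:B) + p.2 • x)) (hx : x * x = c • 1) :
    Module.Free R B ∧ Module.Finite R B ∧ Algebra.trace R B x = 0 := by
  let f : (R × R) →ₗ[R] B :=
    (LinearMap.fst R R R).smulRight (1:B) + (LinearMap.snd R R R).smulRight x
  have hf : ∀ p, f p = p.1 • (1:B) + p.2 • x := fun p => rfl
  let e : (R × R) ≃ₗ[R] B := LinearEquiv.ofBijective f hbij
  have he : ∀ p, e p = p.1 • (1:B) + p.2 • x := fun p => rfl
  let E : B ≃ₗ[R] (Fin 2 → R) := e.symm.trans (LinearEquiv.finTwoArrow R R).symm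
  let b : Module.Basis (Fin 2) R B := Module.Basis.ofEquivFun E
  have hrepr : ∀ (y : B) (i : Fin 2), b.repr y i = E y i := fun y i =>
    Module.Basis.ofEquivFun_repr_apply E y i
  have hE : ∀ (p : R × R) , E (e p) = ![p.1, p.2] := by
    intro p
    show (LinearEquiv.finTwoArrow R R).symm (e.symm (e p)) = _
    rw [LinearEquiv.symm_apply_apply]
    rfl
  have hb0 : b 0 = 1 := by
    have : b 0 = E.symm (Pi.single 0 1) := by
      simp [b]
    rw [this, LinearEquiv.symm_apply_eq]
    have := hE (1, 0)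
    rw [he] at this
    simp only [one_smul, zero_smul, add_zero] at this
    rw [this]
    ext i; fin_cases i <;> simp
  have hb1 : b 1 = x := by
    have : b 1 = E.symm (Pi.single 1 1) := by
      simp [b]
    rw [this, LinearEquiv.symm_apply_eq]
    have := hE (0, 1)
    rw [he] at this
    simp only [one_smul, zero_smul, zero_add] at this
    rw [this]
    ext i; fin_cases i <;> simp
  refine ⟨Module.Free.of_basis b, Module.Finite.of_basis b, ?_⟩
  rw [Algebra.trace_eq_matrix_trace b, Matrix.trace_fin_two, Algebra.leftMulMatrix_eq_repr_mul,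
    Algebra.leftMulMatrix_eq_repr_mul, hb0, hb1, mul_one, hx, hrepr, hrepr]
  have h1 : E x = ![0, 1] := by
    have := hE (0, 1)
    rw [he] at this
    simpa using this
  have h2 : E (c • (1:B)) = ![c, 0] := by
    have := hE (c, 0)
    rw [he] at this
    simpa using this
  rw [h1, h2]
  simp

open Groth.Agent.H18 Groth.Agent.H18.PUP Groth.Agent.H18.STL Groth.Agent.H67.BasisLocal
  Groth.Agent.H92.LocFreeRank Groth.Agent.H19.DblAlg Groth.Agent.H67.TraceGlue

variable {X : Scheme.{u}} {L : X.Modules} {m : CohB1.tensorMod L L ⟶ Coh.structureModule X}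
  {A : RelSpec.QCAlg X} {j : L ⟶ A.toModule}

attribute [local instance] algSec

/-- an affine open contained in an open over which `L` has a basis -/
def GoodL (L : X.Modules) (W : X.Opens) : Prop :=
  IsAffineOpen W ∧ ∃ (U : X.Opens) (e : Γ(L, U)), W ≤ U ∧ IsBasisOn L U e

theorem isBasis_goodL (hL : PicF.IsInvertible L) :
    Opens.IsBasis (Set.range (fun W : {W : X.Opens // GoodL L W} => W.1)) := by
  rw [Opens.isBasis_iff_nbhd]
  intro U x hx
  obtain ⟨U₀, e, hxU₀, he⟩ := exists_basis_of_isInvertible hL x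
  obtain ⟨_, ⟨W, hW, rfl⟩, hxW, hWU⟩ :=
    X.isBasis_affineOpens.exists_subset_of_mem_open (show x ∈ U₀ ⊓ U from ⟨hxU₀, hx⟩) (U₀ ⊓ U).2
  exact ⟨W, ⟨⟨W, hW, U₀, e, fun y hy => (hWU hy).1, he⟩, rfl⟩, hxW, fun y hy => (hWU hy).2⟩

theorem trace_j_good (h : FinCov.IsDblAlg L m A j) {τ : A.toModule ⟶ Coh.structureModule X}
    (hτ : FinCov.IsTrace A τ) {W U : X.Opens} (hW : IsAffineOpen W) {e : Γ(L, U)} (hWU : W ≤ U)
    (he : IsBasisOn L U e) (l : L.val.obj (op W)) :
    (τ.val.app (op W)).hom ((j.val.app (op W)).hom l) = 0 := by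
  let e' : L.val.obj (op W) := mres L hWU e
  let x : A.presheaf.obj (op W) := (j.val.app (op W)).hom e'
  let c : Γ(X, W) := (m.val.app (op W)).hom (SecTwist.tmul L L W e' e')
  have hbij : Function.Bijective
      (fun p : Γ(X, W) × Γ(X, W) => p.1 • (1 : A.presheaf.obj (op W)) + p.2 • x) :=
    bijective_pair h he W hWU
  have hx : x * x = c • (1 : A.presheaf.obj (op W)) := (h.2 W e' e').trans (mul_one _).symm
  obtain ⟨hfree, hfin, htr⟩ := free_finite_trace x c hbij hx
  obtain ⟨r, hr⟩ := (he W hWU).2 l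
  have h1 := hτ W hW hfree hfin ((j.val.app (op W)).hom l)
  refine h1.trans ?_
  have h3 : ((j.val.app (op W)).hom l : A.presheaf.obj (op W)) = r • x := by
    rw [← hr]
    exact Scheme.Modules.Hom.app_smul j r e'
  rw [h3, map_smul, htr, smul_zero]
  rfl

theorem j_comp_trace (hL : PicF.IsInvertible L) (h : FinCov.IsDblAlg L m A j)
    {τ : A.toModule ⟶ Coh.structureModule X} (hτ : FinCov.IsTrace A τ) : j ≫ τ = 0 := by
  refine hom_ext_of_basis (isBasis_goodL hL) (fun W l => ?_)
  obtain ⟨hW, U, e, hWU, he⟩ := W.2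
  exact trace_j_good h hτ hW hWU he l

theorem main (hL : PicF.IsInvertible L) (h : FinCov.IsDblAlg L m A j)
    (h2 : IsUnit (2 : Γ(X, ⊤))) (τ : A.toModule ⟶ Coh.structureModule X)
    (hτ : FinCov.IsTrace A τ) (U : X.Opens) (a : A.toModule.val.obj (op U)) :
    (τ.val.app (op U)).hom a = 0 ↔ a ∈ Set.range (j.val.app (op U)).hom := by
  have hrank := isFinLocFreeOfRank_two hL h
  have hstr : FinCov.strMod A ≫ τ = 2 • 𝟙 _ := strMod_comp_trace hrank τ hτ
  have hj : j ≫ τ = 0 := j_comp_trace hL h hτ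
  have hjU : ∀ l : L.val.obj (op U), (τ.val.app (op U)).hom ((j.val.app (op U)).hom l) = 0 :=
    fun l => congrArg (fun φ : L ⟶ Coh.structureModule X => (φ.val.app (op U)).hom l) hj
  have hsU : ∀ s : Γ(X, U), (τ.val.app (op U)).hom ((A.str.app (op U)).hom s) = 2 • s := by
    intro s
    have h1 := congrArg (fun φ : Coh.structureModule X ⟶ Coh.structureModule X =>
      (φ.val.app (op U)).hom s) hstr
    refine h1.trans ?_
    exact nsmul_val_app 2 (𝟙 (Coh.structureModule X)) U s
  have h2U : IsUnit (2 : Γ(X, U)) := by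
    have := h2.map (X.presheaf.map (homOfLE (le_top : U ≤ ⊤)).op).hom
    rwa [map_ofNat] at this
  constructor
  · intro ha
    obtain ⟨⟨s, l⟩, hsl⟩ := (h.1 U).2 a
    have hsl' : (A.str.app (op U)).hom s + FinCov.toSec A ((j.val.app (op U)).hom l) = a := hsl
    have h3 : (τ.val.app (op U)).hom a = 2 • s := by
      rw [← hsl']
      refine (map_add (τ.val.app (op U)).hom _ _).trans ?_
      rw [hsU]
      have := hjU l
      show _ + (τ.val.app (op U)).hom ((j.val.app (op U)).hom l) = _
      rw [this, add_zero]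
    have hs0 : s = 0 := by
      have h4 : (2 : Γ(X, U)) * s = 0 := by
        rw [two_mul, ← two_nsmul]
        exact h3.symm.trans ha
      exact (h2U.mul_right_eq_zero).mp h4
    refine ⟨l, ?_⟩
    rw [← hsl', hs0, map_zero, zero_add]
  · rintro ⟨l, rfl⟩
    exact hjU l

end Groth.Agent.H19.DblTrace
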