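import Groth.Prelude.Def_CAlg
import Groth.Agent.H19.AssPoints
import Mathlib.RingTheory.Regular.RegularSequence

universe u
open CategoryTheory AlgebraicGeometry TopologicalSpace

namespace Groth.Agent.H19.DepthOne

open RingTheory.Sequence

/-- For a Noetherian local ring, depth at least one means that the maximal ideal is not an
associated prime. -/
theorem one_le_depth_iff (R : Type u) [CommRing R] [IsLocalRing R] [IsNoetherianRing R] :
    (1 : ℕ∞) ≤ LocCoh.depth R R ↔ ¬ IsAssociatedPrime (IsLocalRing.maximalIdeal R) R := by
  have hne : (IsLocalRing.maximalIdeal R) • (⊤ : Submodule R R) ≠ ⊤ := by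
    rw [smul_eq_mul, Ideal.mul_top]
    exact (IsLocalRing.maximalIdeal.isMaximal R).ne_top
  unfold LocCoh.depth LocCoh.idealDepth
  rw [if_neg hne]
  constructor
  · intro h hass
    -- some weakly regular sequence of positive length
    have hex : ∃ rs : List R, (IsWeaklyRegular R rs ∧ ∀ r ∈ rs, r ∈ IsLocalRing.maximalIdeal R) ∧
        1 ≤ rs.length := by
      by_contra hcon
      push Not at hcon
      have : (⨆ (rs : List R) (_ : IsWeaklyRegular R rs ∧
          ∀ r ∈ rs, r ∈ IsLocalRing.maximalIdeal R), (rs.length : ℕ∞)) ≤ 0 := by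
        refine iSup₂_le fun rs hrs => ?_
        have := hcon rs hrs
        have h0 : rs.length = 0 := by omega
        rw [h0]
        rfl
      have h1 : (1 : ℕ∞) ≤ 0 := h.trans this
      exact absurd h1 (by norm_num)
    obtain ⟨rs, ⟨hreg, hmem⟩, hlen⟩ := hex
    cases rs with
    | nil => simp at hlen
    | cons r rs' =>
      have hr : IsSMulRegular R r := ((isWeaklyRegular_cons_iff R r rs').mp hreg).1
      have hrm : r ∈ IsLocalRing.maximalIdeal R := hmem r (List.mem_cons_self)
      rw [isAssociatedPrime_iff] at hass
      obtain ⟨hprime, b, hb⟩ := hass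
      have hb0 : b ≠ 0 := by
        rintro rfl
        apply hprime.ne_top
        rw [hb, Ideal.eq_top_iff_one, Submodule.mem_colon_singleton]
        simp
      rw [hb, Submodule.mem_colon_singleton, Submodule.mem_bot] at hrm
      exact hb0 (hr.right_eq_zero_of_smul hrm)
  · intro hass
    have hex : ∃ r ∈ IsLocalRing.maximalIdeal R, r ∈ nonZeroDivisors R := by
      by_contra hcon
      push Not at hcon
      have hdisj : Disjoint ((IsLocalRing.maximalIdeal R : Ideal R) : Set R)
          (nonZeroDivisors R) := by
        rw [Set.disjoint_left]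
        exact fun r hr hr' => hcon r hr hr'
      have hlt := Ideal.bot_lt_annihilator_of_disjoint_nonZeroDivisors hdisj
      obtain ⟨b, hb, hb0⟩ := SetLike.exists_of_lt hlt
      have hb0' : b ≠ 0 := fun h => hb0 (by rw [h]; exact Submodule.zero_mem _)
      apply hass
      rw [isAssociatedPrime_iff]
      refine ⟨(IsLocalRing.maximalIdeal.isMaximal R).isPrime, b, ?_⟩
      have hle : IsLocalRing.maximalIdeal R ≤ Submodule.colon (⊥ : Submodule R R) {b} := by
        intro a ha
        rw [Submodule.mem_colon_singleton, Submodule.mem_bot, smul_eq_mul, mul_comm]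
        have := (Module.mem_annihilator.mp hb) ⟨a, ha⟩
        have h2 := congrArg Subtype.val this
        simpa using h2
      have hne' : Submodule.colon (⊥ : Submodule R R) {b} ≠ ⊤ := by
        intro htop
        have h1 : (1 : R) ∈ Submodule.colon (⊥ : Submodule R R) {b} := by
          rw [htop]; exact Submodule.mem_top
        rw [Submodule.mem_colon_singleton, Submodule.mem_bot, one_smul] at h1
        exact hb0' h1
      exact (IsLocalRing.maximalIdeal.isMaximal R).eq_of_le hne' hle
    obtain ⟨r, hrm, hr⟩ := hex
    have hreg : IsWeaklyRegular R [r] := by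
      rw [isWeaklyRegular_singleton_iff]
      rw [isSMulRegular_iff_right_eq_zero_of_smul]
      intro m hm
      rw [smul_eq_mul, mul_comm] at hm
      exact (mem_nonZeroDivisors_iff_right.mp hr) m hm
    refine le_iSup₂_of_le [r] ⟨hreg, ?_⟩ ?_
    · intro r' hr'
      rw [List.mem_singleton] at hr'
      rw [hr']
      exact hrm
    · simp

end Groth.Agent.H19.DepthOne

namespace Groth.Agent.H19.DepthOne

theorem main (X : Scheme.{u}) [IsLocallyNoetherian X] (U : X.Opens) :
    CInt.IsSchematicallyDense U ↔
      ∀ x : ↥X, x ∉ U →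
        (1 : ℕ∞) ≤ LocCoh.depth ↑(X.presheaf.stalk x) ↑(X.presheaf.stalk x) := by
  rw [AssPoints.main X U]
  constructor
  · intro h x hxU
    rw [one_le_depth_iff]
    exact fun hass => hxU (h x hass)
  · intro h x hass
    by_contra hxU
    exact (one_le_depth_iff _).mp (h x hxU) hass

end Groth.Agent.H19.DepthOne
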