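import Mathlib.RingTheory.Kaehler.Basic
import Mathlib.RingTheory.TensorProduct.Basic
import Groth.Prelude.Def_DiffOp

/-!
Differential operators and the diagonal ideal.  The first part (up to
`isDiffOpLE_iff_vanishesOnPow`) is a self-contained copy of helper14's
`Groth.Agent.H14.DiffOpLin` (kept here to avoid cross-dependencies).
-/

set_option autoImplicit false
universe u v

namespace Groth.Agent.H19

open Diff16
open scoped TensorProduct

section

variable (A B : Type u) [CommRing A] [CommRing B] [Algebra A B]
variable (M N : Type v) [AddCommGroup M] [Module A M] [Module B M] [IsScalarTower A B M]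
  [AddCommGroup N] [Module A N] [Module B N] [IsScalarTower A B N]

@[simp]
theorem commutator_apply (D : M →ₗ[A] N) (b : B) (m : M) :
    Diff16.commutator A B M N D b m = D (b • m) - b • D m := by
  simp [Diff16.commutator]

omit [Module B M] [IsScalarTower A B M] in
@[simp]
theorem linearize_tmul (D : M →ₗ[A] N) (b : B) (m : M) :
    Diff16.linearize A B M N D (b ⊗ₜ[A] m) = b • D m := by
  simp [Diff16.linearize]

end

section

variable (A B : Type u) [CommRing A] [CommRing B] [Algebra A B]
variable (N : Type u) [AddCommGroup N] [Module A N] [Module B N] [IsScalarTower A B N]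

theorem linearize_mul_gen (D : B →ₗ[A] N) (b : B) (x : B ⊗[A] B) :
    Diff16.linearize A B B N D (x * ((1 : B) ⊗ₜ[A] b - b ⊗ₜ[A] (1 : B))) =
      Diff16.linearize A B B N (Diff16.commutator A B B N D b) x := by
  induction x using TensorProduct.induction_on with
  | zero => simp
  | tmul c m =>
    rw [mul_sub, Algebra.TensorProduct.tmul_mul_tmul, Algebra.TensorProduct.tmul_mul_tmul, map_sub,
      linearize_tmul, linearize_tmul, linearize_tmul, commutator_apply, mul_one, mul_one,
      smul_sub, mul_smul, smul_eq_mul, mul_comm m b]
  | add x y hx hy => rw [add_mul, map_add, map_add, hx, hy]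

/-- vanishing of the linearization on the `n`-th power of the diagonal ideal -/
def VanishesOnPow (n : ℕ) (D : B →ₗ[A] N) : Prop :=
  ∀ x ∈ (KaehlerDifferential.ideal A B) ^ n, Diff16.linearize A B B N D x = 0

theorem vanishesOnPow_zero_iff (D : B →ₗ[A] N) : VanishesOnPow A B N 0 D ↔ D = 0 := by
  constructor
  · intro h
    ext m
    have := h ((1 : B) ⊗ₜ[A] m) (by simp)
    simpa using this
  · rintro rfl x _
    clear * -
    induction x using TensorProduct.induction_on with
    | zero => simp
    | tmul c m => simp
    | add x y hx hy => rw [map_add, hx, hy, add_zero]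

theorem vanishesOnPow_succ_iff (n : ℕ) (D : B →ₗ[A] N) :
    VanishesOnPow A B N (n + 1) D ↔
      ∀ b : B, VanishesOnPow A B N n (Diff16.commutator A B B N D b) := by
  constructor
  · intro h b x hx
    rw [← linearize_mul_gen]
    apply h
    rw [pow_succ]
    exact Ideal.mul_mem_mul hx (KaehlerDifferential.one_smul_sub_smul_one_mem_ideal A b)
  · intro h x hx
    rw [pow_succ] at hx
    refine Submodule.mul_induction_on hx ?_ ?_
    · intro m hm y hy
      rw [← KaehlerDifferential.span_range_eq_ideal] at hy
      revert m
      refine Submodule.span_induction ?_ ?_ ?_ ?_ hy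
      · rintro _ ⟨b, rfl⟩ m hm
        rw [linearize_mul_gen]
        exact h b m hm
      · intro m _
        simp
      · intro y z _ _ hy hz m hm
        rw [mul_add, map_add, hy m hm, hz m hm, add_zero]
      · intro r y _ hy m hm
        rw [smul_eq_mul, ← mul_assoc]
        exact hy (m * r) (Ideal.mul_mem_right r _ hm)
    · intro y z hy hz
      rw [map_add, hy, hz, add_zero]

theorem isDiffOpLE_iff_vanishesOnPow (n : ℕ) (D : B →ₗ[A] N) :
    IsDiffOpLE A B B N n D ↔ VanishesOnPow A B N (n + 1) D := by
  induction n generalizing D with
  | zero =>
    rw [vanishesOnPow_succ_iff]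
    constructor
    · intro h b
      rw [vanishesOnPow_zero_iff]
      ext m
      have := h b m
      rw [smul_eq_mul] at this
      simp [this]
    · intro h b m
      have := (vanishesOnPow_zero_iff A B N _).mp (h b)
      have h2 := congrArg (fun f => f m) this
      simp only [commutator_apply, LinearMap.zero_apply] at h2
      exact sub_eq_zero.mp h2
  | succ n ih =>
    rw [vanishesOnPow_succ_iff]
    constructor
    · intro h b
      exact (ih _).mp (h b)
    · intro h b
      exact (ih _).mpr (h b)

end

section family

variable (A B : Type u) [CommRing A] [CommRing B] [Algebra A B]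
variable (M N : Type u) [AddCommGroup M] [Module A M] [Module B M] [IsScalarTower A B M]
  [AddCommGroup N] [Module A N] [Module B N] [IsScalarTower A B N]

/-- The operator `c ↦ D (c • m)` on `B`. -/
noncomputable def atElem (D : M →ₗ[A] N) (m : M) : B →ₗ[A] N :=
  D ∘ₗ ((LinearMap.toSpanSingleton B M m).restrictScalars A)

omit [Module B N] [IsScalarTower A B N] in
@[simp]
theorem atElem_apply (D : M →ₗ[A] N) (m : M) (c : B) : atElem A B M N D m c = D (c • m) := rfl

theorem commutator_atElem (D : M →ₗ[A] N) (m : M) (b : B) :
    Diff16.commutator A B B N (atElem A B M N D m) b =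
      atElem A B M N (Diff16.commutator A B M N D b) m := by
  ext c
  simp [mul_smul]

theorem isDiffOpLE_iff_forall_atElem (n : ℕ) (D : M →ₗ[A] N) :
    IsDiffOpLE A B M N n D ↔ ∀ m : M, IsDiffOpLE A B B N n (atElem A B M N D m) := by
  induction n generalizing D with
  | zero =>
    constructor
    · intro h m b c
      simp only [atElem_apply, smul_eq_mul, mul_smul]
      exact h b (c • m)
    · intro h b m
      have := h m b 1
      simpa using this
  | succ n ih =>
    constructor
    · intro h m b
      rw [commutator_atElem]
      exact (ih _).mp (h b) m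
    · intro h b
      rw [ih]
      intro m
      rw [← commutator_atElem]
      exact h m b

end family

end Groth.Agent.H19
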