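import Groth.Agent.H14.DiffOpGen
import Mathlib.Algebra.Module.LocalizedModule.Basic
import Mathlib.RingTheory.Localization.Basic

/-!
# Differential operators extend uniquely to localizations

A differential operator `D : M → N` of order `≤ k` relative to `A → B` has a unique extension
`S⁻¹M → S⁻¹N` which is a differential operator of order `≤ k` relative to `A → S⁻¹B`.
-/

set_option autoImplicit false
set_option linter.unusedSectionVars false

universe u

namespace Groth.Agent.H19.DiffOpLoc

open Diff16 Groth.Agent.H14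

section general

variable (A B B' : Type u) [CommRing A] [CommRing B] [Algebra A B] [CommRing B'] [Algebra B B']
  [Algebra A B'] [IsScalarTower A B B'] (S : Submonoid B) [IsLocalization S B']

section cancel

variable (Q : Type u) [AddCommGroup Q] [Module B Q] [Module B' Q] [IsScalarTower B B' Q]

include B' S in
theorem smul_cancel (s : S) (q : Q) (h : (s : B) • q = 0) : q = 0 := by
  have : q = (IsLocalization.mk' B' (1 : B) s) • ((s : B) • q) := by
    rw [← algebraMap_smul B' (s : B) q, smul_smul, IsLocalization.mk'_spec, map_one, one_smul]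
  rw [this, h, smul_zero]

include B' S in
theorem smul_cancel' (s : S) (q q' : Q) (h : (s : B) • q = (s : B) • q') : q = q' := by
  have : (s : B) • (q - q') = 0 := by rw [smul_sub, h, sub_self]
  exact sub_eq_zero.mp (smul_cancel B B' S Q s _ this)

theorem smul_mk'_smul (b : B) (t : S) (q : Q) :
    (t : B) • (IsLocalization.mk' B' b t • q) = b • q := by
  rw [← algebraMap_smul B' (t : B), smul_smul, IsLocalization.mk'_spec', algebraMap_smul]

end cancel

variable (P Q : Type u) [AddCommGroup P] [Module A P] [Module B P] [Module B' P]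
  [IsScalarTower A B P] [IsScalarTower A B' P] [IsScalarTower B B' P]
  [AddCommGroup Q] [Module A Q] [Module B Q] [Module B' Q]
  [IsScalarTower A B Q] [IsScalarTower A B' Q] [IsScalarTower B B' Q]

/-- order `≤ k` over `B'` implies order `≤ k` over `B` -/
theorem isDiffOpLE_restrict : ∀ (k : ℕ) (E : P →ₗ[A] Q),
    IsDiffOpLE A B' P Q k E → IsDiffOpLE A B P Q k E := by
  intro k
  induction k with
  | zero =>
    intro E h b x
    have := h (algebraMap B B' b) x
    rwa [algebraMap_smul, algebraMap_smul] at this
  | succ k ih =>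
    intro E h b
    have hc : Diff16.commutator A B P Q E b =
        Diff16.commutator A B' P Q E (algebraMap B B' b) := by
      ext x
      rw [commutator_apply, commutator_apply, algebraMap_smul, algebraMap_smul]
    rw [hc]
    exact ih _ (h _)

theorem isDiffOpLE_mulLeft (β : B') : IsDiffOpLE A B Q Q 0 (mulLeftₗ A B' Q β) := by
  intro b q
  rw [mulLeftₗ_apply, mulLeftₗ_apply, smul_comm]

include S in
/-- order `≤ k` over `B` implies order `≤ k` over the localization `B'` -/
theorem isDiffOpLE_extend : ∀ (k : ℕ) (E : P →ₗ[A] Q),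
    IsDiffOpLE A B P Q k E → IsDiffOpLE A B' P Q k E := by
  intro k
  induction k with
  | zero =>
    intro E h β x
    obtain ⟨b, t, rfl⟩ := IsLocalization.exists_mk'_eq S β
    apply smul_cancel' B B' S Q t
    rw [← h, smul_mk'_smul, smul_mk'_smul, h]
  | succ k ih =>
    intro E h β
    apply ih
    obtain ⟨b, t, rfl⟩ := IsLocalization.exists_mk'_eq S β
    set β := IsLocalization.mk' B' b t with hβ
    set τ := IsLocalization.mk' B' (1 : B) t with hτ
    have hid : Diff16.commutator A B' P Q E β =
        (Diff16.commutator A B P Q E b -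
          mulLeftₗ A B' Q β ∘ₗ Diff16.commutator A B P Q E (t : B)) ∘ₗ mulLeftₗ A B' P τ := by
      ext x
      have hx : x = (t : B) • (τ • x) := by
        rw [hτ, smul_mk'_smul, one_smul]
      have hβx : β • x = b • (τ • x) := by
        conv_lhs => rw [hx]
        rw [smul_comm, hβ, smul_mk'_smul]
      rw [commutator_apply, LinearMap.comp_apply, LinearMap.sub_apply, LinearMap.comp_apply,
        commutator_apply, commutator_apply, mulLeftₗ_apply, mulLeftₗ_apply, smul_sub,
        ← hx, hβx]
      have h2 : β • ((t : B) • E (τ • x)) = b • E (τ • x) := by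
        rw [smul_comm, hβ, smul_mk'_smul]
      rw [h2]
      abel
    rw [hid]
    have h1 : IsDiffOpLE A B P Q k
        (mulLeftₗ A B' Q β ∘ₗ Diff16.commutator A B P Q E (t : B)) := by
      have := isDiffOpLE_comp A B P Q Q (h (t : B)) (isDiffOpLE_mulLeft A B B' Q β)
      rwa [add_zero] at this
    have h2 := isDiffOpLE_sub A B P Q (h b) h1
    have h3 := isDiffOpLE_comp A B P P Q (isDiffOpLE_mulLeft A B B' P τ) h2
    rwa [zero_add] at h3

end general

section loc

variable (A B B' : Type u) [CommRing A] [CommRing B] [Algebra A B] [CommRing B'] [Algebra B B']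
  [Algebra A B'] [IsScalarTower A B B'] (S : Submonoid B) [IsLocalization S B']
variable (M : Type u) [AddCommGroup M] [Module A M] [Module B M] [IsScalarTower A B M]
variable (Q : Type u) [AddCommGroup Q] [Module A Q] [Module B Q] [Module B' Q]
  [IsScalarTower A B Q] [IsScalarTower A B' Q] [IsScalarTower B B' Q]

include B' in
theorem eq_zero_of_mk_eq_zero₀ (E : LocalizedModule S M →ₗ[A] Q)
    (h : IsDiffOpLE A B (LocalizedModule S M) Q 0 E)
    (h0 : ∀ m, E (LocalizedModule.mk m 1) = 0) : E = 0 := by
  ext x
  induction x with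
  | h m s =>
    rw [LinearMap.zero_apply]
    apply smul_cancel B B' S Q s
    rw [← h, LocalizedModule.smul'_mk]
    have : LocalizedModule.mk ((s : B) • m) s = LocalizedModule.mk m (1 : S) :=
      LocalizedModule.mk_cancel s m
    rw [this, h0]

include B' in
/-- an operator of finite order on `S⁻¹M` vanishing on `M` is zero -/
theorem eq_zero_of_mk_eq_zero : ∀ (k : ℕ) (E : LocalizedModule S M →ₗ[A] Q),
    IsDiffOpLE A B (LocalizedModule S M) Q k E →
    (∀ m, E (LocalizedModule.mk m 1) = 0) → E = 0 := by
  intro k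
  induction k with
  | zero => exact eq_zero_of_mk_eq_zero₀ A B B' S M Q
  | succ k ih =>
    intro E h h0
    have hc : ∀ b, Diff16.commutator A B (LocalizedModule S M) Q E b = 0 := by
      intro b
      apply ih _ (h b)
      intro m
      rw [commutator_apply, LocalizedModule.smul'_mk, h0, h0, smul_zero, sub_zero]
    apply eq_zero_of_mk_eq_zero₀ A B B' S M Q E _ h0
    intro b x
    have := LinearMap.congr_fun (hc b) x
    rw [commutator_apply, LinearMap.zero_apply, sub_eq_zero] at this
    exact this

include B' S in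
theorem eq_zero_of_smul_eq_zero₀ (s : S) (D₁ : M →ₗ[A] Q) (h : IsDiffOpLE A B M Q 0 D₁)
    (h0 : ∀ m, D₁ ((s : B) • m) = 0) : D₁ = 0 := by
  ext m
  rw [LinearMap.zero_apply]
  apply smul_cancel B B' S Q s
  rw [← h, h0]

include B' S in
theorem eq_zero_of_smul_eq_zero (s : S) : ∀ (k : ℕ) (D₁ : M →ₗ[A] Q),
    IsDiffOpLE A B M Q k D₁ → (∀ m, D₁ ((s : B) • m) = 0) → D₁ = 0 := by
  intro k
  induction k with
  | zero => exact eq_zero_of_smul_eq_zero₀ A B B' S M Q s
  | succ k ih =>
    intro D₁ h h0
    have hc : ∀ b, Diff16.commutator A B M Q D₁ b = 0 := by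
      intro b
      apply ih _ (h b)
      intro m
      rw [commutator_apply, smul_comm, h0, h0, smul_zero, sub_zero]
    apply eq_zero_of_smul_eq_zero₀ A B B' S M Q s D₁ _ h0
    intro b x
    have := LinearMap.congr_fun (hc b) x
    rw [commutator_apply, LinearMap.zero_apply, sub_eq_zero] at this
    exact this

include B' S in
/-- precomposition with `s ∈ S` is surjective on operators of order `≤ k` -/
theorem exists_inv (s : S) : ∀ (k : ℕ) (D : M →ₗ[A] Q), IsDiffOpLE A B M Q k D →
    ∃ D' : M →ₗ[A] Q, IsDiffOpLE A B M Q k D' ∧ ∀ m, D' ((s : B) • m) = D m := by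
  intro k
  set τ := IsLocalization.mk' B' (1 : B) s with hτ
  have hτs : ∀ q : Q, τ • ((s : B) • q) = q := by
    intro q
    rw [smul_comm, hτ, smul_mk'_smul, one_smul]
  induction k with
  | zero =>
    intro D h
    refine ⟨mulLeftₗ A B' Q τ ∘ₗ D, ?_, ?_⟩
    · have := isDiffOpLE_comp A B M Q Q h (isDiffOpLE_mulLeft A B B' Q τ)
      rwa [add_zero] at this
    · intro m
      rw [LinearMap.comp_apply, mulLeftₗ_apply, h, hτs]
  | succ k ih =>
    intro D h
    obtain ⟨G, hG, hGs⟩ := ih _ (h (s : B))
    refine ⟨mulLeftₗ A B' Q τ ∘ₗ (D - G), ?_, ?_⟩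
    · have h1 := isDiffOpLE_sub A B M Q h (isDiffOpLE_succ_of_le A B M Q hG)
      have := isDiffOpLE_comp A B M Q Q h1 (isDiffOpLE_mulLeft A B B' Q τ)
      rwa [add_zero] at this
    · intro m
      rw [LinearMap.comp_apply, mulLeftₗ_apply, LinearMap.sub_apply, hGs, commutator_apply,
        sub_sub_cancel, hτs]

/-- an `A`-linear map on `S⁻¹M` given on `m/s` by operators of order `≤ k` has order `≤ k` -/
theorem isDiffOpLE_of_family : ∀ (k : ℕ) (E : LocalizedModule S M →ₗ[A] Q)
    (F : S → M →ₗ[A] Q), (∀ s, IsDiffOpLE A B M Q k (F s)) →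
    (∀ m s, E (LocalizedModule.mk m s) = F s m) →
    IsDiffOpLE A B (LocalizedModule S M) Q k E := by
  intro k
  induction k with
  | zero =>
    intro E F hF hE b x
    induction x with
    | h m s =>
      rw [LocalizedModule.smul'_mk, hE, hE, hF s b m]
  | succ k ih =>
    intro E F hF hE b
    apply ih _ (fun s => Diff16.commutator A B M Q (F s) b) (fun s => hF s b)
    intro m s
    rw [commutator_apply, commutator_apply, LocalizedModule.smul'_mk, hE, hE]

section ext

variable {A B M Q} (k : ℕ) (D : M →ₗ[A] Q) (hD : IsDiffOpLE A B M Q k D)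

/-- the operator `D ∘ s⁻¹` -/
noncomputable def dinv (s : S) : M →ₗ[A] Q :=
  Classical.choose (exists_inv A B B' S M Q s k D hD)

theorem dinv_isDiffOpLE (s : S) : IsDiffOpLE A B M Q k (dinv B' S k D hD s) :=
  (Classical.choose_spec (exists_inv A B B' S M Q s k D hD)).1

theorem dinv_smul (s : S) (m : M) : dinv B' S k D hD s ((s : B) • m) = D m :=
  (Classical.choose_spec (exists_inv A B B' S M Q s k D hD)).2 m

theorem dinv_mul (s t : S) (m : M) :
    dinv B' S k D hD (s * t) ((t : B) • m) = dinv B' S k D hD s m := by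
  have h1 : IsDiffOpLE A B M Q k
      (dinv B' S k D hD (s * t) ∘ₗ mulLeftₗ A B M (t : B) - dinv B' S k D hD s) := by
    refine isDiffOpLE_sub A B M Q ?_ (dinv_isDiffOpLE B' S k D hD s)
    exact isDiffOpLE_comp_mulLeftₗ A B M Q (dinv_isDiffOpLE B' S k D hD (s * t)) _
  have h2 := eq_zero_of_smul_eq_zero A B B' S M Q s k _ h1 (by
    intro m
    rw [LinearMap.sub_apply, LinearMap.comp_apply, mulLeftₗ_apply, dinv_smul, smul_smul,
      mul_comm, ← Submonoid.coe_mul, dinv_smul, sub_self])
  have := LinearMap.congr_fun h2 m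
  rw [LinearMap.sub_apply, LinearMap.comp_apply, mulLeftₗ_apply, LinearMap.zero_apply,
    sub_eq_zero] at this
  exact this

theorem dinv_mul' (s t : S) (m : M) :
    dinv B' S k D hD (s * t) ((s : B) • m) = dinv B' S k D hD t m := by
  rw [mul_comm]
  exact dinv_mul B' S k D hD t s m

theorem dinv_one (m : M) : dinv B' S k D hD 1 m = D m := by
  have := dinv_smul B' S k D hD 1 m
  rwa [Submonoid.coe_one, one_smul] at this

/-- the extension as a function -/
noncomputable def extFun (x : LocalizedModule S M) : Q :=
  x.liftOn (fun p => dinv B' S k D hD p.2 p.1) (by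
    rintro ⟨m, s⟩ ⟨m', s'⟩ ⟨u, hu⟩
    change dinv B' S k D hD s m = dinv B' S k D hD s' m'
    have hu' : ((s' * u : S) : B) • m = ((s * u : S) : B) • m' := by
      rw [Submonoid.coe_mul, Submonoid.coe_mul, mul_comm (s' : B), mul_comm (s : B),
        mul_smul, mul_smul]
      exact hu
    rw [← dinv_mul B' S k D hD s (s' * u) m, ← dinv_mul B' S k D hD s' (s * u) m', hu']
    congr 2
    rw [mul_left_comm])

theorem extFun_mk (m : M) (s : S) :
    extFun B' S k D hD (LocalizedModule.mk m s) = dinv B' S k D hD s m := by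
  rw [extFun, LocalizedModule.liftOn_mk]

/-- the extension of `D` to the localization -/
noncomputable def ext : LocalizedModule S M →ₗ[A] Q where
  toFun := extFun B' S k D hD
  map_add' := by
    intro x y
    induction x, y using LocalizedModule.induction_on₂ with
    | h m m' s s' =>
      rw [LocalizedModule.mk_add_mk, extFun_mk, extFun_mk, extFun_mk, map_add]
      congr 1
      · exact dinv_mul B' S k D hD s s' m
      · exact dinv_mul' B' S k D hD s s' m'
  map_smul' := by
    intro a x
    induction x with
    | h m s =>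
      rw [LocalizedModule.smul'_mk, extFun_mk, extFun_mk, map_smul, RingHom.id_apply]

theorem ext_mk (m : M) (s : S) :
    ext B' S k D hD (LocalizedModule.mk m s) = dinv B' S k D hD s m :=
  extFun_mk B' S k D hD m s

theorem ext_isDiffOpLE : IsDiffOpLE A B (LocalizedModule S M) Q k (ext B' S k D hD) :=
  isDiffOpLE_of_family A B S M Q k _ (dinv B' S k D hD) (dinv_isDiffOpLE B' S k D hD)
    (ext_mk B' S k D hD)

end ext

end loc

section final

variable (A B : Type u) [CommRing A] [CommRing B] [Algebra A B]
  (S : Submonoid B) (M N : Type u) [AddCommGroup M] [Module B M] [Module A M] [IsScalarTower A B M]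
  [AddCommGroup N] [Module B N] [Module A N] [IsScalarTower A B N]

theorem main (k : ℕ) (D : M →ₗ[A] N) (hD : IsDiffOpLE A B M N k D) :
    ∃! E : LocalizedModule S M →ₗ[A] LocalizedModule S N,
      IsDiffOpLE A (Localization S) (LocalizedModule S M) (LocalizedModule S N) k E ∧
        E ∘ₗ (LocalizedModule.mkLinearMap S M).restrictScalars A =
          (LocalizedModule.mkLinearMap S N).restrictScalars A ∘ₗ D := by
  set ιN : N →ₗ[A] LocalizedModule S N := (LocalizedModule.mkLinearMap S N).restrictScalars A
    with hιN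
  have hι0 : IsDiffOpLE A B N (LocalizedModule S N) 0 ιN := by
    intro b n
    exact (LocalizedModule.mkLinearMap S N).map_smul b n
  have hD₀ : IsDiffOpLE A B M (LocalizedModule S N) k (ιN ∘ₗ D) := by
    have := isDiffOpLE_comp A B M N (LocalizedModule S N) hD hι0
    rwa [add_zero] at this
  refine ⟨ext (Localization S) S k (ιN ∘ₗ D) hD₀, ⟨?_, ?_⟩, ?_⟩
  · exact isDiffOpLE_extend A B (Localization S) S _ _ k _
      (ext_isDiffOpLE (Localization S) S k (ιN ∘ₗ D) hD₀)
  · ext m
    show ext (Localization S) S k (ιN ∘ₗ D) hD₀ (LocalizedModule.mk m 1) = _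
    rw [ext_mk, dinv_one]
  · rintro E ⟨hE, hEι⟩
    have h1 := isDiffOpLE_restrict A B (Localization S) _ _ k E hE
    have h2 := ext_isDiffOpLE (Localization S) S k (ιN ∘ₗ D) hD₀
    have h3 := isDiffOpLE_sub A B _ _ h1 h2
    have h4 := eq_zero_of_mk_eq_zero A B (Localization S) S M (LocalizedModule S N) k _ h3 (by
      intro m
      rw [LinearMap.sub_apply, ext_mk, dinv_one]
      have := LinearMap.congr_fun hEι m
      rw [LinearMap.comp_apply] at this
      rw [sub_eq_zero]
      exact this)
    exact sub_eq_zero.mp h4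

end final

end Groth.Agent.H19.DiffOpLoc
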