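import Mathlib

/-!
# Dominant morphisms of integral schemes (H19)
-/

namespace Groth.Agent.H19.DomTFAE

open AlgebraicGeometry CategoryTheory TopologicalSpace

universe u

variable {X Y : Scheme.{u}}

/-- If the stalk map at `x` is injective, so are the maps on sections from opens of an integral
target to opens around `x`. -/
theorem appLE_injective_of_stalkMap_injective [IsIntegral Y] (f : X ⟶ Y) (x : X)
    (hx : Function.Injective (f.stalkMap x)) (U : X.Opens) (V : Y.Opens) (hUV : U ≤ f ⁻¹ᵁ V)
    (hxU : x ∈ U) : Function.Injective (f.appLE V U hUV) := by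
  have h1 : f.appLE V U hUV ≫ X.presheaf.germ U x hxU =
      Y.presheaf.germ V (f x) (hUV hxU) ≫ f.stalkMap x := by
    rw [Scheme.Hom.germ_stalkMap, Scheme.Hom.appLE, Category.assoc, X.presheaf.germ_res]
  intro a b hab
  have h2 := congrArg (fun φ => φ a) h1
  have h3 := congrArg (fun φ => φ b) h1
  simp only [CommRingCat.comp_apply] at h2 h3
  rw [hab, h3] at h2
  exact germ_injective_of_isIntegral Y (f x) (hUV hxU) (hx h2.symm)

/-- A ring map out of the local ring at the generic point of an integral scheme is injective. -/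
theorem injective_of_source_genericPoint [IsIntegral Y] {R : CommRingCat.{u}} [Nontrivial R]
    (y : Y) (hy : y = genericPoint Y) (φ : Y.presheaf.stalk y ⟶ R) : Function.Injective φ := by
  subst hy
  exact RingHom.injective (R := Y.functionField) φ.hom

/-- Cospecialization maps of stalks of an integral scheme are injective. -/
theorem stalkSpecializes_injective [IsIntegral X] {x x' : X} (h : x ⤳ x') :
    Function.Injective (X.presheaf.stalkSpecializes h) := by
  rw [injective_iff_map_eq_zero]
  intro s hs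
  obtain ⟨U, hxU, t, rfl⟩ := X.presheaf.exists_germ_eq s
  rw [TopCat.Presheaf.germ_stalkSpecializes_apply] at hs
  have : t = 0 := by
    apply germ_injective_of_isIntegral X x (h.mem_open U.isOpen hxU)
    rw [hs, map_zero]
  rw [this, map_zero]

theorem stalkMap_injective_of_genericPoint [IsIntegral X] [IsIntegral Y] (f : X ⟶ Y)
    (h : f (genericPoint X) = genericPoint Y) (x : X) : Function.Injective (f.stalkMap x) := by
  have hsp : genericPoint X ⤳ x := (genericPoint_spec X).specializes trivial
  have h1 := f.stalkSpecializes_stalkMap (genericPoint X) x hsp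
  have h2 : Function.Injective (f.stalkMap (genericPoint X)) :=
    injective_of_source_genericPoint (R := X.presheaf.stalk (genericPoint X)) _ h _
  have h3 : Function.Injective
      (Y.presheaf.stalkSpecializes (f.base.hom.map_specializes hsp) ≫
        f.stalkMap (genericPoint X)) := by
    intro a b hab
    simp only [CommRingCat.comp_apply] at hab
    exact stalkSpecializes_injective _ (h2 hab)
  rw [h1] at h3
  intro a b hab
  apply h3
  simp only [CommRingCat.comp_apply, hab]

theorem genericPoint_of_isDominant [IsIntegral X] [IsIntegral Y] (f : X ⟶ Y) [IsDominant f] :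
    f (genericPoint X) = genericPoint Y := by
  apply ((genericPoint_spec Y).eq _).symm
  have h1 := (genericPoint_spec X).image f.continuous
  rwa [Set.image_univ, f.denseRange.closure_range] at h1

theorem isDominant_of_genericPoint [IsIntegral X] [IsIntegral Y] (f : X ⟶ Y)
    (h : f (genericPoint X) = genericPoint Y) : IsDominant f := by
  constructor
  rw [DenseRange, dense_iff_closure_eq]
  apply Set.eq_univ_of_univ_subset
  have h2 : closure {genericPoint Y} = (Set.univ : Set Y) := genericPoint_spec Y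
  rw [← h2, ← h]
  exact closure_mono (Set.singleton_subset_iff.mpr ⟨_, rfl⟩)

theorem isDominant_of_appLE_injective [IsIntegral Y] (f : X ⟶ Y) (U : X.Opens) (V : Y.Opens)
    (hUV : U ≤ f ⁻¹ᵁ V) (hU : IsAffineOpen U) (hV : IsAffineOpen V)
    (hne : (U : Set X).Nonempty) (hinj : Function.Injective (f.appLE V U hUV)) :
    IsDominant f := by
  have h1 := IsAffineOpen.SpecMap_appLE_fromSpec f hV hU hUV
  have h2 : DenseRange (Spec.map (f.appLE V U hUV)) := by
    show DenseRange (PrimeSpectrum.comap (f.appLE V U hUV).hom)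
    rw [PrimeSpectrum.denseRange_comap_iff_ker_le_nilRadical,
      (RingHom.injective_iff_ker_eq_bot _).mp hinj]
    exact bot_le
  have hVne : (V : Set Y).Nonempty := by
    obtain ⟨x, hx⟩ := hne
    exact ⟨f x, hUV hx⟩
  have h3 : DenseRange hV.fromSpec := by
    rw [DenseRange, hV.range_fromSpec]
    exact V.isOpen.dense hVne
  have h4 : DenseRange (Spec.map (f.appLE V U hUV) ≫ hV.fromSpec) :=
    h3.comp h2 hV.fromSpec.continuous
  rw [h1] at h4
  exact ⟨h4.mono (Set.range_comp_subset_range _ _)⟩

theorem exists_affine_pair [IsIntegral X] (f : X ⟶ Y) :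
    ∃ (x : X) (U : X.Opens) (V : Y.Opens) (hUV : U ≤ f ⁻¹ᵁ V),
      IsAffineOpen U ∧ IsAffineOpen V ∧ x ∈ U := by
  obtain ⟨x⟩ : Nonempty X := inferInstance
  obtain ⟨_, ⟨V, hV, rfl⟩, hxV, -⟩ :=
    Y.isBasis_affineOpens.exists_subset_of_mem_open (Set.mem_univ (f x)) isOpen_univ
  obtain ⟨_, ⟨U, hU, rfl⟩, hxU, hUV⟩ :=
    X.isBasis_affineOpens.exists_subset_of_mem_open (show x ∈ (f ⁻¹ᵁ V : Set X) from hxV)
      (f ⁻¹ᵁ V).isOpen
  exact ⟨x, U, V, hUV, hU, hV, hxU⟩

/-- S9346. -/
theorem tfae [IsIntegral X] [IsIntegral Y] (f : X ⟶ Y) :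
    [IsDominant f,
      f.base (genericPoint ↑X) = genericPoint ↑Y,
      ∃ (U : X.Opens) (V : Y.Opens) (hUV : U ≤ f ⁻¹ᵁ V), IsAffineOpen U ∧ IsAffineOpen V ∧
        (U : Set ↑X).Nonempty ∧ Function.Injective (f.appLE V U hUV),
      ∀ (U : X.Opens) (V : Y.Opens) (hUV : U ≤ f ⁻¹ᵁ V), IsAffineOpen U → IsAffineOpen V →
        (U : Set ↑X).Nonempty → Function.Injective (f.appLE V U hUV),
      ∃ x : ↑X, Function.Injective (f.stalkMap x),
      ∀ x : ↑X, Function.Injective (f.stalkMap x)].TFAE := by
  tfae_have 1 → 2 := fun h => genericPoint_of_isDominant f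
  tfae_have 2 → 6 := fun h x => stalkMap_injective_of_genericPoint f h x
  tfae_have 6 → 4 := by
    rintro h U V hUV - - ⟨x, hx⟩
    exact appLE_injective_of_stalkMap_injective f x (h x) U V hUV hx
  tfae_have 4 → 3 := by
    intro h
    obtain ⟨x, U, V, hUV, hU, hV, hxU⟩ := exists_affine_pair f
    exact ⟨U, V, hUV, hU, hV, ⟨x, hxU⟩, h U V hUV hU hV ⟨x, hxU⟩⟩
  tfae_have 3 → 1 := by
    rintro ⟨U, V, hUV, hU, hV, hne, hinj⟩
    exact isDominant_of_appLE_injective f U V hUV hU hV hne hinj
  tfae_have 6 → 5 := by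
    intro h
    obtain ⟨x⟩ : Nonempty X := inferInstance
    exact ⟨x, h x⟩
  tfae_have 5 → 3 := by
    rintro ⟨x, hx⟩
    obtain ⟨_, ⟨V, hV, rfl⟩, hxV, -⟩ :=
      Y.isBasis_affineOpens.exists_subset_of_mem_open (Set.mem_univ (f x)) isOpen_univ
    obtain ⟨_, ⟨U, hU, rfl⟩, hxU, hUV⟩ :=
      X.isBasis_affineOpens.exists_subset_of_mem_open (show x ∈ (f ⁻¹ᵁ V : Set X) from hxV)
        (f ⁻¹ᵁ V).isOpen
    exact ⟨U, V, hUV, hU, hV, ⟨x, hxU⟩,
      appLE_injective_of_stalkMap_injective f x hx U V hUV hxU⟩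
  tfae_finish

end Groth.Agent.H19.DomTFAE
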