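import Mathlib.RingTheory.EssentialFiniteness
import Mathlib.RingTheory.Localization.AtPrime.Basic
import Mathlib.RingTheory.MvPolynomial.Basic
import Mathlib.RingTheory.Ideal.Over
import Mathlib.RingTheory.Valuation.LocalSubring
import Mathlib.RingTheory.LocalRing.ResidueField.Basic

/-!
# Local structure of essentially finite type algebras between local rings
-/

set_option linter.unusedSectionVars false

namespace Groth.Agent.H19.EssFinLocal

open IsLocalRing

universe u

variable {R S : Type u} [CommRing R] [CommRing S] [Algebra R S] [IsLocalRing R] [IsLocalRing S]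

theorem main [Algebra.EssFiniteType R S] :
    ∃ (n : ℕ) (m : Ideal (MvPolynomial (Fin n) R)) (_ : m.IsMaximal),
      m.under R = IsLocalRing.maximalIdeal R ∧
      ∃ (φ : Localization.AtPrime m →ₐ[R] S) (T : Submonoid φ.range), IsLocalization T S := by
  classical
  obtain ⟨σ, hσ⟩ := (Algebra.essFiniteType_iff R S).mp (inferInstance : Algebra.EssFiniteType R S)
  set res : S →+* ResidueField S := residue S with hres
  set f : R →+* ResidueField S := res.comp (algebraMap R S) with hf
  obtain ⟨V, hV, hloc⟩ := IsLocalRing.exists_factor_valuationRing f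
  have instV : IsLocalRing V.toSubring := inferInstanceAs (IsLocalRing V)
  -- modified generators
  let t : S → S := fun s => if res s ∈ V then s else Ring.inverse s
  have ht_mem : ∀ s, res (t s) ∈ V := by
    intro s
    by_cases h : res s ∈ V
    · simp only [t, if_pos h]; exact h
    · simp only [t, if_neg h]
      have hne : res s ≠ 0 := fun h0 => h (h0 ▸ V.zero_mem)
      have hu : IsUnit s := (residue_ne_zero_iff_isUnit s).mp hne
      obtain ⟨u, rfl⟩ := hu
      rw [Ring.inverse_unit]
      have : res (↑u⁻¹ : S) = (res (u : S))⁻¹ := by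
        have h1 : res (↑u⁻¹ : S) * res (u : S) = 1 := by
          rw [← map_mul, Units.inv_mul, map_one]
        exact eq_inv_of_mul_eq_one_left h1
      rw [this]
      exact (V.mem_or_inv_mem (res (u : S))).resolve_left h
  have ht_cases : ∀ s, t s = s ∨ (IsUnit (t s) ∧ t s * s = 1) := by
    intro s
    by_cases h : res s ∈ V
    · left; simp only [t, if_pos h]
    · right
      simp only [t, if_neg h]
      have hne : res s ≠ 0 := fun h0 => h (h0 ▸ V.zero_mem)
      have hu : IsUnit s := (residue_ne_zero_iff_isUnit s).mp hne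
      obtain ⟨u, rfl⟩ := hu
      rw [Ring.inverse_unit]
      exact ⟨(u⁻¹).isUnit, Units.inv_mul u⟩
  -- enumerate the generators
  let n := σ.card
  let e : Fin n ≃ σ := σ.equivFin.symm
  let gen : Fin n → S := fun i => t (e i : S)
  let φ₀ : MvPolynomial (Fin n) R →ₐ[R] S := MvPolynomial.aeval gen
  have hφ₀V : ∀ p, res (φ₀ p) ∈ V := by
    intro p
    induction p using MvPolynomial.induction_on with
    | C r =>
      have : φ₀ (MvPolynomial.C r) = algebraMap R S r := by simp [φ₀]
      rw [this]; exact hV r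
    | add p q hp hq => rw [map_add, map_add]; exact V.add_mem _ _ hp hq
    | mul_X p i hp =>
      rw [map_mul, map_mul]
      refine V.mul_mem _ _ hp ?_
      have : φ₀ (MvPolynomial.X i) = gen i := by simp [φ₀]
      rw [this]; exact ht_mem _
  let ψ : MvPolynomial (Fin n) R →+* V.toSubring :=
    (res.comp φ₀.toRingHom).codRestrict V.toSubring hφ₀V
  have hψ : ∀ p, ((ψ p : V.toSubring) : ResidueField S) = res (φ₀ p) := fun p => rfl
  set m₀ : Ideal (MvPolynomial (Fin n) R) := Ideal.comap ψ (maximalIdeal V.toSubring) with hm₀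
  have hm₀top : m₀ ≠ ⊤ := by
    intro h
    have h1 : (1 : MvPolynomial (Fin n) R) ∈ m₀ := h ▸ Submodule.mem_top
    rw [hm₀, Ideal.mem_comap, map_one] at h1
    exact (Ideal.ne_top_iff_one _).mp (IsLocalRing.maximalIdeal.isMaximal _).ne_top h1
  obtain ⟨m', hm', hle⟩ := Ideal.exists_le_maximal m₀ hm₀top
  have hunder : m'.under R = maximalIdeal R := by
    apply le_antisymm
    · apply IsLocalRing.le_maximalIdeal
      intro h
      have h1 : (1 : R) ∈ m'.under R := h ▸ Submodule.mem_top
      rw [Ideal.under_def, Ideal.mem_comap, map_one] at h1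
      exact (Ideal.ne_top_iff_one _).mp hm'.ne_top h1
    · intro r hr
      rw [Ideal.under_def, Ideal.mem_comap]
      apply hle
      rw [hm₀, Ideal.mem_comap, mem_maximalIdeal, mem_nonunits_iff]
      intro hu
      have h2 : ψ (algebraMap R _ r) = (f.codRestrict V.toSubring hV) r := by
        apply Subtype.ext
        change res (φ₀ (algebraMap R _ r)) = f r
        rw [AlgHom.commutes]
        rfl
      rw [h2] at hu
      have := hloc.map_nonunit r hu
      exact ((mem_maximalIdeal r).mp hr) this
  have : m'.IsPrime := hm'.isPrime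
  have hunits : ∀ y : m'.primeCompl, IsUnit (φ₀ y) := by
    rintro ⟨p, hp⟩
    have hp0 : p ∉ m₀ := fun h => hp (hle h)
    rw [hm₀, Ideal.mem_comap, mem_maximalIdeal, mem_nonunits_iff, not_not] at hp0
    apply (residue_ne_zero_iff_isUnit _).mp
    intro h0
    have : ψ p = 0 := Subtype.ext (by rw [hψ]; exact h0)
    rw [this] at hp0
    exact not_isUnit_zero hp0
  refine ⟨n, m', hm', hunder, ?_⟩
  let φ : Localization.AtPrime m' →ₐ[R] S := IsLocalization.liftAlgHom (M := m'.primeCompl) hunits
  refine ⟨φ, (IsUnit.submonoid S).comap (algebraMap φ.range S), ?_⟩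
  have hD : ∀ p : MvPolynomial (Fin n) R, φ₀ p ∈ φ.range := by
    intro p
    refine ⟨algebraMap _ _ p, ?_⟩
    change IsLocalization.lift hunits _ = _
    rw [IsLocalization.lift_eq]
    rfl
  have hgenD : ∀ i, gen i ∈ φ.range := by
    intro i
    have : φ₀ (MvPolynomial.X i) = gen i := by simp [φ₀]
    rw [← this]; exact hD _
  have key : ∀ a ∈ Algebra.adjoin R (σ : Set S), ∃ d ∈ φ.range, IsUnit d ∧ d * a ∈ φ.range := by
    intro a ha
    induction ha using Algebra.adjoin_induction with
    | mem s hs =>
      have hi : gen (e.symm ⟨s, hs⟩) = t s := by simp [gen]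
      rcases ht_cases s with h | ⟨hu, h⟩
      · refine ⟨1, one_mem _, isUnit_one, ?_⟩
        rw [one_mul, ← h, ← hi]; exact hgenD _
      · refine ⟨t s, hi ▸ hgenD _, hu, ?_⟩
        rw [h]; exact one_mem _
    | algebraMap r =>
      exact ⟨1, one_mem _, isUnit_one, by rw [one_mul]; exact Subalgebra.algebraMap_mem _ r⟩
    | add a b _ _ iha ihb =>
      obtain ⟨da, hda, hua, ha'⟩ := iha
      obtain ⟨db, hdb, hub, hb'⟩ := ihb
      refine ⟨da * db, mul_mem hda hdb, hua.mul hub, ?_⟩
      have : da * db * (a + b) = db * (da * a) + da * (db * b) := by ring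
      rw [this]
      exact add_mem (mul_mem hdb ha') (mul_mem hda hb')
    | mul a b _ _ iha ihb =>
      obtain ⟨da, hda, hua, ha'⟩ := iha
      obtain ⟨db, hdb, hub, hb'⟩ := ihb
      refine ⟨da * db, mul_mem hda hdb, hua.mul hub, ?_⟩
      have : da * db * (a * b) = (da * a) * (db * b) := by ring
      rw [this]
      exact mul_mem ha' hb'
  constructor; constructor
  · exact fun y => y.prop
  · intro z
    obtain ⟨b, hb, hub, hzb⟩ := hσ z
    obtain ⟨d₁, hd₁, hu₁, h₁⟩ := key b hb
    obtain ⟨d₂, hd₂, hu₂, h₂⟩ := key (z * b) hzb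
    refine ⟨⟨⟨d₁ * (d₂ * (z * b)), mul_mem hd₁ h₂⟩, ⟨⟨d₂ * (d₁ * b), mul_mem hd₂ h₁⟩, ?_⟩⟩, ?_⟩
    · change IsUnit (d₂ * (d₁ * b))
      exact hu₂.mul (hu₁.mul hub)
    · change z * (d₂ * (d₁ * b)) = d₁ * (d₂ * (z * b))
      ring
  · intro x y hxy
    exact ⟨1, by simpa using Subtype.ext hxy⟩

end Groth.Agent.H19.EssFinLocal
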