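import Groth.Prelude.Def_LambdaRing
import Mathlib.RingTheory.PowerSeries.Basic
import Mathlib.RingTheory.Nilpotent.Lemmas
import Mathlib.RingTheory.Polynomial.Basic

set_option autoImplicit false

namespace Groth.Agent.H19

open LambdaRing PowerSeries

universe u

variable {K : Type u} [CommRing K] [LambdaOps K]

theorem lamSeries_add (x y : K) : lamSeries (x + y) = lamSeries x * lamSeries y := by
  ext k
  simp only [lamSeries, coeff_mk, PowerSeries.coeff_mul]
  rw [LambdaOps.lam_add, Finset.Nat.sum_antidiagonal_eq_sum_range_succ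
    (fun i j => LambdaOps.lam i x * LambdaOps.lam j y)]

theorem constantCoeff_lamSeries (x : K) : constantCoeff (lamSeries x) = 1 := by
  rw [← coeff_zero_eq_constantCoeff_apply]
  simp [lamSeries, LambdaOps.lam_zero]

theorem isUnit_lamSeries (x : K) : IsUnit (lamSeries x) := by
  rw [PowerSeries.isUnit_iff_constantCoeff, constantCoeff_lamSeries]
  exact isUnit_one

theorem lamSeries_zero : lamSeries (0 : K) = 1 := by
  have h := lamSeries_add (0 : K) 0
  rw [add_zero] at h
  have hu := isUnit_lamSeries (0 : K)
  exact (hu.mul_left_cancel (by rw [← h, mul_one])).symm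

theorem lamSeries_neg_mul (x : K) : lamSeries (-x) * lamSeries x = 1 := by
  rw [← lamSeries_add, neg_add_cancel, lamSeries_zero]

theorem lamSeries_natCast_mul (n : ℕ) (x : K) : lamSeries ((n : K) * x) = lamSeries x ^ n := by
  induction n with
  | zero => simp [lamSeries_zero]
  | succ n ih => rw [Nat.cast_succ, add_mul, one_mul, lamSeries_add, ih, pow_succ]

variable (P : PosStructure K)

theorem lamSeries_line {w : K} (hw : P.IsLine w) :
    lamSeries w = 1 + PowerSeries.C w * PowerSeries.X := by
  ext k
  rcases k with _ | _ | k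
  · simp [lamSeries, LambdaOps.lam_zero]
  · simp [lamSeries, LambdaOps.lam_one, PowerSeries.coeff_one]
  · have h0 : LambdaOps.lam (k + 2) w = 0 := by
      apply P.lam_eq_zero w hw.1
      rw [hw.2]
      omega
    simp only [lamSeries, coeff_mk, h0, map_add, PowerSeries.coeff_one]
    rw [PowerSeries.coeff_succ_mul_X, PowerSeries.coeff_C]
    simp

theorem isLine_one : P.IsLine (1 : K) := by
  refine ⟨?_, map_one _⟩
  have := P.natCast_mem 1 one_pos
  simpa using this

include P in
theorem lamSeries_one : lamSeries (1 : K) = 1 + PowerSeries.X := by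
  rw [lamSeries_line P (isLine_one P)]
  simp

include P in
theorem lamSeries_natCast (n : ℕ) : lamSeries (n : K) = (1 + PowerSeries.X) ^ n := by
  have := lamSeries_natCast_mul n (1 : K)
  rwa [mul_one, lamSeries_one P] at this

theorem isUnit_of_isLine {w : K} (hw : P.IsLine w) : IsUnit w := by
  have := P.isUnit_lam w hw.1
  rwa [hw.2, Int.toNat_one, LambdaOps.lam_one] at this

theorem isLine_mul {v w : K} (hv : P.IsLine v) (hw : P.IsLine w) : P.IsLine (v * w) :=
  ⟨P.mul_mem v w hv.1 hw.1, by rw [map_mul, hv.2, hw.2, mul_one]⟩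

theorem isLine_pow {v : K} (hv : P.IsLine v) (n : ℕ) : P.IsLine (v ^ n) := by
  induction n with
  | zero => simpa using isLine_one P
  | succ n ih => rw [pow_succ]; exact isLine_mul P ih hv

/-- The polynomial `∑_{i ≤ ε(e)} λ^i(e) X^i`. -/
noncomputable def lamPoly (e : K) : Polynomial K :=
  ∑ i ∈ Finset.range ((P.aug e).toNat + 1), Polynomial.C (LambdaOps.lam i e) * Polynomial.X ^ i

theorem coe_lamPoly {e : K} (he : e ∈ P.pos) :
    ((lamPoly P e : Polynomial K) : PowerSeries K) = lamSeries e := by
  ext k
  rw [Polynomial.coeff_coe, lamPoly, Polynomial.finsetSum_coeff]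
  simp only [Polynomial.coeff_C_mul, Polynomial.coeff_X_pow, mul_ite, mul_one, mul_zero]
  rw [Finset.sum_ite_eq, lamSeries, coeff_mk]
  split_ifs with h
  · rfl
  · rw [Finset.mem_range, not_lt] at h
    symm
    apply P.lam_eq_zero e he
    have := P.aug_pos e he
    omega

theorem isNilpotent_sub_one_of_add_pos_eq_natCast {a e : K} (ha : P.IsLine a) (he : e ∈ P.pos)
    (m : ℕ) (h : a + e = m) : IsNilpotent (a - 1) := by
  have h1 : lamSeries a * lamSeries e = (1 + PowerSeries.X) ^ m := by
    rw [← lamSeries_add, h, lamSeries_natCast P]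
  rw [lamSeries_line P ha, ← coe_lamPoly P he] at h1
  have h2 : ((1 + Polynomial.C a * Polynomial.X) * lamPoly P e : Polynomial K) =
      (1 + Polynomial.X) ^ m := by
    apply Polynomial.coe_injective
    rw [Polynomial.coe_mul, Polynomial.coe_pow, Polynomial.coe_add, Polynomial.coe_add,
      Polynomial.coe_mul, Polynomial.coe_one, Polynomial.coe_C, Polynomial.coe_X]
    exact h1
  obtain ⟨b, hb⟩ := (isUnit_of_isLine P ha).exists_right_inv
  have h3 := congrArg (Polynomial.eval (-b)) h2
  simp only [Polynomial.eval_mul, Polynomial.eval_add, Polynomial.eval_one, Polynomial.eval_C,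
    Polynomial.eval_X, Polynomial.eval_pow] at h3
  rw [mul_neg, hb, add_neg_cancel, zero_mul] at h3
  have h4 : IsNilpotent (1 + -b) := ⟨m, h3.symm⟩
  have : a - 1 = a * (1 + -b) := by rw [mul_add, mul_one, mul_neg, hb]; ring
  rw [this]
  exact (Commute.all _ _).isNilpotent_mul_left h4

end Groth.Agent.H19
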