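import Groth.Prelude.Def_KRR
import Mathlib.RingTheory.AdjoinRoot
import Groth.Agent.H19.Lambda

set_option autoImplicit false

namespace Groth.Agent.H19

open LambdaRing PowerSeries

universe v

variable {K : Type v} [CommRing K] [LambdaOps K] (P : PosStructure K)

/-- `a i = (-1)^i λ^i(e)`. -/
def altLam (e : K) (i : ℕ) : K := (-1 : K) ^ i * LambdaOps.lam i e

theorem altLam_zero (e : K) : altLam e 0 = 1 := by simp [altLam, LambdaOps.lam_zero]

theorem altLam_eq_zero {e : K} (he : e ∈ P.pos) {i : ℕ} (hi : (P.aug e).toNat < i) :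
    altLam e i = 0 := by
  rw [altLam, P.lam_eq_zero e he i, mul_zero]
  have := P.aug_pos e he
  omega

theorem sigma_rec (e : K) (k : ℕ) :
    ∑ i ∈ Finset.range (k + 1), altLam e i * KRR.sigma (k - i) e = if k = 0 then 1 else 0 := by
  have h : PowerSeries.rescale (-1 : K) (lamSeries e) * KRR.sigmaSeries e = 1 := by
    apply PowerSeries.mul_invOfUnit
    rw [← coeff_zero_eq_constantCoeff_apply, PowerSeries.coeff_rescale]
    simp [lamSeries, LambdaOps.lam_zero]
  have h2 := congrArg (PowerSeries.coeff k) h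
  rw [PowerSeries.coeff_mul, PowerSeries.coeff_one,
    Finset.Nat.sum_antidiagonal_eq_sum_range_succ
      (fun i j => PowerSeries.coeff i (PowerSeries.rescale (-1 : K) (lamSeries e)) *
        PowerSeries.coeff j (KRR.sigmaSeries e))] at h2
  rw [← h2]
  apply Finset.sum_congr rfl
  intro i _
  rw [PowerSeries.coeff_rescale]
  simp only [altLam, KRR.sigma, lamSeries, coeff_mk]

theorem extPoly_eq (e : K) :
    KRR.extPoly P e = ∑ i ∈ Finset.range ((P.aug e).toNat + 1),
      Polynomial.C (altLam e i) * Polynomial.X ^ ((P.aug e).toNat - i) := rfl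

/-- The relation `∑_{i ≤ m} a_i ℓ^{m-i} = 0` in `K_e`. -/
theorem root_rel (e : K) :
    ∑ i ∈ Finset.range ((P.aug e).toNat + 1),
      altLam e i • (AdjoinRoot.root (KRR.extPoly P e)) ^ ((P.aug e).toNat - i) = 0 := by
  have h : AdjoinRoot.mk (KRR.extPoly P e) (∑ i ∈ Finset.range ((P.aug e).toNat + 1),
      Polynomial.C (altLam e i) * Polynomial.X ^ ((P.aug e).toNat - i)) = 0 := by
    rw [← extPoly_eq]
    exact AdjoinRoot.mk_self
  rw [map_sum] at h
  rw [← h]
  apply Finset.sum_congr rfl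
  intro i _
  rw [map_mul, map_pow, AdjoinRoot.mk_C, AdjoinRoot.mk_X, Algebra.smul_def,
    AdjoinRoot.algebraMap_eq]

theorem root_rel_mul (e : K) (y : AdjoinRoot (KRR.extPoly P e)) :
    ∑ i ∈ Finset.range ((P.aug e).toNat + 1),
      altLam e i • ((AdjoinRoot.root (KRR.extPoly P e)) ^ ((P.aug e).toNat - i) * y) = 0 := by
  have h := congrArg (· * y) (root_rel P e)
  simp only [Finset.sum_mul, zero_mul, smul_mul_assoc] at h
  exact h

theorem root_rel_ge {e : K} (he : e ∈ P.pos) (k : ℕ) (hk : (P.aug e).toNat ≤ k) :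
    ∑ i ∈ Finset.range (k + 1),
      altLam e i • (AdjoinRoot.root (KRR.extPoly P e)) ^ (k - i) = 0 := by
  have h := root_rel_mul P e ((AdjoinRoot.root (KRR.extPoly P e)) ^ (k - (P.aug e).toNat))
  rw [← h]
  have hsub : Finset.range ((P.aug e).toNat + 1) ⊆ Finset.range (k + 1) := by
    intro i hi
    rw [Finset.mem_range] at hi ⊢
    omega
  symm
  apply Finset.sum_subset_zero_on_sdiff hsub
  · intro i hi
    rw [Finset.mem_sdiff, Finset.mem_range, Finset.mem_range] at hi
    rw [altLam_eq_zero P he (by omega), zero_smul]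
  · intro i hi
    rw [Finset.mem_range] at hi
    rw [← pow_add]
    congr 2
    omega

theorem functional_pow {e : K} (he : e ∈ P.pos) (r : ℕ) (hr : P.aug e = r + 1)
    (f : AdjoinRoot (KRR.extPoly P e) →ₗ[K] K)
    (hf : ∀ i : ℕ, i ≤ r → f (AdjoinRoot.root (KRR.extPoly P e) ^ i) = KRR.sigma i e) (k : ℕ) :
    f (AdjoinRoot.root (KRR.extPoly P e) ^ k) = KRR.sigma k e := by
  have hm : (P.aug e).toNat = r + 1 := by rw [hr]; rfl
  induction k using Nat.strong_induction_on with
  | _ k ih =>
    by_cases hk : k ≤ r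
    · exact hf k hk
    · have h1 := congrArg f (root_rel_ge P he k (by omega))
      rw [map_sum, map_zero] at h1
      simp only [map_smul, smul_eq_mul] at h1
      have h2 := sigma_rec e k
      rw [if_neg (by omega)] at h2
      have h3 : ∑ i ∈ Finset.range (k + 1), altLam e i *
          (f (AdjoinRoot.root (KRR.extPoly P e) ^ (k - i)) - KRR.sigma (k - i) e) = 0 := by
        simp only [mul_sub, Finset.sum_sub_distrib, h1, h2, sub_zero]
      rw [Finset.sum_eq_single_of_mem 0 (by simp)] at h3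
      · rw [altLam_zero, one_mul, Nat.sub_zero] at h3
        exact sub_eq_zero.mp h3
      · intro i hi hi0
        rw [Finset.mem_range] at hi
        rw [ih (k - i) (by omega), sub_self, mul_zero]

theorem functional_inv_pow {e : K} (he : e ∈ P.pos) (r : ℕ) (hr : P.aug e = r + 1)
    (f : AdjoinRoot (KRR.extPoly P e) →ₗ[K] K)
    (hf : ∀ i : ℕ, i ≤ r → f (AdjoinRoot.root (KRR.extPoly P e) ^ i) = KRR.sigma i e)
    (linv : AdjoinRoot (KRR.extPoly P e)) (hlinv : linv * AdjoinRoot.root (KRR.extPoly P e) = 1)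
    (n : ℕ) (hn1 : 1 ≤ n) (hnr : n ≤ r) : f (linv ^ n) = 0 := by
  have hm : (P.aug e).toNat = r + 1 := by rw [hr]; rfl
  induction n using Nat.strong_induction_on with
  | _ n ih =>
    have hpow : ∀ a b : ℕ, b ≤ a → (AdjoinRoot.root (KRR.extPoly P e)) ^ a * linv ^ b =
        (AdjoinRoot.root (KRR.extPoly P e)) ^ (a - b) := by
      intro a b hab
      obtain ⟨c, rfl⟩ := Nat.exists_eq_add_of_le hab
      rw [Nat.add_sub_cancel_left, pow_add, mul_comm (_ ^ b), mul_assoc, ← mul_pow, mul_comm _ linv,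
        hlinv, one_pow, mul_one]
    have hpow' : ∀ a b : ℕ, a ≤ b → (AdjoinRoot.root (KRR.extPoly P e)) ^ a * linv ^ b =
        linv ^ (b - a) := by
      intro a b hab
      obtain ⟨c, rfl⟩ := Nat.exists_eq_add_of_le hab
      rw [Nat.add_sub_cancel_left, pow_add, ← mul_assoc, ← mul_pow, mul_comm _ linv,
        hlinv, one_pow, one_mul]
    have h1 := congrArg f (root_rel_mul P e (linv ^ n))
    rw [map_sum, map_zero, hm] at h1
    simp only [map_smul, smul_eq_mul] at h1
    have hsplit := Finset.sum_range_add_sum_Ico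
      (fun i => altLam e i * f (AdjoinRoot.root (KRR.extPoly P e) ^ (r + 1 - i) * linv ^ n))
      (show (r + 1 - n) + 1 ≤ r + 1 + 1 by omega)
    rw [h1] at hsplit
    have hA : ∑ i ∈ Finset.range (r + 1 - n + 1),
        altLam e i * f (AdjoinRoot.root (KRR.extPoly P e) ^ (r + 1 - i) * linv ^ n) = 0 := by
      have h2 := sigma_rec e (r + 1 - n)
      rw [if_neg (by omega)] at h2
      rw [← h2]
      apply Finset.sum_congr rfl
      intro i hi
      rw [Finset.mem_range] at hi
      rw [hpow _ _ (by omega), functional_pow P he r hr f hf]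
      congr 2
      omega
    rw [hA, zero_add] at hsplit
    rw [Finset.sum_eq_single_of_mem (r + 1) (by rw [Finset.mem_Ico]; omega)] at hsplit
    · rw [Nat.sub_self, pow_zero, one_mul] at hsplit
      have hu : IsUnit (altLam e (r + 1)) := by
        have := P.isUnit_lam e he
        rw [hm] at this
        rw [altLam]
        exact ((isUnit_neg_one (α := K)).pow _).mul this
      exact (hu.mul_right_eq_zero).mp hsplit
    · intro i hi hi0
      rw [Finset.mem_Ico] at hi
      rw [hpow' _ _ (by omega), ih (n - (r + 1 - i)) (by omega) (by omega) (by omega), mul_zero]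

end Groth.Agent.H19

namespace Groth.Agent.H19

open LambdaRing PowerSeries

universe v

variable {K : Type v} [CommRing K] [LambdaOps K] (P : PosStructure K)

theorem functional_lam_sub_root {e : K} (he : e ∈ P.pos) (r : ℕ) (hr : P.aug e = r + 1)
    (inst : LambdaRing.LambdaOps (AdjoinRoot (KRR.extPoly P e)))
    (hext : ∀ (i : ℕ) (x : K), @LambdaRing.LambdaOps.lam _ _ inst i (AdjoinRoot.of (KRR.extPoly P e) x) =
      AdjoinRoot.of (KRR.extPoly P e) (LambdaRing.LambdaOps.lam i x))
    (hroot : ∀ i : ℕ, 2 ≤ i → @LambdaRing.LambdaOps.lam _ _ inst i (AdjoinRoot.root (KRR.extPoly P e)) = 0)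
    (f : AdjoinRoot (KRR.extPoly P e) →ₗ[K] K)
    (hf : ∀ i : ℕ, i ≤ r → f (AdjoinRoot.root (KRR.extPoly P e) ^ i) = KRR.sigma i e) (i : ℕ) :
    f (@LambdaRing.LambdaOps.lam _ _ inst i (AdjoinRoot.of (KRR.extPoly P e) e - AdjoinRoot.root (KRR.extPoly P e))) =
      if i = 0 then 1 else 0 := by
  set ℓ := AdjoinRoot.root (KRR.extPoly P e) with hℓ
  set q := AdjoinRoot.of (KRR.extPoly P e) e - ℓ with hq
  -- power series identities in K_e[[t]]
  have hL : @lamSeries _ _ inst ℓ = 1 + PowerSeries.C ℓ * PowerSeries.X := by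
    ext k
    rcases k with _ | _ | k
    · simp [lamSeries, LambdaOps.lam_zero]
    · simp [lamSeries, LambdaOps.lam_one, PowerSeries.coeff_one]
    · have h0 := hroot (k + 2) (by omega)
      simp only [lamSeries, coeff_mk, h0, map_add, PowerSeries.coeff_one]
      rw [PowerSeries.coeff_succ_mul_X, PowerSeries.coeff_C]
      simp
  have hG : (1 + PowerSeries.C ℓ * PowerSeries.X) * PowerSeries.mk (fun j => (-ℓ) ^ j) = 1 := by
    ext k
    rw [add_mul, one_mul, map_add, coeff_mk, mul_assoc, PowerSeries.coeff_C_mul]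
    rcases k with _ | k
    · simp
    · rw [PowerSeries.coeff_succ_X_mul, coeff_mk, PowerSeries.coeff_one, if_neg (by omega)]
      ring
  have hsum : @lamSeries _ _ inst q * @lamSeries _ _ inst ℓ =
      @lamSeries _ _ inst (AdjoinRoot.of (KRR.extPoly P e) e) := by
    rw [← lamSeries_add, hq, sub_add_cancel]
  have hq2 : @lamSeries _ _ inst q =
      @lamSeries _ _ inst (AdjoinRoot.of (KRR.extPoly P e) e) * PowerSeries.mk (fun j => (-ℓ) ^ j) := by
    rw [← hsum, hL, mul_assoc, hG, mul_one]
  have hcoef := congrArg (PowerSeries.coeff i) hq2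
  rw [PowerSeries.coeff_mul] at hcoef
  simp only [lamSeries, coeff_mk, hext] at hcoef
  rw [hcoef, map_sum]
  have h2 := sigma_rec e i
  have key : ∀ p ∈ Finset.antidiagonal i,
      f (AdjoinRoot.of (KRR.extPoly P e) (LambdaOps.lam p.1 e) * (-ℓ) ^ p.2) =
        (-1 : K) ^ i * (altLam e p.1 * KRR.sigma p.2 e) := by
    intro p hp
    rw [Finset.mem_antidiagonal] at hp
    have : AdjoinRoot.of (KRR.extPoly P e) (LambdaOps.lam p.1 e) * (-ℓ) ^ p.2 =
        (LambdaOps.lam p.1 e * (-1) ^ p.2) • ℓ ^ p.2 := by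
      rw [Algebra.smul_def, AdjoinRoot.algebraMap_eq, map_mul, map_pow, map_neg, map_one, neg_pow ℓ]
      ring
    rw [this, map_smul, functional_pow P he r hr f hf, smul_eq_mul, altLam, ← hp, pow_add]
    have h1 : ((-1 : K) ^ p.1 * (-1) ^ p.1) = 1 := by rw [← mul_pow]; simp
    calc LambdaOps.lam p.1 e * (-1) ^ p.2 * KRR.sigma p.2 e
        = ((-1 : K) ^ p.1 * (-1) ^ p.1) * (LambdaOps.lam p.1 e * (-1) ^ p.2 * KRR.sigma p.2 e) := by
          rw [h1, one_mul]
      _ = _ := by ring
  rw [Finset.sum_congr rfl key, ← Finset.mul_sum,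
    Finset.Nat.sum_antidiagonal_eq_sum_range_succ (fun a b => altLam e a * KRR.sigma b e), h2]
  split_ifs with h
  · subst h; simp
  · simp

end Groth.Agent.H19
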