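import Groth.Agent.H19.ExtPoly

set_option autoImplicit false

namespace Groth.Agent.H19

open LambdaRing PowerSeries

universe v

variable {K : Type v} [CommRing K] [LambdaOps K] (P : PosStructure K)

theorem extPoly_eq' (e : K) (m : ℕ) (hm : (P.aug e).toNat = m) :
    KRR.extPoly P e = Polynomial.X ^ m + ∑ i ∈ Finset.range m,
      Polynomial.C (altLam e (i + 1)) * Polynomial.X ^ (m - (i + 1)) := by
  rw [extPoly_eq, hm, Finset.sum_range_succ', altLam_zero, map_one, one_mul, Nat.sub_zero, add_comm]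

theorem extPoly_rest_degree_lt (e : K) (m : ℕ) :
    (∑ i ∈ Finset.range m,
      Polynomial.C (altLam e (i + 1)) * Polynomial.X ^ (m - (i + 1))).degree < (m : WithBot ℕ) := by
  rw [← Polynomial.mem_degreeLT]
  refine Submodule.sum_mem _ ?_
  intro i hi
  rw [Finset.mem_range] at hi
  rw [Polynomial.mem_degreeLT]
  refine lt_of_le_of_lt (Polynomial.degree_C_mul_X_pow_le _ _) ?_
  exact_mod_cast (by omega : m - (i + 1) < m)

theorem extPoly_monic (e : K) : (KRR.extPoly P e).Monic := by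
  rw [extPoly_eq' P e _ rfl]
  exact Polynomial.monic_X_pow_add (extPoly_rest_degree_lt e _)

theorem extPoly_natDegree (e : K) (m : ℕ) (hm : (P.aug e).toNat = m) :
    (KRR.extPoly P e).natDegree = m := by
  rw [extPoly_eq' P e m hm]
  haveI : Nontrivial K := P.aug.domain_nontrivial
  rw [Polynomial.natDegree_add_eq_left_of_degree_lt, Polynomial.natDegree_X_pow]
  rw [Polynomial.degree_X_pow]
  exact extPoly_rest_degree_lt e _

/-- `H = (p_e - p_e(1))/(X - 1)`. -/
noncomputable def quotPoly (e : K) (m : ℕ) : Polynomial K :=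
  ∑ i ∈ Finset.range (m + 1), Polynomial.C (altLam e i) *
    ∑ k ∈ Finset.range (m - i), Polynomial.X ^ k

theorem quotPoly_mul (e : K) (m : ℕ) (hm : (P.aug e).toNat = m) :
    (Polynomial.X - 1) * quotPoly e m =
      KRR.extPoly P e - Polynomial.C (∑ i ∈ Finset.range (m + 1), altLam e i) := by
  rw [extPoly_eq, hm, quotPoly, Finset.mul_sum, map_sum, ← Finset.sum_sub_distrib]
  apply Finset.sum_congr rfl
  intro i _
  rw [mul_left_comm, mul_geom_sum]
  ring

theorem sum_range_range_eq {M : Type*} [AddCommMonoid M] (F : ℕ → ℕ → M) (m : ℕ) :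
    ∑ i ∈ Finset.range (m + 1), ∑ k ∈ Finset.range (m - i), F i k =
      ∑ n ∈ Finset.range m, ∑ i ∈ Finset.range (n + 1), F i (n - i) := by
  induction m with
  | zero => simp
  | succ m ih =>
    rw [Finset.sum_range_succ _ m, ← ih, Finset.sum_range_succ _ (m + 1), Nat.sub_self,
      Finset.range_zero, Finset.sum_empty, add_zero, ← Finset.sum_add_distrib]
    apply Finset.sum_congr rfl
    intro i hi
    rw [Finset.mem_range] at hi
    rw [show m + 1 - i = (m - i) + 1 by omega, Finset.sum_range_succ]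

theorem functional_quotPoly {e : K} (he : e ∈ P.pos) (r : ℕ) (hr : P.aug e = r + 1)
    (f : AdjoinRoot (KRR.extPoly P e) →ₗ[K] K)
    (hf : ∀ i : ℕ, i ≤ r → f (AdjoinRoot.root (KRR.extPoly P e) ^ i) = KRR.sigma i e) :
    f (AdjoinRoot.mk (KRR.extPoly P e) (quotPoly e (r + 1))) = 1 := by
  rw [quotPoly, map_sum]
  have : ∀ i ∈ Finset.range (r + 1 + 1), AdjoinRoot.mk (KRR.extPoly P e)
      (Polynomial.C (altLam e i) * ∑ k ∈ Finset.range (r + 1 - i), Polynomial.X ^ k) =
      ∑ k ∈ Finset.range (r + 1 - i), altLam e i • (AdjoinRoot.root (KRR.extPoly P e)) ^ k := by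
    intro i _
    rw [map_mul, map_sum, AdjoinRoot.mk_C, Finset.mul_sum]
    apply Finset.sum_congr rfl
    intro k _
    rw [map_pow, AdjoinRoot.mk_X, Algebra.smul_def, AdjoinRoot.algebraMap_eq]
  rw [Finset.sum_congr rfl this, map_sum]
  simp only [map_sum, map_smul, smul_eq_mul, functional_pow P he r hr f hf]
  rw [sum_range_range_eq (fun i k => altLam e i * KRR.sigma k e)]
  simp only [sigma_rec]
  rw [Finset.sum_eq_single_of_mem 0 (by simp)]
  · simp
  · intro n _ hn
    rw [if_neg hn]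

theorem lam_sub_root (e : K)
    (inst : LambdaRing.LambdaOps (AdjoinRoot (KRR.extPoly P e)))
    (hext : ∀ (i : ℕ) (x : K), @LambdaRing.LambdaOps.lam _ _ inst i (AdjoinRoot.of (KRR.extPoly P e) x) =
      AdjoinRoot.of (KRR.extPoly P e) (LambdaRing.LambdaOps.lam i x))
    (hroot : ∀ i : ℕ, 2 ≤ i → @LambdaRing.LambdaOps.lam _ _ inst i (AdjoinRoot.root (KRR.extPoly P e)) = 0)
    (i : ℕ) :
    @LambdaRing.LambdaOps.lam _ _ inst i (AdjoinRoot.of (KRR.extPoly P e) e - AdjoinRoot.root (KRR.extPoly P e)) =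
      ∑ p ∈ Finset.antidiagonal i, AdjoinRoot.of (KRR.extPoly P e) (LambdaOps.lam p.1 e) *
        (-AdjoinRoot.root (KRR.extPoly P e)) ^ p.2 := by
  set ℓ := AdjoinRoot.root (KRR.extPoly P e) with hℓ
  set q := AdjoinRoot.of (KRR.extPoly P e) e - ℓ with hq
  have hL : @lamSeries _ _ inst ℓ = 1 + PowerSeries.C ℓ * PowerSeries.X := by
    ext k
    rcases k with _ | _ | k
    · simp [lamSeries, LambdaOps.lam_zero]
    · simp [lamSeries, LambdaOps.lam_one, PowerSeries.coeff_one]
    · have h0 := hroot (k + 2) (by omega)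
      simp only [lamSeries, coeff_mk, h0, map_add, PowerSeries.coeff_one]
      rw [PowerSeries.coeff_succ_mul_X, PowerSeries.coeff_C]
      simp
  have hG : (1 + PowerSeries.C ℓ * PowerSeries.X) * PowerSeries.mk (fun j => (-ℓ) ^ j) = 1 := by
    ext k
    rw [add_mul, one_mul, map_add, coeff_mk, mul_assoc, PowerSeries.coeff_C_mul]
    rcases k with _ | k
    · simp
    · rw [PowerSeries.coeff_succ_X_mul, coeff_mk, PowerSeries.coeff_one, if_neg (by omega)]
      ring
  have hsum : @lamSeries _ _ inst q * @lamSeries _ _ inst ℓ =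
      @lamSeries _ _ inst (AdjoinRoot.of (KRR.extPoly P e) e) := by
    rw [← lamSeries_add, hq, sub_add_cancel]
  have hq2 : @lamSeries _ _ inst q =
      @lamSeries _ _ inst (AdjoinRoot.of (KRR.extPoly P e) e) * PowerSeries.mk (fun j => (-ℓ) ^ j) := by
    rw [← hsum, hL, mul_assoc, hG, mul_one]
  have hcoef := congrArg (PowerSeries.coeff i) hq2
  rw [PowerSeries.coeff_mul] at hcoef
  simp only [lamSeries, coeff_mk, hext] at hcoef
  exact hcoef

theorem lamAlt_sub_root (e : K) (r : ℕ) (hr : P.aug e = r + 1)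
    (inst : LambdaRing.LambdaOps (AdjoinRoot (KRR.extPoly P e))) (Pe : @LambdaRing.PosStructure _ _ inst)
    (hext : ∀ (i : ℕ) (x : K), @LambdaRing.LambdaOps.lam _ _ inst i (AdjoinRoot.of (KRR.extPoly P e) x) =
      AdjoinRoot.of (KRR.extPoly P e) (LambdaRing.LambdaOps.lam i x))
    (hroot : ∀ i : ℕ, 2 ≤ i → @LambdaRing.LambdaOps.lam _ _ inst i (AdjoinRoot.root (KRR.extPoly P e)) = 0)
    (haug : @LambdaRing.PosStructure.aug _ _ inst Pe
      (AdjoinRoot.of (KRR.extPoly P e) e - AdjoinRoot.root (KRR.extPoly P e)) = r) :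
    @KRR.lamAlt _ _ inst Pe (AdjoinRoot.of (KRR.extPoly P e) e - AdjoinRoot.root (KRR.extPoly P e)) =
      AdjoinRoot.mk (KRR.extPoly P e) (quotPoly e (r + 1)) := by
  rw [KRR.lamAlt, haug, Int.toNat_natCast, quotPoly, map_sum]
  have h1 : ∀ i ∈ Finset.range (r + 1 + 1), AdjoinRoot.mk (KRR.extPoly P e)
      (Polynomial.C (altLam e i) * ∑ k ∈ Finset.range (r + 1 - i), Polynomial.X ^ k) =
      ∑ k ∈ Finset.range (r + 1 - i), AdjoinRoot.of (KRR.extPoly P e) (altLam e i) *
        (AdjoinRoot.root (KRR.extPoly P e)) ^ k := by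
    intro i _
    rw [map_mul, map_sum, AdjoinRoot.mk_C, Finset.mul_sum]
    apply Finset.sum_congr rfl
    intro k _
    rw [map_pow, AdjoinRoot.mk_X]
  rw [Finset.sum_congr rfl h1, sum_range_range_eq (fun i k =>
    AdjoinRoot.of (KRR.extPoly P e) (altLam e i) * (AdjoinRoot.root (KRR.extPoly P e)) ^ k)]
  apply Finset.sum_congr rfl
  intro n _
  rw [lam_sub_root P e inst hext hroot, Finset.mul_sum,
    Finset.Nat.sum_antidiagonal_eq_sum_range_succ (fun a b => (-1 : AdjoinRoot (KRR.extPoly P e)) ^ n *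
      (AdjoinRoot.of (KRR.extPoly P e) (LambdaOps.lam a e) * (-AdjoinRoot.root (KRR.extPoly P e)) ^ b))]
  apply Finset.sum_congr rfl
  intro i hi
  rw [Finset.mem_range] at hi
  rw [altLam, map_mul, map_pow, map_neg, map_one, neg_pow (AdjoinRoot.root (KRR.extPoly P e))]
  have h2 : (-1 : AdjoinRoot (KRR.extPoly P e)) ^ n = (-1) ^ i * (-1) ^ (n - i) := by
    rw [← pow_add]; congr 1; omega
  have h3 : ((-1 : AdjoinRoot (KRR.extPoly P e)) ^ (n - i) * (-1) ^ (n - i)) = 1 := by
    rw [← mul_pow]; simp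
  calc (-1 : AdjoinRoot (KRR.extPoly P e)) ^ n * (AdjoinRoot.of (KRR.extPoly P e) (LambdaOps.lam i e) *
        ((-1) ^ (n - i) * AdjoinRoot.root (KRR.extPoly P e) ^ (n - i)))
      = ((-1 : AdjoinRoot (KRR.extPoly P e)) ^ (n - i) * (-1) ^ (n - i)) * ((-1) ^ i *
          AdjoinRoot.of (KRR.extPoly P e) (LambdaOps.lam i e) *
          AdjoinRoot.root (KRR.extPoly P e) ^ (n - i)) := by rw [h2]; ring
    _ = _ := by rw [h3, one_mul]

theorem annihilator_one_sub_root {R : Type*} [CommRing R] (p H : Polynomial R) (s : R)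
    (hmonic : p.Monic) (m : ℕ) (hdeg : p.natDegree = m + 1)
    (hH : (Polynomial.X - 1) * H = p - Polynomial.C s)
    (z : AdjoinRoot p) (hz : z * (1 - AdjoinRoot.root p) = 0) :
    ∃ w : R, z = -(AdjoinRoot.of p w * AdjoinRoot.mk p H) := by
  have hp1 : p ≠ 1 := by
    intro h
    rw [h, Polynomial.natDegree_one] at hdeg
    omega
  obtain ⟨Z, rfl⟩ := AdjoinRoot.mk_surjective (g := p) z
  have hZZ : AdjoinRoot.mk p Z = AdjoinRoot.mk p (Z %ₘ p) := by
    rw [AdjoinRoot.mk_eq_mk]
    refine ⟨Z /ₘ p, ?_⟩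
    have := Polynomial.modByMonic_add_div Z p
    nth_rewrite 1 [← this]
    ring
  have hZ₀deg : (Z %ₘ p).natDegree < m + 1 := by
    rw [← hdeg]
    exact Polynomial.natDegree_modByMonic_lt Z hmonic hp1
  have hdvd : p ∣ (Z %ₘ p) * (1 - Polynomial.X) := by
    rw [← AdjoinRoot.mk_eq_zero, map_mul, map_sub, map_one, AdjoinRoot.mk_X, ← hZZ]
    exact hz
  obtain ⟨q, hq⟩ := hdvd
  have hqdeg : q.natDegree = 0 := by
    by_contra hne
    have hq0 : q ≠ 0 := by
      intro h; rw [h] at hne; simp at hne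
    have h1 : (p * q).natDegree = (m + 1) + q.natDegree := by
      rw [hmonic.natDegree_mul' hq0, hdeg]
    have h2 : ((Z %ₘ p) * (1 - Polynomial.X)).natDegree ≤ (Z %ₘ p).natDegree + 1 := by
      refine le_trans Polynomial.natDegree_mul_le ?_
      have : (1 - Polynomial.X : Polynomial R).natDegree ≤ 1 := by
        refine le_trans (Polynomial.natDegree_sub_le _ _) ?_
        rw [Polynomial.natDegree_one]
        exact max_le (by omega) Polynomial.natDegree_X_le
      omega
    rw [hq, h1] at h2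
    omega
  obtain ⟨w, hw⟩ : ∃ w : R, q = Polynomial.C w := ⟨_, Polynomial.eq_C_of_natDegree_eq_zero hqdeg⟩
  rw [hw] at hq
  have hev : w * s = 0 := by
    have h5 := congrArg (Polynomial.eval 1) hq
    have h6 := congrArg (Polynomial.eval 1) hH
    simp only [Polynomial.eval_mul, Polynomial.eval_sub, Polynomial.eval_one, Polynomial.eval_X,
      sub_self, mul_zero, zero_mul, Polynomial.eval_C] at h5 h6
    have h7 : Polynomial.eval 1 p = s := (sub_eq_zero.mp h6.symm)
    rw [h7] at h5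
    rw [mul_comm]; exact h5.symm
  refine ⟨w, ?_⟩
  have hZ₀eq : Z %ₘ p = - (Polynomial.C w * H) := by
    have h6 : (Polynomial.X - 1) * (Z %ₘ p + Polynomial.C w * H) = 0 := by
      have : (Polynomial.X - 1) * (Z %ₘ p) = - (p * Polynomial.C w) := by rw [← hq]; ring
      rw [mul_add, this, mul_left_comm, hH, mul_sub, ← map_mul, hev, map_zero, sub_zero]
      ring
    have hmon : (Polynomial.X - 1 : Polynomial R).Monic := by
      have := Polynomial.monic_X_sub_C (1 : R)
      simpa using this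
    have := (hmon.mul_right_eq_zero_iff).mp h6
    exact eq_neg_of_add_eq_zero_left this
  rw [hZZ, hZ₀eq, map_neg, map_mul, AdjoinRoot.mk_C]

theorem eq_functional_mul_quotPoly {e : K} (he : e ∈ P.pos) (r : ℕ) (hr : P.aug e = r + 1)
    (f : AdjoinRoot (KRR.extPoly P e) →ₗ[K] K)
    (hf : ∀ i : ℕ, i ≤ r → f (AdjoinRoot.root (KRR.extPoly P e) ^ i) = KRR.sigma i e)
    (z : AdjoinRoot (KRR.extPoly P e)) (hz : z * (1 - AdjoinRoot.root (KRR.extPoly P e)) = 0) :
    z = AdjoinRoot.of (KRR.extPoly P e) (f z) *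
      AdjoinRoot.mk (KRR.extPoly P e) (quotPoly e (r + 1)) := by
  have hm : (P.aug e).toNat = r + 1 := by rw [hr]; rfl
  obtain ⟨w, hw⟩ := annihilator_one_sub_root (KRR.extPoly P e) (quotPoly e (r + 1)) _
    (extPoly_monic P e) r (extPoly_natDegree P e (r + 1) hm) (quotPoly_mul P e (r + 1) hm) z hz
  have hfz : f z = -w := by
    have : AdjoinRoot.of (KRR.extPoly P e) w * AdjoinRoot.mk (KRR.extPoly P e) (quotPoly e (r + 1)) =
        w • AdjoinRoot.mk (KRR.extPoly P e) (quotPoly e (r + 1)) := by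
      rw [Algebra.smul_def, AdjoinRoot.algebraMap_eq]
    rw [hw, map_neg, this, map_smul, functional_quotPoly P he r hr f hf, smul_eq_mul, mul_one]
  rw [hfz, map_neg, neg_mul]
  exact hw

end Groth.Agent.H19
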