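import Mathlib.RingTheory.MvPolynomial.Basic
import Mathlib.Algebra.Module.FinitePresentation
import Mathlib.RingTheory.FiniteType
import Mathlib.RingTheory.FinitePresentation
import Mathlib.RingTheory.TensorProduct.Basic
import Mathlib.RingTheory.TensorProduct.MvPolynomial
import Mathlib.RingTheory.IsTensorProduct

/-!
# Modules finitely presented relative to a base ring: base change

`FPvia φ N` says that the `T`-module `N` is finitely presented over `S` through `φ : S →+* T`.
-/

set_option linter.unusedSectionVars false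
set_option linter.style.haveILetI false

namespace Groth.Agent.H19.FPRel

open TensorProduct

universe u

/-- `N` is finitely presented over `S` through `φ`. -/
def FPvia {S T : Type*} [CommRing S] [CommRing T] (φ : S →+* T) (N : Type*) [AddCommGroup N]
    [Module T N] : Prop :=
  @Module.FinitePresentation S N _ _ (Module.compHom N φ)

theorem fpvia_iff {S T : Type*} [CommRing S] [CommRing T] (φ : S →+* T) (N : Type*)
    [AddCommGroup N] [Module T N] [inst : Module S N] (h : ∀ (s : S) (n : N), s • n = φ s • n) :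
    Module.FinitePresentation S N ↔ FPvia φ N := by
  have : inst = Module.compHom N φ := by
    apply Module.ext'
    intro r m
    exact h r m
  unfold FPvia
  rw [this]

/-- restriction of scalars along a surjection with finitely generated kernel -/
theorem fpvia_comp {S₁ S₂ T : Type*} [CommRing S₁] [CommRing S₂] [CommRing T] (φ : S₂ →+* T)
    (ψ : S₁ →+* S₂) (hψ : Function.Surjective ψ) (hker : (RingHom.ker ψ).FG)
    (N : Type*) [AddCommGroup N] [Module T N] (h : FPvia φ N) : FPvia (φ.comp ψ) N := by
  unfold FPvia at h ⊢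
  letI : Module S₂ N := Module.compHom N φ
  letI : Algebra S₁ S₂ := ψ.toAlgebra
  letI : Module S₁ N := Module.compHom N (φ.comp ψ)
  haveI : IsScalarTower S₁ S₂ N := by
    refine ⟨fun s₁ s₂ n => ?_⟩
    change φ (ψ s₁ * s₂) • n = φ (ψ s₁) • (φ s₂ • n)
    rw [map_mul, mul_smul]
  haveI : Module.FinitePresentation S₂ N := h
  haveI : Module.FinitePresentation S₁ S₂ := by
    refine Module.finitePresentation_of_surjective (Algebra.linearMap S₁ S₂) hψ ?_
    have : LinearMap.ker (Algebra.linearMap S₁ S₂) = RingHom.ker ψ := by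
      ext x
      simp only [LinearMap.mem_ker, Algebra.linearMap_apply, RingHom.mem_ker]
      rfl
    rw [this]
    exact hker
  exact Module.FinitePresentation.trans S₁ N S₂

/-- descent of finite presentation along a surjection through which the action factors -/
theorem fpvia_of_comp {S₁ S₂ T : Type*} [CommRing S₁] [CommRing S₂] [CommRing T] (φ : S₂ →+* T)
    (ψ : S₁ →+* S₂) (hψ : Function.Surjective ψ)
    (N : Type*) [AddCommGroup N] [Module T N] (h : FPvia (φ.comp ψ) N) : FPvia φ N := by
  unfold FPvia at h ⊢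
  letI : Module S₂ N := Module.compHom N φ
  letI : Algebra S₁ S₂ := ψ.toAlgebra
  letI : Module S₁ N := Module.compHom N (φ.comp ψ)
  haveI : IsScalarTower S₁ S₂ N := by
    refine ⟨fun s₁ s₂ n => ?_⟩
    change φ (ψ s₁ * s₂) • n = φ (ψ s₁) • (φ s₂ • n)
    rw [map_mul, mul_smul]
  haveI : Module.FinitePresentation S₁ N := h
  let μ : S₂ ⊗[S₁] N →ₗ[S₂] N := LinearMap.liftBaseChange S₂ LinearMap.id
  have hμ : ∀ (s : S₂) (n : N), μ (s ⊗ₜ n) = s • n := by
    intro s n
    simp [μ]
  have hone : ∀ z : S₂ ⊗[S₁] N, ∃ n : N, z = (1 : S₂) ⊗ₜ[S₁] n := by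
    intro z
    induction z using TensorProduct.induction_on with
    | zero => exact ⟨0, by simp⟩
    | tmul s n =>
      obtain ⟨s₁, rfl⟩ := hψ s
      refine ⟨s₁ • n, ?_⟩
      rw [TensorProduct.tmul_smul, TensorProduct.smul_tmul']
      congr 1
      change ψ s₁ = ψ s₁ * 1
      rw [mul_one]
    | add x y hx hy =>
      obtain ⟨n, rfl⟩ := hx
      obtain ⟨n', rfl⟩ := hy
      exact ⟨n + n', by rw [TensorProduct.tmul_add]⟩
  refine Module.finitePresentation_of_surjective μ (fun n => ⟨1 ⊗ₜ n, by rw [hμ, one_smul]⟩) ?_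
  have : LinearMap.ker μ = ⊥ := by
    rw [LinearMap.ker_eq_bot']
    intro z hz
    obtain ⟨n, rfl⟩ := hone z
    rw [hμ, one_smul] at hz
    rw [hz, TensorProduct.tmul_zero]
  rw [this]
  exact Submodule.fg_bot


section BC

variable {P P' A A' : Type u} [CommRing P] [CommRing P'] [CommRing A] [CommRing A']
  [Algebra P P'] [Algebra P A] [Algebra P A'] [Algebra A A'] [Algebra P' A']
  [IsScalarTower P A A'] [IsScalarTower P P' A'] [Algebra.IsPushout P P' A A']
  (M : Type u) [AddCommGroup M] [Module P M] [Module A M] [IsScalarTower P A M]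

theorem fp_baseChange [Module.FinitePresentation P M] :
    Module.FinitePresentation P' (A' ⊗[A] M) :=
  Module.FinitePresentation.of_equiv (Algebra.IsPushout.cancelBaseChange P P' A A' M).symm

end BC

attribute [local instance] MvPolynomial.algebraMvPolynomial

theorem main {R A R' A' : Type u} [CommRing R] [CommRing A] [CommRing R'] [CommRing A']
    [Algebra R A] [Algebra R R'] [Algebra A A'] [Algebra R' A'] [Algebra R A']
    [IsScalarTower R A A'] [IsScalarTower R R' A']
    [Algebra.IsPushout R A R' A'] (M : Type u) [AddCommGroup M] [Module A M] {n k : ℕ}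
    (α : MvPolynomial (Fin n) R →ₐ[R] A) (hα : Function.Surjective α)
    (hM : FPvia α.toRingHom M)
    (γ : MvPolynomial (Fin k) R' →ₐ[R'] A') (hγ : Function.Surjective γ) :
    FPvia γ.toRingHom (A' ⊗[A] M) := by
  let α' : MvPolynomial (Fin n) R' →ₐ[R'] A' :=
    MvPolynomial.aeval (fun i => algebraMap A A' (α (MvPolynomial.X i)))
  have hcompat : ∀ p : MvPolynomial (Fin n) R,
      α' (MvPolynomial.map (algebraMap R R') p) = algebraMap A A' (α p) := by
    intro p
    induction p using MvPolynomial.induction_on with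
    | C r =>
      rw [MvPolynomial.map_C, ← MvPolynomial.algebraMap_eq, α'.commutes,
        ← MvPolynomial.algebraMap_eq, α.commutes, ← IsScalarTower.algebraMap_apply,
        ← IsScalarTower.algebraMap_apply]
    | add p q hp hq => simp only [map_add, hp, hq]
    | mul_X p i hp =>
      rw [map_mul, map_mul, hp, MvPolynomial.map_X, map_mul, map_mul]
      congr 1
      simp [α']
  letI iPA : Algebra (MvPolynomial (Fin n) R) A := α.toRingHom.toAlgebra
  letI iP'A' : Algebra (MvPolynomial (Fin n) R') A' := α'.toRingHom.toAlgebra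
  letI iPA' : Algebra (MvPolynomial (Fin n) R) A' :=
    ((algebraMap A A').comp α.toRingHom).toAlgebra
  letI iPM : Module (MvPolynomial (Fin n) R) M := Module.compHom M α.toRingHom
  haveI t1 : IsScalarTower R (MvPolynomial (Fin n) R) A :=
    IsScalarTower.of_algebraMap_eq fun r => (α.commutes r).symm
  haveI t2 : IsScalarTower (MvPolynomial (Fin n) R) A A' :=
    IsScalarTower.of_algebraMap_eq fun p => rfl
  haveI t3 : IsScalarTower (MvPolynomial (Fin n) R) (MvPolynomial (Fin n) R') A' :=
    IsScalarTower.of_algebraMap_eq fun p => (hcompat p).symm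
  haveI t5 : IsScalarTower R' (MvPolynomial (Fin n) R') A' :=
    IsScalarTower.of_algebraMap_eq fun r => (α'.commutes r).symm
  haveI t4 : IsScalarTower R (MvPolynomial (Fin n) R') A' :=
    IsScalarTower.of_algebraMap_eq fun r => by
      rw [IsScalarTower.algebraMap_apply R R' A', IsScalarTower.algebraMap_apply R R' (MvPolynomial (Fin n) R'),
        ← IsScalarTower.algebraMap_apply R' (MvPolynomial (Fin n) R') A']
  haveI t6 : IsScalarTower (MvPolynomial (Fin n) R) A M := by
    refine ⟨fun p a m => ?_⟩
    change (α p * a) • m = α p • (a • m)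
    rw [mul_smul]
  haveI po : Algebra.IsPushout (MvPolynomial (Fin n) R) (MvPolynomial (Fin n) R') A A' :=
    ((Algebra.IsPushout.comp_iff (R := R) (S := MvPolynomial (Fin n) R) (R' := R')
      (S' := MvPolynomial (Fin n) R') (T := A) (T' := A')).mp inferInstance).symm
  haveI fpM : Module.FinitePresentation (MvPolynomial (Fin n) R) M := hM
  have h0 : Module.FinitePresentation (MvPolynomial (Fin n) R') (A' ⊗[A] M) :=
    fp_baseChange (P := MvPolynomial (Fin n) R) (P' := MvPolynomial (Fin n) R') (A := A)
      (A' := A') M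
  have h1 : FPvia α'.toRingHom (A' ⊗[A] M) :=
    (fpvia_iff α'.toRingHom (A' ⊗[A] M) (fun s x => (algebraMap_smul A' s x).symm)).mp h0
  -- surjectivity of `α'`
  have hα' : Function.Surjective α' := by
    have hbc : IsBaseChange R' (IsScalarTower.toAlgHom R A A').toLinearMap :=
      (Algebra.IsPushout.symm (inferInstance : Algebra.IsPushout R A R' A')).out
    intro x
    refine hbc.inductionOn x (motive := fun x => x ∈ Set.range α') ⟨0, map_zero _⟩ ?_ ?_ ?_
    · intro a
      obtain ⟨p, rfl⟩ := hα a
      exact ⟨MvPolynomial.map (algebraMap R R') p, hcompat p⟩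
    · rintro s _ ⟨p, rfl⟩
      exact ⟨s • p, map_smul _ _ _⟩
    · rintro _ _ ⟨p, rfl⟩ ⟨q, rfl⟩
      exact ⟨p + q, map_add _ _ _⟩
  choose pj hpj using fun j : Fin k => hα' (γ (MvPolynomial.X j))
  choose qi hqi using fun i : Fin n => hγ (α' (MvPolynomial.X i))
  let ψx : MvPolynomial (Fin n ⊕ Fin k) R' →ₐ[R'] MvPolynomial (Fin n) R' :=
    MvPolynomial.aeval (Sum.elim MvPolynomial.X pj)
  let ψz : MvPolynomial (Fin n ⊕ Fin k) R' →ₐ[R'] MvPolynomial (Fin k) R' :=
    MvPolynomial.aeval (Sum.elim qi MvPolynomial.X)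
  have hψx : Function.Surjective ψx := by
    intro p
    refine ⟨MvPolynomial.rename Sum.inl p, ?_⟩
    simp [ψx, MvPolynomial.aeval_rename, Function.comp_def, MvPolynomial.aeval_X_left_apply]
  have hψz : Function.Surjective ψz := by
    intro p
    refine ⟨MvPolynomial.rename Sum.inr p, ?_⟩
    simp [ψz, MvPolynomial.aeval_rename, Function.comp_def, MvPolynomial.aeval_X_left_apply]
  have heq : α'.comp ψx = γ.comp ψz := by
    apply MvPolynomial.algHom_ext
    rintro (i | j)
    · simp [ψx, ψz, hqi]
    · simp [ψx, ψz, hpj]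
  have hker : (RingHom.ker ψx.toRingHom).FG :=
    Algebra.FinitePresentation.ker_fG_of_surjective ψx hψx
  have h2 := fpvia_comp α'.toRingHom ψx.toRingHom hψx hker (A' ⊗[A] M) h1
  have h3 : α'.toRingHom.comp ψx.toRingHom = γ.toRingHom.comp ψz.toRingHom := by
    apply RingHom.ext
    intro x
    exact DFunLike.congr_fun heq x
  rw [h3] at h2
  exact fpvia_of_comp γ.toRingHom ψz.toRingHom hψz (A' ⊗[A] M) h2

end Groth.Agent.H19.FPRel
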