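import Mathlib.RingTheory.Ideal.AssociatedPrime.Basic
import Mathlib.RingTheory.Flat.Localization
import Mathlib.RingTheory.Flat.Stability
import Mathlib.RingTheory.Localization.AtPrime.Basic
import Mathlib.RingTheory.Localization.FractionRing
import Mathlib.RingTheory.Localization.BaseChange
import Mathlib.RingTheory.Localization.LocalizationLocalization
import Mathlib.RingTheory.TensorProduct.Basic

/-! S8928: generic flatness over the total ring of fractions gives flatness at associated points. -/

set_option autoImplicit false
universe u
open scoped TensorProduct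

namespace Groth.Agent.H19.FlatAssLoc

/-- If `B'` is the localization of `B` at the image of `S ⊆ A` and is flat over `A`, then `B_q` is
flat over `A` for every prime `q` of `B` not meeting the image of `S`. -/
theorem flat_atPrime_of_flat_localization {A B B' : Type u} [CommRing A] [CommRing B]
    [CommRing B'] [Algebra A B] [Algebra B B'] [Algebra A B'] [IsScalarTower A B B']
    (S : Submonoid A) [IsLocalization (Algebra.algebraMapSubmonoid B S) B'] [Module.Flat A B']
    (q : Ideal B) [q.IsPrime] (hq : Algebra.algebraMapSubmonoid B S ≤ q.primeCompl) :
    Module.Flat A (Localization.AtPrime q) := by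
  have hunits : ∀ y : Algebra.algebraMapSubmonoid B S,
      IsUnit (algebraMap B (Localization.AtPrime q) y) := fun y =>
    IsLocalization.map_units (Localization.AtPrime q) (⟨y.1, hq y.2⟩ : q.primeCompl)
  let g : B' →+* Localization.AtPrime q := IsLocalization.lift hunits
  let _ : Algebra B' (Localization.AtPrime q) := g.toAlgebra
  have htower : IsScalarTower B B' (Localization.AtPrime q) :=
    IsScalarTower.of_algebraMap_eq' (IsLocalization.lift_comp hunits).symm
  have hloc : IsLocalization (q.primeCompl.map (algebraMap B B')) (Localization.AtPrime q) :=
    IsLocalization.isLocalization_of_submonoid_le B' (Localization.AtPrime q)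
      (Algebra.algebraMapSubmonoid B S) q.primeCompl hq
  have hflat : Module.Flat B' (Localization.AtPrime q) :=
    IsLocalization.flat _ (q.primeCompl.map (algebraMap B B'))
  have htower' : IsScalarTower A B' (Localization.AtPrime q) := by
    refine IsScalarTower.of_algebraMap_eq fun a => ?_
    rw [IsScalarTower.algebraMap_apply A B (Localization.AtPrime q),
      IsScalarTower.algebraMap_apply A B B',
      ← IsScalarTower.algebraMap_apply B B' (Localization.AtPrime q)]
  exact Module.Flat.trans A B' (Localization.AtPrime q)

attribute [local instance] Algebra.TensorProduct.rightAlgebra in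
theorem main (A B : Type u) [CommRing A] [CommRing B] [IsNoetherianRing A] [IsNoetherianRing B]
    [Algebra A B] (h1 : nonZeroDivisors A ≤ (nonZeroDivisors B).comap (algebraMap A B))
    (h2 : Module.Flat (FractionRing A) (FractionRing A ⊗[A] B)) :
    (∀ (q : Ideal B) [q.IsPrime], IsAssociatedPrime q B →
      Module.Flat A (Localization.AtPrime q)) ∧
    (∀ (q : Ideal B) [q.IsPrime], IsAssociatedPrime (q.comap (algebraMap A B)) A →
      Module.Flat A (Localization.AtPrime q)) := by
  have hQ : Module.Flat A (FractionRing A) := IsLocalization.flat _ (nonZeroDivisors A)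
  have hflat : Module.Flat A (FractionRing A ⊗[A] B) :=
    Module.Flat.trans A (FractionRing A) (FractionRing A ⊗[A] B)
  have hloc : IsLocalization (Algebra.algebraMapSubmonoid B (nonZeroDivisors A))
      (FractionRing A ⊗[A] B) := IsLocalization.tensorRight _ (nonZeroDivisors A)
  constructor
  · intro q _ hq
    refine flat_atPrime_of_flat_localization (B' := FractionRing A ⊗[A] B) (nonZeroDivisors A) q ?_
    rintro _ ⟨s, hs, rfl⟩
    have hs' : algebraMap A B s ∈ nonZeroDivisors B := h1 hs
    have hun := biUnion_associatedPrimes_eq_compl_nonZeroDivisors B
    intro hmem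
    have : algebraMap A B s ∈ ⋃ p ∈ associatedPrimes B B, (p : Set B) :=
      Set.mem_biUnion (show q ∈ associatedPrimes B B from hq) hmem
    rw [hun] at this
    exact this hs'
  · intro q _ hq
    refine flat_atPrime_of_flat_localization (B' := FractionRing A ⊗[A] B) (nonZeroDivisors A) q ?_
    rintro _ ⟨s, hs, rfl⟩
    have hun := biUnion_associatedPrimes_eq_compl_nonZeroDivisors A
    intro hmem
    have : s ∈ ⋃ p ∈ associatedPrimes A A, (p : Set A) :=
      Set.mem_biUnion (show q.comap (algebraMap A B) ∈ associatedPrimes A A from hq) hmem
    rw [hun] at this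
    exact this hs

end Groth.Agent.H19.FlatAssLoc
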