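import Groth.Agent.H19.FlatAssLoc
import Mathlib.RingTheory.Ideal.HasGoingUp
import Mathlib.RingTheory.Ideal.AssociatedPrime.Finiteness

/-! S8929: flatness at points over associated points + going up ⇒ generic flatness over `Q(A)`. -/

set_option autoImplicit false
universe u
open scoped TensorProduct

namespace Groth.Agent.H19.FlatAssLoc

/-- If `B'` is the localization of `B` at `M` and is flat over `A`, then any localization `B''` of
`B` at a bigger submonoid `N ≥ M` is flat over `A`. -/
theorem flat_of_isLocalization_le {A B B' B'' : Type u} [CommRing A] [CommRing B]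
    [CommRing B'] [CommRing B''] [Algebra A B] [Algebra B B'] [Algebra A B'] [IsScalarTower A B B']
    [Algebra B B''] [Algebra A B''] [IsScalarTower A B B'']
    (M N : Submonoid B) (hMN : M ≤ N) [IsLocalization M B'] [IsLocalization N B'']
    [Module.Flat A B'] : Module.Flat A B'' := by
  have hunits : ∀ y : M, IsUnit (algebraMap B B'' y) := fun y =>
    IsLocalization.map_units B'' (⟨y.1, hMN y.2⟩ : N)
  let g : B' →+* B'' := IsLocalization.lift hunits
  let _ : Algebra B' B'' := g.toAlgebra
  have htower : IsScalarTower B B' B'' :=
    IsScalarTower.of_algebraMap_eq' (IsLocalization.lift_comp hunits).symm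
  have hloc : IsLocalization (N.map (algebraMap B B')) B'' :=
    IsLocalization.isLocalization_of_submonoid_le B' B'' M N hMN
  have hflat : Module.Flat B' B'' := IsLocalization.flat _ (N.map (algebraMap B B'))
  have htower' : IsScalarTower A B' B'' := by
    refine IsScalarTower.of_algebraMap_eq fun a => ?_
    rw [IsScalarTower.algebraMap_apply A B B'', IsScalarTower.algebraMap_apply A B B',
      ← IsScalarTower.algebraMap_apply B B' B'']
  exact Module.Flat.trans A B' B''

/-- A prime ideal of a Noetherian ring consisting of zero divisors is contained in an associated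
prime. -/
theorem exists_le_associatedPrime {A : Type u} [CommRing A] [IsNoetherianRing A] (p₀ : Ideal A)
    (h : ∀ s ∈ nonZeroDivisors A, s ∉ p₀) : ∃ p ∈ associatedPrimes A A, p₀ ≤ p := by
  classical
  have hfin := associatedPrimes.finite A A
  have hsub : (p₀ : Set A) ⊆ ⋃ p ∈ (hfin.toFinset : Set (Ideal A)), (p : Set A) := by
    intro x hx
    have : x ∈ (nonZeroDivisors A : Set A)ᶜ := fun hx' => h x hx' hx
    rw [← biUnion_associatedPrimes_eq_compl_nonZeroDivisors] at this
    simpa using this
  obtain ⟨p, hp, hle⟩ := (Ideal.subset_union_prime (f := fun p : Ideal A => p) ⊥ ⊥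
    (fun i hi _ _ => ((hfin.mem_toFinset).mp hi).isPrime)).mp hsub
  exact ⟨p, hfin.mem_toFinset.mp hp, hle⟩

attribute [local instance] Algebra.TensorProduct.rightAlgebra in
theorem main2 (A B : Type u) [CommRing A] [CommRing B] [IsNoetherianRing A] [IsNoetherianRing B]
    [Algebra A B] [Algebra.HasGoingUp A B]
    (h4 : ∀ (q : Ideal B) [q.IsPrime], IsAssociatedPrime (q.comap (algebraMap A B)) A →
      Module.Flat A (Localization.AtPrime q)) :
    Module.Flat (FractionRing A) (FractionRing A ⊗[A] B) := by
  have hloc : IsLocalization (Algebra.algebraMapSubmonoid B (nonZeroDivisors A))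
      (FractionRing A ⊗[A] B) := IsLocalization.tensorRight _ (nonZeroDivisors A)
  rw [Module.flat_iff_of_isLocalization (FractionRing A) (nonZeroDivisors A)]
  refine Module.flat_of_isLocalized_maximal (FractionRing A ⊗[A] B) (FractionRing A ⊗[A] B)
    (fun P _ => Localization.AtPrime P)
    (fun P _ => Algebra.linearMap (FractionRing A ⊗[A] B) (Localization.AtPrime P)) ?_
  intro P hP
  -- `T_P` as a `B`-algebra
  have ht1 : IsScalarTower B (FractionRing A ⊗[A] B) (Localization.AtPrime P) := inferInstance
  have ht2 : IsScalarTower A B (Localization.AtPrime P) := by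
    refine IsScalarTower.of_algebraMap_eq fun a => ?_
    rw [IsScalarTower.algebraMap_apply A (FractionRing A ⊗[A] B) (Localization.AtPrime P),
      IsScalarTower.algebraMap_apply A B (FractionRing A ⊗[A] B),
      ← IsScalarTower.algebraMap_apply B (FractionRing A ⊗[A] B) (Localization.AtPrime P)]
  have hlocP : IsLocalization.AtPrime (Localization.AtPrime P)
      (P.comap (algebraMap B (FractionRing A ⊗[A] B))) :=
    IsLocalization.isLocalization_isLocalization_atPrime_isLocalization
      (Algebra.algebraMapSubmonoid B (nonZeroDivisors A)) (Localization.AtPrime P) P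
  set q : Ideal B := P.comap (algebraMap B (FractionRing A ⊗[A] B)) with hq
  -- `q ∩ A` consists of zero divisors
  have hdisj : ∀ s ∈ nonZeroDivisors A, s ∉ q.comap (algebraMap A B) := by
    intro s hs hmem
    have hunit : IsUnit (algebraMap B (FractionRing A ⊗[A] B) (algebraMap A B s)) :=
      IsLocalization.map_units (FractionRing A ⊗[A] B)
        (⟨algebraMap A B s, ⟨s, hs, rfl⟩⟩ : Algebra.algebraMapSubmonoid B (nonZeroDivisors A))
    exact hP.ne_top (Ideal.eq_top_of_isUnit_mem _ hmem hunit)
  obtain ⟨p, hp, hle⟩ := exists_le_associatedPrime (q.comap (algebraMap A B)) hdisj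
  have hpprime : p.IsPrime := IsAssociatedPrime.isPrime hp
  have hqover : q.LiesOver (q.comap (algebraMap A B)) := ⟨rfl⟩
  obtain ⟨q', hqq', hq'prime, hq'over⟩ :=
    Ideal.exists_ideal_ge_liesOver_of_le (p := q.comap (algebraMap A B)) (q := p) q hle
  have hflat' : Module.Flat A (Localization.AtPrime q') := by
    apply h4 q'
    have : q'.comap (algebraMap A B) = p := (hq'over.over).symm
    rw [this]
    exact hp
  exact flat_of_isLocalization_le (A := A) (B := B) (B' := Localization.AtPrime q')
    (B'' := Localization.AtPrime P) q'.primeCompl q.primeCompl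
    (fun x hx hxq => hx (hqq' hxq))

end Groth.Agent.H19.FlatAssLoc
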