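import Groth.Agent.H19.FormalNoeth

universe u
open CategoryTheory CategoryTheory.Limits AlgebraicGeometry

namespace Groth.Agent.H19.FormalBC

open Scheme.IdealSheafData Groth.Agent.H19.FormalNoeth

variable {𝔛 𝔖 : FSch.Sys.{u}} (f : 𝔛 ⟶ 𝔖)

lemma isPullback_toX (hf : FSch.IsAdicHom f) (m : ℕ) :
    IsPullback (𝔛.toX m) ((f : FSch.Hom 𝔛 𝔖).app 0) ((f : FSch.Hom 𝔛 𝔖).app m) (𝔖.toX m) := by
  induction m with
  | zero =>
    have : IsIso (𝔛.toX 0) := inferInstanceAs (IsIso (𝟙 _))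
    have : IsIso (𝔖.toX 0) := inferInstanceAs (IsIso (𝟙 _))
    refine IsPullback.of_horiz_isIso ⟨?_⟩
    exact (Category.id_comp _).trans (Category.comp_id _).symm
  | succ m ih => exact ih.paste_horiz (hf m)

lemma isFormal_of_isAdicHom (hF : 𝔖.IsFormal) (hf : FSch.IsAdicHom f) : 𝔛.IsFormal := by
  intro n
  have h1 : IsClosedImmersion (𝔛.ι n) :=
    MorphismProperty.of_isPullback (P := @IsClosedImmersion) (hf n).flip (hF n).1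
  have h2 : Surjective (𝔛.ι n) :=
    MorphismProperty.of_isPullback (P := @Surjective) (hf n).flip ⟨(hF n).2⟩
  exact ⟨h1, h2.surj⟩

lemma ker_toX_eq (hF : 𝔖.IsFormal) (hf : FSch.IsAdicHom f) (m : ℕ) :
    (𝔛.toX m).ker = (𝔖.toX m).ker.comap ((f : FSch.Hom 𝔛 𝔖).app m) := by
  have := isClosedImmersion_toX 𝔖 hF m
  exact ker_eq_comap_of_isPullback (isPullback_toX f hf m)

lemma isAdic_of_isAdicHom (hF : 𝔖.IsFormal) (hA : 𝔖.IsAdic) (hf : FSch.IsAdicHom f) :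
    𝔛.IsAdic := by
  intro n
  have := (hF n).1
  rw [ker_eq_comap_of_isPullback (hf n), hA n, Groth.Agent.H20.comap_pow,
    ← ker_toX_eq f hF hf (n + 1)]

theorem isLocNoethFormal_of_isAdicHom (h𝔖 : 𝔖.IsLocNoethFormal) (hf : FSch.IsAdicHom f)
    [IsLocallyNoetherian (𝔛.X 0)] : 𝔛.IsLocNoethFormal := by
  obtain ⟨hF, hA, hN⟩ := h𝔖
  have hF' := isFormal_of_isAdicHom f hF hf
  have hA' := isAdic_of_isAdicHom f hF hA hf
  refine ⟨hF', hA', fun n => ?_⟩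
  have := isClosedImmersion_toX 𝔛 hF' n
  refine isLocallyNoetherian_of_thickening (𝔛.toX n) (n + 1) (ker_toX_pow 𝔛 hF' hA' n) fun x => ?_
  set g := (f : FSch.Hom 𝔛 𝔖).app n with hg
  obtain ⟨_, ⟨V, hV, rfl⟩, hxV, -⟩ :=
    (𝔖.X n).isBasis_affineOpens.exists_subset_of_mem_open (Set.mem_univ (g x)) isOpen_univ
  obtain ⟨_, ⟨U, hU, rfl⟩, hxU, hUV⟩ :=
    (𝔛.X n).isBasis_affineOpens.exists_subset_of_mem_open (a := x)
      (show x ∈ ((g ⁻¹ᵁ V : (𝔛.X n).Opens) : Set (𝔛.X n)) from hxV) (g ⁻¹ᵁ V).2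
  refine ⟨⟨U, hU⟩, hxU, ?_⟩
  rw [ker_toX_eq f hF hf n, ComapAff.ideal_comap_appLE g _ ⟨V, hV⟩ ⟨U, hU⟩ hUV]
  have hNV : IsNoetherianRing Γ(𝔖.X n, V) :=
    (hN n).component_noetherian ⟨V, hV⟩
  exact Ideal.FG.map (IsNoetherian.noetherian _) _

end Groth.Agent.H19.FormalBC

namespace Groth.Agent.H19.FormalBC

variable {𝔛 𝔖 𝔖' : FSch.Sys.{u}} (f : 𝔛 ⟶ 𝔖) (g : 𝔖' ⟶ 𝔖)

lemma isAdicHom_pullbackSnd (hf : FSch.IsAdicHom f) : FSch.IsAdicHom (FSch.pullbackSnd f g) := by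
  intro n
  have left1 : IsPullback (pullback.fst ((f : FSch.Hom 𝔛 𝔖).app n) ((g : FSch.Hom 𝔖' 𝔖).app n))
      (pullback.snd _ _) ((f : FSch.Hom 𝔛 𝔖).app n) ((g : FSch.Hom 𝔖' 𝔖).app n) :=
    IsPullback.of_hasPullback _ _
  have right1 : IsPullback
      (pullback.fst ((f : FSch.Hom 𝔛 𝔖).app (n + 1)) ((g : FSch.Hom 𝔖' 𝔖).app (n + 1)))
      (pullback.snd _ _) ((f : FSch.Hom 𝔛 𝔖).app (n + 1)) ((g : FSch.Hom 𝔖' 𝔖).app (n + 1)) :=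
    IsPullback.of_hasPullback _ _
  have outer := left1.paste_horiz (hf n)
  have e1 : pullback.fst ((f : FSch.Hom 𝔛 𝔖).app n) ((g : FSch.Hom 𝔖' 𝔖).app n) ≫ 𝔛.ι n =
      (FSch.pullbackSys f g).ι n ≫
        pullback.fst ((f : FSch.Hom 𝔛 𝔖).app (n + 1)) ((g : FSch.Hom 𝔖' 𝔖).app (n + 1)) :=
    (pullback.lift_fst _ _ _).symm
  have e2 : (g : FSch.Hom 𝔖' 𝔖).app n ≫ 𝔖.ι n = 𝔖'.ι n ≫ (g : FSch.Hom 𝔖' 𝔖).app (n + 1) :=
    (g : FSch.Hom 𝔖' 𝔖).comm n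
  rw [e1, e2] at outer
  exact IsPullback.of_right outer (pullback.lift_snd _ _ _) right1

theorem main_pullback (h𝔖' : 𝔖'.IsLocNoethFormal) (hf : FSch.IsAdicHom f)
    [LocallyOfFiniteType ((f : FSch.Hom 𝔛 𝔖).app 0)] :
    (FSch.pullbackSys f g).IsLocNoethFormal ∧ FSch.IsAdicHom (FSch.pullbackSnd f g) ∧
      LocallyOfFiniteType ((FSch.pullbackSnd f g : FSch.Hom _ _).app 0) := by
  have h3 : LocallyOfFiniteType
      (pullback.snd ((f : FSch.Hom 𝔛 𝔖).app 0) ((g : FSch.Hom 𝔖' 𝔖).app 0)) :=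
    MorphismProperty.pullback_snd (P := @LocallyOfFiniteType) _ _ inferInstance
  have hN0 : IsLocallyNoetherian (𝔖'.X 0) := h𝔖'.2.2 0
  have hP0 : IsLocallyNoetherian ((FSch.pullbackSys f g).X 0) :=
    @LocallyOfFiniteType.isLocallyNoetherian _ _
      (pullback.snd ((f : FSch.Hom 𝔛 𝔖).app 0) ((g : FSch.Hom 𝔖' 𝔖).app 0)) h3 hN0
  have h2 := isAdicHom_pullbackSnd f g hf
  exact ⟨isLocNoethFormal_of_isAdicHom (FSch.pullbackSnd f g) h𝔖' h2, h2, h3⟩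

end Groth.Agent.H19.FormalBC
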