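import Groth.Agent.H19.AffSysAlg
import Mathlib.LinearAlgebra.Dimension.OrzechProperty
import Mathlib.RingTheory.Nakayama
import Mathlib.RingTheory.Filtration
import Mathlib.RingTheory.LocalRing.Basic
import Mathlib.RingTheory.TensorProduct.Finite
import Mathlib.LinearAlgebra.InvariantBasisNumber
import Mathlib.LinearAlgebra.Dimension.Free

/-!
# A finite module over a Noetherian local ring which is free of rank `r` modulo all powers of an
ideal is free of rank `r`

Helper library (helper19).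
-/

set_option autoImplicit false
open TensorProduct

namespace Groth.Agent.H19.FreeAdic

open Groth.Agent.H19.AffSysAlg

variable {R : Type*} [CommRing R] [IsLocalRing R] [IsNoetherianRing R]
  (N : Type*) [AddCommGroup N] [Module R N] [Module.Finite R N]
  (𝔞 : Ideal R) (r : ℕ)

/-- If `N / 𝔞^(n+1) N` is free of rank `r` over `R / 𝔞^(n+1)` for every `n` (with `𝔞` a proper
ideal of the Noetherian local ring `R` and `N` finite), then `N` is free of rank `r`. -/
theorem nonempty_basis_of_forall_quotient_free (h𝔞 : 𝔞 ≤ IsLocalRing.maximalIdeal R)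
    (h : ∀ n : ℕ, Module.Free (R ⧸ 𝔞 ^ (n + 1)) ((R ⧸ 𝔞 ^ (n + 1)) ⊗[R] N) ∧
      Module.finrank (R ⧸ 𝔞 ^ (n + 1)) ((R ⧸ 𝔞 ^ (n + 1)) ⊗[R] N) = r) :
    Nonempty (Module.Basis (Fin r) R N) := by
  classical
  have hsurj : ∀ n : ℕ, Function.Surjective (algebraMap R (R ⧸ 𝔞 ^ (n + 1))) :=
    fun n => Ideal.Quotient.mk_surjective
  have hker : ∀ n : ℕ, RingHom.ker (algebraMap R (R ⧸ 𝔞 ^ (n + 1))) = 𝔞 ^ (n + 1) :=
    fun n => Ideal.mk_ker
  have hne : 𝔞 ≠ ⊤ := by
    intro htop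
    rw [htop] at h𝔞
    exact (IsLocalRing.maximalIdeal.isMaximal R).ne_top (top_le_iff.mp h𝔞)
  have hnt : ∀ n : ℕ, Nontrivial (R ⧸ 𝔞 ^ (n + 1)) := fun n =>
    Ideal.Quotient.nontrivial_iff.mpr (fun htop => hne (top_le_iff.mp
      (htop.symm.le.trans (Ideal.pow_le_self (Nat.succ_ne_zero n)))))
  -- a basis of level 0, lifted
  obtain ⟨hfree0, hrank0⟩ := h 0
  haveI := hnt 0
  have hfin0 : Module.Finite (R ⧸ 𝔞 ^ (0 + 1)) ((R ⧸ 𝔞 ^ (0 + 1)) ⊗[R] N) := inferInstance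
  let b₀ : Module.Basis (Fin r) (R ⧸ 𝔞 ^ (0 + 1)) ((R ⧸ 𝔞 ^ (0 + 1)) ⊗[R] N) :=
    (Module.finBasis (R ⧸ 𝔞 ^ (0 + 1)) ((R ⧸ 𝔞 ^ (0 + 1)) ⊗[R] N)).reindex
      (finCongr hrank0)
  have hb : ∀ i, ∃ x : N, (1 : R ⧸ 𝔞 ^ (0 + 1)) ⊗ₜ[R] x = b₀ i := fun i =>
    one_tmul_surjective (hsurj 0) N (b₀ i)
  choose b hb using hb
  -- spanning
  have hspan : (⊤ : Submodule R N) ≤ Submodule.span R (Set.range b) := by
    apply Submodule.le_of_le_smul_of_le_jacobson_bot (I := 𝔞) (Module.Finite.fg_top)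
    · exact h𝔞.trans (IsLocalRing.maximalIdeal_le_jacobson ⊥)
    · intro x _
      have hx := b₀.sum_repr ((1 : R ⧸ 𝔞 ^ (0 + 1)) ⊗ₜ[R] x)
      choose c hc using fun i => hsurj 0 (b₀.repr ((1 : R ⧸ 𝔞 ^ (0 + 1)) ⊗ₜ[R] x) i)
      have h1 : (1 : R ⧸ 𝔞 ^ (0 + 1)) ⊗ₜ[R] (x - ∑ i, c i • b i) = 0 := by
        rw [TensorProduct.tmul_sub, TensorProduct.tmul_sum, sub_eq_zero, ← hx]
        refine Finset.sum_congr rfl (fun i _ => ?_)
        rw [TensorProduct.tmul_smul, hb i, ← hc i]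
        exact (algebraMap_smul (R ⧸ 𝔞 ^ (0 + 1)) (c i) (b₀ i)).symm
      have h2 := (one_tmul_eq_zero_iff (hsurj 0) N _).mp h1
      rw [hker 0, pow_one] at h2
      have h3 : x = ∑ i, c i • b i + (x - ∑ i, c i • b i) := by abel
      rw [h3]
      refine Submodule.add_mem_sup ?_ h2
      exact Submodule.sum_mem _ (fun i _ => Submodule.smul_mem _ _ (Submodule.subset_span ⟨i, rfl⟩))
  -- linear independence
  have hli : LinearIndependent R b := by
    rw [Fintype.linearIndependent_iff]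
    intro g hg i
    have hmem : ∀ n : ℕ, g i ∈ 𝔞 ^ (n + 1) := by
      intro n
      obtain ⟨hfreen, hrankn⟩ := h n
      haveI := hnt n
      have hspann : (⊤ : Submodule (R ⧸ 𝔞 ^ (n + 1)) ((R ⧸ 𝔞 ^ (n + 1)) ⊗[R] N)) ≤
          Submodule.span (R ⧸ 𝔞 ^ (n + 1))
            (Set.range fun i => (1 : R ⧸ 𝔞 ^ (n + 1)) ⊗ₜ[R] b i) := by
        intro z _
        obtain ⟨x, rfl⟩ := one_tmul_surjective (hsurj n) N z
        have hx : x ∈ Submodule.span R (Set.range b) := hspan Submodule.mem_top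
        refine Submodule.span_induction (p := fun x _ => (1 : R ⧸ 𝔞 ^ (n + 1)) ⊗ₜ[R] x ∈
          Submodule.span (R ⧸ 𝔞 ^ (n + 1))
            (Set.range fun i => (1 : R ⧸ 𝔞 ^ (n + 1)) ⊗ₜ[R] b i)) ?_ ?_ ?_ ?_ hx
        · rintro _ ⟨j, rfl⟩
          exact Submodule.subset_span ⟨j, rfl⟩
        · rw [TensorProduct.tmul_zero]
          exact Submodule.zero_mem _
        · intro x y _ _ hx hy
          rw [TensorProduct.tmul_add]
          exact Submodule.add_mem _ hx hy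
        · intro a x _ hx
          rw [TensorProduct.tmul_smul]
          rw [← algebraMap_smul (R ⧸ 𝔞 ^ (n + 1)) a]
          exact Submodule.smul_mem _ _ hx
      have hlin := linearIndependent_of_top_le_span_of_card_eq_finrank hspann
        (by rw [Fintype.card_fin, hrankn])
      rw [Fintype.linearIndependent_iff] at hlin
      have h0 : ∑ j, algebraMap R (R ⧸ 𝔞 ^ (n + 1)) (g j) • ((1 : R ⧸ 𝔞 ^ (n + 1)) ⊗ₜ[R] b j) = 0 := by
        have : (1 : R ⧸ 𝔞 ^ (n + 1)) ⊗ₜ[R] (∑ j, g j • b j) = 0 := by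
          rw [hg, TensorProduct.tmul_zero]
        rw [TensorProduct.tmul_sum] at this
        rw [← this]
        refine Finset.sum_congr rfl (fun j _ => ?_)
        rw [TensorProduct.tmul_smul, algebraMap_smul]
      have h1 := hlin _ h0 i
      rw [← hker n, RingHom.mem_ker]
      exact h1
    have hinf : g i ∈ ⨅ n : ℕ, 𝔞 ^ n := by
      rw [Ideal.mem_iInf]
      intro n
      cases n with
      | zero => rw [pow_zero, Ideal.one_eq_top]; exact Submodule.mem_top
      | succ n => exact hmem n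
    rw [Ideal.iInf_pow_eq_bot_of_isLocalRing 𝔞 hne] at hinf
    exact hinf
  exact ⟨Module.Basis.mk hli hspan⟩

end Groth.Agent.H19.FreeAdic
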