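import Groth.Agent.H19.FreeAdicLoc
import Mathlib.RingTheory.Spectrum.Prime.FreeLocus
import Mathlib.RingTheory.LocalRing.Module
import Mathlib.RingTheory.Flat.Stability

/-!
# Base change of a finite projective module of constant rank to a local algebra

Helper library (helper19).
-/

set_option autoImplicit false
set_option linter.style.haveILetI false
universe u
open TensorProduct

namespace Groth.Agent.H19.FreeAdic

variable {B B' : Type u} [CommRing B] [CommRing B'] [Algebra B B']
  (M : Type u) [AddCommGroup M] [Module B M] (r : ℕ)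

/-- If `B → B'` is surjective and `B' ⊗ M` is finite projective of constant rank `r` over `B'`, then
for every local `B`-algebra `S` such that `B → S` kills the kernel of `B → B'`, the module `S ⊗ M`
is free of rank `r`. -/
theorem free_baseChange_of_projective_quotient (hsurj : Function.Surjective (algebraMap B B'))
    [Module.Finite B' (B' ⊗[B] M)] [Module.Projective B' (B' ⊗[B] M)]
    (hr : ∀ q : PrimeSpectrum B', Module.rankAtStalk (B' ⊗[B] M) q = r)
    (S : Type u) [CommRing S] [IsLocalRing S] [Algebra B S]
    (hS : RingHom.ker (algebraMap B B') ≤ RingHom.ker (algebraMap B S)) :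
    Module.Free S (S ⊗[B] M) ∧ Module.finrank S (S ⊗[B] M) = r := by
  let φ : B' →+* S := (algebraMap B B').liftOfSurjective hsurj ⟨algebraMap B S, hS⟩
  have hφ : φ.comp (algebraMap B B') = algebraMap B S :=
    RingHom.liftOfSurjective_comp (algebraMap B B') hsurj ⟨algebraMap B S, hS⟩
  letI : Algebra B' S := φ.toAlgebra
  haveI : IsScalarTower B B' S := IsScalarTower.of_algebraMap_eq (fun b => by
    rw [← hφ]
    rfl)
  let e : S ⊗[B'] (B' ⊗[B] M) ≃ₗ[S] S ⊗[B] M :=
    TensorProduct.AlgebraTensorModule.cancelBaseChange B B' S S M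
  haveI : Module.Flat B' (B' ⊗[B] M) := inferInstance
  haveI : Module.Finite S (S ⊗[B'] (B' ⊗[B] M)) := inferInstance
  haveI : Module.Flat S (S ⊗[B'] (B' ⊗[B] M)) := inferInstance
  haveI hfree : Module.Free S (S ⊗[B'] (B' ⊗[B] M)) := Module.free_of_flat_of_isLocalRing
  refine ⟨Module.Free.of_equiv e, ?_⟩
  rw [← e.finrank_eq]
  have h1 := Module.rankAtStalk_eq_finrank_of_free (R := S) (M := S ⊗[B'] (B' ⊗[B] M))
  have h2 := congrFun h1 (IsLocalRing.closedPoint S)
  rw [Module.rankAtStalk_baseChange] at h2
  rw [hr] at h2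
  exact h2.symm

end Groth.Agent.H19.FreeAdic
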