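import Groth.Agent.H19.FreeAdicBC
import Groth.Agent.H44.PullbackAffine
import Groth.Agent.H67.FreeNearFinite

/-!
# Freeness of base changes of sections from local freeness of the pullback to a closed subscheme

Helper library (helper19).
-/

set_option autoImplicit false
set_option linter.style.haveILetI false
universe u
open CategoryTheory CategoryTheory.Limits AlgebraicGeometry TopologicalSpace Opposite TensorProduct

namespace Groth.Agent.H19.FreeAdic

open Scheme.Modules Groth.Agent.H44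

variable {X : Scheme.{u}}

/-- Every prime of the ring of sections over an affine open is the prime of a point. -/
theorem exists_primeIdealOf_eq {W : X.Opens} (hW : IsAffineOpen W)
    (q : PrimeSpectrum Γ(X, W)) : ∃ y : W, hW.primeIdealOf y = q := by
  obtain ⟨y, hy⟩ := (ConcreteCategory.bijective_of_isIso hW.isoSpec.hom.base).2 q
  exact ⟨y, hy⟩

/-- If the pullback of the quasi-coherent module `F` to the closed subscheme cut out by `𝓚` is
locally free of rank `r`, then for every affine open `V` and every local `Γ(X, V)`-algebra `S`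
killed by `𝓚(V)`, the base change `S ⊗ Γ(F, V)` is free of rank `r`. -/
theorem free_baseChange_of_subscheme_pullback (𝓚 : X.IdealSheafData) (F : X.Modules)
    [F.IsQuasicoherent] (r : ℕ)
    (h : FlatMod.IsFinLocFreeOfRank r ((Scheme.Modules.pullback 𝓚.subschemeι).obj F)) (V : X.affineOpens)
    (S : Type u) [CommRing S] [IsLocalRing S] [Algebra Γ(X, V.1) S]
    (hS : 𝓚.ideal V ≤ RingHom.ker (algebraMap Γ(X, V.1) S)) :
    Module.Free S (S ⊗[Γ(X, V.1)] Γ(F, V.1)) ∧
      Module.finrank S (S ⊗[Γ(X, V.1)] Γ(F, V.1)) = r := by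
  let i := 𝓚.subschemeι
  let W : 𝓚.subscheme.Opens := i ⁻¹ᵁ V.1
  have hW : IsAffineOpen W := V.2.preimage i
  let G := (Scheme.Modules.pullback i).obj F
  have hG' := Groth.Agent.H67.FreeNearFinite.isFinLocFree_of_rank h
  letI alg : Algebra Γ(X, V.1) Γ(𝓚.subscheme, W) := (i.appLE V.1 W le_rfl).hom.toAlgebra
  let e : Γ(G, W) ≃ₗ[Γ(𝓚.subscheme, W)] Γ(𝓚.subscheme, W) ⊗[Γ(X, V.1)] Γ(F, V.1) :=
    pullbackSectionsEquiv i F hW V.2 le_rfl
  obtain ⟨hfin, hproj⟩ := finite_projective_of_isFinLocFree G hG' hW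
  haveI : Module.Finite Γ(𝓚.subscheme, W) (Γ(𝓚.subscheme, W) ⊗[Γ(X, V.1)] Γ(F, V.1)) :=
    Module.Finite.equiv e
  haveI : Module.Projective Γ(𝓚.subscheme, W) (Γ(𝓚.subscheme, W) ⊗[Γ(X, V.1)] Γ(F, V.1)) :=
    Module.Projective.of_equiv e
  have hr : ∀ q : PrimeSpectrum Γ(𝓚.subscheme, W),
      Module.rankAtStalk (Γ(𝓚.subscheme, W) ⊗[Γ(X, V.1)] Γ(F, V.1)) q = r := by
    intro q
    obtain ⟨⟨y, hy⟩, rfl⟩ := exists_primeIdealOf_eq hW q
    rw [← Module.rankAtStalk_eq_of_equiv e]
    exact Groth.Agent.H67.FreeNearFinite.rankAtStalk_sections G h hW hy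
  have happ : (i.appLE V.1 W le_rfl) = i.app V.1 := (Scheme.Hom.app_eq_appLE i).symm
  have hsurj : Function.Surjective (algebraMap Γ(X, V.1) Γ(𝓚.subscheme, W)) := by
    change Function.Surjective (i.appLE V.1 W le_rfl).hom
    rw [happ]
    exact 𝓚.subschemeι_app_surjective V
  have hker : RingHom.ker (algebraMap Γ(X, V.1) Γ(𝓚.subscheme, W)) = 𝓚.ideal V := by
    change RingHom.ker (i.appLE V.1 W le_rfl).hom = _
    rw [happ]
    exact 𝓚.ker_subschemeι_app V
  exact free_baseChange_of_projective_quotient (B := Γ(X, V.1)) (B' := Γ(𝓚.subscheme, W))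
    Γ(F, V.1) r hsurj hr S (hker.le.trans hS)

end Groth.Agent.H19.FreeAdic
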