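import Groth.Agent.H19.FreeAdicNhd
import Groth.Prelude.Def_FSch3
import Mathlib.AlgebraicGeometry.Morphisms.Proper
import Mathlib.AlgebraicGeometry.IdealSheaf.Functorial

/-!
# Local freeness of rank `r` of a coherent module on a proper scheme over a complete base,
from local freeness on the thickenings of the closed fibre

Helper library (helper19).
-/

set_option autoImplicit false
set_option linter.style.haveILetI false
universe u
open CategoryTheory CategoryTheory.Limits AlgebraicGeometry TopologicalSpace Opposite TensorProduct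

namespace Groth.Agent.H19.FreeAdic

open Scheme.Modules Groth.Agent.H44

/-- The support of the ideal sheaf of `I` on `Spec A` is `V(I)`. -/
theorem mem_idealSpec_support_iff (A : Type u) [CommRing A] (I : Ideal A)
    (q : Spec (CommRingCat.of A)) :
    q ∈ (FSch.idealSpec A I).support ↔ I ≤ q.asIdeal := by
  have h1 : ((FSch.idealSpec A I).support : Set (Spec (CommRingCat.of A))) =
      closure (Set.range (Spec.map (CommRingCat.ofHom (Ideal.Quotient.mk I)))) :=
    Scheme.Hom.support_ker _
  have h2 : ∀ q : Spec (CommRingCat.of A),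
      q ∈ Set.range (Spec.map (CommRingCat.ofHom (Ideal.Quotient.mk I))) ↔ I ≤ q.asIdeal := by
    intro q
    have := range_comap_of_surjective (A ⧸ I) (Ideal.Quotient.mk I)
      Ideal.Quotient.mk_surjective
    rw [Ideal.mk_ker] at this
    exact (Set.ext_iff.mp this q).trans (PrimeSpectrum.mem_zeroLocus _ _)
  haveI : IsClosedImmersion (Spec.map (CommRingCat.ofHom (Ideal.Quotient.mk I))) :=
    IsClosedImmersion.spec_of_surjective _ Ideal.Quotient.mk_surjective
  have h3 : IsClosed (Set.range (Spec.map (CommRingCat.ofHom (Ideal.Quotient.mk I)))) :=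
    (Spec.map (CommRingCat.ofHom (Ideal.Quotient.mk I))).isClosedEmbedding.isClosed_range
  rw [← SetLike.mem_coe, h1, h3.closure_eq]
  exact h2 q

/-- A nonempty closed subset of the spectrum of an `I`-adically complete ring meets `V(I)`. -/
theorem exists_mem_of_isClosed_of_nonempty (A : Type u) [CommRing A] (I : Ideal A)
    [IsAdicComplete I A] (T : Set (PrimeSpectrum A)) (hT : IsClosed T) (hne : T.Nonempty) :
    ∃ q ∈ T, I ≤ q.asIdeal := by
  obtain ⟨K, rfl⟩ := (PrimeSpectrum.isClosed_iff_zeroLocus_ideal T).mp hT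
  obtain ⟨q0, hq0⟩ := hne
  have hK : K ≠ ⊤ := by
    rintro rfl
    exact q0.isPrime.ne_top (top_le_iff.mp ((PrimeSpectrum.mem_zeroLocus _ _).mp hq0))
  obtain ⟨𝔪, h𝔪, hK𝔪⟩ := Ideal.exists_le_maximal K hK
  refine ⟨⟨𝔪, h𝔪.isPrime⟩, (PrimeSpectrum.mem_zeroLocus _ _).mpr hK𝔪, ?_⟩
  exact (IsAdicComplete.le_jacobson_bot I).trans (sInf_le ⟨bot_le, h𝔪⟩)

variable {X : Scheme.{u}}

/-- Main theorem. -/
theorem isFinLocFreeOfRank_of_forall_thickening (A : Type u) [CommRing A] [IsNoetherianRing A]
    (I : Ideal A) [IsAdicComplete I A] (f : X ⟶ Spec (CommRingCat.of A)) [IsProper f]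
    (F : X.Modules) (hF : Coh.IsCoh F) (r : ℕ)
    (h : ∀ n : ℕ, FlatMod.IsFinLocFreeOfRank r
      ((Scheme.Modules.pullback (FSch.completionToX X ((FSch.idealSpec A I).comap f) n)).obj F)) :
    FlatMod.IsFinLocFreeOfRank r F := by
  haveI : IsLocallyNoetherian X := LocallyOfFiniteType.isLocallyNoetherian f
  haveI : F.IsQuasicoherent := hF.1
  haveI : SheafOfModules.IsFiniteType (R := X.ringCatSheaf) F := hF.2
  set 𝓙 := (FSch.idealSpec A I).comap f with h𝓙
  -- the good locus
  let G : Set X := {x | ∃ U : X.Opens, x ∈ U ∧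
    Nonempty (F.restrict U.ι ≅ FlatMod.freeMod U.toScheme r)}
  have hGopen : IsOpen G := by
    rw [isOpen_iff_forall_mem_open]
    rintro x ⟨U, hxU, hU⟩
    exact ⟨U, fun y hy => ⟨U, hy, hU⟩, U.2, hxU⟩
  have hsupp : (𝓙.support : Set X) ⊆ G := fun x hx =>
    exists_iso_freeMod_of_forall_thickening 𝓙 F r h hx
  by_contra hcon
  have hne : (Gᶜ).Nonempty := by
    by_contra hempty
    rw [Set.not_nonempty_iff_eq_empty, Set.compl_empty_iff] at hempty
    exact hcon (fun x => (hempty.symm ▸ Set.mem_univ x : x ∈ G))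
  have hcl : IsClosed (f '' Gᶜ) := f.isClosedMap _ hGopen.isClosed_compl
  obtain ⟨q, ⟨c, hcG, rfl⟩, hq⟩ :=
    exists_mem_of_isClosed_of_nonempty A I (f '' Gᶜ) hcl (hne.image _)
  have hc : c ∈ 𝓙.support := by
    rw [h𝓙, Scheme.IdealSheafData.support_comap]
    exact (mem_idealSpec_support_iff A I (f c)).mpr hq
  exact hcG (hsupp hc)

end Groth.Agent.H19.FreeAdic
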