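import Groth.Agent.H19.FreeAdic
import Mathlib.RingTheory.Localization.AtPrime.Basic
import Mathlib.RingTheory.Localization.BaseChange
import Mathlib.Algebra.Module.LocalizedModule.Basic
import Mathlib.RingTheory.Localization.Finiteness
import Mathlib.RingTheory.Localization.Submodule
import Mathlib.RingTheory.LocalRing.RingHom.Basic

/-!
# Freeness of a stalk from freeness modulo all powers of an ideal, tested on local algebras

Helper library (helper19).
-/

set_option autoImplicit false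
set_option linter.style.haveILetI false
universe u
open TensorProduct

namespace Groth.Agent.H19.FreeAdic

variable {B : Type u} [CommRing B] [IsNoetherianRing B]
  (M : Type u) [AddCommGroup M] [Module B M] [Module.Finite B M]
  (J p : Ideal B) [p.IsPrime] (r : ℕ)

/-- Let `M` be a finite module over the Noetherian ring `B`, `J ≤ p` ideals with `p` prime.  If for
every `n` and every local `B`-algebra `S` killed by `J^(n+1)` whose maximal ideal lies over `p` the
base change `S ⊗ M` is free of rank `r`, then `M_p` is free of rank `r`. -/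
theorem nonempty_basis_localizedModule (hJp : J ≤ p)
    (h : ∀ (n : ℕ) (S : Type u) [CommRing S] [IsLocalRing S] [Algebra B S],
      J ^ (n + 1) ≤ RingHom.ker (algebraMap B S) →
      (IsLocalRing.maximalIdeal S).comap (algebraMap B S) = p →
      Module.Free S (S ⊗[B] M) ∧ Module.finrank S (S ⊗[B] M) = r) :
    Nonempty (Module.Basis (Fin r) (Localization.AtPrime p) (LocalizedModule p.primeCompl M)) := by
  let R := Localization.AtPrime p
  let N := LocalizedModule p.primeCompl M
  let 𝔞 : Ideal R := J.map (algebraMap B R)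
  have h𝔞 : 𝔞 ≤ IsLocalRing.maximalIdeal R := by
    rw [← Localization.AtPrime.map_eq_maximalIdeal]
    exact Ideal.map_mono hJp
  have hne : 𝔞 ≠ ⊤ := by
    intro htop
    rw [htop] at h𝔞
    exact (IsLocalRing.maximalIdeal.isMaximal R).ne_top (top_le_iff.mp h𝔞)
  haveI : IsNoetherianRing R := IsLocalization.isNoetherianRing p.primeCompl R inferInstance
  haveI : Module.Finite R N := Module.Finite.of_isLocalizedModule p.primeCompl
    (LocalizedModule.mkLinearMap p.primeCompl M)
  refine nonempty_basis_of_forall_quotient_free N 𝔞 r h𝔞 (fun n => ?_)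
  haveI hnt : Nontrivial (R ⧸ 𝔞 ^ (n + 1)) :=
    Ideal.Quotient.nontrivial_iff.mpr (fun htop => hne (top_le_iff.mp
      (htop.symm.le.trans (Ideal.pow_le_self (Nat.succ_ne_zero n)))))
  haveI : IsLocalRing (R ⧸ 𝔞 ^ (n + 1)) :=
    IsLocalRing.of_surjective' (Ideal.Quotient.mk (𝔞 ^ (n + 1))) Ideal.Quotient.mk_surjective
  have hker : J ^ (n + 1) ≤ RingHom.ker (algebraMap B (R ⧸ 𝔞 ^ (n + 1))) := by
    intro b hb
    rw [RingHom.mem_ker, IsScalarTower.algebraMap_apply B R (R ⧸ 𝔞 ^ (n + 1))]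
    rw [Ideal.Quotient.algebraMap_eq, Ideal.Quotient.eq_zero_iff_mem, ← Ideal.map_pow]
    exact Ideal.mem_map_of_mem _ hb
  have hcomap : (IsLocalRing.maximalIdeal (R ⧸ 𝔞 ^ (n + 1))).comap
      (algebraMap B (R ⧸ 𝔞 ^ (n + 1))) = p := by
    have h1 : (IsLocalRing.maximalIdeal (R ⧸ 𝔞 ^ (n + 1))).comap
        (Ideal.Quotient.mk (𝔞 ^ (n + 1))) = IsLocalRing.maximalIdeal R := by
      haveI : IsLocalHom (Ideal.Quotient.mk (𝔞 ^ (n + 1))) :=
        IsLocalHom.of_surjective _ Ideal.Quotient.mk_surjective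
      exact IsLocalRing.maximalIdeal_comap _
    have h2 : algebraMap B (R ⧸ 𝔞 ^ (n + 1)) =
        (Ideal.Quotient.mk (𝔞 ^ (n + 1))).comp (algebraMap B R) := rfl
    rw [h2, ← Ideal.comap_comap, h1]
    exact Localization.AtPrime.under_maximalIdeal
  obtain ⟨hfree, hrank⟩ := h n (R ⧸ 𝔞 ^ (n + 1)) hker hcomap
  have hbc : IsBaseChange R (LocalizedModule.mkLinearMap p.primeCompl M) :=
    IsLocalizedModule.isBaseChange p.primeCompl R (LocalizedModule.mkLinearMap p.primeCompl M)
  let e : (R ⧸ 𝔞 ^ (n + 1)) ⊗[R] N ≃ₗ[R ⧸ 𝔞 ^ (n + 1)] (R ⧸ 𝔞 ^ (n + 1)) ⊗[B] M :=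
    (TensorProduct.AlgebraTensorModule.congr (LinearEquiv.refl (R ⧸ 𝔞 ^ (n + 1)) (R ⧸ 𝔞 ^ (n + 1)))
      hbc.equiv.symm) ≪≫ₗ
    TensorProduct.AlgebraTensorModule.cancelBaseChange B R (R ⧸ 𝔞 ^ (n + 1)) (R ⧸ 𝔞 ^ (n + 1)) M
  exact ⟨Module.Free.of_equiv e.symm, (e.finrank_eq).trans hrank⟩

end Groth.Agent.H19.FreeAdic
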