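import Groth.Agent.H19.FreeAdicGeom

/-!
# A coherent module which is locally free of rank `r` on all thickenings of a closed subset is
locally free of rank `r` near that closed subset

Helper library (helper19).
-/

set_option autoImplicit false
set_option linter.style.haveILetI false
universe u
open CategoryTheory CategoryTheory.Limits AlgebraicGeometry TopologicalSpace Opposite TensorProduct

namespace Groth.Agent.H19.FreeAdic

open Scheme.Modules Groth.Agent.H44

variable {X : Scheme.{u}}

/-- A quasi-coherent module whose sections over the affine open `V` are finitely presented and whose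
localization at the prime of `x ∈ V` has a basis indexed by `Fin r`, is free of rank `r` near `x`. -/
theorem exists_iso_freeMod_of_basis_localizedModule (F : X.Modules) [F.IsQuasicoherent]
    {V : X.Opens} (hV : IsAffineOpen V) [Module.FinitePresentation Γ(X, V) Γ(F, V)] {x : X}
    (hx : x ∈ V) {r : ℕ}
    (b : Module.Basis (Fin r) (Localization.AtPrime (hV.primeIdealOf ⟨x, hx⟩).asIdeal)
      (LocalizedModule (hV.primeIdealOf ⟨x, hx⟩).asIdeal.primeCompl Γ(F, V))) :
    ∃ U : X.Opens, x ∈ U ∧ Nonempty (F.restrict U.ι ≅ FlatMod.freeMod U.toScheme r) := by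
  set p := (hV.primeIdealOf ⟨x, hx⟩).asIdeal with hp
  obtain ⟨g, hg, b', -⟩ := Module.FinitePresentation.exists_basis_localizedModule_powers
    p.primeCompl (LocalizedModule.mkLinearMap p.primeCompl Γ(F, V)) (Localization.AtPrime p) b
  letI := basicOpenModule F g
  haveI := isScalarTower_basicOpen F g
  haveI := isLocalizedModule_resBasicOpen F g hV
  haveI : IsLocalization (.powers g) Γ(X, X.basicOpen g) := hV.isLocalization_basicOpen g
  let b'' : Module.Basis (Fin r) Γ(X, X.basicOpen g) Γ(F, X.basicOpen g) :=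
    basisOfLocalizedModule (.powers g) Γ(X, X.basicOpen g) (resBasicOpen F g) b'
  obtain ⟨iso⟩ := nonempty_iso_freeMod_of_basis F (hV.basicOpen g) b''
  exact ⟨X.basicOpen g, (Groth.Agent.H8.notMem_primeIdealOf_iff hV hx g).mp hg, ⟨iso⟩⟩

/-- Let `F` be a coherent module on the locally Noetherian scheme `X` and `𝓙` an ideal sheaf.  If the
pullback of `F` to the closed subscheme of every power `𝓙^(n+1)` is locally free of rank `r`, then
`F` is free of rank `r` in a neighbourhood of every point of the support of `𝓙`. -/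
theorem exists_iso_freeMod_of_forall_thickening [IsLocallyNoetherian X] (𝓙 : X.IdealSheafData)
    (F : X.Modules) [F.IsQuasicoherent] [SheafOfModules.IsFiniteType (R := X.ringCatSheaf) F]
    (r : ℕ)
    (h : ∀ n : ℕ, FlatMod.IsFinLocFreeOfRank r
      ((Scheme.Modules.pullback (𝓙 ^ (n + 1)).subschemeι).obj F))
    {x : X} (hx : x ∈ 𝓙.support) :
    ∃ U : X.Opens, x ∈ U ∧ Nonempty (F.restrict U.ι ≅ FlatMod.freeMod U.toScheme r) := by
  obtain ⟨_, ⟨V, hV, rfl⟩, hxV, -⟩ :=
    X.isBasis_affineOpens.exists_subset_of_mem_open (Set.mem_univ x) isOpen_univ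
  haveI : IsNoetherianRing Γ(X, V) := IsLocallyNoetherian.component_noetherian ⟨V, hV⟩
  haveI : Module.Finite Γ(X, V) Γ(F, V) := finite_sections_of_isFiniteType F hV
  haveI : Module.FinitePresentation Γ(X, V) Γ(F, V) := Module.finitePresentation_of_finite _ _
  set p := (hV.primeIdealOf ⟨x, hxV⟩).asIdeal with hp
  have hJp : 𝓙.ideal ⟨V, hV⟩ ≤ p := by
    intro g hg
    by_contra hcon
    have h1 : x ∈ X.basicOpen g := (Groth.Agent.H8.notMem_primeIdealOf_iff hV hxV g).mp hcon
    have h2 : x ∈ X.zeroLocus (U := V) (𝓙.ideal ⟨V, hV⟩ : Set Γ(X, V)) :=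
      (Scheme.IdealSheafData.mem_support_iff_of_mem (U := ⟨V, hV⟩) hxV).mp hx
    exact (Scheme.mem_zeroLocus_iff _ _ _).mp h2 g hg h1
  obtain ⟨b⟩ := nonempty_basis_localizedModule (B := Γ(X, V)) Γ(F, V) (𝓙.ideal ⟨V, hV⟩) p r hJp
    (fun n S _ _ _ hS _ => free_baseChange_of_subscheme_pullback (𝓙 ^ (n + 1)) F r (h n) ⟨V, hV⟩ S
      (by rw [Scheme.IdealSheafData.ideal_pow]; exact hS))
  exact exists_iso_freeMod_of_basis_localizedModule F hV hxV b

end Groth.Agent.H19.FreeAdic
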