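import Mathlib.Algebra.Module.LocalizedModule.Basic
import Mathlib.Algebra.Module.LocalizedModule.Submodule
import Mathlib.RingTheory.Finiteness.Defs
import Mathlib.LinearAlgebra.Quotient.Basic
import Mathlib.Algebra.Algebra.Operations
import Mathlib.RingTheory.Localization.Away.Basic
import Mathlib.LinearAlgebra.Matrix.Charpoly.LinearMap

/-! S6310: generators of `S⁻¹(M/IM)` generate `M_f` for some `f ∈ S + I`. -/

set_option autoImplicit false
universe u
open Submodule

namespace Groth.Agent.H19.GenLocal

variable {R : Type u} [CommRing R]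

theorem exists_smul_mem_span_of_span_eq_top (S : Submonoid R) {P : Type*} [AddCommGroup P]
    [Module R P] (T : Set P)
    (h : span (Localization S) ((LocalizedModule.mkLinearMap S P) '' T) = ⊤) (y : P) :
    ∃ s ∈ S, s • y ∈ span R T := by
  rw [← localized'_span (Localization S) S (LocalizedModule.mkLinearMap S P)] at h
  have hy : LocalizedModule.mkLinearMap S P y ∈
      (span R T).localized' (Localization S) S (LocalizedModule.mkLinearMap S P) :=
    h ▸ mem_top
  obtain ⟨m, hm, s, hms⟩ := hy
  rw [IsLocalizedModule.mk'_eq_iff] at hms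
  have h0 : LocalizedModule.mkLinearMap S P (m - (s : R) • y) = 0 := by
    rw [map_sub, hms, map_smul, Submonoid.smul_def, sub_self]
  obtain ⟨s', hs'⟩ := (IsLocalizedModule.eq_zero_iff S (LocalizedModule.mkLinearMap S P)).mp h0
  refine ⟨s' * s, mul_mem s'.2 s.2, ?_⟩
  rw [Submonoid.smul_def, smul_sub, sub_eq_zero] at hs'
  rw [mul_smul, ← hs']
  exact smul_mem _ _ hm

theorem eval_monic_eq (I : Ideal R) (p : Polynomial R) (hp : p.Monic)
    (hc : ∀ k, p.coeff k ∈ I ^ (p.natDegree - k)) (s : R) :
    ∃ i ∈ I, p.eval s = s ^ p.natDegree + i := by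
  refine ⟨∑ k ∈ Finset.range p.natDegree, p.coeff k * s ^ k, ?_, ?_⟩
  · refine Submodule.sum_mem _ fun k hk => Ideal.mul_mem_right _ _ ?_
    have hk' : p.natDegree - k ≠ 0 := by
      have := Finset.mem_range.mp hk
      omega
    exact Ideal.pow_le_self hk' (hc k)
  · rw [Polynomial.eval_eq_sum_range, Finset.sum_range_succ, hp.coeff_natDegree, one_mul, add_comm]

theorem main (S : Submonoid R) (I : Ideal R) (M : Type u) [AddCommGroup M] [Module R M]
    [Module.Finite R M] {r : ℕ} (x : Fin r → M)
    (hx : span (Localization S) (Set.range fun j =>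
      LocalizedModule.mkLinearMap S (M ⧸ (I • (⊤ : Submodule R M)))
        (Submodule.Quotient.mk (x j))) = ⊤) :
    ∃ (s : R) (i : R), s ∈ S ∧ i ∈ I ∧ span (Localization.Away (s + i))
      (Set.range fun j => LocalizedModule.mkLinearMap (Submonoid.powers (s + i)) M (x j)) = ⊤ := by
  classical
  set X : Submodule R M := span R (Set.range x) with hX
  -- Step 1
  have h1 : ∀ m : M, ∃ s ∈ S, s • m ∈ X ⊔ I • (⊤ : Submodule R M) := by
    intro m
    have hx' : span (Localization S) ((LocalizedModule.mkLinearMap S (M ⧸ (I • (⊤ : Submodule R M))))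
        '' (Set.range fun j => (Submodule.Quotient.mk (x j) : M ⧸ (I • (⊤ : Submodule R M))))) = ⊤ := by
      rw [← Set.range_comp]
      exact hx
    obtain ⟨s, hs, hmem⟩ := exists_smul_mem_span_of_span_eq_top S _ hx'
      (Submodule.Quotient.mk m : M ⧸ (I • (⊤ : Submodule R M)))
    refine ⟨s, hs, ?_⟩
    have hrange : (Set.range fun j => (Submodule.Quotient.mk (x j) : M ⧸ (I • (⊤ : Submodule R M)))) =
        (I • (⊤ : Submodule R M)).mkQ '' Set.range x := by
      rw [← Set.range_comp]
      rfl
    rw [hrange, ← Submodule.map_span, ← Submodule.Quotient.mk_smul, ← Submodule.mkQ_apply,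
      ← Submodule.mem_comap, Submodule.comap_map_mkQ] at hmem
    rw [sup_comm]
    exact hmem
  -- Step 2
  obtain ⟨G, hG⟩ := (Module.Finite.fg_top : (⊤ : Submodule R M).FG)
  choose sf hsfS hsfmem using h1
  set s : R := ∏ g ∈ G, sf g with hs
  have hsS : s ∈ S := Submonoid.prod_mem _ fun g _ => hsfS g
  have h2 : ∀ m : M, s • m ∈ X ⊔ I • (⊤ : Submodule R M) := by
    intro m
    have hle : span R (G : Set M) ≤ (X ⊔ I • (⊤ : Submodule R M)).comap (LinearMap.lsmul R M s) := by
      rw [span_le]
      intro g hg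
      rw [SetLike.mem_coe, Submodule.mem_comap, LinearMap.lsmul_apply, hs,
        ← Finset.mul_prod_erase G sf (Finset.mem_coe.mp hg), mul_comm, mul_smul]
      exact smul_mem _ _ (hsfmem g)
    have : m ∈ span R (G : Set M) := hG ▸ mem_top
    exact hle this
  -- Step 3
  have hrange : LinearMap.range (s • (1 : Module.End R (M ⧸ X))) ≤ I • ⊤ := by
    rintro _ ⟨n, rfl⟩
    obtain ⟨m, rfl⟩ := Submodule.Quotient.mk_surjective _ n
    obtain ⟨a, ha, b, hb, hab⟩ := Submodule.mem_sup.mp (h2 m)
    have : (s • (1 : Module.End R (M ⧸ X))) (Submodule.Quotient.mk m) = X.mkQ b := by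
      rw [LinearMap.smul_apply, Module.End.one_apply, ← Submodule.Quotient.mk_smul, ← hab,
        Submodule.Quotient.mk_add, (Submodule.Quotient.mk_eq_zero X).mpr ha, zero_add]
      rfl
    rw [this]
    have hb' : X.mkQ b ∈ (I • (⊤ : Submodule R M)).map X.mkQ := Submodule.mem_map_of_mem hb
    rw [Submodule.map_smul''] at hb'
    exact Submodule.smul_mono le_rfl le_top hb'
  obtain ⟨p, hp, -, hc, hzero⟩ :=
    LinearMap.exists_monic_and_natDegree_eq_and_coeff_mem_pow_and_aeval_eq_zero R
      (s • (1 : Module.End R (M ⧸ X))) I hrange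
  obtain ⟨i, hi, hev⟩ := eval_monic_eq I p hp hc s
  have hkill : ∀ m : M, (s ^ p.natDegree + i) • m ∈ X := by
    intro m
    rw [← hev, ← Submodule.Quotient.mk_eq_zero, Submodule.Quotient.mk_smul]
    have h3 : s • (1 : Module.End R (M ⧸ X)) = algebraMap R (Module.End R (M ⧸ X)) s := by
      rw [Algebra.algebraMap_eq_smul_one]
    rw [h3, Polynomial.aeval_algebraMap_apply_eq_algebraMap_eval] at hzero
    have := LinearMap.congr_fun hzero (Submodule.Quotient.mk m)
    rw [Module.algebraMap_end_apply, LinearMap.zero_apply] at this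
    rw [← this]
  refine ⟨s ^ p.natDegree, i, pow_mem hsS _, hi, ?_⟩
  -- Step 4
  have hrange' : (Set.range fun j =>
      LocalizedModule.mkLinearMap (Submonoid.powers (s ^ p.natDegree + i)) M (x j)) =
      (LocalizedModule.mkLinearMap (Submonoid.powers (s ^ p.natDegree + i)) M) '' Set.range x := by
    rw [← Set.range_comp]
    rfl
  rw [hrange']
  show span (Localization (Submonoid.powers (s ^ p.natDegree + i))) _ = ⊤
  rw [← localized'_span (Localization (Submonoid.powers (s ^ p.natDegree + i)))
    (Submonoid.powers (s ^ p.natDegree + i))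
    (LocalizedModule.mkLinearMap (Submonoid.powers (s ^ p.natDegree + i)) M), eq_top_iff]
  intro y _
  obtain ⟨⟨m, t⟩, rfl⟩ := IsLocalizedModule.mk'_surjective
    (Submonoid.powers (s ^ p.natDegree + i))
    (LocalizedModule.mkLinearMap (Submonoid.powers (s ^ p.natDegree + i)) M) y
  refine ⟨(s ^ p.natDegree + i) • m, hkill m,
    ⟨s ^ p.natDegree + i, Submonoid.mem_powers _⟩ * t, ?_⟩
  exact IsLocalizedModule.mk'_cancel_left _ m ⟨s ^ p.natDegree + i, Submonoid.mem_powers _⟩ t

end Groth.Agent.H19.GenLocal
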