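import Mathlib
import Groth.Prelude.Def_CohTop

open CategoryTheory TopologicalSpace Opposite

namespace Groth.Agent.H19.Godement

universe u

open TopCat.Presheaf in
theorem subsingleton_of_eq_bot {Y : TopCat.{u}} (G : TopCat.Sheaf AddCommGrpCat.{u} Y)
    {U : Opens Y} (h : U = ⊥) : Subsingleton (G.obj.obj (op U)) :=
  AddCommGrpCat.subsingleton_of_isZero (Limits.IsZero.of_iso (Limits.isZero_zero _)
    ((G.isTerminalOfEqEmpty h).uniqueUpToIso Limits.HasZeroObject.zeroIsTerminal))

open TopCat.Presheaf in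
/-- Any abelian sheaf on a discrete space is flasque. -/
theorem isFlasque_of_discrete {Y : TopCat.{u}} [DiscreteTopology Y]
    (G : TopCat.Sheaf AddCommGrpCat.{u} Y) : TopCat.Sheaf.IsFlasque G := by
  constructor
  intro U V i
  rw [AddCommGrpCat.epi_iff_surjective]
  intro s
  have hle : V.unop ≤ U.unop := leOfHom i.unop
  let W : Opens Y := ⟨(U.unop : Set Y) \ (V.unop : Set Y), isOpen_discrete _⟩
  let Uf : Bool → Opens Y := fun b => cond b V.unop W
  have hW : W ≤ U.unop := fun x hx => hx.1
  have iUV : ∀ b, Uf b ⟶ U.unop := fun b => homOfLE (by cases b; exacts [hW, hle])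
  have hcover : U.unop ≤ iSup Uf := by
    intro x hx
    by_cases hxV : x ∈ V.unop
    · exact Opens.mem_iSup.mpr ⟨true, hxV⟩
    · exact Opens.mem_iSup.mpr ⟨false, ⟨hx, hxV⟩⟩
  let sf : ∀ b, ToType (G.1.obj (op (Uf b))) := fun b =>
    Bool.rec (motive := fun b => ToType (G.1.obj (op (Uf b)))) (0 : G.1.obj (op W)) s b
  have hVW : V.unop ⊓ W = ⊥ := by
    ext x
    simp only [Opens.coe_inf, Set.mem_inter_iff, SetLike.mem_coe, Opens.coe_bot,
      Set.mem_empty_iff_false, iff_false, not_and]
    intro hx hx'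
    exact hx'.2 hx
  have hWV : W ⊓ V.unop = ⊥ := by rw [inf_comm]; exact hVW
  have hcompat : IsCompatible G.1 Uf sf := by
    intro a b
    cases a <;> cases b
    · congr 1
    · have : Subsingleton (G.obj.obj (op (Uf false ⊓ Uf true))) := subsingleton_of_eq_bot G hWV
      exact Subsingleton.elim _ _
    · have : Subsingleton (G.obj.obj (op (Uf true ⊓ Uf false))) := subsingleton_of_eq_bot G hVW
      exact Subsingleton.elim _ _
    · congr 1
  obtain ⟨t, ht, -⟩ := G.existsUnique_gluing' Uf U.unop iUV hcover sf hcompat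
  refine ⟨t, ?_⟩
  have := ht true
  have e : i = (iUV true).op := Subsingleton.elim _ _
  rw [e]
  exact this

end Groth.Agent.H19.Godement
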