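import Mathlib
import Groth.Prelude.Def_CohTop

open CategoryTheory TopologicalSpace Opposite

namespace Groth.Agent.H19.Godement

universe u

variable {X Y : TopCat.{u}} (f : Y ⟶ X) (F : TopCat.Sheaf AddCommGrpCat.{u} X)

/-- The "Godement" presheaf on `Y`: `U ↦ ∏_{y ∈ U} F_{f y}`. -/
noncomputable def godPresheaf : TopCat.Presheaf AddCommGrpCat.{u} Y where
  obj U := AddCommGrpCat.of (∀ y : (unop U : Opens Y), ↑(TopCat.Presheaf.stalk F.obj (f y.1)))
  map {U V} i := AddCommGrpCat.ofHom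
    { toFun := fun s y => s ⟨y.1, leOfHom i.unop y.2⟩
      map_zero' := rfl
      map_add' := fun _ _ => rfl }
  map_id _ := rfl
  map_comp _ _ := rfl

open TopCat.Presheaf in
theorem godPresheaf_isSheaf : (godPresheaf f F).IsSheaf := by
  rw [TopCat.Presheaf.isSheaf_iff_isSheafUniqueGluing]
  intro ι U sf hsf
  have hmem : ∀ y : (iSup U : Opens Y), ∃ i, y.1 ∈ U i := fun y => Opens.mem_iSup.mp y.2
  let s : ∀ y : (iSup U : Opens Y), ↑(TopCat.Presheaf.stalk F.obj (f y.1)) := fun y =>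
    sf (hmem y).choose ⟨y.1, (hmem y).choose_spec⟩
  refine ⟨s, ?_, ?_⟩
  · intro i
    funext y
    have := congrFun (hsf (hmem ⟨y.1, Opens.mem_iSup.mpr ⟨i, y.2⟩⟩).choose i)
      ⟨y.1, ⟨(hmem ⟨y.1, Opens.mem_iSup.mpr ⟨i, y.2⟩⟩).choose_spec, y.2⟩⟩
    exact this
  · intro t ht
    funext y
    have := congrFun (ht (hmem y).choose) ⟨y.1, (hmem y).choose_spec⟩
    exact this

/-- The Godement sheaf on `Y`. -/
noncomputable def godSheaf : TopCat.Sheaf AddCommGrpCat.{u} Y :=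
  ⟨godPresheaf f F, godPresheaf_isSheaf f F⟩

end Groth.Agent.H19.Godement
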