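import Mathlib
import Groth.Prelude.Def_CohTop
import Groth.Agent.H19.GodementSheaf
import Groth.Agent.H19.GodementFlasque

open CategoryTheory TopologicalSpace Opposite

namespace Groth.Agent.H19.Godement

universe u

variable {X Y : TopCat.{u}} (f : Y ⟶ X) (F : TopCat.Sheaf AddCommGrpCat.{u} X)

/-- The germ map `F → f_* (godSheaf f F)`. -/
noncomputable def toGod :
    F ⟶ (TopCat.Sheaf.pushforward AddCommGrpCat.{u} f).obj (godSheaf f F) :=
  ⟨{ app := fun U => AddCommGrpCat.ofHom
        { toFun := fun s y => (TopCat.Presheaf.germ F.obj (unop U) (f y.1) y.2).hom s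
          map_zero' := by funext y; exact map_zero _
          map_add' := fun a b => by funext y; exact map_add _ a b }
     naturality := fun U V i => by
       ext s
       funext y
       exact TopCat.Presheaf.germ_res_apply F.obj i.unop (f y.1) y.2 s }⟩

theorem toGod_mono (hf : Function.Surjective f) : Mono (toGod f F) := by
  have : Mono (toGod f F).hom := by
    have hU : ∀ U, Mono ((toGod f F).hom.app U) := by
      intro U
      rw [AddCommGrpCat.mono_iff_injective]
      intro s t hst
      apply TopCat.Presheaf.section_ext F (unop U) s t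
      intro x hx
      obtain ⟨y, rfl⟩ := hf x
      exact congrFun hst ⟨y, hx⟩
    exact NatTrans.mono_of_mono_app _
  exact Sheaf.Hom.mono_of_presheaf_mono _ _ _

theorem unit_mono (hf : Function.Surjective f) :
    Mono ((TopCat.Sheaf.pullbackPushforwardAdjunction AddCommGrpCat.{u} f).unit.app F) := by
  set adj := TopCat.Sheaf.pullbackPushforwardAdjunction AddCommGrpCat.{u} f
  have h : toGod f F = adj.unit.app F ≫
      (TopCat.Sheaf.pushforward AddCommGrpCat.{u} f).map ((adj.homEquiv _ _).symm (toGod f F)) := by
    have h' := adj.homEquiv_unit (f := (adj.homEquiv _ _).symm (toGod f F))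
    rw [Equiv.apply_symm_apply] at h'
    exact h'
  have := toGod_mono f F hf
  rw [h] at this
  exact mono_of_mono _ ((TopCat.Sheaf.pushforward AddCommGrpCat.{u} f).map
    ((adj.homEquiv _ _).symm (toGod f F)))

end Groth.Agent.H19.Godement
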