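import Mathlib.Topology.LocallyClosed
import Mathlib.Topology.NoetherianSpace
import Mathlib.Topology.Sets.Closeds
import Mathlib.Data.Fintype.Basic
import Mathlib.Data.Fintype.EquivFin
import Mathlib.Data.Finset.Image

/-!
# Good stratifications refining finite partitions of Noetherian spaces
-/

namespace Groth.Agent.H19.GoodStrat

open Set TopologicalSpace

universe u

variable {X : Type u} [TopologicalSpace X]

/-- Among finitely many locally closed sets covering a nonempty relatively open part of a closed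
set `Z`, one contains a nonempty relatively open part of `Z`. -/
theorem exists_open_part (Z : Set X) (Fam : Finset (Set X)) :
    (∀ P ∈ Fam, IsLocallyClosed P) → ∀ W₀ : Set X, IsOpen W₀ → (W₀ ∩ Z).Nonempty →
      W₀ ∩ Z ⊆ ⋃₀ (Fam : Set (Set X)) →
      ∃ P ∈ Fam, ∃ W : Set X, IsOpen W ∧ (W ∩ Z).Nonempty ∧ W ∩ Z ⊆ P := by
  classical
  induction Fam using Finset.induction_on with
  | empty =>
    intro _ W₀ _ hne hcov
    obtain ⟨x, hx⟩ := hne
    have := hcov hx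
    simp at this
  | insert Q Fam hQ ih =>
    intro hlc W₀ hW₀ hne hcov
    have hlc' : ∀ P ∈ Fam, IsLocallyClosed P := fun P hP => hlc P (Finset.mem_insert_of_mem hP)
    obtain ⟨O, C, hO, hC, rfl⟩ := hlc _ (Finset.mem_insert_self _ _)
    by_cases h1 : ((W₀ ∩ Cᶜ) ∩ Z).Nonempty
    · -- shrink to the complement of `C`
      obtain ⟨P, hP, W, hW, hne', hsub⟩ := ih hlc' (W₀ ∩ Cᶜ) (hW₀.inter hC.isOpen_compl) h1 (by
        intro x hx
        have hx' : x ∈ W₀ ∩ Z := ⟨hx.1.1, hx.2⟩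
        obtain ⟨P, hP, hxP⟩ := hcov hx'
        rw [Finset.coe_insert, Set.mem_insert_iff] at hP
        rcases hP with rfl | hP
        · exact absurd hxP.2 hx.1.2
        · exact ⟨P, hP, hxP⟩)
      exact ⟨P, Finset.mem_insert_of_mem hP, W, hW, hne', hsub⟩
    · have hWC : W₀ ∩ Z ⊆ C := by
        intro x hx
        by_contra hxC
        exact h1 ⟨x, ⟨hx.1, hxC⟩, hx.2⟩
      by_cases h2 : ((W₀ ∩ O) ∩ Z).Nonempty
      · refine ⟨_, Finset.mem_insert_self _ _, W₀ ∩ O, hW₀.inter hO, h2, ?_⟩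
        intro x hx
        exact ⟨hx.1.2, hWC ⟨hx.1.1, hx.2⟩⟩
      · obtain ⟨P, hP, W, hW, hne', hsub⟩ := ih hlc' W₀ hW₀ hne (by
          intro x hx
          obtain ⟨P, hP, hxP⟩ := hcov hx
          rw [Finset.coe_insert, Set.mem_insert_iff] at hP
          rcases hP with rfl | hP
          · exact absurd ⟨x, ⟨hx.1, hxP.1⟩, hx.2⟩ h2
          · exact ⟨P, hP, hxP⟩)
        exact ⟨P, Finset.mem_insert_of_mem hP, W, hW, hne', hsub⟩

/-- The property of a finite set of strata of `Z` relative to a family `Fam`. -/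
def IsGood (Z : Set X) (Fam T : Finset (Set X)) : Prop :=
  (∀ S ∈ T, IsLocallyClosed S) ∧ ⋃₀ (T : Set (Set X)) = Z ∧
    (∀ S ∈ T, ∀ S' ∈ T, S ≠ S' → Disjoint S S') ∧
    (∀ S ∈ T, ∀ S' ∈ T, (S ∩ closure S').Nonempty → S ⊆ closure S') ∧
    (∀ S ∈ T, ∀ P ∈ Fam, (S ∩ P).Nonempty → S ⊆ P)

variable [NoetherianSpace X]

theorem exists_good (Z : Closeds X) : ∀ Fam : Finset (Set X), (∀ P ∈ Fam, IsLocallyClosed P) →
    (Z : Set X) ⊆ ⋃₀ (Fam : Set (Set X)) → (∀ P ∈ Fam, ∀ P' ∈ Fam, P ≠ P' → Disjoint P P') →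
    ∃ T : Finset (Set X), IsGood (Z : Set X) Fam T := by
  classical
  induction Z using WellFoundedLT.induction with
  | ind Z ih =>
  intro Fam hlc hcov hdisj
  by_cases hZ : (Z : Set X) = ∅
  · refine ⟨∅, by simp, by simp [hZ], by simp, by simp, by simp⟩
  have hZne : (Z : Set X).Nonempty := Set.nonempty_iff_ne_empty.mpr hZ
  obtain ⟨P, hP, W, hW, hne, hsub⟩ := exists_open_part (Z : Set X) Fam hlc Set.univ isOpen_univ
    (by simpa using hZne) (by simpa using hcov)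
  set U : Set X := W ∩ Z with hU
  let Z' : Closeds X := ⟨(Z : Set X) ∩ Wᶜ, Z.isClosed.inter hW.isClosed_compl⟩
  have hZ'Z : Z' < Z := by
    refine lt_of_le_of_ne (fun x hx => hx.1) ?_
    intro h
    obtain ⟨x, hxW, hxZ⟩ := hne
    have : x ∈ (Z' : Set X) := by rw [h]; exact hxZ
    exact this.2 hxW
  set Fam' : Finset (Set X) := Fam.image (· ∩ closure U) ∪ Fam.image (· \ closure U) with hFam'
  have hlc' : ∀ Q ∈ Fam', IsLocallyClosed Q := by
    intro Q hQ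
    rw [hFam', Finset.mem_union, Finset.mem_image, Finset.mem_image] at hQ
    rcases hQ with ⟨P₀, hP₀, rfl⟩ | ⟨P₀, hP₀, rfl⟩
    · exact (hlc P₀ hP₀).inter isClosed_closure.isLocallyClosed
    · rw [Set.sdiff_eq]
      exact (hlc P₀ hP₀).inter isClosed_closure.isOpen_compl.isLocallyClosed
  have hmem' : ∀ x, ∀ P₀ ∈ Fam, x ∈ P₀ → ∃ Q ∈ Fam', x ∈ Q ∧ Q ⊆ P₀ ∧
      (x ∈ closure U → Q ⊆ closure U) := by
    intro x P₀ hP₀ hx
    by_cases hxU : x ∈ closure U
    · refine ⟨P₀ ∩ closure U, ?_, ⟨hx, hxU⟩, Set.inter_subset_left, fun _ => Set.inter_subset_right⟩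
      rw [hFam', Finset.mem_union]
      exact Or.inl (Finset.mem_image_of_mem _ hP₀)
    · refine ⟨P₀ \ closure U, ?_, ⟨hx, hxU⟩, Set.sdiff_subset, fun h => absurd h hxU⟩
      rw [hFam', Finset.mem_union]
      exact Or.inr (Finset.mem_image_of_mem _ hP₀)
  have hcov' : (Z' : Set X) ⊆ ⋃₀ (Fam' : Set (Set X)) := by
    intro x hx
    obtain ⟨P₀, hP₀, hxP₀⟩ := hcov hx.1
    obtain ⟨Q, hQ, hxQ, -, -⟩ := hmem' x P₀ hP₀ hxP₀
    exact ⟨Q, hQ, hxQ⟩
  have hdisj' : ∀ Q ∈ Fam', ∀ Q' ∈ Fam', Q ≠ Q' → Disjoint Q Q' := by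
    intro Q hQ Q' hQ' hne'
    rw [hFam', Finset.mem_union, Finset.mem_image, Finset.mem_image] at hQ hQ'
    have aux : ∀ P₁ ∈ Fam, ∀ P₂ ∈ Fam, ∀ A B : Set X, A ⊆ P₁ → B ⊆ P₂ → (P₁ = P₂ → Disjoint A B) →
        Disjoint A B := by
      intro P₁ h₁ P₂ h₂ A B hA hB h
      by_cases he : P₁ = P₂
      · exact h he
      · exact (hdisj P₁ h₁ P₂ h₂ he).mono hA hB
    rcases hQ with ⟨P₁, h₁, rfl⟩ | ⟨P₁, h₁, rfl⟩ <;> rcases hQ' with ⟨P₂, h₂, rfl⟩ | ⟨P₂, h₂, rfl⟩
    · exact aux P₁ h₁ P₂ h₂ _ _ Set.inter_subset_left Set.inter_subset_left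
        (fun he => absurd (by rw [he]) hne')
    · exact aux P₁ h₁ P₂ h₂ _ _ Set.inter_subset_left Set.sdiff_subset
        (fun _ => Set.disjoint_left.mpr fun x hx hx' => hx'.2 hx.2)
    · exact aux P₁ h₁ P₂ h₂ _ _ Set.sdiff_subset Set.inter_subset_left
        (fun _ => Set.disjoint_left.mpr fun x hx hx' => hx.2 hx'.2)
    · exact aux P₁ h₁ P₂ h₂ _ _ Set.sdiff_subset Set.sdiff_subset
        (fun he => absurd (by rw [he]) hne')
  obtain ⟨T', hT'lc, hT'cov, hT'disj, hT'good, hT'ref⟩ := ih Z' hZ'Z Fam' hlc' hcov' hdisj'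
  have hT'sub : ∀ S ∈ T', S ⊆ (Z : Set X) ∩ Wᶜ := by
    intro S hS
    have : S ⊆ ⋃₀ (T' : Set (Set X)) := Set.subset_sUnion_of_mem hS
    rw [hT'cov] at this
    exact this
  have hUZ' : ∀ S ∈ T', Disjoint U S := by
    intro S hS
    exact Set.disjoint_left.mpr fun x hxU hxS => (hT'sub S hS hxS).2 hxU.1
  refine ⟨insert U T', ?_, ?_, ?_, ?_, ?_⟩
  · intro S hS
    rw [Finset.mem_insert] at hS
    rcases hS with rfl | hS
    · exact hW.isLocallyClosed.inter Z.isClosed.isLocallyClosed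
    · exact hT'lc S hS
  · rw [Finset.coe_insert, Set.sUnion_insert, hT'cov]
    ext x
    simp only [hU, Set.mem_union, Set.mem_inter_iff]
    constructor
    · rintro (⟨_, h⟩ | ⟨h, _⟩) <;> exact h
    · intro h
      by_cases hxW : x ∈ W
      · exact Or.inl ⟨hxW, h⟩
      · exact Or.inr ⟨h, hxW⟩
  · intro S hS S' hS' hne'
    rw [Finset.mem_insert] at hS hS'
    rcases hS with rfl | hS <;> rcases hS' with rfl | hS'
    · exact absurd rfl hne'
    · exact hUZ' S' hS'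
    · exact (hUZ' S hS).symm
    · exact hT'disj S hS S' hS' hne'
  · intro S hS S' hS' hne'
    rw [Finset.mem_insert] at hS hS'
    rcases hS with rfl | hS <;> rcases hS' with rfl | hS'
    · exact subset_closure
    · exfalso
      obtain ⟨x, hxU, hxS'⟩ := hne'
      have hcl : closure S' ⊆ (Z : Set X) ∩ Wᶜ :=
        closure_minimal (hT'sub S' hS') (Z.isClosed.inter hW.isClosed_compl)
      exact (hcl hxS').2 hxU.1
    · obtain ⟨x, hxS, hxU⟩ := hne'
      obtain ⟨P₀, hP₀, hxP₀⟩ := hcov (hT'sub S hS hxS).1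
      obtain ⟨Q, hQ, hxQ, -, hQU⟩ := hmem' x P₀ hP₀ hxP₀
      exact (hT'ref S hS Q hQ ⟨x, hxS, hxQ⟩).trans (hQU hxU)
    · exact hT'good S hS S' hS' hne'
  · intro S hS P₀ hP₀ hne'
    rw [Finset.mem_insert] at hS
    rcases hS with rfl | hS
    · obtain ⟨x, hxU, hxP₀⟩ := hne'
      have : P = P₀ := by
        by_contra hPP
        exact Set.disjoint_left.mp (hdisj P hP P₀ hP₀ hPP) (hsub hxU) hxP₀
      rw [← this]; exact hsub
    · obtain ⟨x, hxS, hxP₀⟩ := hne'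
      obtain ⟨Q, hQ, hxQ, hQP, -⟩ := hmem' x P₀ hP₀ hxP₀
      exact (hT'ref S hS Q hQ ⟨x, hxS, hxQ⟩).trans hQP

theorem main {n : ℕ} (P : Fin n → Set X) (hP : ∀ k, IsLocallyClosed (P k))
    (hcov : ⋃ k, P k = Set.univ)
    (hdisj : ∀ k k', k ≠ k' → Disjoint (P k) (P k')) :
    ∃ (m : ℕ) (S : Fin m → Set X),
      (∀ i, IsLocallyClosed (S i)) ∧ (⋃ i, S i = Set.univ) ∧ (∀ i j, i ≠ j → Disjoint (S i) (S j)) ∧
      (∀ i j, (S i ∩ closure (S j)).Nonempty → S i ⊆ closure (S j)) ∧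
      (∀ i k, (S i ∩ P k).Nonempty → S i ⊆ P k) := by
  classical
  obtain ⟨T, hlc, hTcov, hTdisj, hTgood, hTref⟩ := exists_good (⊤ : Closeds X)
    (Finset.univ.image P)
    (by
      intro Q hQ
      obtain ⟨k, -, rfl⟩ := Finset.mem_image.mp hQ
      exact hP k)
    (by
      intro x _
      have : x ∈ ⋃ k, P k := hcov ▸ Set.mem_univ x
      obtain ⟨k, hk⟩ := Set.mem_iUnion.mp this
      exact ⟨P k, by simp, hk⟩)
    (by
      intro Q hQ Q' hQ' hne
      obtain ⟨k, -, rfl⟩ := Finset.mem_image.mp hQ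
      obtain ⟨k', -, rfl⟩ := Finset.mem_image.mp hQ'
      exact hdisj k k' (fun h => hne (by rw [h])))
  let e : Fin T.card ≃ T := T.equivFin.symm
  refine ⟨T.card, fun i => (e i : Set X), fun i => hlc _ (e i).2, ?_, ?_, ?_, ?_⟩
  · rw [Set.eq_univ_iff_forall]
    intro x
    have : x ∈ ⋃₀ (T : Set (Set X)) := by rw [hTcov]; trivial
    obtain ⟨S, hS, hxS⟩ := this
    refine Set.mem_iUnion.mpr ⟨e.symm ⟨S, hS⟩, ?_⟩
    simpa using hxS
  · intro i j hij
    refine hTdisj _ (e i).2 _ (e j).2 fun h => hij ?_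
    exact e.injective (Subtype.ext h)
  · intro i j h
    exact hTgood _ (e i).2 _ (e j).2 h
  · intro i k h
    exact hTref _ (e i).2 (P k) (Finset.mem_image_of_mem _ (Finset.mem_univ k)) h

end Groth.Agent.H19.GoodStrat
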