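import Groth.Prelude.Def_AssocGrMod
import Groth.Agent.H19.Tor1U
import Mathlib.RingTheory.Flat.Basic
import Mathlib.RingTheory.Nilpotent.Defs
import Mathlib.RingTheory.Ideal.Quotient.Operations
import Mathlib.LinearAlgebra.TensorProduct.Finiteness
import Mathlib.LinearAlgebra.TensorProduct.Quotient
import Mathlib.LinearAlgebra.TensorProduct.RightExactness

/-!
# Local flatness criterion for a nilpotent ideal, in associated graded form
-/

set_option linter.unusedSectionVars false

namespace Groth.Agent.H19.GrFlat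

open TensorProduct Function

universe u

section clean

variable {A : Type u} [CommRing A] (I : Ideal A) (M : Type u) [AddCommGroup M] [Module A M]

/-- If `I` kills `Q` then `Q ⊗ M → Q ⊗ M/IM` is injective. -/
theorem lTensor_mkQ_injective (Q : Type u) [AddCommGroup Q] [Module A Q]
    (hQ : ∀ a ∈ I, ∀ y : Q, a • y = 0) :
    Injective ((Submodule.mkQ (I • (⊤ : Submodule A M))).lTensor Q) := by
  have hex : Exact ((I • (⊤ : Submodule A M)).subtype.lTensor Q)
      ((Submodule.mkQ (I • (⊤ : Submodule A M))).lTensor Q) :=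
    lTensor_exact Q (LinearMap.exact_subtype_mkQ _) (Submodule.mkQ_surjective _)
  have hzero : ∀ z : Q ⊗[A] ↥(I • (⊤ : Submodule A M)),
      (I • (⊤ : Submodule A M)).subtype.lTensor Q z = 0 := by
    intro z
    induction z using TensorProduct.induction_on with
    | zero => simp
    | add x y hx hy => rw [map_add, hx, hy, add_zero]
    | tmul y m =>
      rw [LinearMap.lTensor_tmul, Submodule.subtype_apply]
      obtain ⟨m, hm⟩ := m
      change y ⊗ₜ[A] m = 0
      refine Submodule.smul_induction_on (p := fun m => y ⊗ₜ[A] m = 0) hm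
        (fun a ha m _ => ?_) (fun m₁ m₂ h₁ h₂ => ?_)
      · change y ⊗ₜ[A] (a • m) = 0
        rw [← TensorProduct.smul_tmul, hQ a ha y, zero_tmul]
      · rw [TensorProduct.tmul_add, h₁, h₂, add_zero]
  rw [injective_iff_map_eq_zero]
  intro z hz
  obtain ⟨w, rfl⟩ := (hex z).mp hz
  exact hzero w

variable (J : ℕ → Ideal A) (hJ : ∀ n, J n = I ^ n)
  (Q : ℕ → Type u) [∀ n, AddCommGroup (Q n)] [∀ n, Module A (Q n)]
  (q : ∀ n, ↥(J n) →ₗ[A] Q n) (hq : ∀ n, Surjective (q n))
  (hker : ∀ n (a : ↥(J n)), q n a = 0 ↔ (a : A) ∈ J (n + 1))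
  (hinj : ∀ (n k : ℕ) (a : Fin k → ↥(J n)) (x : Fin k → M),
    ∑ i, (a i : A) • x i ∈ (J (n + 1)) • (⊤ : Submodule A M) →
    (∑ i, q n (a i) ⊗ₜ[A] (Submodule.Quotient.mk (x i) : M ⧸ (I • (⊤ : Submodule A M))) :
      Q n ⊗[A] (M ⧸ (I • (⊤ : Submodule A M)))) = 0)

/-- the multiplication map `J n ⊗ M → M` -/
noncomputable def alpha (n : ℕ) : ↥(J n) ⊗[A] M →ₗ[A] M :=
  (TensorProduct.lid A M).toLinearMap ∘ₗ (J n).subtype.rTensor M

theorem alpha_tmul (n : ℕ) (a : ↥(J n)) (x : M) : alpha M J n (a ⊗ₜ x) = (a : A) • x := by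
  simp [alpha]

include hJ in
theorem J_succ_le (n : ℕ) : J (n + 1) ≤ J n := by
  rw [hJ, hJ]; exact Ideal.pow_le_pow_right (Nat.le_succ n)

/-- inclusion `J (n+1) → J n` -/
noncomputable def iota (n : ℕ) : ↥(J (n + 1)) →ₗ[A] ↥(J n) :=
  Submodule.inclusion (J_succ_le I J hJ n)

theorem alpha_iota (n : ℕ) (y : ↥(J (n + 1)) ⊗[A] M) :
    alpha M J n ((iota I J hJ n).rTensor M y) = alpha M J (n + 1) y := by
  induction y using TensorProduct.induction_on with
  | zero => simp
  | add x y hx hy => simp only [map_add, hx, hy]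
  | tmul a x =>
    rw [LinearMap.rTensor_tmul, alpha_tmul, alpha_tmul]
    rfl

include hJ hq hker hinj in
theorem step (n : ℕ) (h : Injective (alpha M J (n + 1))) : Injective (alpha M J n) := by
  have hkill : ∀ a ∈ I, ∀ y : Q n, a • y = 0 := by
    intro a ha y
    obtain ⟨b, rfl⟩ := hq n y
    rw [← map_smul, hker]
    change a * (b : A) ∈ J (n + 1)
    rw [hJ, pow_succ']
    exact Ideal.mul_mem_mul ha (hJ n ▸ b.2)
  have hex : Exact ((iota I J hJ n).rTensor M) ((q n).rTensor M) := by
    refine rTensor_exact M ?_ (hq n)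
    intro a
    rw [hker]
    constructor
    · intro ha; exact ⟨⟨a, ha⟩, rfl⟩
    · rintro ⟨b, rfl⟩; exact b.2
  rw [injective_iff_map_eq_zero]
  intro x hx
  -- represent `x` as a finite sum
  obtain ⟨S, hS⟩ := TensorProduct.exists_finset x
  have hx' : ∑ i : ↥S, ((i : ↥(J n) × M).1 : A) • (i : ↥(J n) × M).2 = 0 := by
    rw [hS, map_sum] at hx
    rw [Finset.sum_coe_sort S (fun i => ((i.1 : ↥(J n)) : A) • i.2)]
    simpa [alpha_tmul] using hx
  let e : Fin S.card ≃ ↥S := S.equivFin.symm
  have h1 := hinj n S.card (fun i => (e i : ↥(J n) × M).1) (fun i => (e i : ↥(J n) × M).2) (by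
    rw [Equiv.sum_comp e (fun i : ↥S => ((i : ↥(J n) × M).1 : A) • (i : ↥(J n) × M).2), hx']
    exact zero_mem _)
  have h2 : (Submodule.mkQ (I • (⊤ : Submodule A M))).lTensor (Q n) ((q n).rTensor M x) = 0 := by
    rw [hS, map_sum, map_sum]
    rw [← Finset.sum_coe_sort S, ← Equiv.sum_comp e]
    simpa using h1
  have h3 : (q n).rTensor M x = 0 := by
    apply lTensor_mkQ_injective I M (Q n) hkill
    rw [h2, map_zero]
  obtain ⟨y, rfl⟩ := (hex x).mp h3
  rw [alpha_iota] at hx
  have : y = 0 := h (by rw [hx, map_zero])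
  rw [this, map_zero]

include hJ hq hker hinj in
theorem alpha_injective (hI : IsNilpotent I) (n : ℕ) : Injective (alpha M J n) := by
  obtain ⟨N, hN⟩ := hI
  have key : ∀ d n, N ≤ n + d → Injective (alpha M J n) := by
    intro d
    induction d with
    | zero =>
      intro n hn
      have hbot : J n = ⊥ := by
        rw [hJ, ← le_bot_iff, ← Ideal.zero_eq_bot, ← hN]
        exact Ideal.pow_le_pow_right (by omega)
      have hsub : Subsingleton ↥(J n) := by
        rw [hbot]; infer_instance
      have : Subsingleton (↥(J n) ⊗[A] M) := inferInstance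
      exact Function.injective_of_subsingleton _
    | succ d ih =>
      intro n hn
      exact step I M J hJ Q q hq hker hinj n (ih (n + 1) (by omega))
  exact key N n (by omega)

include hJ hq hker hinj in
theorem rTensor_injective (hI : IsNilpotent I) : Injective (I.subtype.rTensor M) := by
  have h1 := alpha_injective I M J hJ Q q hq hker hinj hI 1
  have key : ∀ K : Ideal A, K = J 1 → Injective (K.subtype.rTensor M) := by
    rintro K rfl
    have : (J 1).subtype.rTensor M = (TensorProduct.lid A M).symm.toLinearMap ∘ₗ alpha M J 1 := by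
      ext a x
      simp [alpha]
    rw [this]
    exact (TensorProduct.lid A M).symm.injective.comp h1
  exact key I (by rw [hJ, pow_one])

end clean

section prelude

variable (A : Type u) [CommRing A] (I : Ideal A) (M : Type u) [AddCommGroup M] [Module A M]

theorem main
    (hI : IsNilpotent I)
    (hflat : Module.Flat (A ⧸ I) (M ⧸ (I • (⊤ : Submodule A M))))
    (hinj : ∀ (n k : ℕ) (a : Fin k → ↥((FiltBl.IdealFiltration.adic I).F n))
      (x : Fin k → ↥((Rees.powFilt I M).N 0)),
      (∑ i, (AssocGr.inDeg (FiltBl.IdealFiltration.adic I) n (a i) :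
          AssocGr.GrRing (FiltBl.IdealFiltration.adic I)) •
        (AssocGr.inDegM (Rees.powFilt I M) 0 (x i) : AssocGr.GrMod (Rees.powFilt I M))) = 0 →
      (∑ i, (AssocGr.inDeg (FiltBl.IdealFiltration.adic I) n (a i)) ⊗ₜ[A]
          (Submodule.Quotient.mk (x i : M)) :
        ↥(AssocGr.gr (FiltBl.IdealFiltration.adic I) n) ⊗[A] (M ⧸ (I • (⊤ : Submodule A M)))) = 0) :
    Module.Flat A M := by
  rw [Tor1U.main A I hI M]
  constructor
  · -- flatness of the reduction
    let e := TensorProduct.quotTensorEquivQuotSMul M I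
    let e' : ((A ⧸ I) ⊗[A] M) ≃ₗ[A ⧸ I] (M ⧸ (I • (⊤ : Submodule A M))) :=
      { e with
        map_smul' := by
          intro c x
          obtain ⟨a, rfl⟩ := Ideal.Quotient.mk_surjective c
          change e (Ideal.Quotient.mk I a • x) = Ideal.Quotient.mk I a • e x
          have h1 : Ideal.Quotient.mk I a • x = a • x := by
            rw [← Ideal.Quotient.algebraMap_eq, algebraMap_smul]
          have h2 : Ideal.Quotient.mk I a • e x = a • e x := by
            rw [← Ideal.Quotient.algebraMap_eq, algebraMap_smul]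
          rw [h1, h2, map_smul] }
    exact Module.Flat.of_linearEquiv e'
  · -- Tor vanishing
    have h0 : ∀ x : M, x ∈ (Rees.powFilt I M).N 0 := by
      intro x
      simp [Rees.powFilt]
    refine rTensor_injective I M (FiltBl.IdealFiltration.adic I).F (fun n => rfl)
      (fun n => ↥(AssocGr.gr (FiltBl.IdealFiltration.adic I) n))
      (fun n => AssocGr.inDeg (FiltBl.IdealFiltration.adic I) n)
      (fun n => AssocGr.inDeg_surjective _ n)
      (fun n a => AssocGr.inDeg_eq_zero_iff _ n a) ?_ hI
    intro n k a x hx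
    refine hinj n k a (fun i => ⟨x i, h0 (x i)⟩) ?_
    simp_rw [AssocGr.inDeg_smul_inDegM]
    rw [← AddSubmonoidClass.coe_finsetSum, ← map_sum, ZeroMemClass.coe_eq_zero,
      AssocGr.inDegM_eq_zero_iff]
    rw [AddSubmonoidClass.coe_finsetSum]
    have : (Rees.powFilt I M).N (n + 0 + 1) = I ^ (n + 1) • (⊤ : Submodule A M) := by
      simp [Rees.powFilt]
    rw [this]
    exact hx

end prelude

end Groth.Agent.H19.GrFlat
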