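import Mathlib

/-!
# Graded prime avoidance (H19)
-/

namespace Groth.Agent.H19.GradedAvoid

open scoped BigOperators

variable {σ : Type*} {A : Type*} [CommRing A] [SetLike σ A] [AddSubgroupClass σ A]
  (𝒜 : ℕ → σ) [GradedRing 𝒜]

/-- Graded prime avoidance: if for each of finitely many primes the ideal `J` contains a
homogeneous element of positive degree outside that prime, then it contains a homogeneous element
of positive degree outside all of them. -/
theorem exists_homogeneous_not_mem (J : Ideal A) (P : Finset (Ideal A))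
    (hprime : ∀ p ∈ P, p.IsPrime)
    (h : ∀ p ∈ P, ∃ d : ℕ, 0 < d ∧ ∃ f ∈ 𝒜 d, f ∈ J ∧ f ∉ p) :
    ∃ d : ℕ, 0 < d ∧ ∃ f ∈ 𝒜 d, f ∈ J ∧ ∀ p ∈ P, f ∉ p := by
  classical
  induction hn : P.card using Nat.strong_induction_on generalizing P with
  | _ n ih =>
  rcases Nat.lt_or_ge P.card 2 with hlt | hge
  · -- card ≤ 1
    rcases Finset.card_le_one_iff_subset_singleton.mp (Nat.lt_succ_iff.mp hlt) with ⟨p, hp⟩
    by_cases hpP : p ∈ P
    · obtain ⟨d, hd, f, hfd, hfJ, hfp⟩ := h p hpP
      refine ⟨d, hd, f, hfd, hfJ, ?_⟩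
      intro q hq
      have : q = p := Finset.mem_singleton.mp (hp hq)
      rw [this]
      exact hfp
    · refine ⟨1, one_pos, 0, zero_mem _, zero_mem _, ?_⟩
      intro q hq
      have : q = p := Finset.mem_singleton.mp (hp hq)
      rw [this] at hq
      exact (hpP hq).elim
  · -- card ≥ 2
    have key : ∀ q : Ideal A, ∃ (fq : A) (dq : ℕ), q ∈ P →
        (0 < dq ∧ fq ∈ 𝒜 dq ∧ fq ∈ J ∧ ∀ r ∈ P.erase q, fq ∉ r) := by
      intro q
      by_cases hq : q ∈ P
      · have hcard : (P.erase q).card < n := by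
          rw [← hn]
          exact Finset.card_erase_lt_of_mem hq
        obtain ⟨d, hd, f, hfd, hfJ, hf⟩ := ih (P.erase q).card hcard (P.erase q)
          (fun p hp => hprime p (Finset.mem_of_mem_erase hp))
          (fun p hp => h p (Finset.mem_of_mem_erase hp)) rfl
        exact ⟨f, d, fun _ => ⟨hd, hfd, hfJ, hf⟩⟩
      · exact ⟨0, 0, fun hq' => (hq hq').elim⟩
    choose F d hF using key
    by_cases hex : ∃ q ∈ P, F q ∉ q
    · obtain ⟨q, hqP, hq⟩ := hex
      obtain ⟨hd, hfd, hfJ, hf⟩ := hF q hqP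
      refine ⟨d q, hd, F q, hfd, hfJ, ?_⟩
      intro r hr
      by_cases hrq : r = q
      · rw [hrq]
        exact hq
      · exact hf r (Finset.mem_erase.mpr ⟨hrq, hr⟩)
    · simp only [not_exists, not_and, not_not] at hex
      obtain ⟨p1, hp1⟩ : ∃ p1, p1 ∈ P := by
        apply Finset.card_pos.mp
        omega
      obtain ⟨hd1, hf1d, hf1J, hf1⟩ := hF p1 hp1
      set Q := P.erase p1 with hQ
      have hQne : Q.Nonempty := by
        apply Finset.card_pos.mp
        rw [hQ, Finset.card_erase_of_mem hp1]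
        omega
      set g : A := ∏ q ∈ Q, F q with hg
      set D : ℕ := ∑ q ∈ Q, d q with hD
      have hgD : g ∈ 𝒜 D := SetLike.prod_mem_graded 𝒜 d F
        (fun q hq => (hF q (Finset.mem_of_mem_erase hq)).2.1)
      have hDpos : 0 < D := by
        obtain ⟨q0, hq0⟩ := hQne
        exact Finset.sum_pos' (fun q _ => Nat.zero_le _)
          ⟨q0, hq0, (hF q0 (Finset.mem_of_mem_erase hq0)).1⟩
      have hgJ : g ∈ J := by
        obtain ⟨q0, hq0⟩ := hQne
        exact Ideal.mem_of_dvd J (Finset.dvd_prod_of_mem F hq0)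
          (hF q0 (Finset.mem_of_mem_erase hq0)).2.2.1
      have hgq : ∀ q ∈ Q, g ∈ q := fun q hq =>
        Ideal.mem_of_dvd q (Finset.dvd_prod_of_mem F hq) (hex q (Finset.mem_of_mem_erase hq))
      have hgp1 : g ∉ p1 := by
        intro hmem
        have := hprime p1 hp1
        obtain ⟨q, hq, hqmem⟩ := (Ideal.IsPrime.prod_mem_iff).mp hmem
        have hqP : q ∈ P := Finset.mem_of_mem_erase hq
        have hne : p1 ≠ q := fun e => (Finset.ne_of_mem_erase hq) e.symm
        exact (hF q hqP).2.2.2 p1 (Finset.mem_erase.mpr ⟨hne, hp1⟩) hqmem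
      refine ⟨D * d p1, Nat.mul_pos hDpos hd1, F p1 ^ D + g ^ d p1, ?_, ?_, ?_⟩
      · apply add_mem
        · have := SetLike.pow_mem_graded D hf1d
          rwa [smul_eq_mul] at this
        · have := SetLike.pow_mem_graded (d p1) hgD
          rwa [smul_eq_mul, mul_comm] at this
      · exact add_mem (Ideal.pow_mem_of_mem J hf1J D hDpos) (Ideal.pow_mem_of_mem J hgJ _ hd1)
      · intro r hr
        have := hprime r hr
        by_cases hr1 : r = p1
        · subst hr1
          intro hmem
          have h1 : F r ^ D ∈ r := Ideal.pow_mem_of_mem r (hex r hr) D hDpos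
          have h2 : g ^ d r ∈ r := (Ideal.add_mem_iff_right r h1).mp hmem
          exact hgp1 (Ideal.IsPrime.mem_of_pow_mem inferInstance _ h2)
        · intro hmem
          have hrQ : r ∈ Q := Finset.mem_erase.mpr ⟨hr1, hr⟩
          have h1 : g ^ d p1 ∈ r := Ideal.pow_mem_of_mem r (hgq r hrQ) _ hd1
          have h2 : F p1 ^ D ∈ r := (Ideal.add_mem_iff_left r h1).mp hmem
          exact hf1 r hrQ (Ideal.IsPrime.mem_of_pow_mem inferInstance _ h2)

end Groth.Agent.H19.GradedAvoid
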