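import Mathlib.RingTheory.GradedAlgebra.Homogeneous.Ideal
import Mathlib.RingTheory.GradedAlgebra.Radical
import Mathlib.RingTheory.Spectrum.Prime.Topology
import Mathlib.Tactic

/-!
# Homogeneous primes of a `ℤ`-graded ring with a homogeneous unit of positive degree
-/

set_option linter.unusedSectionVars false

namespace Groth.Agent.H19.GradedUnitSpec

open DirectSum

universe u

variable {R S : Type u} [CommRing R] [CommRing S] [Algebra R S] (𝒜 : ℤ → Submodule R S)
  [GradedAlgebra 𝒜]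

/-- The degree zero subring. -/
abbrev S0 : Subring S := SetLike.GradeZero.subring 𝒜

theorem mem_S0 {x : S} : x ∈ S0 𝒜 ↔ x ∈ 𝒜 0 := Iff.rfl

/-- degree zero component, as a function to `S0` -/
noncomputable def proj0 (x : S) : S0 𝒜 := ⟨(decompose 𝒜 x 0 : S), (decompose 𝒜 x 0).2⟩

theorem coe_proj0 (x : S) : ((proj0 𝒜 x : S0 𝒜) : S) = (decompose 𝒜 x 0 : S) := rfl

theorem proj0_add (x y : S) : proj0 𝒜 (x + y) = proj0 𝒜 x + proj0 𝒜 y := by
  apply Subtype.ext
  simp [coe_proj0, decompose_add]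

theorem proj0_zero : proj0 𝒜 0 = 0 := by
  apply Subtype.ext
  simp [coe_proj0]

theorem proj0_mul_coe (c : S) (p : S0 𝒜) : proj0 𝒜 (c * (p : S)) = proj0 𝒜 c * p := by
  apply Subtype.ext
  rw [coe_proj0]
  have := coe_decompose_mul_add_of_right_mem 𝒜 (i := 0) (j := 0) (a := c) (b := (p : S)) p.2
  rw [zero_add] at this
  rw [this]
  rfl

theorem proj0_coe (p : S0 𝒜) : proj0 𝒜 (p : S) = p := by
  apply Subtype.ext
  rw [coe_proj0]
  exact decompose_of_mem_same 𝒜 p.2

/-- `P₀ S ∩ S₀ = P₀`. -/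
theorem map_inter (P : Ideal (S0 𝒜)) (x : S0 𝒜)
    (hx : (x : S) ∈ P.map (S0 𝒜).subtype) : x ∈ P := by
  have key : ∀ y ∈ P.map (S0 𝒜).subtype, ∀ c : S, proj0 𝒜 (c * y) ∈ P := by
    intro y hy
    unfold Ideal.map at hy
    induction hy using Submodule.span_induction with
    | mem y hy =>
      obtain ⟨p, hp, rfl⟩ := hy
      intro c
      have : (S0 𝒜).subtype p = (p : S) := rfl
      rw [this, proj0_mul_coe]
      exact Ideal.mul_mem_left _ _ hp
    | zero => intro c; rw [mul_zero, proj0_zero]; exact zero_mem _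
    | add y z _ _ hy hz =>
      intro c; rw [mul_add, proj0_add]; exact add_mem (hy c) (hz c)
    | smul s y _ hy =>
      intro c
      rw [smul_eq_mul, ← mul_assoc]
      exact hy (c * s)
  have := key _ hx 1
  rwa [one_mul, proj0_coe] at this

section unit

variable {𝒜} {f : S} {d : ℤ} (hd : 0 < d) (hf : f ∈ 𝒜 d) (hu : IsUnit f)
include hf

theorem inv_mem : ((hu.unit⁻¹ : Sˣ) : S) ∈ 𝒜 (-d) := by
  set g : S := ((hu.unit⁻¹ : Sˣ) : S) with hg
  have hfg : f * g = 1 := by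
    have := hu.unit.mul_inv
    rwa [IsUnit.unit_spec] at this
  have h1 := coe_decompose_mul_add_of_left_mem 𝒜 (i := d) (j := -d) (a := f) (b := g) hf
  rw [hfg, add_neg_cancel] at h1
  have h2 : ((decompose 𝒜 (1 : S)) 0 : S) = 1 := decompose_of_mem_same 𝒜 (SetLike.one_mem_graded 𝒜)
  rw [h2] at h1
  have h3 : (decompose 𝒜 g (-d) : S) = g := by
    have : g * (f * (decompose 𝒜 g (-d) : S)) = g * 1 := by rw [← h1]
    rw [← mul_assoc, mul_comm g f, hfg, one_mul, mul_one] at this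
    exact this
  rw [← h3]
  exact (decompose 𝒜 g (-d)).2

theorem zpow_mem (n : ℤ) : (((hu.unit ^ n : Sˣ)) : S) ∈ 𝒜 (n * d) := by
  cases n with
  | ofNat k =>
    have : (((hu.unit ^ (Int.ofNat k) : Sˣ)) : S) = f ^ k := by
      simp
    rw [this]
    have := SetLike.pow_mem_graded k hf
    convert this using 2
    simp
  | negSucc k =>
    have : (((hu.unit ^ (Int.negSucc k) : Sˣ)) : S) = ((hu.unit⁻¹ : Sˣ) : S) ^ (k + 1) := by
      rw [zpow_negSucc, ← inv_pow, Units.val_pow_eq_pow_val]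
    rw [this]
    have := SetLike.pow_mem_graded (k + 1) (inv_mem hf hu)
    convert this using 2
    rw [Int.negSucc_eq]
    simp
    ring

omit hf in
/-- the degree zero element attached to a homogeneous element -/
noncomputable def theta (d : ℤ) {f : S} (hu : IsUnit f) (e : ℤ) (x : S) : S :=
  x ^ d.toNat * ((hu.unit ^ (-e) : Sˣ) : S)

include hd in
theorem theta_mem {e : ℤ} {x : S} (hx : x ∈ 𝒜 e) : theta d hu e x ∈ 𝒜 0 := by
  unfold theta
  have h1 := SetLike.pow_mem_graded d.toNat hx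
  have h2 := zpow_mem hf hu (-e)
  have h3 := SetLike.mul_mem_graded h1 h2
  convert h3 using 2
  have : ((d.toNat : ℕ) : ℤ) = d := Int.toNat_of_nonneg hd.le
  rw [nsmul_eq_mul, this]
  ring

include hd in
theorem theta_mem_iff (p : Ideal S) [p.IsPrime] (e : ℤ) (x : S) :
    theta d hu e x ∈ p ↔ x ∈ p := by
  unfold theta
  constructor
  · intro h
    have h1 : x ^ d.toNat * ((hu.unit ^ (-e) : Sˣ) : S) * ((hu.unit ^ (-e) : Sˣ)⁻¹ : Sˣ) ∈ p :=
      Ideal.mul_mem_right _ _ h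
    rw [mul_assoc, Units.mul_inv, mul_one] at h1
    exact Ideal.IsPrime.mem_of_pow_mem inferInstance _ h1
  · intro h
    apply Ideal.mul_mem_right
    have hpos : d.toNat ≠ 0 := by
      intro h0
      have : ((d.toNat : ℕ) : ℤ) = d := Int.toNat_of_nonneg hd.le
      rw [h0] at this
      simp at this
      omega
    exact Ideal.pow_mem_of_mem _ h _ (Nat.pos_of_ne_zero hpos)

end unit


section spec

/-- The type of homogeneous primes. -/
abbrev HomPrime := {p : PrimeSpectrum S // p.asIdeal.IsHomogeneous 𝒜}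

/-- The restriction map to `Spec S₀`. -/
noncomputable def Phi : HomPrime 𝒜 → PrimeSpectrum (S0 𝒜) :=
  fun p => PrimeSpectrum.comap (S0 𝒜).subtype p.1

theorem mem_Phi (p : HomPrime 𝒜) (x : S0 𝒜) : x ∈ (Phi 𝒜 p).asIdeal ↔ (x : S) ∈ p.1.asIdeal :=
  Iff.rfl

theorem Phi_continuous : Continuous (Phi 𝒜) :=
  (PrimeSpectrum.continuous_comap _).comp continuous_subtype_val

theorem Phi_surjective : Function.Surjective (Phi 𝒜) := by
  intro P
  have hdisj : Disjoint ((P.asIdeal.map (S0 𝒜).subtype : Ideal S) : Set S)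
      ((P.asIdeal.primeCompl.map (S0 𝒜).subtype : Submonoid S) : Set S) := by
    rw [Set.disjoint_left]
    rintro _ hx ⟨y, hy, rfl⟩
    exact hy (map_inter 𝒜 P.asIdeal y hx)
  obtain ⟨q, hq, hle, hqdisj⟩ := Ideal.exists_le_prime_disjoint _ _ hdisj
  have hcore : (q.homogeneousCore 𝒜).toIdeal.IsPrime := hq.homogeneousCore
  have hPhom : (P.asIdeal.map (S0 𝒜).subtype).IsHomogeneous 𝒜 := by
    unfold Ideal.map
    apply Ideal.homogeneous_span
    rintro _ ⟨y, -, rfl⟩
    exact ⟨0, y.2⟩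
  have hle' : P.asIdeal.map (S0 𝒜).subtype ≤ (q.homogeneousCore 𝒜).toIdeal := by
    rw [← hPhom.toIdeal_homogeneousCore_eq_self]
    exact Ideal.homogeneousCore_mono 𝒜 hle
  refine ⟨⟨⟨(q.homogeneousCore 𝒜).toIdeal, hcore⟩, (q.homogeneousCore 𝒜).isHomogeneous⟩, ?_⟩
  apply PrimeSpectrum.ext
  ext x
  rw [mem_Phi]
  constructor
  · intro hx
    by_contra hxP
    have h1 : (x : S) ∈ q := Ideal.toIdeal_homogeneousCore_le 𝒜 q hx
    exact Set.disjoint_left.mp hqdisj h1 ⟨x, hxP, rfl⟩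
  · intro hx
    exact hle' (Ideal.mem_map_of_mem _ hx)

variable {𝒜} {f : S} {d : ℤ} (hd : 0 < d) (hf : f ∈ 𝒜 d) (hu : IsUnit f)
include hd hf hu

theorem Phi_injective : Function.Injective (Phi 𝒜) := by
  have key : ∀ p q : HomPrime 𝒜, Phi 𝒜 p = Phi 𝒜 q → p.1.asIdeal ≤ q.1.asIdeal := by
    intro p q hpq x hx
    rw [q.2.mem_iff]
    intro i
    have hxi : (decompose 𝒜 x i : S) ∈ p.1.asIdeal := p.2.mem_iff.mp hx i
    have hmem : (decompose 𝒜 x i : S) ∈ 𝒜 i := (decompose 𝒜 x i).2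
    have h1 : theta d hu i (decompose 𝒜 x i : S) ∈ p.1.asIdeal :=
      (theta_mem_iff hd hf hu p.1.asIdeal i _).mpr hxi
    have h2 : (⟨theta d hu i (decompose 𝒜 x i : S), theta_mem hd hf hu hmem⟩ : S0 𝒜) ∈
        (Phi 𝒜 p).asIdeal := h1
    rw [hpq] at h2
    exact (theta_mem_iff hd hf hu q.1.asIdeal i _).mp h2
  intro p q hpq
  apply Subtype.ext
  apply PrimeSpectrum.ext
  exact le_antisymm (key p q hpq) (key q p hpq.symm)

theorem Phi_image_basicOpen (g : S) :
    Phi 𝒜 '' (Subtype.val ⁻¹' (PrimeSpectrum.basicOpen g : Set (PrimeSpectrum S))) =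
      ⋃ i : ℤ, (PrimeSpectrum.basicOpen (⟨theta d hu i (decompose 𝒜 g i : S),
        theta_mem hd hf hu (decompose 𝒜 g i).2⟩ : S0 𝒜) : Set (PrimeSpectrum (S0 𝒜))) := by
  ext P
  simp only [Set.mem_image, Set.mem_preimage, SetLike.mem_coe, PrimeSpectrum.mem_basicOpen,
    Set.mem_iUnion]
  constructor
  · rintro ⟨p, hgp, rfl⟩
    rw [p.2.mem_iff] at hgp
    push Not at hgp
    obtain ⟨i, hi⟩ := hgp
    refine ⟨i, ?_⟩
    rw [mem_Phi]
    exact fun h => hi ((theta_mem_iff hd hf hu p.1.asIdeal i _).mp h)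
  · rintro ⟨i, hi⟩
    obtain ⟨p, rfl⟩ := Phi_surjective 𝒜 P
    refine ⟨p, ?_, rfl⟩
    rw [mem_Phi] at hi
    intro hg
    exact hi ((theta_mem_iff hd hf hu p.1.asIdeal i _).mpr (p.2.mem_iff.mp hg i))

theorem Phi_isOpenMap : IsOpenMap (Phi 𝒜) := by
  have hind : Topology.IsInducing (Subtype.val : HomPrime 𝒜 → PrimeSpectrum S) :=
    Topology.IsInducing.subtypeVal
  have hbasis := (PrimeSpectrum.isTopologicalBasis_basic_opens (R := S)).isInducing hind
  rw [hbasis.isOpenMap_iff]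
  rintro _ ⟨_, ⟨g, rfl⟩, rfl⟩
  rw [Phi_image_basicOpen hd hf hu]
  exact isOpen_iUnion fun i => PrimeSpectrum.isOpen_basicOpen

theorem main : IsHomeomorph (fun p : {p : PrimeSpectrum S // p.asIdeal.IsHomogeneous 𝒜} =>
    PrimeSpectrum.comap (SetLike.GradeZero.subring 𝒜).subtype p.1) :=
  ⟨Phi_continuous 𝒜, Phi_isOpenMap hd hf hu, Phi_injective hd hf hu, Phi_surjective 𝒜⟩

end spec

end Groth.Agent.H19.GradedUnitSpec
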