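import Groth.Prelude.Def_CAlgX
import Mathlib.RingTheory.Localization.Away.Basic
import Mathlib.RingTheory.Localization.Algebra
import Mathlib.RingTheory.Localization.Ideal
import Mathlib.RingTheory.Ideal.Quotient.Operations
import Mathlib.RingTheory.Ideal.Colon

/-!
# `I ∩ J² = I J` when `J/I` is locally `H₁`-regular
-/

namespace Groth.Agent.H19.H1RegInter

open CAlgX

universe u v

section Local

variable {A : Type u} {B : Type v} [CommRing A] [CommRing B]

/-- Key lemma: if the images of `w i` in `B = A / I` form an `H₁`-regular sequence then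
`I ∩ (w) ⊆ I (w)`. -/
theorem inter_span_le {c : ℕ} (φ : A →+* B) (hφ : Function.Surjective φ)
    (w : Fin c → A) (hw : IsH1Regular (fun i => φ (w i))) :
    RingHom.ker φ ⊓ Ideal.span (Set.range w) ≤ RingHom.ker φ * Ideal.span (Set.range w) := by
  intro z hz
  obtain ⟨hzI, hzG⟩ := hz
  obtain ⟨a, rfl⟩ := Ideal.mem_span_range_iff_exists_fun.mp hzG
  have hrel : ∑ i, (fun i => φ (a i)) i * (fun i => φ (w i)) i = 0 := by
    have : φ (∑ i, a i * w i) = 0 := hzI
    simpa [map_sum, map_mul] using this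
  have hmem := hw (fun i => φ (a i)) hrel
  -- existence of a good lift for every element of the span of trivial relations
  have key : ∀ v ∈ Submodule.span B {v : Fin c → B | ∃ i j : Fin c,
      v = Pi.single i (φ (w j)) - Pi.single j (φ (w i))},
      ∃ a' : Fin c → A, (∀ i, φ (a' i) = v i) ∧
        ∑ i, a' i * w i ∈ RingHom.ker φ * Ideal.span (Set.range w) := by
    intro v hv
    induction hv using Submodule.span_induction with
    | mem v hv =>
      obtain ⟨i, j, rfl⟩ := hv
      refine ⟨Pi.single i (w j) - Pi.single j (w i), ?_, ?_⟩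
      · intro k
        simp only [Pi.sub_apply, map_sub]
        congr 1
        · by_cases h : k = i
          · subst h; simp
          · simp [Pi.single_eq_of_ne h]
        · by_cases h : k = j
          · subst h; simp
          · simp [Pi.single_eq_of_ne h]
      · have : ∑ k, (Pi.single i (w j) - Pi.single j (w i) : Fin c → A) k * w k = 0 := by
          simp only [Pi.sub_apply, sub_mul, Finset.sum_sub_distrib]
          rw [Finset.sum_eq_single i, Finset.sum_eq_single j]
          · simp [mul_comm]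
          · intro b _ hb; simp [Pi.single_eq_of_ne hb]
          · intro h; exact absurd (Finset.mem_univ _) h
          · intro b _ hb; simp [Pi.single_eq_of_ne hb]
          · intro h; exact absurd (Finset.mem_univ _) h
        rw [this]; exact zero_mem _
    | zero => exact ⟨0, by simp, by simp⟩
    | add v₁ v₂ _ _ h₁ h₂ =>
      obtain ⟨a₁, ha₁, hs₁⟩ := h₁
      obtain ⟨a₂, ha₂, hs₂⟩ := h₂
      refine ⟨a₁ + a₂, fun i => by simp [ha₁, ha₂], ?_⟩
      have : ∑ i, (a₁ + a₂) i * w i = ∑ i, a₁ i * w i + ∑ i, a₂ i * w i := by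
        simp [add_mul, Finset.sum_add_distrib]
      rw [this]; exact add_mem hs₁ hs₂
    | smul r v _ h₁ =>
      obtain ⟨a₁, ha₁, hs₁⟩ := h₁
      obtain ⟨s, rfl⟩ := hφ r
      refine ⟨s • a₁, fun i => by simp [ha₁], ?_⟩
      have : ∑ i, (s • a₁) i * w i = s * ∑ i, a₁ i * w i := by
        simp [Finset.mul_sum, mul_assoc]
      rw [this]; exact Ideal.mul_mem_left _ _ hs₁
  obtain ⟨a', ha', hs'⟩ := key _ hmem
  have : ∑ i, a i * w i = ∑ i, a' i * w i + ∑ i, (a i - a' i) * w i := by
    simp [sub_mul, Finset.sum_sub_distrib]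
  rw [this]
  refine add_mem hs' (Ideal.sum_mem _ fun i _ => Ideal.mul_mem_mul ?_
    (Ideal.subset_span ⟨i, rfl⟩))
  rw [RingHom.mem_ker, map_sub, ha', sub_self]

/-- Local form: `φ : A → B` surjective with kernel `I ⊆ J`, `J B` generated by an `H₁`-regular
sequence. Then `I ∩ J² ⊆ I J`. -/
theorem inter_sq_le {c : ℕ} (φ : A →+* B) (hφ : Function.Surjective φ)
    (J : Ideal A) (f : Fin c → B) (hf : IsH1Regular f)
    (hspan : Ideal.span (Set.range f) = J.map φ) :
    RingHom.ker φ ⊓ J ^ 2 ≤ RingHom.ker φ * J := by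
  have hfJ : ∀ i, f i ∈ J.map φ := fun i => hspan ▸ Ideal.subset_span ⟨i, rfl⟩
  choose w hwJ hwf using fun i => (Ideal.mem_map_iff_of_surjective φ hφ).mp (hfJ i)
  have hw : IsH1Regular (fun i => φ (w i)) := by
    have : (fun i => φ (w i)) = f := funext hwf
    rw [this]; exact hf
  set G := Ideal.span (Set.range w) with hG
  have hGJ : G ≤ J := Ideal.span_le.mpr (by rintro _ ⟨i, rfl⟩; exact hwJ i)
  have hGmap : G.map φ = J.map φ := by
    rw [hG, Ideal.map_span, ← hspan]
    congr 1
    ext b; constructor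
    · rintro ⟨_, ⟨i, rfl⟩, rfl⟩; exact ⟨i, (hwf i).symm⟩
    · rintro ⟨i, rfl⟩; exact ⟨w i, ⟨i, rfl⟩, hwf i⟩
  have hJ : J ≤ RingHom.ker φ ⊔ G := by
    intro y hy
    have : φ y ∈ G.map φ := hGmap ▸ Ideal.mem_map_of_mem φ hy
    obtain ⟨z, hz, hzy⟩ := (Ideal.mem_map_iff_of_surjective φ hφ).mp this
    have : y = (y - z) + z := by ring
    rw [this]
    exact Submodule.add_mem_sup (by rw [RingHom.mem_ker, map_sub, hzy, sub_self]) hz
  have hJ2 : J ^ 2 ≤ RingHom.ker φ * J ⊔ G * G := by
    rw [pow_two]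
    calc J * J ≤ (RingHom.ker φ ⊔ G) * J := Ideal.mul_mono_left hJ
      _ = RingHom.ker φ * J ⊔ G * J := Ideal.sup_mul _ _ _
      _ ≤ RingHom.ker φ * J ⊔ G * (RingHom.ker φ ⊔ G) :=
          sup_le_sup_left (Ideal.mul_mono_right hJ) _
      _ = RingHom.ker φ * J ⊔ (G * RingHom.ker φ ⊔ G * G) := by rw [Ideal.mul_sup]
      _ ≤ RingHom.ker φ * J ⊔ G * G := by
          refine sup_le le_sup_left (sup_le ?_ le_sup_right)
          rw [mul_comm]
          exact le_sup_of_le_left (Ideal.mul_mono_right hGJ)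
  intro x hx
  obtain ⟨hxI, hxJ⟩ := hx
  obtain ⟨y, hy, z, hz, rfl⟩ := Submodule.mem_sup.mp (hJ2 hxJ)
  have hyI : y ∈ RingHom.ker φ := Ideal.mul_le_left hy
  have hzI : z ∈ RingHom.ker φ := by
    have := sub_mem hxI hyI
    simpa using this
  have hzG : z ∈ G := Ideal.mul_le_right hz
  have := inter_span_le φ hφ w hw ⟨hzI, hzG⟩
  exact add_mem hy (Ideal.mul_mono_right hGJ this)

end Local

section Global

variable {A : Type u} [CommRing A]

theorem main (I J : Ideal A) (hIJ : I ≤ J)
    (h : ∀ (𝔮 : Ideal (A ⧸ I)) [𝔮.IsPrime], J.map (Ideal.Quotient.mk I) ≤ 𝔮 →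
      ∃ g : A ⧸ I, g ∉ 𝔮 ∧ ∃ (c : ℕ) (f : Fin c → Localization.Away g),
        CAlgX.IsH1Regular f ∧
          Ideal.span (Set.range f) =
            (J.map (Ideal.Quotient.mk I)).map (algebraMap (A ⧸ I) (Localization.Away g))) :
    I ⊓ J ^ 2 = I * J := by
  refine le_antisymm ?_ (le_inf Ideal.mul_le_left ?_)
  swap
  · rw [pow_two]; exact Ideal.mul_mono_left hIJ
  intro x hx
  by_contra hxIJ
  set K : Ideal A := (I * J).colon {x} with hK
  have hK1 : K ≠ ⊤ := by
    intro htop
    have : (1 : A) ∈ K := htop ▸ Submodule.mem_top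
    rw [hK, Submodule.mem_colon_singleton] at this
    exact hxIJ (by simpa using this)
  obtain ⟨m, hm, hKm⟩ := Ideal.exists_le_maximal K hK1
  have hJK : J ≤ K := by
    intro j hj
    rw [hK, Submodule.mem_colon_singleton, smul_eq_mul, mul_comm j x]
    exact Ideal.mul_mem_mul hx.1 hj
  have hJm : J ≤ m := hJK.trans hKm
  have hIm : I ≤ m := hIJ.trans hJm
  have : m.IsPrime := hm.isPrime
  have hsurj : Function.Surjective (Ideal.Quotient.mk I) := Ideal.Quotient.mk_surjective
  have : (m.map (Ideal.Quotient.mk I)).IsPrime :=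
    Ideal.map_isPrime_of_surjective hsurj (by rw [Ideal.mk_ker]; exact hIm)
  obtain ⟨gbar, hg, c, f, hf, hspan⟩ := h (m.map (Ideal.Quotient.mk I)) (Ideal.map_mono hJm)
  obtain ⟨g, rfl⟩ := hsurj gbar
  have hgm : g ∉ m := fun hgm => hg (Ideal.mem_map_of_mem _ hgm)
  -- the localised map
  have hT : Submonoid.map (Ideal.Quotient.mk I) (Submonoid.powers g) =
      Submonoid.powers (Ideal.Quotient.mk I g) := by
    rw [Submonoid.map_powers]
  set ψ : Localization.Away g →+* Localization.Away (Ideal.Quotient.mk I g) :=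
    IsLocalization.map (Localization.Away (Ideal.Quotient.mk I g)) (Ideal.Quotient.mk I)
      (hT.symm ▸ (Submonoid.powers g).le_comap_map) with hψ
  have hker : RingHom.ker ψ = I.map (algebraMap A (Localization.Away g)) := by
    rw [hψ, IsLocalization.ker_map (S := Localization.Away g)
      (Localization.Away (Ideal.Quotient.mk I g)) (Ideal.Quotient.mk I) hT, Ideal.mk_ker]
  have hψsurj : Function.Surjective ψ := by
    intro b
    obtain ⟨a, s, rfl⟩ := IsLocalization.exists_mk'_eq
      (Submonoid.powers (Ideal.Quotient.mk I g)) b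
    obtain ⟨a, rfl⟩ := hsurj a
    obtain ⟨n, hn⟩ := s.2
    refine ⟨IsLocalization.mk' _ a (⟨g ^ n, n, rfl⟩ : Submonoid.powers g), ?_⟩
    rw [hψ, IsLocalization.map_mk']
    congr 1
    ext
    simp [← hn]
  have hcomp : ψ.comp (algebraMap A (Localization.Away g)) =
      (algebraMap (A ⧸ I) (Localization.Away (Ideal.Quotient.mk I g))).comp
        (Ideal.Quotient.mk I) := IsLocalization.map_comp _
  have hspan' : Ideal.span (Set.range f) =
      (J.map (algebraMap A (Localization.Away g))).map ψ := by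
    rw [hspan, Ideal.map_map, Ideal.map_map, hcomp]
  have hloc := inter_sq_le ψ hψsurj _ f hf hspan'
  have hxloc : algebraMap A (Localization.Away g) x ∈
      RingHom.ker ψ ⊓ (J.map (algebraMap A (Localization.Away g))) ^ 2 := by
    refine ⟨?_, ?_⟩
    · rw [hker]; exact Ideal.mem_map_of_mem _ hx.1
    · rw [← Ideal.map_pow]; exact Ideal.mem_map_of_mem _ hx.2
  have := hloc hxloc
  rw [hker, ← Ideal.map_mul,
    IsLocalization.algebraMap_mem_map_algebraMap_iff (Submonoid.powers g)] at this
  obtain ⟨s, ⟨n, rfl⟩, hs⟩ := this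
  have : g ^ n ∈ K := by
    rw [hK, Submodule.mem_colon_singleton]; exact hs
  exact hgm (Ideal.IsPrime.mem_of_pow_mem inferInstance n (hKm this))

end Global

end Groth.Agent.H19.H1RegInter
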