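import Mathlib
import Groth.Prelude.Def_Pic
import Groth.Prelude.Def_Coh
import Groth.Prelude.Def_CohB1
import Groth.Agent.H18.STL.AmplePow
import Groth.Agent.H18.STL.QuasiAffine
import Groth.Agent.H67.UnitIso

/-!
# An invertible module with a nonzero section and a trivial positive tensor power (helper19)
-/

set_option autoImplicit false
universe u
open CategoryTheory CategoryTheory.Limits AlgebraicGeometry TopologicalSpace Opposite

namespace Groth.Agent.H19.PowTrivial

open Groth.Agent.H18 Groth.Agent.H18.PUP Groth.Agent.H18.STL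

variable {X : Scheme.{u}}

/-- a global section of a module whose local values vanish near every point is zero -/
theorem eq_zero_of_val_locally_zero {L : X.Modules} (s : Coh.structureModule X ⟶ L)
    (h : ∀ x : X, ∃ U : X.Opens, x ∈ U ∧ SecTwist.val s U = 0) : s = 0 := by
  have hV : ∀ V : X.Opens, SecTwist.val s V = 0 := by
    intro V
    refine modules_eq_of_locally_eq L _ _ fun x hx => ?_
    obtain ⟨U, hxU, hU⟩ := h x
    refine ⟨V ⊓ U, inf_le_left, ⟨hx, hxU⟩, ?_⟩
    have h1 : mres L (inf_le_left : V ⊓ U ≤ V) (SecTwist.val s V) = SecTwist.val s (V ⊓ U) :=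
      mres_val s _
    have h2 : mres L (inf_le_right : V ⊓ U ≤ U) (SecTwist.val s U) = SecTwist.val s (V ⊓ U) :=
      mres_val s _
    have h2' : SecTwist.val s (V ⊓ U) = 0 := by
      rw [← h2, hU]
      exact map_zero _
    exact h1.trans (h2'.trans (map_zero _).symm)
  apply Scheme.Modules.hom_ext
  intro V
  ext r
  have h1 := app_eq_smul_val s V r
  rw [hV V, smul_zero] at h1
  exact h1

/-- on a reduced scheme, a section of an invertible module one of whose positive tensor powers
vanishes is zero -/
theorem eq_zero_of_powHom_eq_zero [IsReduced X] {L : X.Modules} (hL : PicF.IsInvertible L)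
    (s : Coh.structureModule X ⟶ L) {d : ℕ} (hd : SecTwist.powHom s d = 0) : s = 0 := by
  apply eq_zero_of_val_locally_zero
  intro x
  obtain ⟨U, e, hxU, he⟩ := exists_basis_of_isInvertible hL x
  refine ⟨U, hxU, ?_⟩
  set f := he.coord le_rfl (SecTwist.val s U) with hf_def
  have hf : SecTwist.val s U = f • e := by
    have := he.coord_smul le_rfl (SecTwist.val s U)
    rw [mres_self] at this
    exact this.symm
  have hval : SecTwist.val (SecTwist.powHom s d) U = f ^ d • lpow L U e d := by
    rw [SecTwist.val_powHom, pow_eq_smul_lpow s U e f hf]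
  have h0 : SecTwist.val (SecTwist.powHom s d) U = 0 := by
    rw [hd]
    rfl
  rw [h0] at hval
  have hb := (isBasisOn_lpow he d) U le_rfl
  have h1 : (f ^ d) • mres (CohB1.tensorPow L d) (le_refl U) (lpow L U e d) =
      (0 : Γ(X, U)) • mres (CohB1.tensorPow L d) (le_refl U) (lpow L U e d) := by
    rw [mres_self, zero_smul]
    exact hval.symm
  have h2 : f ^ d = 0 := hb.1 h1
  have h3 : f = 0 := IsNilpotent.eq_zero ⟨d, h2⟩
  rw [hf, h3]
  exact zero_smul _ _

/-- every endomorphism of the structure module is multiplication by a global function -/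
theorem exists_eq_funHom (r : Coh.structureModule X ⟶ Coh.structureModule X) :
    ∃ f : Γ(X, (⊤ : X.Opens)), r = funHom f := by
  refine ⟨SecTwist.val r ⊤, ?_⟩
  refine hom_ext_of_localBasis (fun _ : Unit => (⊤ : X.Opens)) (fun y => ⟨(), trivial⟩)
    (fun _ => oneSec X ⊤) (fun _ => isBasisOn_oneSec ⊤) _ _ ?_
  intro _
  have h1 := val_funHom (SecTwist.val r ⊤) ⊤
  rw [rres_self] at h1
  have h2 : (show Γ(X, (⊤ : X.Opens)) from SecTwist.val r ⊤) • oneSec X ⊤ = SecTwist.val r ⊤ :=
    mul_one (show Γ(X, (⊤ : X.Opens)) from SecTwist.val r ⊤)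
  rw [h2] at h1
  exact h1.symm

/-- the locus where a section generates is unchanged by composing with an isomorphism -/
theorem genLocus_comp_iso {L L' : X.Modules} (s : Coh.structureModule X ⟶ L) (e : L ≅ L') :
    CohB1.genLocus L' (s ≫ e.hom) = CohB1.genLocus L s := by
  unfold CohB1.genLocus
  congr 1
  ext U
  simp only [Set.mem_ofPred_eq, Functor.map_comp]
  constructor
  · intro h
    exact IsIso.of_isIso_comp_right _ ((Scheme.Modules.restrictFunctor U.ι).map e.hom)
  · intro h
    infer_instance

theorem isIso_of_genLocus_eq_top {L : X.Modules} (s : Coh.structureModule X ⟶ L)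
    (h : CohB1.genLocus L s = ⊤) : IsIso s := by
  apply Groth.Agent.H67.UnitIso.isIso_of_isIso_restrict
  intro x
  have hx : x ∈ CohB1.genLocus L s := by rw [h]; trivial
  have hx' : x ∈ sSup {W : X.Opens | IsIso ((Scheme.Modules.restrictFunctor W.ι).map s)} := hx
  rw [Opens.mem_sSup] at hx'
  obtain ⟨W, hW, hxW⟩ := hx'
  exact ⟨W, hxW, hW⟩

/-- Let `X` be a reduced scheme whose ring of global functions is a field and `L` an invertible
module with a nonzero global section.  If a positive tensor power of `L` is trivial, so is `L`. -/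
theorem nonempty_iso_of_tensorPow_trivial [IsReduced X]
    (hfield : IsField (Γ(X, ⊤) : Type u)) (L : X.Modules) (hL : PicF.IsInvertible L)
    (s : Coh.structureModule X ⟶ L) (hs : s ≠ 0) (d : ℕ) (hd : 0 < d)
    (htriv : Nonempty (CohB1.tensorPow L d ≅ Coh.structureModule X)) :
    Nonempty (L ≅ Coh.structureModule X) := by
  obtain ⟨e⟩ := htriv
  have hpow : SecTwist.powHom s d ≠ 0 := fun h0 => hs (eq_zero_of_powHom_eq_zero hL s h0)
  obtain ⟨f, hf⟩ := exists_eq_funHom (SecTwist.powHom s d ≫ e.hom)
  have hf0 : f ≠ 0 := by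
    intro h0
    apply hpow
    have h1 : funHom (X := X) 0 = 0 := by
      refine hom_ext_of_localBasis (fun _ : Unit => (⊤ : X.Opens)) (fun y => ⟨(), trivial⟩)
        (fun _ => oneSec X ⊤) (fun _ => isBasisOn_oneSec ⊤) _ _ ?_
      intro _
      have h2 := val_funHom (X := X) 0 ⊤
      rw [map_zero, zero_smul] at h2
      exact h2
    rw [h0, h1] at hf
    have h3 : SecTwist.powHom s d = (SecTwist.powHom s d ≫ e.hom) ≫ e.inv := by
      rw [Category.assoc, e.hom_inv_id, Category.comp_id]
    rw [h3, hf, zero_comp]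
  obtain ⟨g, hg⟩ := hfield.mul_inv_cancel hf0
  have hu : IsUnit f := IsUnit.of_mul_eq_one g hg
  have hgl : CohB1.genLocus L s = ⊤ := by
    rw [← genLocus_powHom hL s hd, ← genLocus_comp_iso (SecTwist.powHom s d) e, hf,
      genLocus_funHom]
    exact X.basicOpen_of_isUnit hu
  have := isIso_of_genLocus_eq_top s hgl
  exact ⟨(asIso s).symm⟩

end Groth.Agent.H19.PowTrivial
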