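import Mathlib
import Groth.Prelude.Def_Pic
import Groth.Prelude.Def_Coh
import Groth.Prelude.Def_CohB1
import Groth.Prelude.Def_ClSub2
import Groth.Prelude.Def_KoszTw
import Groth.Agent.H19.InvSection
import Groth.Agent.H19.PowTrivial

/-!
# An inverse pair of invertible modules both having nonzero sections is trivial (helper19)
-/

set_option autoImplicit false
universe u
open CategoryTheory CategoryTheory.Limits AlgebraicGeometry TopologicalSpace Opposite

namespace Groth.Agent.H19.InversePair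

open Groth.Agent.H18 Groth.Agent.H18.PUP Groth.Agent.H18.STL

variable {X : Scheme.{u}}

/-- the morphism `L ⟶ L ⊗ M`, `m ↦ m ⊗ t`, attached to a global section `t` of `M` -/
noncomputable def tensorSection (L : X.Modules) {M : X.Modules} (t : Coh.structureModule X ⟶ M) :
    L ⟶ CohB1.tensorMod L M :=
  (SecTwist.unitorR L).inv ≫ KoszTw.tensorMap (𝟙 L) t

theorem unitorR_inv_app (L : X.Modules) (U : X.Opens) (m : Γ(L, U)) :
    (SecTwist.unitorR L).inv.app U m =
      SecTwist.tmul L (Coh.structureModule X) U m (oneSec X U) := by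
  have h1 : (SecTwist.unitorR L).hom.app U
      (SecTwist.tmul L (Coh.structureModule X) U m (oneSec X U)) = m := by
    have := SecTwist.unitorR_tmul L U m (1 : X.ringCatSheaf.obj.obj (op U))
    rw [one_smul] at this
    exact this
  have h2 : (SecTwist.unitorR L).inv.app U ((SecTwist.unitorR L).hom.app U
      (SecTwist.tmul L (Coh.structureModule X) U m (oneSec X U))) =
      SecTwist.tmul L (Coh.structureModule X) U m (oneSec X U) := by
    have := congrArg (fun φ : CohB1.tensorMod L (Coh.structureModule X) ⟶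
        CohB1.tensorMod L (Coh.structureModule X) =>
      φ.app U (SecTwist.tmul L (Coh.structureModule X) U m (oneSec X U)))
      (SecTwist.unitorR L).hom_inv_id
    exact this
  rw [h1] at h2
  exact h2

theorem tensorSection_app (L : X.Modules) {M : X.Modules} (t : Coh.structureModule X ⟶ M)
    (U : X.Opens) (m : Γ(L, U)) :
    (tensorSection L t).app U m = SecTwist.tmul L M U m (SecTwist.val t U) := by
  have h1 : (tensorSection L t).app U m =
      (KoszTw.tensorMap (𝟙 L) t).app U ((SecTwist.unitorR L).inv.app U m) := rfl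
  rw [h1, unitorR_inv_app, KoszTw.tensorMap_tmul]
  rfl

/-- `m ↦ m ⊗ t` is nonzero when `t` is, for invertible `L` and `M` -/
theorem tensorSection_ne_zero {L M : X.Modules} (hL : PicF.IsInvertible L)
    (hM : PicF.IsInvertible M) (t : Coh.structureModule X ⟶ M) (ht : t ≠ 0) :
    tensorSection L t ≠ 0 := by
  intro h0
  apply ht
  apply Groth.Agent.H19.PowTrivial.eq_zero_of_val_locally_zero
  intro x
  obtain ⟨U₁, e₁, hx₁, he₁⟩ := exists_basis_of_isInvertible hL x
  obtain ⟨U₂, e₂, hx₂, he₂⟩ := exists_basis_of_isInvertible hM x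
  refine ⟨U₁ ⊓ U₂, ⟨hx₁, hx₂⟩, ?_⟩
  have hb₁ := he₁.mono (inf_le_left : U₁ ⊓ U₂ ≤ U₁)
  have hb₂ := he₂.mono (inf_le_right : U₁ ⊓ U₂ ≤ U₂)
  have hb := isBasisOn_tmul hb₁ hb₂
  set f := hb₂.coord le_rfl (SecTwist.val t (U₁ ⊓ U₂)) with hf_def
  have hf : SecTwist.val t (U₁ ⊓ U₂) = f • mres M inf_le_right e₂ := by
    have := hb₂.coord_smul le_rfl (SecTwist.val t (U₁ ⊓ U₂))
    rw [mres_self] at this
    exact this.symm
  have h1 := tensorSection_app L t (U₁ ⊓ U₂) (mres L inf_le_left e₁)
  have hz : (tensorSection L t).app (U₁ ⊓ U₂) (mres L inf_le_left e₁) = 0 := by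
    rw [h0]
    rfl
  have h1' : SecTwist.tmul L M (U₁ ⊓ U₂) (mres L inf_le_left e₁) (SecTwist.val t (U₁ ⊓ U₂)) =
      f • SecTwist.tmul L M (U₁ ⊓ U₂) (mres L inf_le_left e₁) (mres M inf_le_right e₂) :=
    (congrArg (SecTwist.tmul L M (U₁ ⊓ U₂) (mres L inf_le_left e₁)) hf).trans
      (tmul_smul_right L M _ f _ _)
  have h2 : f • SecTwist.tmul L M (U₁ ⊓ U₂) (mres L inf_le_left e₁) (mres M inf_le_right e₂) = 0 :=
    h1'.symm.trans (h1.symm.trans hz)
  have h3 : f = 0 := by
    apply (hb (U₁ ⊓ U₂) le_rfl).1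
    show f • mres (CohB1.tensorMod L M) (le_refl _) _ = (0 : Γ(X, U₁ ⊓ U₂)) • mres _ (le_refl _) _
    rw [mres_self, zero_smul]
    exact h2
  rw [hf, h3]
  exact zero_smul _ _

/-- **Inverse pairs with sections are trivial** on an integral scheme proper over a field. -/
theorem nonempty_iso_of_inverse_pair [IsIntegral X] (k : Type u) [Field k]
    (p : X ⟶ Spec (CommRingCat.of k)) [IsProper p] (L M : X.Modules)
    (hL : PicF.IsInvertible L) (hM : PicF.IsInvertible M) (hLM : ClSub.IsInverseOf L M)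
    (s : Coh.structureModule X ⟶ L) (hs : s ≠ 0) (t : Coh.structureModule X ⟶ M) (ht : t ≠ 0) :
    Nonempty (L ≅ Coh.structureModule X) := by
  obtain ⟨e⟩ := hLM
  refine (Groth.Agent.H19.InvSection.trivial_iff_of_proper k p L hL).2
    ⟨⟨s, hs⟩, ⟨tensorSection L t ≫ e.hom, fun h0 => ?_⟩⟩
  apply tensorSection_ne_zero hL hM t ht
  have h1 : tensorSection L t = (tensorSection L t ≫ e.hom) ≫ e.inv := by
    rw [Category.assoc, e.hom_inv_id, Category.comp_id]
  rw [h1, h0, zero_comp]

end Groth.Agent.H19.InversePair
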