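import Mathlib.RingTheory.Kaehler.Basic
import Mathlib.RingTheory.MvPolynomial.Basic
import Mathlib.Algebra.Module.LocalizedModule.Submodule
import Mathlib.RingTheory.Localization.AtPrime.Basic
import Mathlib.LinearAlgebra.TensorProduct.Quotient

/-!
# Vanishing of a stalk of `Ω_{B/A}` in terms of a presentation

For a surjection `P → B` of `A`-algebras with kernel `I`, the kernel of `Ω_{P/A} → Ω_{B/A}` is
the `P`-span of `d(I)`; consequently `(Ω_{B/A})_q = 0` iff the `dg`, `g ∈ I`, span `(Ω_{P/A})_𝔮`.
-/

set_option autoImplicit false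
set_option linter.unusedSectionVars false
set_option linter.style.haveILetI false

namespace Groth.Agent.H19.KaehlerLocVanish

open TensorProduct KaehlerDifferential

universe u

section ker

variable (A P B : Type u) [CommRing A] [CommRing P] [CommRing B] [Algebra A P] [Algebra A B]
  [Algebra P B] [IsScalarTower A P B]

/-- the `P`-span of `d(I)` -/
noncomputable abbrev dI : Submodule P (Ω[P⁄A]) :=
  Submodule.span P ((KaehlerDifferential.D A P) '' (RingHom.ker (algebraMap P B) : Set P))

theorem smul_mem_dI (g : P) (hg : g ∈ RingHom.ker (algebraMap P B)) (η : Ω[P⁄A]) :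
    g • η ∈ dI A P B := by
  have hη : η ∈ Submodule.span P (Set.range (KaehlerDifferential.D A P)) := by
    rw [KaehlerDifferential.span_range_derivation]
    exact Submodule.mem_top
  induction hη using Submodule.span_induction with
  | mem y hy =>
    obtain ⟨x, rfl⟩ := hy
    have h1 : g • KaehlerDifferential.D A P x =
        KaehlerDifferential.D A P (g * x) - x • KaehlerDifferential.D A P g := by
      rw [Derivation.leibniz]
      abel
    rw [h1]
    refine Submodule.sub_mem _ (Submodule.subset_span ⟨g * x, ?_, rfl⟩)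
      (Submodule.smul_mem _ _ (Submodule.subset_span ⟨g, hg, rfl⟩))
    exact Ideal.mul_mem_right _ _ hg
  | zero => rw [smul_zero]; exact Submodule.zero_mem _
  | add y z _ _ hy hz => rw [smul_add]; exact Submodule.add_mem _ hy hz
  | smul c y _ hy => rw [smul_comm]; exact Submodule.smul_mem _ _ hy

theorem smul_top_le_dI :
    (RingHom.ker (algebraMap P B)) • (⊤ : Submodule P (Ω[P⁄A])) ≤ dI A P B := by
  rw [Submodule.smul_le]
  intro g hg η _
  exact smul_mem_dI A P B g hg η

theorem one_tmul_eq_zero (h : Function.Surjective (algebraMap P B))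
    {N : Type u} [AddCommGroup N] [Module P N] (x : N) (hx : (1 : B) ⊗ₜ[P] x = 0) :
    x ∈ (RingHom.ker (algebraMap P B)) • (⊤ : Submodule P N) := by
  set I := RingHom.ker (algebraMap P B) with hI
  let e : (P ⧸ I) ≃ₐ[P] B := Ideal.quotientKerAlgEquivOfSurjective (f := Algebra.ofId P B) h
  have h1 : (LinearMap.rTensor N e.toLinearMap) ((1 : P ⧸ I) ⊗ₜ[P] x) = (1 : B) ⊗ₜ[P] x := by
    rw [LinearMap.rTensor_tmul]
    congr 1
    exact map_one e
  have hinj : Function.Injective (LinearMap.rTensor N e.toLinearMap) := by
    have : LinearMap.rTensor N e.toLinearMap =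
        (LinearEquiv.rTensor N e.toLinearEquiv : _ →ₗ[P] _) := rfl
    rw [this]
    exact (LinearEquiv.rTensor N e.toLinearEquiv).injective
  have h2 : (1 : P ⧸ I) ⊗ₜ[P] x = 0 := by
    apply hinj
    rw [h1, hx, map_zero]
  rw [← (TensorProduct.quotTensorEquivQuotSMul N I).map_eq_zero_iff,
    TensorProduct.quotTensorEquivQuotSMul_mk_one_tmul, Submodule.Quotient.mk_eq_zero] at h2
  exact h2

/-- the kernel of `Ω_{P/A} → Ω_{B/A}` is spanned by `d(I)` -/
theorem ker_map_le (h : Function.Surjective (algebraMap P B)) :
    LinearMap.ker (KaehlerDifferential.map A A P B) ≤ dI A P B := by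
  intro η hη
  rw [LinearMap.mem_ker] at hη
  have h1 : KaehlerDifferential.mapBaseChange A P B ((1 : B) ⊗ₜ[P] η) = 0 := by
    rw [KaehlerDifferential.mapBaseChange_tmul, one_smul, hη]
  obtain ⟨c, hc⟩ := (KaehlerDifferential.exact_kerCotangentToTensor_mapBaseChange A P B h _).mp h1
  obtain ⟨g, rfl⟩ := Ideal.toCotangent_surjective _ c
  rw [KaehlerDifferential.kerCotangentToTensor_toCotangent] at hc
  have h2 : (1 : B) ⊗ₜ[P] (η - KaehlerDifferential.D A P g.1) = 0 := by
    rw [TensorProduct.tmul_sub, hc, sub_self]
  have h3 := smul_top_le_dI A P B (one_tmul_eq_zero P B h _ h2)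
  have h4 : KaehlerDifferential.D A P g.1 ∈ dI A P B := Submodule.subset_span ⟨g.1, g.2, rfl⟩
  have := Submodule.add_mem _ h3 h4
  rwa [sub_add_cancel] at this

theorem map_eq_zero_of_mem_dI (η : Ω[P⁄A]) (hη : η ∈ dI A P B) :
    KaehlerDifferential.map A A P B η = 0 := by
  induction hη using Submodule.span_induction with
  | mem y hy =>
    obtain ⟨g, hg, rfl⟩ := hy
    rw [KaehlerDifferential.map_D, RingHom.mem_ker.mp hg, map_zero]
  | zero => rw [map_zero]
  | add y z _ _ hy hz => rw [map_add, hy, hz, add_zero]
  | smul c y _ hy => rw [map_smul, hy, smul_zero]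

end ker

section main

variable (A P B : Type u) [CommRing A] [CommRing P] [CommRing B] [Algebra A P] [Algebra A B]
  [Algebra P B] [IsScalarTower A P B]

theorem main_aux (h : Function.Surjective (algebraMap P B)) (q : Ideal B) [q.IsPrime] :
    Subsingleton (LocalizedModule q.primeCompl (Ω[B⁄A])) ↔
      Submodule.span (Localization.AtPrime (q.comap (algebraMap P B)))
        ((LocalizedModule.mkLinearMap (q.comap (algebraMap P B)).primeCompl (Ω[P⁄A])) ''
          ((KaehlerDifferential.D A P) '' (RingHom.ker (algebraMap P B) : Set P))) = ⊤ := by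
  set 𝔮 := q.comap (algebraMap P B) with h𝔮
  rw [← Submodule.localized'_span (Localization.AtPrime 𝔮) 𝔮.primeCompl
    (LocalizedModule.mkLinearMap 𝔮.primeCompl (Ω[P⁄A]))]
  constructor
  · intro hsub
    rw [eq_top_iff]
    intro y _
    induction y with
    | h η s =>
      rw [Submodule.mem_localized']
      -- `map η / 1 = 0`
      have h0 : LocalizedModule.mk (KaehlerDifferential.map A A P B η) (1 : q.primeCompl) =
          LocalizedModule.mk 0 1 := Subsingleton.elim _ _
      obtain ⟨u, hu⟩ := LocalizedModule.mk_eq.mp h0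
      rw [one_smul, one_smul, smul_zero] at hu
      obtain ⟨s', hs'⟩ := h (u : B)
      have hs'𝔮 : s' ∈ 𝔮.primeCompl := by
        intro hmem
        apply u.2
        rw [← hs']
        exact hmem
      have hker : s' • η ∈ dI A P B := by
        apply ker_map_le A P B h
        rw [LinearMap.mem_ker, map_smul, ← algebraMap_smul B, hs']
        exact hu
      refine ⟨s' • η, hker, ⟨s', hs'𝔮⟩ * s, ?_⟩
      rw [← IsLocalizedModule.mk_eq_mk']
      rw [LocalizedModule.mk_eq]
      refine ⟨1, ?_⟩
      simp only [one_smul, Submonoid.smul_def, Submonoid.coe_mul, smul_smul]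
      rw [mul_comm]
  · intro htop
    refine ⟨fun x y => ?_⟩
    suffices hz : ∀ z : LocalizedModule q.primeCompl (Ω[B⁄A]), z = 0 by rw [hz x, hz y]
    intro z
    induction z with
    | h ω t =>
      obtain ⟨η, rfl⟩ := KaehlerDifferential.map_surjective_of_surjective A A P B h ω
      have hmem : LocalizedModule.mk η (1 : 𝔮.primeCompl) ∈
          (dI A P B).localized' (Localization.AtPrime 𝔮) 𝔮.primeCompl
            (LocalizedModule.mkLinearMap 𝔮.primeCompl (Ω[P⁄A])) := by
        rw [htop]
        exact Submodule.mem_top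
      rw [Submodule.mem_localized'] at hmem
      obtain ⟨m, hm, s, hms⟩ := hmem
      rw [← IsLocalizedModule.mk_eq_mk', LocalizedModule.mk_eq] at hms
      obtain ⟨u, hu⟩ := hms
      rw [one_smul] at hu
      -- `(u s) η = u m ∈ dI`
      have h1 : KaehlerDifferential.map A A P B ((u : P) • (s : P) • η) = 0 := by
        have : (u : P) • (s : P) • η = (u : P) • m := by
          simpa only [Submonoid.smul_def] using hu.symm
        rw [this]
        exact map_eq_zero_of_mem_dI A P B _ (Submodule.smul_mem _ _ hm)
      rw [map_smul, map_smul, smul_smul, ← algebraMap_smul B] at h1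
      have hus : algebraMap P B ((u : P) * (s : P)) ∈ q.primeCompl := by
        intro hmem
        have : (u : P) * (s : P) ∈ 𝔮 := hmem
        rcases (Ideal.IsPrime.mem_or_mem (Ideal.comap_isPrime _ q) this) with h' | h'
        · exact u.2 h'
        · exact s.2 h'
      have : LocalizedModule.mk (KaehlerDifferential.map A A P B η) t = LocalizedModule.mk 0 1 := by
        rw [LocalizedModule.mk_eq]
        refine ⟨⟨_, hus⟩, ?_⟩
        simp only [one_smul, smul_zero, Submonoid.smul_def]
        exact h1
      rw [this]
      exact LocalizedModule.zero_mk 1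

end main

section final

variable {A B : Type u} [CommRing A] [CommRing B] [Algebra A B]

theorem main (n : ℕ) (φ : MvPolynomial (Fin n) A →ₐ[A] B) (hφ : Function.Surjective φ)
    (q : Ideal B) [q.IsPrime] :
    Subsingleton (LocalizedModule q.primeCompl (KaehlerDifferential A B)) ↔
      Submodule.span (Localization.AtPrime (q.comap φ.toRingHom))
        ((LocalizedModule.mkLinearMap (q.comap φ.toRingHom).primeCompl
            (KaehlerDifferential A (MvPolynomial (Fin n) A))) ''
          ((KaehlerDifferential.D A (MvPolynomial (Fin n) A)) ''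
            (RingHom.ker φ.toRingHom : Set (MvPolynomial (Fin n) A)))) = ⊤ := by
  letI : Algebra (MvPolynomial (Fin n) A) B := φ.toRingHom.toAlgebra
  haveI : IsScalarTower A (MvPolynomial (Fin n) A) B :=
    IsScalarTower.of_algebraMap_eq (fun a => (φ.commutes a).symm)
  exact main_aux A (MvPolynomial (Fin n) A) B hφ q

end final

end Groth.Agent.H19.KaehlerLocVanish
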