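import Mathlib
import Groth.Prelude.Def_W4stkremschemesLRS

/-!
# A closed immersion of schemes is a closed immersion of locally ringed spaces (H19)
-/

open AlgebraicGeometry CategoryTheory TopologicalSpace Opposite

namespace Groth.Agent.H19.LRSClosedImm

universe u

variable {X Y : Scheme.{u}} (f : X ⟶ Y)

theorem isClosedImmersion_of (h1 : Topology.IsClosedEmbedding f)
    (h2 : TopCat.Presheaf.IsLocallySurjective f.c) : IsClosedImmersion f := by
  have hst : SurjectiveOnStalks f := by
    refine ⟨fun x => ?_⟩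
    have hs := (TopCat.Presheaf.locally_surjective_iff_surjective_on_stalks f.c).mp h2 (f x)
    have hiso : IsIso (X.presheaf.stalkPushforward CommRingCat f.base x) :=
      TopCat.Presheaf.stalkPushforward.stalkPushforward_iso_of_isInducing CommRingCat (f := f.base) h1.isInducing X.presheaf x
    have hsurj : Function.Surjective (X.presheaf.stalkPushforward CommRingCat f.base x) :=
      (ConcreteCategory.bijective_of_isIso _).2
    exact hsurj.comp hs
  exact ⟨h1⟩

theorem kerLocallyGenerated [IsClosedImmersion f] : LRSImm.KerLocallyGenerated f.toLRSHom := by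
  intro y
  obtain ⟨_, ⟨U, hU, rfl⟩, hyU, -⟩ :=
    Y.isBasis_affineOpens.exists_subset_of_mem_open (Set.mem_univ y) isOpen_univ
  refine ⟨U, hyU, ↥(RingHom.ker (f.app U).hom), fun j => (j : Γ(Y, U)), fun j => j.2, ?_⟩
  intro y' hy'
  apply le_antisymm
  · rw [Ideal.span_le]
    rintro _ ⟨j, rfl⟩
    show ((TopCat.Presheaf.stalkFunctor CommRingCat y').map f.c).hom
      (Y.presheaf.germ U y' hy' (j : Γ(Y, U))) = 0
    have h1 := TopCat.Presheaf.stalkFunctor_map_germ_apply U y' hy' f.c (j : Γ(Y, U))
    rw [h1]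
    have h2 : (f.c.app (op U)).hom (j : Γ(Y, U)) = 0 := j.2
    rw [h2]
    exact map_zero _
  · intro t ht
    obtain ⟨V, hV, b, rfl⟩ := TopCat.Presheaf.exists_germ_eq Y.presheaf t
    have ht' : ((TopCat.Presheaf.stalkFunctor CommRingCat y').map f.c).hom
      (Y.presheaf.germ V y' hV b) = 0 := ht
    rw [TopCat.Presheaf.stalkFunctor_map_germ_apply V y' hV f.c b] at ht'
    have h0 : (f.base _* X.presheaf).germ V y' hV ((f.c.app (op V)).hom b) =
        (f.base _* X.presheaf).germ V y' hV 0 := by
      rw [ht']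
      exact (map_zero _).symm
    obtain ⟨W, hW, iV, iV', hW0⟩ := TopCat.Presheaf.germ_eq _ y' hV hV _ _ h0
    rw [map_zero] at hW0
    obtain ⟨g, hgW, hyg⟩ := hU.exists_basicOpen_le ⟨y', hW⟩ hy'
    -- restrict `b` to the basic open `D(g)`
    have hgV : Y.basicOpen g ≤ V := hgW.trans (leOfHom iV)
    set b' : Γ(Y, Y.basicOpen g) := Y.presheaf.map (homOfLE hgV).op b with hb'
    have hb0 : (f.app (Y.basicOpen g)).hom b' = 0 := by
      have hnat := f.c.naturality (homOfLE hgV).op
      have h3 := congrArg (fun φ => φ.hom b) hnat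
      have h4 : (f.app (Y.basicOpen g)).hom b' =
          ((f.base _* X.presheaf).map (homOfLE hgV).op).hom ((f.c.app (op V)).hom b) := h3
      rw [h4]
      have h5 : (homOfLE hgV).op = iV.op ≫ (homOfLE hgW).op := Subsingleton.elim _ _
      rw [h5, Functor.map_comp, CommRingCat.comp_apply, hW0, map_zero]
    -- so `b'` lies in the ideal generated by the kernel on `U`
    have hmem : b' ∈ (RingHom.ker (f.app U).hom).map
        (Y.presheaf.map (homOfLE (Y.basicOpen_le g)).op).hom := by
      have e1 := f.ker.map_ideal_basicOpen ⟨U, hU⟩ g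
      rw [Scheme.Hom.ker_apply, Scheme.Hom.ker_apply] at e1
      rw [e1]
      exact hb0
    have hgerm : Y.presheaf.germ V y' hV b = Y.presheaf.germ (Y.basicOpen g) y' hyg b' :=
      (TopCat.Presheaf.germ_res_apply Y.presheaf (homOfLE hgV) y' hyg b).symm
    rw [hgerm]
    have h6 := Ideal.mem_map_of_mem (Y.presheaf.germ (Y.basicOpen g) y' hyg).hom hmem
    rw [Ideal.map_map] at h6
    have h7 : (Y.presheaf.germ (Y.basicOpen g) y' hyg).hom.comp
        (Y.presheaf.map (homOfLE (Y.basicOpen_le g)).op).hom = (Y.presheaf.germ U y' hy').hom := by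
      rw [← CommRingCat.hom_comp, TopCat.Presheaf.germ_res]
    rw [h7, Ideal.map, Set.image_eq_range] at h6
    exact h6

theorem main (h1 : Topology.IsClosedEmbedding f)
    (h2 : TopCat.Presheaf.IsLocallySurjective f.c) : LRSImm.IsClosedImmersion f.toLRSHom := by
  have := isClosedImmersion_of f h1 h2
  exact ⟨h1, h2, kerLocallyGenerated f⟩

end Groth.Agent.H19.LRSClosedImm
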