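import Mathlib.CategoryTheory.Localization.CalculusOfFractions
import Mathlib.CategoryTheory.Limits.Preserves.Finite
import Mathlib.CategoryTheory.FinCategory.Basic
import Groth.Agent.S6433

/-!
# Localization at a left multiplicative system preserves finite colimits
-/

set_option autoImplicit false
set_option linter.style.haveILetI false
set_option linter.unusedSectionVars false

namespace Groth.Agent.H19.LocFinColim

open CategoryTheory CategoryTheory.Limits

universe v u v' u'

variable {C : Type u} [Category.{v} C] {D : Type u'} [Category.{v'} D]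
  (W : MorphismProperty C) (L : C ⥤ D) [L.IsLocalization W] [W.HasLeftCalculusOfFractions]

/-- a finite family of parallel pairs identified by `L` is equalized by one morphism of `W` -/
theorem exists_common_postcomp {ι : Type} [Finite ι] (X : ι → C) (Y : C) (a b : ∀ i, X i ⟶ Y)
    (h : ∀ i, L.map (a i) = L.map (b i)) :
    ∃ (Y' : C) (s : Y ⟶ Y') (_ : W s), ∀ i, a i ≫ s = b i ≫ s := by
  classical
  have key : ∀ S : Finset ι, ∃ (Y' : C) (s : Y ⟶ Y') (_ : W s),
      ∀ i ∈ S, a i ≫ s = b i ≫ s := by
    intro S
    induction S using Finset.induction_on with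
    | empty => exact ⟨Y, 𝟙 Y, W.id_mem Y, fun i hi => absurd hi (Finset.notMem_empty i)⟩
    | insert j S hj ih =>
      obtain ⟨Y', s, hs, hS⟩ := ih
      have h1 : L.map (a j ≫ s) = L.map (b j ≫ s) := by rw [L.map_comp, L.map_comp, h j]
      obtain ⟨Z, t, ht, fac⟩ := (MorphismProperty.map_eq_iff_postcomp L W _ _).mp h1
      refine ⟨Z, s ≫ t, W.comp_mem _ _ hs ht, ?_⟩
      intro i hi
      rcases Finset.mem_insert.1 hi with rfl | hi
      · simpa using fac
      · rw [← Category.assoc, hS i hi, Category.assoc]
  have := Fintype.ofFinite ι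
  obtain ⟨Y', s, hs, h⟩ := key Finset.univ
  exact ⟨Y', s, hs, fun i => h i (Finset.mem_univ i)⟩

section

variable {J : Type} [SmallCategory J] [FinCategory J] (K : J ⥤ C) (c : Cocone K) (hc : IsColimit c)

include W hc in
theorem exists_desc (Y : C) (t : ∀ j, L.obj (K.obj j) ⟶ L.obj Y)
    (ht : ∀ (j j' : J) (u : j ⟶ j'), L.map (K.map u) ≫ t j' = t j) :
    ∃ m : L.obj c.pt ⟶ L.obj Y, ∀ j, L.map (c.ι.app j) ≫ m = t j := by
  obtain ⟨Y', s, hs, f, hf⟩ := Groth.Agent.S6433.result W L (fun j => K.obj j) Y t
  obtain ⟨Y'', s', hs', heq⟩ := exists_common_postcomp W L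
    (fun q : (Σ p : J × J, (p.1 ⟶ p.2)) => K.obj q.1.1) Y'
    (fun q => K.map q.2 ≫ f q.1.2) (fun q => f q.1.1) (by
      intro q
      rw [L.map_comp, ← hf, ← hf, ← Category.assoc, ht])
  let c' : Cocone K :=
    { pt := Y''
      ι :=
        { app := fun j => f j ≫ s'
          naturality := by
            intro j j' u
            have := heq ⟨(j, j'), u⟩
            simp only [Category.assoc] at this
            simpa using this } }
  have hinv : IsIso (L.map (s ≫ s')) := Localization.inverts L W _ (W.comp_mem _ _ hs hs')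
  refine ⟨L.map (hc.desc c') ≫ inv (L.map (s ≫ s')), fun j => ?_⟩
  rw [← Category.assoc, ← L.map_comp, hc.fac]
  change L.map (f j ≫ s') ≫ _ = _
  rw [IsIso.comp_inv_eq, L.map_comp, L.map_comp, ← hf, Category.assoc]

include W hc in
theorem desc_unique (Y : C) (m₁ m₂ : L.obj c.pt ⟶ L.obj Y)
    (h : ∀ j, L.map (c.ι.app j) ≫ m₁ = L.map (c.ι.app j) ≫ m₂) : m₁ = m₂ := by
  obtain ⟨Y', s, hs, g, hg⟩ := Groth.Agent.S6433.result W L (fun _ : Bool => c.pt) Y
    (fun b => if b then m₁ else m₂)
  have h1 := hg true
  have h2 := hg false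
  simp only [if_true] at h1
  simp only [Bool.false_eq_true, if_false] at h2
  obtain ⟨Y'', s', hs', heq⟩ := exists_common_postcomp W L (fun j : J => K.obj j) Y'
    (fun j => c.ι.app j ≫ g true) (fun j => c.ι.app j ≫ g false) (by
      intro j
      rw [L.map_comp, L.map_comp, ← h1, ← h2, ← Category.assoc, ← Category.assoc, h j])
  have h3 : g true ≫ s' = g false ≫ s' := by
    apply hc.hom_ext
    intro j
    have := heq j
    simpa using this
  have hs'inv : IsIso (L.map s') := Localization.inverts L W _ hs'
  have hsinv : IsIso (L.map s) := Localization.inverts L W _ hs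
  have h4 : L.map (g true) = L.map (g false) := by
    rw [← cancel_mono (L.map s'), ← L.map_comp, ← L.map_comp, h3]
  rw [← cancel_mono (L.map s), h1, h2, h4]

include W hc in
theorem isColimit_mapCocone : Nonempty (IsColimit (L.mapCocone c)) := by
  haveI : L.EssSurj := Localization.essSurj L W
  refine ⟨IsColimit.ofExistsUnique fun s => ?_⟩
  let Y := L.objPreimage s.pt
  let e : L.obj Y ≅ s.pt := L.objObjPreimageIso s.pt
  obtain ⟨m, hm⟩ := exists_desc W L K c hc Y (fun j => s.ι.app j ≫ e.inv) (by
    intro j j' u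
    rw [← Category.assoc]
    congr 1
    exact s.w u)
  refine ⟨m ≫ e.hom, ?_, ?_⟩
  · intro j
    change L.map (c.ι.app j) ≫ m ≫ e.hom = s.ι.app j
    rw [← Category.assoc, hm j, Category.assoc, e.inv_hom_id]
    exact Category.comp_id _
  · intro m' hm'
    have : m' ≫ e.inv = m := by
      apply desc_unique W L K c hc Y
      intro j
      rw [hm j, ← Category.assoc]
      congr 1
      exact hm' j
    rw [← this, Category.assoc, e.inv_hom_id, Category.comp_id]

end

include W in
theorem main : PreservesFiniteColimits L :=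
  ⟨fun J _ _ => ⟨fun {K} => ⟨fun {c} hc => isColimit_mapCocone W L K c hc⟩⟩⟩

end Groth.Agent.H19.LocFinColim
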