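import Mathlib

/-!
# Surjectivity on stalks lifts along nilpotent thickenings (H19)
-/

namespace Groth.Agent.H19.NilSurjStalks

theorem subring_eq_top {A : Type*} [CommRing A] (A' : Subring A) (N : Ideal A)
    (hN : IsNilpotent N) (h : ∀ a : A, ∃ a' ∈ A', a - a' ∈ N ^ 2) : A' = ⊤ := by
  have hC : ∀ m : ℕ, 1 ≤ m → ∀ z ∈ N ^ m, ∃ a' ∈ A', z - a' ∈ N ^ (m + 1) := by
    intro m hm
    induction m, hm using Nat.le_induction with
    | base =>
      intro z _
      obtain ⟨a', ha', h'⟩ := h z
      exact ⟨a', ha', h'⟩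
    | succ m hm ih =>
      intro z hz
      rw [pow_succ] at hz
      refine Submodule.mul_induction_on hz ?_ ?_
      · intro x hx y hy
        obtain ⟨x', hx', hxx⟩ := ih x hx
        obtain ⟨y', hy', hyy⟩ := h y
        refine ⟨x' * y', A'.mul_mem hx' hy', ?_⟩
        have hx'N : x' ∈ N ^ m := by
          have e : x' = x - (x - x') := by ring
          rw [e]
          exact (N ^ m).sub_mem hx (Ideal.pow_le_pow_right (Nat.le_succ m) hxx)
        have e : x * y - x' * y' = (x - x') * y + x' * (y - y') := by ring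
        rw [e]
        refine (N ^ (m + 1 + 1)).add_mem ?_ ?_
        · rw [pow_succ N (m + 1)]
          exact Ideal.mul_mem_mul hxx hy
        · have e2 : N ^ (m + 1 + 1) = N ^ m * N ^ 2 := by rw [← pow_add]
          rw [e2]
          exact Ideal.mul_mem_mul hx'N hyy
      · rintro x y ⟨x', hx', hxx⟩ ⟨y', hy', hyy⟩
        refine ⟨x' + y', A'.add_mem hx' hy', ?_⟩
        have e : x + y - (x' + y') = (x - x') + (y - y') := by ring
        rw [e]
        exact Ideal.add_mem _ hxx hyy
  have hD : ∀ m : ℕ, 2 ≤ m → ∀ a : A, ∃ a' ∈ A', a - a' ∈ N ^ m := by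
    intro m hm
    induction m, hm using Nat.le_induction with
    | base => exact h
    | succ m hm ih =>
      intro a
      obtain ⟨a', ha', haa⟩ := ih a
      obtain ⟨b', hb', hbb⟩ := hC m (by omega) _ haa
      refine ⟨a' + b', A'.add_mem ha' hb', ?_⟩
      have e : a - (a' + b') = a - a' - b' := by ring
      rw [e]
      exact hbb
  obtain ⟨n, hn⟩ := hN
  rw [eq_top_iff]
  intro a _
  obtain ⟨a', ha', haa⟩ := hD (max n 2) (le_max_right _ _) a
  have hle : N ^ (max n 2) ≤ N ^ n := Ideal.pow_le_pow_right (le_max_left _ _)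
  have h0 : a - a' ∈ (⊥ : Ideal A) := by
    have := hle haa
    rwa [hn, Ideal.zero_eq_bot] at this
  have : a = a' := by
    have := (Ideal.mem_bot).mp h0
    exact sub_eq_zero.mp this
  rw [this]
  exact ha'

theorem main {R S T : Type*} [CommRing R] [CommRing S] [CommRing T] (f : R →+* S) (g : S →+* T)
    (hg : Function.Surjective g) (J : Ideal S) (hJ : IsNilpotent J)
    (hker : RingHom.ker g ≤ J ^ 2)
    (h : (g.comp f).SurjectiveOnStalks) : f.SurjectiveOnStalks := by
  intro P hP
  have hJP : J ≤ P := by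
    obtain ⟨n, hn⟩ := hJ
    exact hP.le_of_pow_le (n := n) (by rw [hn]; exact bot_le)
  have hJ2P : J ^ 2 ≤ P := (Ideal.pow_le_self two_ne_zero).trans hJP
  have hkerP : RingHom.ker g ≤ P := hker.trans hJ2P
  set Pbar : Ideal T := P.map g with hPbar_def
  have hPbar : Pbar.IsPrime := Ideal.map_isPrime_of_surjective hg hkerP
  have hcomap : Pbar.comap g = P := by
    rw [hPbar_def, Ideal.comap_map_of_surjective g hg]
    exact sup_eq_left.mpr (by
      rw [← RingHom.ker_eq_comap_bot]
      exact hkerP)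
  have hmem : ∀ s : S, g s ∈ Pbar ↔ s ∈ P := fun s => by rw [← Ideal.mem_comap, hcomap]
  have H : ∀ s : S, ∃ x r : R, ∃ c ∉ P, f r ∉ P ∧ c * f r * s - c * f x ∈ J ^ 2 := by
    intro s
    obtain ⟨x, r, cbar, hc, hr, e⟩ :=
      (RingHom.surjective_localRingHom_iff (f := g.comp f) Pbar).mp (h Pbar hPbar) (g s)
    obtain ⟨c, rfl⟩ := hg cbar
    refine ⟨x, r, c, fun hc' => hc ((hmem c).mpr hc'), fun hr' => hr ((hmem _).mpr hr'), ?_⟩
    apply hker
    rw [RingHom.mem_ker, map_sub, sub_eq_zero]
    simpa using e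
  -- the localization
  set A := Localization.AtPrime P with hA
  set φ := Localization.localRingHom (P.comap f) P f rfl with hφ
  set N : Ideal A := J.map (algebraMap S A) with hNdef
  have hN : IsNilpotent N := by
    obtain ⟨n, hn⟩ := hJ
    exact ⟨n, by rw [hNdef, ← Ideal.map_pow, hn]; simp⟩
  have hN2 : ∀ j ∈ J ^ 2, algebraMap S A j ∈ N ^ 2 := by
    intro j hj
    rw [hNdef, ← Ideal.map_pow]
    exact Ideal.mem_map_of_mem _ hj
  have hNmax : N ≤ IsLocalRing.maximalIdeal A := by
    rw [hNdef, ← Localization.AtPrime.map_eq_maximalIdeal]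
    exact Ideal.map_mono hJP
  -- approximation of elements of S
  have happ : ∀ s : S, ∃ ρ : Localization.AtPrime (P.comap f), algebraMap S A s - φ ρ ∈ N ^ 2 := by
    intro s
    obtain ⟨x, r, c, hc, hr, hj⟩ := H s
    have hr' : r ∈ (P.comap f).primeCompl := hr
    refine ⟨IsLocalization.mk' _ x (⟨r, hr'⟩ : (P.comap f).primeCompl), ?_⟩
    rw [hφ, Localization.localRingHom_mk']
    have hu : IsUnit (algebraMap S A (c * f r)) :=
      IsLocalization.map_units A (⟨c * f r, P.primeCompl.mul_mem hc hr⟩ : P.primeCompl)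
    have hr2 : f r ∈ P.primeCompl := hr
    have hmk : algebraMap S A (f r) * IsLocalization.mk' A (f x) (⟨f r, hr2⟩ : P.primeCompl) =
        algebraMap S A (f x) := IsLocalization.mk'_spec' A (f x) (⟨f r, hr2⟩ : P.primeCompl)
    have key : algebraMap S A (c * f r) *
        (algebraMap S A s - IsLocalization.mk' A (f x) (⟨f r, hr2⟩ : P.primeCompl)) =
        algebraMap S A (c * f r * s - c * f x) := by
      simp only [map_mul, map_sub]
      linear_combination (-(algebraMap S A c)) * hmk
    have h2 := hN2 _ hj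
    rw [← key] at h2
    obtain ⟨u, hu'⟩ := hu
    rw [← hu'] at h2
    have := (N ^ 2).mul_mem_left (↑u⁻¹ : A) h2
    rwa [← mul_assoc, Units.inv_mul, one_mul] at this
  have hloc : IsLocalHom φ := Localization.isLocalHom_localRingHom _ _ _ rfl
  have hrange : φ.range = ⊤ := by
    apply subring_eq_top φ.range N hN
    intro a
    obtain ⟨s, t, rfl⟩ := IsLocalization.exists_mk'_eq P.primeCompl a
    obtain ⟨ρs, hρs⟩ := happ s
    obtain ⟨ρt, hρt⟩ := happ (t : S)
    -- φ ρt is a unit
    have htu : IsUnit (algebraMap S A (t : S)) := IsLocalization.map_units A t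
    have hτ : IsUnit (φ ρt) := by
      rw [← IsLocalRing.notMem_maximalIdeal]
      intro hmem'
      have h1 : algebraMap S A (t : S) - φ ρt ∈ IsLocalRing.maximalIdeal A :=
        hNmax ((Ideal.pow_le_self two_ne_zero) hρt)
      have h2 : algebraMap S A (t : S) ∈ IsLocalRing.maximalIdeal A := by
        have := (IsLocalRing.maximalIdeal A).add_mem h1 hmem'
        simpa using this
      exact (IsLocalRing.notMem_maximalIdeal.mpr htu) h2
    have hρtu : IsUnit ρt := isUnit_of_map_unit φ ρt hτ
    obtain ⟨ut, hut⟩ := hρtu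
    refine ⟨φ (ρs * ↑ut⁻¹), ⟨_, rfl⟩, ?_⟩
    set a := IsLocalization.mk' A s t with ha
    have hat : a * algebraMap S A (t : S) = algebraMap S A s := IsLocalization.mk'_spec A s t
    -- (a - a') * φ ρt = (alg s - φ ρs) - a * (alg t - φ ρt)
    have hφut : φ (↑ut⁻¹) * φ ρt = 1 := by
      rw [← map_mul, ← hut, Units.inv_mul, map_one]
    have key : (a - φ (ρs * ↑ut⁻¹)) * φ ρt =
        (algebraMap S A s - φ ρs) - a * (algebraMap S A (t : S) - φ ρt) := by
      rw [map_mul, sub_mul, mul_assoc, hφut, mul_one, mul_sub, hat]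
      ring
    have h3 : (a - φ (ρs * ↑ut⁻¹)) * φ ρt ∈ N ^ 2 := by
      rw [key]
      exact (N ^ 2).sub_mem hρs ((N ^ 2).mul_mem_left a hρt)
    have := (N ^ 2).mul_mem_right (φ (↑ut⁻¹)) h3
    rwa [mul_assoc, mul_comm (φ ρt), hφut, mul_one] at this
  intro a
  have : a ∈ φ.range := hrange ▸ Subring.mem_top a
  exact this

end Groth.Agent.H19.NilSurjStalks
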