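import Mathlib
import Groth.Agent.H19.NilSurjStalks

/-!
# Closed immersions can be detected on a nilpotent thickening (H19)
-/

namespace Groth.Agent.H19.NilClosedImm

open CategoryTheory AlgebraicGeometry Topology

universe u

theorem main (X Y : Scheme.{u}) (f : X ⟶ Y)
    (I : X.IdealSheafData) (hI : IsNilpotent I)
    (h : IsClosedImmersion ((I ^ 2).subschemeι ≫ f)) :
    IsClosedImmersion f := by
  set ι := (I ^ 2).subschemeι with hι_def
  -- the support of `I ^ 2` is everything
  have hsuppI : I.support = ⊤ := by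
    obtain ⟨n, hn⟩ := hI
    have hn1 : I ^ (n + 1) = ⊥ := by
      rw [pow_succ, hn, Scheme.IdealSheafData.zero_eq_bot, Scheme.IdealSheafData.bot_mul]
    rw [← Scheme.IdealSheafData.support_pow_succ I n, hn1, Scheme.IdealSheafData.support_bot]
  have hsupp : (I ^ 2).support = ⊤ := by
    rw [Scheme.IdealSheafData.support_pow I 2 two_ne_zero, hsuppI]
  have hsurj : Function.Surjective ι := by
    rw [← Set.range_eq_univ, hι_def, Scheme.IdealSheafData.range_subschemeι, hsupp]
    rfl
  have hιce : IsClosedEmbedding ι := ι.isClosedEmbedding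
  have hcomp : IsClosedEmbedding (ι ≫ f) := (ι ≫ f).isClosedEmbedding
  let e : (I ^ 2).subscheme ≃ₜ X := hιce.isEmbedding.toHomeomorphOfSurjective hsurj
  have hf : IsClosedEmbedding f := by
    have heq : (f : X → Y) = (fun x => (ι ≫ f) x) ∘ e.symm := by
      funext x
      obtain ⟨y, rfl⟩ := hsurj x
      have : e.symm (ι y) = y := e.symm_apply_apply y
      simp only [Function.comp_apply, this]
      rfl
    rw [heq]
    exact hcomp.comp e.symm.isClosedEmbedding
  have hsos : SurjectiveOnStalks f := by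
    rw [HasRingHomProperty.iff_appLE (P := @SurjectiveOnStalks)]
    intro V U hUV
    have hcomp_sos : SurjectiveOnStalks (ι ≫ f) := inferInstance
    have hW : IsAffineOpen (ι ⁻¹ᵁ U.1) := U.2.preimage ι
    have hle : ι ⁻¹ᵁ U.1 ≤ (ι ≫ f) ⁻¹ᵁ V.1 := by
      intro x hx
      exact hUV hx
    have h1 := HasRingHomProperty.appLE (P := @SurjectiveOnStalks) (ι ≫ f) hcomp_sos V
      ⟨ι ⁻¹ᵁ U.1, hW⟩ hle
    have h2 : (ι ≫ f).appLE V.1 (ι ⁻¹ᵁ U.1) hle = f.appLE V.1 U.1 hUV ≫ ι.app U.1 := by
      rw [Scheme.Hom.app_eq_appLE, Scheme.Hom.appLE_comp_appLE]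
    rw [h2] at h1
    refine Groth.Agent.H19.NilSurjStalks.main (f.appLE V.1 U.1 hUV).hom (ι.app U.1).hom
      ((I ^ 2).subschemeι_app_surjective U) (I.ideal U) ?_ ?_ h1
    · obtain ⟨n, hn⟩ := hI
      refine ⟨n, ?_⟩
      have := congrArg (fun K : X.IdealSheafData => K.ideal U) hn
      simpa using this
    · rw [(I ^ 2).ker_subschemeι_app U]
      exact le_of_eq (by simp)
  exact ⟨hf⟩

end Groth.Agent.H19.NilClosedImm
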