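import Groth.Agent.H19.Tor1U
import Mathlib.RingTheory.Flat.FaithfullyFlat.Basic

/-! S4891: descent of flatness along a module, nilpotent case. -/

set_option autoImplicit false
universe u
open scoped TensorProduct
open Function (Injective Surjective)

namespace Groth.Agent.H19.NilpFlatDesc

variable {A B : Type u} [CommRing A] [CommRing B] [Algebra A B]
  (J : Ideal A) (M : Type u) [AddCommGroup M] [Module B M] [Module A M] [IsScalarTower A B M]

variable (B) in
/-- The additive map `J ⊗[A] M → JB ⊗[B] M`. -/
noncomputable def psi : J ⊗[A] M →+ (J.map (algebraMap A B) : Ideal B) ⊗[B] M :=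
  TensorProduct.liftAddHom
    (AddMonoidHom.mk' (fun j : J =>
      (TensorProduct.mk B (J.map (algebraMap A B) : Ideal B) M
        ⟨algebraMap A B j, Ideal.mem_map_of_mem _ j.2⟩).toAddMonoidHom)
      (by
        intro j j'
        ext m
        simp only [LinearMap.toAddMonoidHom_coe, TensorProduct.mk_apply, AddMonoidHom.add_apply]
        rw [← TensorProduct.add_tmul]
        congr 1
        ext
        simp))
    (by
      intro a j m
      simp only [AddMonoidHom.mk'_apply, LinearMap.toAddMonoidHom_coe, TensorProduct.mk_apply]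
      rw [← algebraMap_smul B a m, ← TensorProduct.smul_tmul]
      congr 1
      ext
      simp [Algebra.smul_def])

@[simp] theorem psi_tmul (j : J) (m : M) :
    psi B J M (j ⊗ₜ m) = (⟨algebraMap A B j, Ideal.mem_map_of_mem _ j.2⟩ :
      (J.map (algebraMap A B) : Ideal B)) ⊗ₜ[B] m := rfl

theorem psi_surjective : Surjective (psi B J M) := by
  intro x
  induction x using TensorProduct.induction_on with
  | zero => exact ⟨0, map_zero _⟩
  | add x y hx hy =>
    obtain ⟨x', rfl⟩ := hx
    obtain ⟨y', rfl⟩ := hy
    exact ⟨x' + y', map_add _ _ _⟩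
  | tmul b m =>
    obtain ⟨b, hb⟩ := b
    revert m
    refine Submodule.span_induction (p := fun b hb => ∀ m : M,
      ∃ y, psi B J M y = (⟨b, hb⟩ : (J.map (algebraMap A B) : Ideal B)) ⊗ₜ[B] m) ?_ ?_ ?_ ?_ hb
    · rintro _ ⟨j, hj, rfl⟩ m
      exact ⟨(⟨j, hj⟩ : J) ⊗ₜ m, rfl⟩
    · intro m
      refine ⟨0, ?_⟩
      rw [map_zero]
      exact (TensorProduct.zero_tmul _ m).symm
    · intro b b' hb hb' ih ih' m
      obtain ⟨y, hy⟩ := ih m
      obtain ⟨y', hy'⟩ := ih' m
      refine ⟨y + y', ?_⟩
      rw [map_add, hy, hy', ← TensorProduct.add_tmul]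
      rfl
    · intro c b hb ih m
      obtain ⟨y, hy⟩ := ih (c • m)
      refine ⟨y, ?_⟩
      rw [hy, ← TensorProduct.smul_tmul]
      rfl

theorem psi_spec (y : J ⊗[A] M) :
    TensorProduct.lid B M ((J.map (algebraMap A B)).subtype.rTensor M (psi B J M y)) =
      TensorProduct.lid A M (J.subtype.rTensor M y) := by
  induction y using TensorProduct.induction_on with
  | zero => simp
  | add x y hx hy => simp only [map_add, hx, hy]
  | tmul j m =>
    simp only [psi_tmul, LinearMap.rTensor_tmul, Submodule.subtype_apply, TensorProduct.lid_tmul]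
    exact algebraMap_smul B _ m

/-- `JB ⊗[B] M → M` is injective when `M` is flat over `A`. -/
theorem rTensor_map_injective [Module.Flat A M] :
    Injective ((J.map (algebraMap A B)).subtype.rTensor M) := by
  rw [injective_iff_map_eq_zero]
  intro x hx
  obtain ⟨y, rfl⟩ := psi_surjective (B := B) J M x
  have h := psi_spec (B := B) J M y
  rw [hx, map_zero] at h
  have h2 : J.subtype.rTensor M y = 0 := (TensorProduct.lid A M).injective (by rw [← h, map_zero])
  have h3 : y = 0 := Module.Flat.rTensor_preserves_injective_linearMap J.subtype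
    (Submodule.injective_subtype _) (by rw [h2, map_zero])
  rw [h3, map_zero]

theorem isNilpotent_map (hJ : IsNilpotent J) : IsNilpotent (J.map (algebraMap A B)) := by
  obtain ⟨n, hn⟩ := hJ
  refine ⟨n, ?_⟩
  rw [← Ideal.map_pow, hn, Ideal.zero_eq_bot, Ideal.map_bot]
  rfl

theorem le_of_isNilpotent {R : Type u} [CommRing R] (I : Ideal R) (hI : IsNilpotent I)
    (p : Ideal R) [p.IsPrime] : I ≤ p := by
  obtain ⟨n, hn⟩ := hI
  intro x hx
  have : x ^ n ∈ I ^ n := Ideal.pow_mem_pow hx n
  rw [hn] at this
  have h0 : x ^ n = 0 := this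
  exact Ideal.IsPrime.mem_of_pow_mem inferInstance n (by rw [h0]; exact zero_mem _)

theorem main (hJ : IsNilpotent J)
    (hc1 : Module.Flat A M)
    (hc2 : Module.Flat (B ⧸ J.map (algebraMap A B)) ((B ⧸ J.map (algebraMap A B)) ⊗[B] M))
    (hd1 : Module.Flat (A ⧸ J) ((A ⧸ J) ⊗[A] B))
    (hd2 : ∀ m : Ideal B, m.IsMaximal → J.map (algebraMap A B) ≤ m →
      (m • (⊤ : Submodule B M)) ≠ ⊤) :
    Module.Flat A B := by
  have hJB := isNilpotent_map (B := B) J hJ
  have hflat : Module.Flat B M :=
    (Tor1U.main B _ hJB M).mpr ⟨hc2, rTensor_map_injective J M⟩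
  have hff : Module.FaithfullyFlat B M :=
    ⟨fun m hm => hd2 m hm (le_of_isNilpotent _ hJB m)⟩
  refine (Tor1U.main A J hJ B).mpr ⟨hd1, ?_⟩
  rw [← LinearMap.lTensor_inj_iff_rTensor_inj]
  have key : Injective (J.subtype.baseChange B) := by
    rw [← Module.FaithfullyFlat.lTensor_injective_iff_injective B M]
    let eK := TensorProduct.AlgebraTensorModule.cancelBaseChange A B B M J
    let eF := TensorProduct.AlgebraTensorModule.cancelBaseChange A B B M A
    have hcomm : ∀ x, J.subtype.lTensor M (eK x) = eF ((J.subtype.baseChange B).lTensor M x) := by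
      intro x
      induction x using TensorProduct.induction_on with
      | zero => simp
      | tmul n y =>
        induction y using TensorProduct.induction_on with
        | zero => simp
        | tmul a k => simp [eK, eF]
        | add y z hy hz => simp only [TensorProduct.tmul_add, map_add, hy, hz]
      | add x y hx hy => simp only [map_add, hx, hy]
    have hinj : Injective (J.subtype.lTensor M) :=
      Module.Flat.lTensor_preserves_injective_linearMap _ (Submodule.injective_subtype _)
    intro x y hxy
    apply eK.injective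
    apply hinj
    rw [hcomm, hcomm, hxy]
  rw [← LinearMap.baseChange_eq_ltensor]
  exact key

end Groth.Agent.H19.NilpFlatDesc
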