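import Mathlib.RingTheory.LocalRing.ResidueField.Basic
import Mathlib.RingTheory.Noetherian.Basic
import Mathlib.RingTheory.Ideal.Maps
import Mathlib.RingTheory.Ideal.Operations

/-! S7923: successive approximation `u_n v_n ≡ ε_n` modulo `𝔪_A^{n+1} B`. -/

set_option autoImplicit false
universe u
open IsLocalRing

namespace Groth.Agent.H19.NodeApprox

/-- The ideal `𝔪_A^k B`. -/
abbrev mB (A B : Type u) [CommRing A] [IsLocalRing A] [CommRing B] [Algebra A B] (k : ℕ) :
    Ideal B := (maximalIdeal A ^ k).map (algebraMap A B)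

variable {A B : Type u} [CommRing A] [IsLocalRing A] [CommRing B] [Algebra A B]

theorem mB_mul_le (j k : ℕ) : mB A B j * mB A B k ≤ mB A B (j + k) := by
  rw [mB, mB, mB, ← Ideal.map_mul, ← pow_add]

theorem mB_mono {j k : ℕ} (h : j ≤ k) : mB A B k ≤ mB A B j :=
  Ideal.map_mono (Ideal.pow_le_pow_right h)

variable [IsLocalRing B] [IsLocalHom (algebraMap A B)]

/-- Every element of `B` is congruent to an element of `A` modulo `(u', v') + 𝔪_A B`. -/
theorem exists_decomp
    (hres : Function.Surjective (IsLocalRing.ResidueField.map (algebraMap A B)))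
    (u' v' : B) (hgen : maximalIdeal B = Ideal.span {u', v'} ⊔ mB A B 1) (b : B) :
    ∃ (c : A) (p q r : B), r ∈ mB A B 1 ∧ b = algebraMap A B c + p * u' + q * v' + r := by
  obtain ⟨cbar, hc⟩ := hres (residue B b)
  obtain ⟨c, rfl⟩ := residue_surjective cbar
  have h1 : b - algebraMap A B c ∈ maximalIdeal B := by
    rw [← Ideal.Quotient.eq_zero_iff_mem]
    have : (Ideal.Quotient.mk (maximalIdeal B)) (b - algebraMap A B c) =
        residue B b - residue B (algebraMap A B c) := by
      rw [map_sub]; rfl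
    rw [this, ← hc, ResidueField.map_residue, sub_self]
    rfl
  rw [hgen] at h1
  obtain ⟨y, hy, r, hr, hyr⟩ := Submodule.mem_sup.mp h1
  obtain ⟨p, q, rfl⟩ := Ideal.mem_span_pair.mp hy
  refine ⟨c, p, q, r, hr, ?_⟩
  calc b = algebraMap A B c + (b - algebraMap A B c) := by ring
    _ = algebraMap A B c + p * u' + q * v' + r := by rw [← hyr]; ring

/-- Decomposition of elements of `𝔪_A^k B`. -/
theorem exists_decomp_pow
    (hres : Function.Surjective (IsLocalRing.ResidueField.map (algebraMap A B)))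
    (u' v' : B) (hgen : maximalIdeal B = Ideal.span {u', v'} ⊔ mB A B 1) (k : ℕ) (x : B)
    (hx : x ∈ mB A B k) :
    ∃ (δ : A) (P Q : B), δ ∈ maximalIdeal A ^ k ∧ P ∈ mB A B k ∧ Q ∈ mB A B k ∧
      x - (algebraMap A B δ + u' * P + v' * Q) ∈ mB A B (k + 1) := by
  have hx' : x ∈ Ideal.span ((algebraMap A B) '' (maximalIdeal A ^ k : Ideal A)) := hx
  refine Submodule.span_induction (p := fun x _ => ∃ (δ : A) (P Q : B), δ ∈ maximalIdeal A ^ k ∧
    P ∈ mB A B k ∧ Q ∈ mB A B k ∧
      x - (algebraMap A B δ + u' * P + v' * Q) ∈ mB A B (k + 1)) ?_ ?_ ?_ ?_ hx'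
  · rintro _ ⟨a, ha, rfl⟩
    exact ⟨a, 0, 0, ha, zero_mem _, zero_mem _, by simp⟩
  · exact ⟨0, 0, 0, zero_mem _, zero_mem _, zero_mem _, by simp⟩
  · rintro x y _ _ ⟨δ, P, Q, hδ, hP, hQ, h⟩ ⟨δ', P', Q', hδ', hP', hQ', h'⟩
    refine ⟨δ + δ', P + P', Q + Q', add_mem hδ hδ', add_mem hP hP', add_mem hQ hQ', ?_⟩
    have := add_mem h h'
    convert this using 1
    rw [map_add]
    ring
  · rintro b x _ ⟨δ, P, Q, hδ, hP, hQ, h⟩
    obtain ⟨c, p, q, r, hr, rfl⟩ := exists_decomp hres u' v' hgen b
    have hfδ : algebraMap A B δ ∈ mB A B k := Ideal.mem_map_of_mem _ hδ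
    refine ⟨c * δ, (algebraMap A B c + p * u' + q * v' + r) * P + p * algebraMap A B δ,
      (algebraMap A B c + p * u' + q * v' + r) * Q + q * algebraMap A B δ,
      Ideal.mul_mem_left _ _ hδ,
      add_mem (Ideal.mul_mem_left _ _ hP) (Ideal.mul_mem_left _ _ hfδ),
      add_mem (Ideal.mul_mem_left _ _ hQ) (Ideal.mul_mem_left _ _ hfδ), ?_⟩
    have h1 : r * algebraMap A B δ ∈ mB A B (k + 1) := by
      rw [add_comm k 1]
      exact mB_mul_le 1 k (Ideal.mul_mem_mul hr hfδ)
    have h2 := add_mem (Ideal.mul_mem_left _ (algebraMap A B c + p * u' + q * v' + r) h) h1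
    convert h2 using 1
    rw [smul_eq_mul, map_mul]
    ring

theorem main
    (hres : Function.Bijective (IsLocalRing.ResidueField.map (algebraMap A B)))
    (u v : B)
    (huv : u * v ∈ (maximalIdeal A).map (algebraMap A B))
    (hgen : maximalIdeal B = Ideal.span {u, v} ⊔ (maximalIdeal A).map (algebraMap A B)) :
    ∃ (us vs : ℕ → B) (ε : ℕ → A), us 0 = u ∧ vs 0 = v ∧
      ∀ n : ℕ, us n ∈ maximalIdeal B ∧ vs n ∈ maximalIdeal B ∧
        ε n ∈ maximalIdeal A ∧
        us (n + 1) - us n ∈ (maximalIdeal A ^ (n + 1)).map (algebraMap A B) ∧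
        vs (n + 1) - vs n ∈ (maximalIdeal A ^ (n + 1)).map (algebraMap A B) ∧
        ε (n + 1) - ε n ∈ maximalIdeal A ^ (n + 1) ∧
        us n * vs n - algebraMap A B (ε n) ∈ (maximalIdeal A ^ (n + 1)).map (algebraMap A B) := by
  -- the invariant
  let Inv : ℕ → B × B × A → Prop := fun n s =>
    maximalIdeal B = Ideal.span {s.1, s.2.1} ⊔ mB A B 1 ∧ s.2.2 ∈ maximalIdeal A ∧
      s.1 * s.2.1 - algebraMap A B s.2.2 ∈ mB A B (n + 1)
  have step : ∀ (n : ℕ) (s : B × B × A), ∃ s' : B × B × A, Inv n s →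
      (Inv (n + 1) s' ∧ s'.1 - s.1 ∈ mB A B (n + 1) ∧ s'.2.1 - s.2.1 ∈ mB A B (n + 1) ∧
        s'.2.2 - s.2.2 ∈ maximalIdeal A ^ (n + 1)) := by
    intro n s
    by_cases hs : Inv n s
    swap
    · exact ⟨s, fun h => absurd h hs⟩
    obtain ⟨u', v', e⟩ := s
    obtain ⟨hg, he, hrel⟩ := hs
    simp only at hg he hrel
    obtain ⟨δ, P, Q, hδ, hP, hQ, hx⟩ := exists_decomp_pow hres.2 u' v' hg (n + 1) _ hrel
    refine ⟨(u' - Q, v' - P, e + δ), fun _ => ⟨⟨?_, ?_, ?_⟩, ?_, ?_, ?_⟩⟩
    · -- generation is preserved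
      simp only
      have hP1 : P ∈ mB A B 1 := mB_mono (Nat.le_add_left 1 n) hP
      have hQ1 : Q ∈ mB A B 1 := mB_mono (Nat.le_add_left 1 n) hQ
      rw [hg]
      apply le_antisymm
      · refine sup_le ?_ le_sup_right
        rw [Ideal.span_le]
        rintro x (rfl | rfl)
        · have : x = (x - Q) + Q := by ring
          rw [this]
          exact add_mem (Ideal.mem_sup_left (Ideal.subset_span (by simp)))
            (Ideal.mem_sup_right hQ1)
        · have : x = (x - P) + P := by ring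
          rw [this]
          exact add_mem (Ideal.mem_sup_left (Ideal.subset_span (by simp)))
            (Ideal.mem_sup_right hP1)
      · refine sup_le ?_ le_sup_right
        rw [Ideal.span_le]
        rintro x (rfl | rfl)
        · exact sub_mem (Ideal.mem_sup_left (Ideal.subset_span (by simp)))
            (Ideal.mem_sup_right hQ1)
        · exact sub_mem (Ideal.mem_sup_left (Ideal.subset_span (by simp)))
            (Ideal.mem_sup_right hP1)
    · exact add_mem he (Ideal.pow_le_self (Nat.succ_ne_zero n) hδ)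
    · simp only
      have hPQ : P * Q ∈ mB A B (n + 1 + 1) := by
        have := mB_mul_le (n + 1) (n + 1) (Ideal.mul_mem_mul hP hQ)
        exact mB_mono (by omega) this
      have := add_mem hx hPQ
      convert this using 1
      rw [map_add]
      ring
    · simp only
      have : u' - Q - u' = -Q := by ring
      rw [this]
      exact neg_mem hQ
    · simp only
      have : v' - P - v' = -P := by ring
      rw [this]
      exact neg_mem hP
    · simp only
      have : e + δ - e = δ := by ring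
      rw [this]
      exact hδ
  choose nxt hnxt using step
  obtain ⟨s, s_zero, s_succ⟩ : ∃ s : ℕ → B × B × A, s 0 = (u, v, 0) ∧
      ∀ n, s (n + 1) = nxt n (s n) :=
    ⟨fun n => Nat.rec (u, v, 0) (fun n t => nxt n t) n, rfl, fun _ => rfl⟩
  have hinv : ∀ n, Inv n (s n) := by
    intro n
    induction n with
    | zero =>
      rw [s_zero]
      refine ⟨?_, zero_mem _, ?_⟩
      · simp only [mB, pow_one]
        exact hgen
      · simp only [map_zero, sub_zero, mB, zero_add, pow_one]
        exact huv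
    | succ n ih =>
      rw [s_succ]
      exact (hnxt n (s n) ih).1
  refine ⟨fun n => (s n).1, fun n => (s n).2.1, fun n => (s n).2.2, by simp only [s_zero],
    by simp only [s_zero], fun n => ?_⟩
  obtain ⟨hg, he, hrel⟩ := hinv n
  have hstep := hnxt n (s n) (hinv n)
  simp only
  refine ⟨?_, ?_, he, ?_, ?_, ?_, hrel⟩
  · rw [hg]
    exact Ideal.mem_sup_left (Ideal.subset_span (by simp))
  · rw [hg]
    exact Ideal.mem_sup_left (Ideal.subset_span (by simp))
  · rw [s_succ]
    exact hstep.2.1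
  · rw [s_succ]
    exact hstep.2.2.1
  · rw [s_succ]
    exact hstep.2.2.2

end Groth.Agent.H19.NodeApprox
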