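import Mathlib

/-!
# Antichains for specialization in Noetherian schemes (H19)
-/

namespace Groth.Agent.H19.NoethAntichain

open AlgebraicGeometry TopologicalSpace

universe u

/-- No infinite sequence of distinct points with `x m ⤳ x n` for `m < n` in a Noetherian
`T0` space. -/
theorem no_spec_chain {X : Type*} [TopologicalSpace X] [NoetherianSpace X] [T0Space X]
    (x : ℕ → X) (hinj : Function.Injective x) (h : ∀ m n, m < n → x m ⤳ x n) : False := by
  apply not_strictAnti_of_wellFoundedLT (fun n => Closeds.closure {x n})
  intro m n hmn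
  have hle : closure {x n} ⊆ closure {x m} := specializes_iff_closure_subset.mp (h m n hmn)
  refine lt_of_le_of_ne (fun y hy => hle hy) ?_
  intro heq
  have heq' : (Closeds.closure {x n} : Closeds X) = Closeds.closure {x m} := heq
  have heq'' : closure {x n} = closure {x m} :=
    congrArg (fun c : Closeds X => (c : Set X)) heq'
  have h1 : x m ∈ closure {x n} := by
    rw [heq'']
    exact subset_closure rfl
  have h2 : x n ⤳ x m := specializes_iff_mem_closure.mpr h1
  exact hmn.ne (hinj ((h m n hmn).antisymm h2).eq)

/-- No infinite sequence of distinct points with `x n ⤳ x m` for `m < n` in a locally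
Noetherian scheme. -/
theorem no_gen_chain (S : Scheme.{u}) [IsLocallyNoetherian S]
    (x : ℕ → S) (hinj : Function.Injective x) (h : ∀ m n, m < n → x n ⤳ x m) : False := by
  set R := S.presheaf.stalk (x 0) with hR
  have hmem : ∀ n, x n ∈ Set.range (S.fromSpecStalk (x 0)) := by
    intro n
    rw [Scheme.range_fromSpecStalk]
    rcases Nat.eq_zero_or_pos n with rfl | hn
    · exact specializes_rfl
    · exact h 0 n hn
  choose q' hq' using hmem
  set q : ℕ → PrimeSpectrum R := fun n => q' n with hqdef
  have hq : ∀ n, (S.fromSpecStalk (x 0)) (q n) = x n := hq'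
  have hemb : Topology.IsEmbedding (S.fromSpecStalk (x 0)) :=
    (S.fromSpecStalk (x 0)).isEmbedding
  have hspec : ∀ m n, m < n → (q n : PrimeSpectrum R) < (q m : PrimeSpectrum R) := by
    intro m n hmn
    have h1 : q n ⤳ q m := by
      have := h m n hmn
      rw [← hq n, ← hq m] at this
      exact hemb.isInducing.specializes_iff.mp this
    have h2 : (q n : PrimeSpectrum R) ≤ q m := (PrimeSpectrum.le_iff_specializes _ _).mpr h1
    refine lt_of_le_of_ne h2 ?_
    intro heq
    have : x n = x m := by rw [← hq n, ← hq m]; exact congrArg _ heq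
    exact hmn.ne' (hinj this)
  apply not_strictAnti_of_wellFoundedLT (fun n => Order.height (q n : PrimeSpectrum R))
  intro m n hmn
  refine Order.height_strictMono (hspec m n hmn) ?_
  have := (q n : PrimeSpectrum R).isPrime
  have hfin := Ideal.height_lt_top_of_isPrime (I := (q n : PrimeSpectrum R).asIdeal)
  rwa [PrimeSpectrum.height_eq_orderHeight] at hfin

/-- In a Noetherian scheme every infinite set of points contains an infinite antichain for
specialization. -/
theorem main (S : Scheme.{u}) [IsNoetherian S] (T : Set S) (hT : T.Infinite) :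
    ∃ T' : Set S, T' ⊆ T ∧ T'.Infinite ∧ ∀ a ∈ T', ∀ b ∈ T', a ⤳ b → a = b := by
  set f : ℕ → S := fun n => (hT.natEmbedding T n : S) with hf
  have hfinj : Function.Injective f := fun a b hab =>
    (hT.natEmbedding T).injective (Subtype.val_injective hab)
  have hfT : ∀ n, f n ∈ T := fun n => (hT.natEmbedding T n).2
  have : IsTrans S (fun a b : S => a ⤳ b) := ⟨fun _ _ _ h1 h2 => h1.trans h2⟩
  have : IsTrans S (fun a b : S => b ⤳ a) := ⟨fun _ _ _ h1 h2 => h2.trans h1⟩
  obtain ⟨g, h1 | h1⟩ := exists_increasing_or_nonincreasing_subseq (fun a b : S => a ⤳ b) f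
  · exact (no_spec_chain (fun n => f (g n)) (fun a b hab => g.injective (hfinj hab)) h1).elim
  obtain ⟨g', h2 | h2⟩ :=
    exists_increasing_or_nonincreasing_subseq (fun a b : S => b ⤳ a) (fun n => f (g n))
  · exact (no_gen_chain S (fun n => f (g (g' n)))
      (fun a b hab => g'.injective (g.injective (hfinj hab))) h2).elim
  refine ⟨Set.range (fun n => f (g (g' n))), ?_, ?_, ?_⟩
  · rintro _ ⟨n, rfl⟩
    exact hfT _
  · exact Set.infinite_range_of_injective
      (fun a b hab => g'.injective (g.injective (hfinj hab)))
  · rintro _ ⟨m, rfl⟩ _ ⟨n, rfl⟩ hmn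
    rcases lt_trichotomy m n with hlt | rfl | hgt
    · exact (h1 (g' m) (g' n) (g'.strictMono hlt) hmn).elim
    · rfl
    · exact (h2 n m hgt hmn).elim

end Groth.Agent.H19.NoethAntichain
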