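import Mathlib
import Groth.Prelude.Def_CohTop

/-!
# Directed colimits of abelian sheaves on a Noetherian space are computed sectionwise (H19)
-/

open CategoryTheory CategoryTheory.Limits TopologicalSpace Opposite

namespace Groth.Agent.H19.NoethColim

universe u

variable {X : TopCat.{u}} {ι : Type u} [Preorder ι] [IsDirected ι (· ≤ ·)] [Nonempty ι]
  (D : ι ⥤ TopCat.Sheaf AddCommGrpCat.{u} X)

/-- The diagram of underlying presheaves. -/
noncomputable abbrev Dp : ι ⥤ TopCat.Presheaf AddCommGrpCat.{u} X := D ⋙ sheafToPresheaf _ _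

/-- The presheaf colimit. -/
noncomputable abbrev P : TopCat.Presheaf AddCommGrpCat.{u} X := colimit (Dp D)

/-- The inclusions into the presheaf colimit. -/
noncomputable abbrev inc (i : ι) : (D.obj i).obj ⟶ P D := colimit.ι (Dp D) i

/-- Sections of the `i`-th sheaf. -/
abbrev S (i : ι) (U : Opens X) : Type u := ↑((D.obj i).obj.obj (op U))

/-- The transition maps on sections. -/
noncomputable abbrev tr {i j : ι} (h : i ≤ j) (U : Opens X) : S D i U →+ S D j U :=
  ((D.map (homOfLE h)).hom.app (op U)).hom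

/-- The inclusion maps on sections. -/
noncomputable abbrev incS (i : ι) (U : Opens X) : S D i U →+ ↑((P D).obj (op U)) :=
  ((inc D i).app (op U)).hom

lemma incS_tr {i j : ι} (h : i ≤ j) (U : Opens X) (t : S D i U) :
    incS D j U (tr D h U t) = incS D i U t := by
  have := colimit.w (Dp D) (homOfLE h)
  exact congrArg (fun φ => (φ.app (op U)).hom t) this

lemma incS_res (i : ι) {U V : Opens X} (h : V ≤ U) (t : S D i U) :
    ((P D).map (homOfLE h).op).hom (incS D i U t) =
      incS D i V (((D.obj i).obj.map (homOfLE h).op).hom t) := by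
  have := (inc D i).naturality (homOfLE h).op
  exact (congrArg (fun φ => φ.hom t) this).symm

lemma tr_res {i j : ι} (hij : i ≤ j) {U V : Opens X} (h : V ≤ U) (t : S D i U) :
    ((D.obj j).obj.map (homOfLE h).op).hom (tr D hij U t) =
      tr D hij V (((D.obj i).obj.map (homOfLE h).op).hom t) := by
  have := (D.map (homOfLE hij)).hom.naturality (homOfLE h).op
  exact (congrArg (fun φ => φ.hom t) this).symm

lemma tr_tr {i j k : ι} (hij : i ≤ j) (hjk : j ≤ k) (U : Opens X) (t : S D i U) :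
    tr D hjk U (tr D hij U t) = tr D (hij.trans hjk) U t := by
  have : D.map (homOfLE (hij.trans hjk)) = D.map (homOfLE hij) ≫ D.map (homOfLE hjk) := by
    rw [← D.map_comp]
    rfl
  exact (congrArg (fun φ => (φ.hom.app (op U)).hom t) this).symm

/-- The evaluated cocone is a colimit cocone. -/
noncomputable def evalIsColimit (U : Opens X) :
    IsColimit (((evaluation _ _).obj (op U)).mapCocone (colimit.cocone (Dp D))) :=
  isColimitOfPreserves _ (colimit.isColimit _)

lemma exists_rep (U : Opens X) (s : ↑((P D).obj (op U))) :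
    ∃ (i : ι) (t : S D i U), incS D i U t = s :=
  Concrete.isColimit_exists_rep (Dp D ⋙ (evaluation _ _).obj (op U)) (evalIsColimit D U) s

lemma eq_iff {U : Opens X} {i j : ι} (t : S D i U) (t' : S D j U) :
    incS D i U t = incS D j U t' ↔
      ∃ (k : ι) (hik : i ≤ k) (hjk : j ≤ k), tr D hik U t = tr D hjk U t' := by
  have := Concrete.isColimit_rep_eq_iff_exists (Dp D ⋙ (evaluation _ _).obj (op U))
    (evalIsColimit D U) (i := i) (j := j) t t'
  constructor
  · intro h
    obtain ⟨k, f, g, hfg⟩ := this.mp h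
    exact ⟨k, leOfHom f, leOfHom g, hfg⟩
  · rintro ⟨k, hik, hjk, h⟩
    exact this.mpr ⟨k, homOfLE hik, homOfLE hjk, h⟩

lemma exists_rep₂ (U : Opens X) (x y : ↑((P D).obj (op U))) :
    ∃ (k : ι) (t t' : S D k U), incS D k U t = x ∧ incS D k U t' = y := by
  obtain ⟨i, t, rfl⟩ := exists_rep D U x
  obtain ⟨j, t', rfl⟩ := exists_rep D U y
  obtain ⟨k, hik, hjk⟩ := exists_ge_ge i j
  exact ⟨k, tr D hik U t, tr D hjk U t', incS_tr D hik U t, incS_tr D hjk U t'⟩

section Noeth
variable [NoetherianSpace X]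

/-- Finite subcovers of open covers in a Noetherian space. -/
lemma exists_finset_cover {B : Type*} {W : Opens X} (Wb : B → Opens X) (hcov : W ≤ iSup Wb) :
    ∃ B₀ : Finset B, W ≤ ⨆ b : ↥B₀, Wb b := by
  have hc : IsCompact (W : Set X) := NoetherianSpace.isCompact _
  obtain ⟨B₀, hB₀⟩ := hc.elim_finite_subcover (fun b => (Wb b : Set X)) (fun b => (Wb b).isOpen)
    (by
      intro x hx
      have := hcov hx
      rw [Opens.mem_iSup] at this
      obtain ⟨b, hb⟩ := this
      exact Set.mem_iUnion.mpr ⟨b, hb⟩)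
  refine ⟨B₀, ?_⟩
  intro x hx
  have := hB₀ hx
  simp only [Set.mem_iUnion] at this
  obtain ⟨b, hb, hxb⟩ := this
  exact Opens.mem_iSup.mpr ⟨⟨b, hb⟩, hxb⟩

/-- The presheaf colimit is separated. -/
lemma sep {W : Opens X} {B : Type*} (Wb : B → Opens X) (hle : ∀ b, Wb b ≤ W)
    (hcov : W ≤ iSup Wb) (x y : ↑((P D).obj (op W)))
    (h : ∀ b, ((P D).map (homOfLE (hle b)).op).hom x = ((P D).map (homOfLE (hle b)).op).hom y) :
    x = y := by
  classical
  obtain ⟨B₀, hB₀⟩ := exists_finset_cover Wb hcov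
  obtain ⟨k, t, t', rfl, rfl⟩ := exists_rep₂ D W x y
  have hb : ∀ b, ∃ (kb : ι) (hk : k ≤ kb),
      tr D hk (Wb b) (((D.obj k).obj.map (homOfLE (hle b)).op).hom t) =
      tr D hk (Wb b) (((D.obj k).obj.map (homOfLE (hle b)).op).hom t') := by
    intro b
    have h1 := h b
    rw [incS_res, incS_res] at h1
    obtain ⟨kb, h1k, h2k, he⟩ := (eq_iff D _ _).mp h1
    exact ⟨kb, h1k, he⟩
  choose kb hkb heq using hb
  obtain ⟨K, hK⟩ := Finset.exists_le (B₀.image kb)
  obtain ⟨K', hKK', hkK'⟩ := exists_ge_ge K k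
  have hK' : ∀ b ∈ B₀, kb b ≤ K' := fun b hb =>
    (hK (kb b) (Finset.mem_image_of_mem kb hb)).trans hKK'
  have hTT : tr D hkK' W t = tr D hkK' W t' := by
    apply (D.obj K').eq_of_locally_eq' (fun b : ↥B₀ => Wb b) W (fun b => homOfLE (hle b)) hB₀
    intro b
    show ((D.obj K').obj.map (homOfLE (hle b)).op).hom (tr D hkK' W t) =
      ((D.obj K').obj.map (homOfLE (hle b)).op).hom (tr D hkK' W t')
    rw [tr_res, tr_res, ← tr_tr D (hkb b) (hK' b b.2), ← tr_tr D (hkb b) (hK' b b.2), heq b]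
  rw [← incS_tr D hkK' W t, ← incS_tr D hkK' W t', hTT]

end Noeth

omit [IsDirected ι (· ≤ ·)] [Nonempty ι] in
lemma resP_resP {U V W : Opens X} (h1 : V ≤ U) (h2 : W ≤ V) (x : ↑((P D).obj (op U))) :
    ((P D).map (homOfLE h2).op).hom (((P D).map (homOfLE h1).op).hom x) =
      ((P D).map (homOfLE (h2.trans h1)).op).hom x := by
  have : (P D).map (homOfLE (h2.trans h1)).op =
      (P D).map (homOfLE h1).op ≫ (P D).map (homOfLE h2).op := by
    rw [← Functor.map_comp]
    rfl
  rw [this]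
  rfl

section Noeth2
variable [NoetherianSpace X]

open TopCat.Presheaf in
theorem isSheaf_P : (P D).IsSheaf := by
  classical
  rw [TopCat.Presheaf.isSheaf_iff_isSheafUniqueGluing]
  intro A U sf hsf
  obtain ⟨A₀, hA₀⟩ := exists_finset_cover U (le_refl (iSup U))
  have hrep : ∀ a, ∃ (i : ι) (t : S D i (U a)), incS D i (U a) t = sf a :=
    fun a => exists_rep D (U a) (sf a)
  choose ia ta hta using hrep
  obtain ⟨k, hk⟩ := Finset.exists_le (A₀.image ia)
  have hk' : ∀ a ∈ A₀, ia a ≤ k := fun a ha => hk (ia a) (Finset.mem_image_of_mem ia ha)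
  obtain ⟨t1, ht1⟩ : ∃ t1 : ∀ a : ↥A₀, S D k (U a), ∀ a : ↥A₀, incS D k (U a) (t1 a) = sf a :=
    ⟨fun a => tr D (hk' a a.2) (U a) (ta a), fun a => by
      show incS D k (U a) (tr D (hk' a a.2) (U a) (ta a)) = sf a
      rw [incS_tr]
      exact hta a⟩
  have hpair : ∀ (a b : ↥A₀), ∃ (kab : ι) (h : k ≤ kab),
      tr D h (U a ⊓ U b) (((D.obj k).obj.map (homOfLE (inf_le_left : U a ⊓ U b ≤ U a)).op).hom
        (t1 a)) =
      tr D h (U a ⊓ U b) (((D.obj k).obj.map (homOfLE (inf_le_right : U a ⊓ U b ≤ U b)).op).hom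
        (t1 b)) := by
    intro a b
    have h1 : ((P D).map (homOfLE (inf_le_left : U a ⊓ U b ≤ U a)).op).hom (sf a) =
        ((P D).map (homOfLE (inf_le_right : U a ⊓ U b ≤ U b)).op).hom (sf b) := hsf a b
    rw [← ht1 a, ← ht1 b, incS_res, incS_res] at h1
    obtain ⟨kab, h1k, h2k, he⟩ := (eq_iff D _ _).mp h1
    exact ⟨kab, h1k, he⟩
  choose kab hkab hab using hpair
  obtain ⟨K, hK⟩ := Finset.exists_le
    ((Finset.univ : Finset (↥A₀ × ↥A₀)).image (fun p => kab p.1 p.2))
  obtain ⟨K', hKK', hkK'⟩ := exists_ge_ge K k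
  have hK' : ∀ a b : ↥A₀, kab a b ≤ K' := fun a b =>
    (hK (kab a b) (Finset.mem_image.mpr ⟨(a, b), Finset.mem_univ _, rfl⟩)).trans hKK'
  obtain ⟨t2, ht2⟩ : ∃ t2 : ∀ a : ↥A₀, S D K' (U a),
      ∀ a : ↥A₀, t2 a = tr D hkK' (U a) (t1 a) := ⟨_, fun _ => rfl⟩
  have hcompat : IsCompatible (D.obj K').obj (fun a : ↥A₀ => U a) t2 := by
    intro a b
    show ((D.obj K').obj.map (homOfLE (inf_le_left : U a ⊓ U b ≤ U a)).op).hom (t2 a) =
      ((D.obj K').obj.map (homOfLE (inf_le_right : U a ⊓ U b ≤ U b)).op).hom (t2 b)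
    rw [ht2 a, ht2 b, tr_res, tr_res, ← tr_tr D (hkab a b) (hK' a b),
      ← tr_tr D (hkab a b) (hK' a b), hab a b]
  obtain ⟨g, hg, -⟩ := (D.obj K').existsUnique_gluing' (fun a : ↥A₀ => U a) (iSup U)
    (fun a => Opens.leSupr U a) hA₀ t2 hcompat
  -- the glued section restricts correctly on the finite subcover
  have hfin : ∀ b : ↥A₀, ((P D).map (homOfLE (le_iSup U b)).op).hom (incS D K' (iSup U) g) =
      sf b := by
    intro b
    rw [incS_res]
    have hgb : ((D.obj K').obj.map (homOfLE (le_iSup U b)).op).hom g = t2 b := hg b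
    rw [hgb, ht2 b, incS_tr]
    exact ht1 b
  have hglue : ∀ a : A, ((P D).map (homOfLE (le_iSup U a)).op).hom (incS D K' (iSup U) g) =
      sf a := by
    intro a
    apply sep D (fun b : ↥A₀ => U a ⊓ U b) (fun b => inf_le_left)
    · intro x hx
      have := hA₀ (le_iSup U a hx)
      rw [Opens.mem_iSup] at this ⊢
      obtain ⟨b, hb⟩ := this
      exact ⟨b, hx, hb⟩
    · intro b
      have e1 : ((P D).map (homOfLE (inf_le_left : U a ⊓ U b ≤ U a)).op).hom
          (((P D).map (homOfLE (le_iSup U a)).op).hom (incS D K' (iSup U) g)) =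
          ((P D).map (homOfLE (inf_le_right : U a ⊓ U b ≤ U b)).op).hom
          (((P D).map (homOfLE (le_iSup U b)).op).hom (incS D K' (iSup U) g)) := by
        rw [resP_resP, resP_resP]
      rw [e1, hfin b]
      exact (hsf a b).symm
  refine ⟨incS D K' (iSup U) g, hglue, ?_⟩
  intro y hy
  apply sep D U (fun a => le_iSup U a) le_rfl
  intro a
  rw [hglue a]
  exact hy a

end Noeth2

end Groth.Agent.H19.NoethColim
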