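import Mathlib
import Groth.Prelude.Def_CohTop
import Groth.Agent.H19.NoethColim

/-!
# Directed colimits of flasque abelian sheaves on a Noetherian space are flasque (H19)
-/

open CategoryTheory CategoryTheory.Limits TopologicalSpace Opposite

namespace Groth.Agent.H19.NoethColim

universe u

variable {X : TopCat.{u}} [NoetherianSpace X] {ι : Type u} [Preorder ι] [IsDirected ι (· ≤ ·)]
  [Nonempty ι] (D : ι ⥤ TopCat.Sheaf AddCommGrpCat.{u} X)

/-- The sheaf with underlying presheaf the presheaf colimit. -/
noncomputable def PSheaf : TopCat.Sheaf AddCommGrpCat.{u} X := ⟨P D, isSheaf_P D⟩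

/-- The cocone with point `PSheaf D`. -/
noncomputable def cocone : Cocone D where
  pt := PSheaf D
  ι :=
    { app := fun i => ⟨inc D i⟩
      naturality := fun i j f => by
        apply Sheaf.hom_ext
        have := colimit.w (Dp D) f
        simp only [Functor.const_obj_obj, Functor.const_obj_map, Category.comp_id]
        exact this }

/-- It is a colimit cocone. -/
noncomputable def isColimitCocone : IsColimit (cocone D) := by
  apply isColimitOfReflects (sheafToPresheaf _ _)
  exact IsColimit.ofIsoColimit (colimit.isColimit (Dp D))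
    (Cocone.ext (Iso.refl _) (fun i => by
      simp only [Functor.mapCocone_pt, Functor.mapCocone_ι_app, Iso.refl_hom, Category.comp_id]
      rfl))

theorem isFlasque_PSheaf (hD : ∀ i : ι, TopCat.Sheaf.IsFlasque (D.obj i)) :
    TopCat.Sheaf.IsFlasque (PSheaf D) := by
  constructor
  intro U V i
  rw [AddCommGrpCat.epi_iff_surjective]
  intro s
  obtain ⟨k, t, rfl⟩ := exists_rep D V.unop s
  have hk := hD k
  have hepi : Epi ((D.obj k).obj.map i) := inferInstance
  rw [AddCommGrpCat.epi_iff_surjective] at hepi
  obtain ⟨t', ht'⟩ := hepi t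
  refine ⟨incS D k U.unop t', ?_⟩
  have := (inc D k).naturality i
  have h2 := congrArg (fun φ => φ.hom t') this
  have h3 : ((P D).map i).hom (incS D k U.unop t') =
      incS D k V.unop (((D.obj k).obj.map i).hom t') := h2.symm
  rw [← ht']
  exact h3

theorem isFlasque_colimit (hD : ∀ i : ι, TopCat.Sheaf.IsFlasque (D.obj i)) :
    TopCat.Sheaf.IsFlasque (colimit D) := by
  have hP := isFlasque_PSheaf D hD
  let e : colimit D ≅ PSheaf D := colimit.isoColimitCocone ⟨cocone D, isColimitCocone D⟩
  constructor
  intro U V i
  have hnat : (colimit D).obj.map i = e.hom.hom.app U ≫ (PSheaf D).obj.map i ≫ e.inv.hom.app V := by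
    have h1 := e.hom.hom.naturality i
    rw [← Category.assoc, ← h1, Category.assoc]
    have h2 : e.hom.hom.app V ≫ e.inv.hom.app V = 𝟙 _ := by
      have h3 := congrArg (fun φ : colimit D ⟶ colimit D => φ.hom.app V) e.hom_inv_id
      exact h3
    rw [h2, Category.comp_id]
  rw [hnat]
  have : IsIso (e.hom.hom.app U) := by
    have : IsIso e.hom.hom := by
      have : IsIso ((sheafToPresheaf _ _).map e.hom) := inferInstance
      exact this
    infer_instance
  have : IsIso (e.inv.hom.app V) := by
    have : IsIso e.inv.hom := by
      have : IsIso ((sheafToPresheaf _ _).map e.inv) := inferInstance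
      exact this
    infer_instance
  have : Epi ((PSheaf D).obj.map i) := hP.epi i
  infer_instance

end Groth.Agent.H19.NoethColim
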