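import Mathlib
import Groth.Agent.H19.NoethAntichain

/-!
# Countable dense subsets of dense sets in Noetherian schemes (H19)
-/

namespace Groth.Agent.H19.NoethCountDense

open AlgebraicGeometry TopologicalSpace

universe u

/-- Strict generization is well-founded on a locally Noetherian scheme. -/
theorem wf_gen (S : Scheme.{u}) [IsLocallyNoetherian S] :
    WellFounded (fun a b : S => a ⤳ b ∧ a ≠ b) := by
  have hso : IsStrictOrder S (fun a b : S => a ⤳ b ∧ a ≠ b) :=
    { irrefl := fun a h => h.2 rfl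
      trans := fun a b c h1 h2 => ⟨h1.1.trans h2.1, fun hac => by
        subst hac
        exact h2.2 ((h2.1.antisymm h1.1).eq)⟩ }
  rw [RelEmbedding.wellFounded_iff_isEmpty]
  refine ⟨fun f => ?_⟩
  apply Groth.Agent.H19.NoethAntichain.no_gen_chain S f f.injective
  intro m n hmn
  exact (f.map_rel_iff.mpr hmn).1

theorem main (S : Scheme.{u}) [IsNoetherian S] (T : Set S) (hd : Dense T) :
    ∃ E : Set S, E ⊆ T ∧ E.Countable ∧ Dense E := by
  classical
  let Good : S → Prop := fun x => ∃ E : Set S, E ⊆ T ∧ E.Countable ∧ E ⊆ closure {x} ∧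
    closure {x} ⊆ closure E
  have hTG : ∀ t ∈ T, Good t := fun t ht =>
    ⟨{t}, by simpa using ht, Set.countable_singleton t, subset_closure, le_rfl⟩
  let M : Set S := {m | Good m ∧ ∀ y, Good y → y ⤳ m → y = m}
  have hdom : ∀ t ∈ T, ∃ m ∈ M, m ⤳ t := by
    intro t ht
    obtain ⟨m, ⟨hmG, hmt⟩, hmin⟩ := (wf_gen S).has_min {y | Good y ∧ y ⤳ t}
      ⟨t, hTG t ht, specializes_rfl⟩
    refine ⟨m, ⟨hmG, fun y hy hym => ?_⟩, hmt⟩
    by_contra hne
    exact hmin y ⟨hy, hym.trans hmt⟩ ⟨hym, hne⟩
  have hMfin : M.Finite := by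
    by_contra hinf
    have hinf : M.Infinite := hinf
    set e : ℕ → S := fun n => (hinf.natEmbedding M n : S) with he
    have heinj : Function.Injective e := fun a b hab =>
      (hinf.natEmbedding M).injective (Subtype.val_injective hab)
    have heM : ∀ n, e n ∈ M := fun n => (hinf.natEmbedding M n).2
    choose Ee hEe using fun n => (heM n).1
    set F : Set S := ⋃ n, Ee n with hF
    have hFc : F.Countable := Set.countable_iUnion fun n => (hEe n).2.1
    have hFT : F ⊆ T := Set.iUnion_subset fun n => (hEe n).1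
    have heF : ∀ n, e n ∈ closure F := fun n =>
      closure_mono (Set.subset_iUnion Ee n) ((hEe n).2.2.2 (subset_closure rfl))
    obtain ⟨Zs, hZfin, hZcl, hZirr, hZU⟩ :=
      NoetherianSpace.exists_finite_set_isClosed_irreducible (isClosed_closure (s := F))
    -- closure F is the union of the closures of the `F ∩ Z`
    have hcover : closure F ⊆ ⋃₀ ((fun Z => closure (F ∩ Z)) '' Zs) := by
      have h1 : F ⊆ ⋃₀ ((fun Z => closure (F ∩ Z)) '' Zs) := by
        intro x hx
        have hx' : x ∈ ⋃₀ Zs := hZU ▸ subset_closure hx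
        obtain ⟨Z, hZ, hxZ⟩ := hx'
        exact ⟨closure (F ∩ Z), ⟨Z, hZ, rfl⟩, subset_closure ⟨hx, hxZ⟩⟩
      refine closure_minimal h1 ?_
      rw [Set.sUnion_image]
      exact hZfin.isClosed_biUnion fun Z _ => isClosed_closure
    -- generic points
    have hgen : ∀ Z ∈ Zs, ∃ z : S, IsGenericPoint z Z := fun Z hZ =>
      QuasiSober.sober (hZirr Z hZ) (hZcl Z hZ)
    have : Nonempty S := ⟨e 0⟩
    choose! gp hgp using hgen
    have hsub : Set.range e ⊆ gp '' Zs := by
      rintro _ ⟨n, rfl⟩
      have hx' : e n ∈ ⋃₀ Zs := hZU ▸ heF n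
      obtain ⟨Z0, hZ0, hxZ0⟩ := hx'
      obtain ⟨Z, hZ0Z, hZmax⟩ := hZfin.exists_le_maximal hZ0
      have hZ : Z ∈ Zs := hZmax.prop
      have henZ : e n ∈ Z := hZ0Z hxZ0
      -- Z ⊆ closure (F ∩ Z)
      have hZsub : Z ⊆ closure (F ∩ Z) := by
        have hZF : Z ⊆ closure F := hZU ▸ Set.subset_sUnion_of_mem hZ
        obtain ⟨W, hW, hZW⟩ := isIrreducible_iff_sUnion_isClosed.mp (hZirr Z hZ)
          (hZfin.image (fun Z => closure (F ∩ Z))).toFinset
          (by
            intro W hW
            rw [Set.Finite.mem_toFinset] at hW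
            obtain ⟨Z', _, rfl⟩ := hW
            exact isClosed_closure)
          (by
            rw [Set.Finite.coe_toFinset]
            exact hZF.trans hcover)
        rw [Set.Finite.mem_toFinset] at hW
        obtain ⟨Z', hZ', rfl⟩ := hW
        have hZ'cl : closure (F ∩ Z') ⊆ Z' :=
          closure_minimal Set.inter_subset_right (hZcl Z' hZ')
        have hZZ' : Z ≤ Z' := hZW.trans hZ'cl
        have hZ'Z : Z' ≤ Z := hZmax.le_of_ge hZ' hZZ'
        have : Z' = Z := le_antisymm hZ'Z hZZ'
        rw [this] at hZW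
        exact hZW
      have hclz : closure {gp Z} = Z := (hgp Z hZ).def
      have hgood : Good (gp Z) := by
        refine ⟨F ∩ Z, Set.inter_subset_left.trans hFT, hFc.mono Set.inter_subset_left, ?_, ?_⟩
        · rw [hclz]; exact Set.inter_subset_right
        · rw [hclz]; exact hZsub
      have hspec : gp Z ⤳ e n := by
        rw [specializes_iff_mem_closure, hclz]
        exact henZ
      exact ⟨Z, hZ, (heM n).2 (gp Z) hgood hspec⟩
    exact (Set.infinite_range_of_injective heinj) ((hZfin.image gp).subset hsub)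
  -- now build `E`
  choose! Em hEm using fun m (hm : m ∈ M) => hm.1
  refine ⟨⋃ m ∈ M, Em m, ?_, ?_, ?_⟩
  · exact Set.iUnion₂_subset fun m hm => (hEm m hm).1
  · exact hMfin.countable.biUnion fun m hm => (hEm m hm).2.1
  · rw [dense_iff_closure_eq, Set.eq_univ_iff_forall]
    have hTsub : T ⊆ closure (⋃ m ∈ M, Em m) := by
      intro t ht
      obtain ⟨m, hm, hmt⟩ := hdom t ht
      have h1 : t ∈ closure {m} := specializes_iff_mem_closure.mp hmt
      have h2 : closure {m} ⊆ closure (Em m) := (hEm m hm).2.2.2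
      exact closure_mono (Set.subset_biUnion_of_mem hm) (h2 h1)
    intro x
    have := hd.closure_eq ▸ closure_minimal hTsub isClosed_closure
    exact this (Set.mem_univ x)

end Groth.Agent.H19.NoethCountDense
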