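import Mathlib
import Groth.Prelude.Def_ProEtS

/-!
# Small vs big pro-étale site: the unit is an isomorphism and restriction is exact (H19)
-/

set_option linter.unusedSectionVars false

namespace Groth.Agent.H19.ProEtBig

open CategoryTheory CategoryTheory.Limits AlgebraicGeometry Opposite

universe w w' v₁ v₂ u₁ u₂ u

section General

variable {C : Type u₁} [Category.{v₁} C] {D : Type u₂} [Category.{v₂} D]
  (J : GrothendieckTopology C) (K : GrothendieckTopology D) (G : C ⥤ D)
  [G.IsCocontinuous J K] [G.IsContinuous J K] [G.Full] [G.Faithful]
  (A : Type w) [Category.{w'} A]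
  [∀ F : Cᵒᵖ ⥤ A, G.op.HasPointwiseRightKanExtension F]
  [(G.sheafPushforwardContinuous A J K).IsRightAdjoint]

theorem unit_isIso : IsIso (G.sheafAdjunctionContinuous A J K).unit := by
  have hco : ∀ H : Sheaf J A,
      IsIso ((G.sheafAdjunctionCocontinuous A J K).counit.app H) := by
    intro H
    have h1 : IsIso ((sheafToPresheaf J A).map
        ((G.sheafAdjunctionCocontinuous A J K).counit.app H)) := by
      show IsIso ((G.sheafAdjunctionCocontinuous A J K).counit.app H).hom
      rw [Functor.sheafAdjunctionCocontinuous_counit_app_hom]
      exact Functor.instIsIsoAppCounitRanAdjunctionOfHasPointwiseRightKanExtension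
        (L := G.op) (H := A) H.obj
    exact isIso_of_fully_faithful (sheafToPresheaf J A) _
  have hco' : IsIso (G.sheafAdjunctionCocontinuous A J K).counit :=
    NatIso.isIso_of_isIso_app _
  let t : Adjunction.Triple (G.sheafPullback A J K)
      (G.sheafPushforwardContinuous A J K)
      (G.sheafPushforwardCocontinuous A J K) :=
    ⟨G.sheafAdjunctionContinuous A J K, G.sheafAdjunctionCocontinuous A J K⟩
  exact t.isIso_unit_iff_isIso_counit.mpr hco'

theorem preservesFiniteLimits_push :
    PreservesFiniteLimits (G.sheafPushforwardContinuous A J K) := by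
  have := (G.sheafAdjunctionContinuous A J K).rightAdjoint_preservesLimits
  infer_instance

theorem preservesFiniteColimits_push :
    PreservesFiniteColimits (G.sheafPushforwardContinuous A J K) := by
  have := (G.sheafAdjunctionCocontinuous A J K).leftAdjoint_preservesColimits
  infer_instance

end General

theorem isZero_rightDerived_of_exact {C : Type u₁} [Category.{v₁} C] {D : Type u₂}
    [Category.{v₂} D]
    [Abelian C] [Abelian D] [HasInjectiveResolutions C] (F : C ⥤ D) [F.Additive]
    [PreservesFiniteLimits F] [PreservesFiniteColimits F] (n : ℕ) (X : C) :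
    IsZero ((F.rightDerived (n + 1)).obj X) := by
  let I : InjectiveResolution X := injectiveResolution X
  refine IsZero.of_iso ?_ (I.isoRightDerivedObj F (n + 1))
  erw [← HomologicalComplex.exactAt_iff_isZero_homology]
  have h : I.cocomplex.ExactAt (n + 1) := I.cocomplex_exactAt_succ n
  exact ShortComplex.Exact.map h F

theorem isCocontinuous_forget (S : Scheme.{u}) :
    (Scheme.ProEt.forget S).IsCocontinuous (Scheme.ProEt.topology S)
      (Scheme.proetaleTopology.over S) := by
  have h : Scheme.ProEt.topology S =
      (Scheme.ProEt.forget S).restrictedTopology (Scheme.proetaleTopology.over S) :=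
    MorphismProperty.toGrothendieck_comap_forget_eq_restrictedTopology _
      Scheme.proetalePrecoverage_le_precoverage_weaklyEtale
  rw [h]
  infer_instance

theorem main (S : Scheme.{u})
    [((Scheme.ProEt.forget S).sheafPushforwardContinuous AddCommGrpCat.{u + 1}
      (Scheme.ProEt.topology S) (Scheme.proetaleTopology.over S)).Additive]
    [HasInjectiveResolutions (Sheaf (Scheme.proetaleTopology.over S) AddCommGrpCat.{u + 1})]
    (F : ProEtS.AbP S) :
    IsIso (((Scheme.ProEt.forget S).sheafAdjunctionContinuous AddCommGrpCat.{u + 1}
      (Scheme.ProEt.topology S) (Scheme.proetaleTopology.over S)).unit.app F) ∧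
    ∀ q : ℕ, 0 < q →
      IsZero ((((Scheme.ProEt.forget S).sheafPushforwardContinuous AddCommGrpCat.{u + 1}
        (Scheme.ProEt.topology S) (Scheme.proetaleTopology.over S)).rightDerived q).obj
        (((Scheme.ProEt.forget S).sheafPullback AddCommGrpCat.{u + 1} (Scheme.ProEt.topology S)
          (Scheme.proetaleTopology.over S)).obj F)) := by
  have hcoc := isCocontinuous_forget S
  constructor
  · have := unit_isIso (Scheme.ProEt.topology S) (Scheme.proetaleTopology.over S)
      (Scheme.ProEt.forget S) AddCommGrpCat.{u + 1}
    infer_instance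
  · intro q hq
    obtain ⟨n, rfl⟩ : ∃ n, q = n + 1 := ⟨q - 1, by omega⟩
    have h1 := preservesFiniteLimits_push (Scheme.ProEt.topology S)
      (Scheme.proetaleTopology.over S) (Scheme.ProEt.forget S) AddCommGrpCat.{u + 1}
    have h2 := preservesFiniteColimits_push (Scheme.ProEt.topology S)
      (Scheme.proetaleTopology.over S) (Scheme.ProEt.forget S) AddCommGrpCat.{u + 1}
    exact isZero_rightDerived_of_exact _ n _

end Groth.Agent.H19.ProEtBig
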