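import Mathlib
import Groth.Agent.H19.ProEtBig

/-!
# Extension by the empty set along an open subset (H19)
-/

namespace Groth.Agent.H19.OpenExtEmpty

open CategoryTheory CategoryTheory.Limits TopologicalSpace Opposite Topology

universe u

/-- The image functor of an open embedding is cocontinuous. -/
theorem isCocontinuous_functor {Y X : TopCat.{u}} {f : Y ⟶ X} (hf : IsOpenEmbedding f) :
    hf.isOpenMap.functor.IsCocontinuous (Opens.grothendieckTopology Y)
      (Opens.grothendieckTopology X) where
  cover_lift := by
    intro W S hS x hx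
    obtain ⟨V, i, hV, hxV⟩ := hS (f x) ⟨x, hx, rfl⟩
    refine ⟨(Opens.map f).obj V ⊓ W, homOfLE inf_le_right, ?_, ⟨hxV, hx⟩⟩
    have hle : hf.isOpenMap.functor.obj ((Opens.map f).obj V ⊓ W) ≤ V := by
      rintro _ ⟨y, ⟨hy, _⟩, rfl⟩
      exact hy
    have : hf.isOpenMap.functor.map (homOfLE inf_le_right :
        (Opens.map f).obj V ⊓ W ⟶ W) = homOfLE hle ≫ i := Subsingleton.elim _ _
    show S.arrows (hf.isOpenMap.functor.map _)
    rw [this]
    exact S.downward_closed hV _

/-- The subterminal sheaf represented by an open subset. -/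
theorem isSheaf_yoneda {X : TopCat.{u}} (U : Opens X) :
    Presheaf.IsSheaf (Opens.grothendieckTopology X) (yoneda.obj U) := by
  rw [isSheaf_iff_isSheaf_of_type]
  intro V S hS
  intro x hx
  have hVU : V ≤ U := by
    intro y hy
    obtain ⟨W, i, hW, hyW⟩ := hS y hy
    exact (x i hW).le hyW
  refine ⟨homOfLE hVU, ?_, ?_⟩
  · intro W i hi
    exact Subsingleton.elim (α := (W ⟶ U)) _ _
  · intro y _
    exact Subsingleton.elim (α := (V ⟶ U)) _ _


section General

universe w w' v₁ v₂ u₁ u₂

variable {C : Type u₁} [Category.{v₁} C] {D : Type u₂} [Category.{v₂} D]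
  (J : GrothendieckTopology C) (K : GrothendieckTopology D) (G : C ⥤ D)
  [G.IsCocontinuous J K] [G.IsContinuous J K] [G.Full] [G.Faithful]
  (A : Type w) [Category.{w'} A]
  [∀ F : Cᵒᵖ ⥤ A, G.op.HasPointwiseRightKanExtension F]

/-- For any left adjoint of restriction along a fully faithful continuous and cocontinuous
functor, the unit is an isomorphism. -/
theorem unit_isIso_of_adj {L : Sheaf J A ⥤ Sheaf K A}
    (adj : L ⊣ G.sheafPushforwardContinuous A J K) : IsIso adj.unit := by
  have hco : ∀ H : Sheaf J A,
      IsIso ((G.sheafAdjunctionCocontinuous A J K).counit.app H) := by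
    intro H
    have h1 : IsIso ((sheafToPresheaf J A).map
        ((G.sheafAdjunctionCocontinuous A J K).counit.app H)) := by
      show IsIso ((G.sheafAdjunctionCocontinuous A J K).counit.app H).hom
      rw [Functor.sheafAdjunctionCocontinuous_counit_app_hom]
      exact Functor.instIsIsoAppCounitRanAdjunctionOfHasPointwiseRightKanExtension
        (L := G.op) (H := A) H.obj
    exact isIso_of_fully_faithful (sheafToPresheaf J A) _
  have hco' : IsIso (G.sheafAdjunctionCocontinuous A J K).counit :=
    NatIso.isIso_of_isIso_app _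
  let t : Adjunction.Triple L
      (G.sheafPushforwardContinuous A J K)
      (G.sheafPushforwardCocontinuous A J K) :=
    ⟨adj, G.sheafAdjunctionCocontinuous A J K⟩
  exact t.isIso_unit_iff_isIso_counit.mpr hco'

end General

end Groth.Agent.H19.OpenExtEmpty
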