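import Mathlib
import Groth.Agent.H19.OpenExtEmpty

/-!
# Extension by the empty set along an open subset: fully faithful, essential image (H19)
-/

namespace Groth.Agent.H19.OpenExtEmpty

open CategoryTheory CategoryTheory.Limits TopologicalSpace Opposite Topology

universe u

theorem main {X : TopCat.{u}} (U : Opens X)
    (L : (TopCat.of U).Sheaf (Type u) ⥤ X.Sheaf (Type u)) (adj : L ⊣ U.sheafRestrict (C := Type u)) :
    L.Full ∧ L.Faithful ∧
    ∀ G : X.Sheaf (Type u), L.essImage G ↔ ∀ x : X, x ∉ U → IsEmpty (G.presheaf.stalk x) := by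
  have H : IsOpenEmbedding (TopCat.Hom.hom (TopCat.ofHom ⟨_, continuous_subtype_val⟩ :
      TopCat.of U ⟶ X)) := U.isOpenEmbedding
  have hcont := H.functor_isContinuous
  have hcoc := isCocontinuous_functor H
  have hmono : Mono (TopCat.ofHom ⟨_, continuous_subtype_val⟩ : TopCat.of U ⟶ X) :=
    (TopCat.mono_iff_injective _).mpr H.injective
  set G0 := H.isOpenMap.functor with hG0
  have hG0full : G0.Full := IsOpenMap.functorFullOfMono H.isOpenMap
  have hG0faith : G0.Faithful := IsOpenMap.functor_faithful H.isOpenMap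
  have hunit : IsIso adj.unit :=
    unit_isIso_of_adj (Opens.grothendieckTopology (TopCat.of U)) (Opens.grothendieckTopology X)
      G0 (Type u) adj
  have hff : L.FullyFaithful := adj.fullyFaithfulLOfIsIsoUnit
  have hfull : L.Full := hff.full
  have hfaith : L.Faithful := hff.faithful
  refine ⟨hfull, hfaith, ?_⟩
  -- images of opens of `U` are contained in `U`
  have hG0U : ∀ V' : Opens (TopCat.of U), G0.obj V' ≤ U := by
    rintro V' _ ⟨y, _, rfl⟩
    exact y.2
  -- every open contained in `U` is an image
  have hsurjU : ∀ V : Opens X, V ≤ U → ∃ V' : Opens (TopCat.of U), G0.obj V' = V := by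
    intro V hV
    refine ⟨(Opens.map (TopCat.ofHom ⟨_, continuous_subtype_val⟩ : TopCat.of U ⟶ X)).obj V, ?_⟩
    ext x
    constructor
    · rintro ⟨y, hy, rfl⟩
      exact hy
    · intro hx
      exact ⟨⟨x, hV hx⟩, hx, rfl⟩
  -- sections of `L F` over opens not contained in `U` are empty
  have hLempty : ∀ (F : (TopCat.of U).Sheaf (Type u)) (V : Opens X), ¬ V ≤ U →
      IsEmpty ((L.obj F).obj.obj (op V)) := by
    intro F V hV
    let HU : X.Sheaf (Type u) := ⟨yoneda.obj U, isSheaf_yoneda U⟩
    let ψ : F ⟶ (U.sheafRestrict (C := Type u)).obj HU :=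
      ⟨{ app := fun V' => ↾fun _ => homOfLE (hG0U V'.unop)
         naturality := fun V₁ V₂ i => by
          ext s
          exact Subsingleton.elim (α := (G0.obj V₂.unop ⟶ U)) _ _ }⟩
    let φ : L.obj F ⟶ HU := (adj.homEquiv F HU).symm ψ
    exact ⟨fun s => hV (φ.hom.app (op V) s).le⟩
  -- sections of a sheaf with empty stalks outside `U`
  have hGempty : ∀ (G : X.Sheaf (Type u)), (∀ x : X, x ∉ U → IsEmpty (G.presheaf.stalk x)) →
      ∀ V : Opens X, ¬ V ≤ U → IsEmpty (G.obj.obj (op V)) := by
    intro G hG V hV
    obtain ⟨x, hxV, hxU⟩ := Set.not_subset.mp hV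
    exact ⟨fun s => (hG x hxU).false (TopCat.Presheaf.germ G.presheaf V x hxV s)⟩
  intro G
  constructor
  · rintro ⟨F, ⟨e⟩⟩ x hx
    refine ⟨fun t => ?_⟩
    obtain ⟨V, hxV, s, rfl⟩ := TopCat.Presheaf.exists_germ_eq G.presheaf t
    have hV : ¬ V ≤ U := fun h => hx (h hxV)
    exact (hLempty F V hV).false (e.inv.hom.app (op V) s)
  · intro hG
    rw [← adj.isIso_counit_app_iff_mem_essImage]
    -- `R ε` is an isomorphism
    have hRε0 : IsIso ((U.sheafRestrict (C := Type u)).map (adj.counit.app G)) :=
      Adjunction.instIsIsoMapAppCounitOfFaithfulOfFull adj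
    set ε := adj.counit.app G with hε
    have hRε : IsIso ((U.sheafRestrict (C := Type u)).map ε) := hRε0
    have hRε' : IsIso ((sheafToPresheaf _ _).map ((U.sheafRestrict (C := Type u)).map ε)) :=
      inferInstance
    have hbij : ∀ V : Opens X, Function.Bijective (ε.hom.app (op V)) := by
      intro V
      by_cases hV : V ≤ U
      · obtain ⟨V', rfl⟩ := hsurjU V hV
        have h4 : IsIso (((sheafToPresheaf _ _).map
            ((U.sheafRestrict (C := Type u)).map ε)).app (op V')) := inferInstance
        exact (isIso_iff_bijective _).mp h4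
      · have h5 := hLempty ((U.sheafRestrict (C := Type u)).obj G) V hV
        have h6 := hGempty G hG V hV
        exact ⟨fun a => (h5.false a).elim, fun b => (h6.false b).elim⟩
    have h7 : IsIso ((sheafToPresheaf _ _).map ε) := by
      have h8 : ∀ V : (Opens X)ᵒᵖ, IsIso (((sheafToPresheaf _ _).map ε).app V) := by
        intro V
        induction V using Opposite.rec with
        | _ V => exact (isIso_iff_bijective _).mpr (hbij V)
      exact NatIso.isIso_of_isIso_app _
    exact isIso_of_fully_faithful (sheafToPresheaf _ _) _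

end Groth.Agent.H19.OpenExtEmpty
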