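import Mathlib.Topology.Algebra.Nonarchimedean.Basic
import Mathlib.Topology.Algebra.IsUniformGroup.Basic
import Mathlib.Topology.Algebra.OpenSubgroup
import Mathlib.Topology.GDelta.Basic
import Mathlib.Topology.Algebra.InfiniteSum.Nonarchimedean
import Mathlib.Topology.Algebra.Group.Pointwise

/-!
# Open mapping dichotomy for complete first countable nonarchimedean groups
-/

set_option linter.unusedSectionVars false

namespace Groth.Agent.H19.OpenMapDich

open Filter Topology Set

universe u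

variable {N M : Type u} [AddCommGroup N] [AddCommGroup M] [UniformSpace N] [IsUniformAddGroup N]
  [TopologicalSpace M] [IsTopologicalAddGroup M]

/-- closure of the image of an open subgroup, as a subgroup -/
noncomputable def clIm (u : N →+ M) (V : AddSubgroup N) : AddSubgroup M :=
  (V.map u).topologicalClosure

theorem coe_clIm (u : N →+ M) (V : AddSubgroup N) :
    (clIm u V : Set M) = closure (u '' (V : Set N)) := by
  unfold clIm
  rw [AddSubgroup.topologicalClosure_coe, AddSubgroup.coe_map]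

theorem isOpen_clIm (u : N →+ M) (V : AddSubgroup N)
    (h : ¬ IsNowhereDense (u '' (V : Set N))) : IsOpen (clIm u V : Set M) := by
  have hne : (interior (closure (u '' (V : Set N)))).Nonempty := by
    rw [Set.nonempty_iff_ne_empty]; exact h
  obtain ⟨x, hx⟩ := hne
  apply AddSubgroup.isOpen_of_mem_nhds (g := x)
  rw [coe_clIm]
  exact mem_interior_iff_mem_nhds.mp hx

/-- one approximation step -/
theorem step (u : N →+ M) (V' V'' : AddSubgroup N)
    (hopen : IsOpen (clIm u V'' : Set M)) (z : M) (hz : z ∈ closure (u '' (V' : Set N))) :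
    ∃ x ∈ V', z - u x ∈ closure (u '' (V'' : Set N)) := by
  have hnhds : {m : M | z - m ∈ (clIm u V'' : Set M)} ∈ 𝓝 z := by
    have hcont : Continuous fun m : M => z - m := continuous_const.sub continuous_id
    refine (hopen.preimage hcont).mem_nhds ?_
    simp only [Set.mem_preimage, sub_self]
    exact (clIm u V'').zero_mem
  obtain ⟨m, hm1, hm2⟩ := mem_closure_iff_nhds.mp hz _ hnhds
  obtain ⟨x, hx, rfl⟩ := hm2
  refine ⟨x, hx, ?_⟩
  rw [← coe_clIm]
  exact hm1

variable [T2Space M] [CompleteSpace N] [NonarchimedeanAddGroup N]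

/-- the successive approximation argument -/
theorem exists_preimage (u : N →+ M) (hu : Continuous u)
    (hnd : ∀ V : OpenAddSubgroup N, ¬ IsNowhereDense (u '' (V : Set N)))
    (V₀ : OpenAddSubgroup N) (V : ℕ → OpenAddSubgroup N)
    (hV : ∀ S ∈ 𝓝 (0 : N), ∃ n₀, ∀ n, n₀ ≤ n → (V n : Set N) ⊆ S)
    (y : M) (hy : y ∈ closure (u '' ((V₀ ⊓ V 0 : OpenAddSubgroup N) : Set N))) :
    ∃ x ∈ V₀, u x = y := by
  classical
  set W : ℕ → OpenAddSubgroup N := fun k => V₀ ⊓ V k with hW
  have hstep : ∀ k (z : M), z ∈ closure (u '' (W k : Set N)) →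
      ∃ x ∈ W k, z - u x ∈ closure (u '' (W (k + 1) : Set N)) := by
    intro k z hz
    exact step u (W k).toAddSubgroup (W (k + 1)).toAddSubgroup
      (isOpen_clIm u _ (hnd (W (k + 1)))) z hz
  -- the recursive sequence
  let Y : (k : ℕ) → {z : M // z ∈ closure (u '' (W k : Set N))} := fun k =>
    Nat.rec (motive := fun k => {z : M // z ∈ closure (u '' (W k : Set N))}) ⟨y, hy⟩
      (fun k p => ⟨p.1 - u (Classical.choose (hstep k p.1 p.2)),
        (Classical.choose_spec (hstep k p.1 p.2)).2⟩) k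
  let x : ℕ → N := fun k => Classical.choose (hstep k (Y k).1 (Y k).2)
  have hxW : ∀ k, x k ∈ W k := fun k => (Classical.choose_spec (hstep k (Y k).1 (Y k).2)).1
  have hY0 : (Y 0).1 = y := rfl
  have hYsucc : ∀ k, (Y (k + 1)).1 = (Y k).1 - u (x k) := fun k => rfl
  set s : ℕ → N := fun k => ∑ i ∈ Finset.range k, x i with hs
  have hYs : ∀ k, (Y k).1 = y - u (s k) := by
    intro k
    induction k with
    | zero => simp [hs, hY0]
    | succ k ih =>
      rw [hYsucc, ih, hs]
      simp only [Finset.sum_range_succ, map_add]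
      abel
  have hxtend : Tendsto x atTop (𝓝 0) := by
    rw [tendsto_def]
    intro S hS
    obtain ⟨n₀, hn₀⟩ := hV S hS
    rw [mem_atTop_sets]
    refine ⟨n₀, fun k hk => ?_⟩
    exact hn₀ k hk (hxW k).2
  have hcauchy : CauchySeq s := by
    apply NonarchimedeanAddGroup.cauchySeq_of_tendsto_sub_nhds_zero
    have : (fun n => s (n + 1) - s n) = x := by
      funext n
      simp [hs, Finset.sum_range_succ]
    rw [this]
    exact hxtend
  obtain ⟨xlim, hxlim⟩ := cauchySeq_tendsto_of_complete hcauchy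
  have hsV₀ : ∀ k, s k ∈ V₀ := by
    intro k
    exact AddSubgroup.sum_mem _ fun i _ => (hxW i).1
  have hxV₀ : xlim ∈ V₀ := by
    have hclosed : IsClosed (V₀ : Set N) := V₀.isClosed
    exact hclosed.mem_of_tendsto hxlim (Eventually.of_forall hsV₀)
  refine ⟨xlim, hxV₀, ?_⟩
  -- the limit
  have hlim : Tendsto (fun k => (Y k).1) atTop (𝓝 (y - u xlim)) := by
    have : (fun k => (Y k).1) = fun k => y - u (s k) := funext hYs
    rw [this]
    exact tendsto_const_nhds.sub ((hu.tendsto xlim).comp hxlim)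
  by_contra hne
  have hz : y - u xlim ≠ 0 := fun h => hne (sub_eq_zero.mp h).symm
  have hcompl : ({y - u xlim}ᶜ : Set M) ∈ 𝓝 (0 : M) :=
    isOpen_compl_singleton.mem_nhds (by simpa using hz.symm)
  obtain ⟨F, ⟨hF0, hFcl⟩, hFsub⟩ := (closed_nhds_basis (0 : M)).mem_iff.mp hcompl
  have hpre : u ⁻¹' F ∈ 𝓝 (0 : N) := by
    apply hu.continuousAt.preimage_mem_nhds
    rw [map_zero]; exact hF0
  obtain ⟨n₀, hn₀⟩ := hV _ hpre
  have hev : ∀ᶠ k in atTop, (Y k).1 ∈ F := by
    rw [eventually_atTop]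
    refine ⟨n₀, fun k hk => ?_⟩
    have h1 : u '' (W k : Set N) ⊆ F := by
      rintro _ ⟨w, hw, rfl⟩
      exact hn₀ k hk hw.2
    exact closure_minimal h1 hFcl (Y k).2
  have := hFcl.mem_of_tendsto hlim hev
  exact hFsub this rfl

variable [FirstCountableTopology N]

theorem isOpenMap_of_not_nowhereDense (u : N →+ M) (hu : Continuous u)
    (hnd : ∀ V : OpenAddSubgroup N, ¬ IsNowhereDense (u '' (V : Set N))) : IsOpenMap u := by
  classical
  obtain ⟨B, hB⟩ := (𝓝 (0 : N)).exists_antitone_basis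
  have hBV : ∀ n, ∃ V : OpenAddSubgroup N, (V : Set N) ⊆ B n := fun n =>
    NonarchimedeanAddGroup.is_nonarchimedean _ (hB.mem n)
  choose V hVB using hBV
  have hV : ∀ S ∈ 𝓝 (0 : N), ∃ n₀, ∀ n, n₀ ≤ n → (V n : Set N) ⊆ S := by
    intro S hS
    obtain ⟨n₀, -, hn₀⟩ := hB.toHasBasis.mem_iff.mp hS
    exact ⟨n₀, fun n hn => (hVB n).trans ((hB.antitone hn).trans hn₀)⟩
  -- images of open subgroups are open
  have himage : ∀ V₀ : OpenAddSubgroup N, IsOpen (u '' (V₀ : Set N)) := by
    intro V₀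
    have hcl : closure (u '' (V₀ : Set N)) ⊆ u '' (V₀ : Set N) := by
      intro y hy
      obtain ⟨x', hx', hy'⟩ := step u V₀.toAddSubgroup (V₀ ⊓ V 0 : OpenAddSubgroup N).toAddSubgroup
        (isOpen_clIm u _ (hnd (V₀ ⊓ V 0))) y hy
      obtain ⟨x'', hx'', hux''⟩ := exists_preimage u hu hnd V₀ V hV (y - u x') hy'
      refine ⟨x' + x'', V₀.add_mem hx' hx'', ?_⟩
      rw [map_add, hux'']; abel
    have heq : u '' (V₀ : Set N) = (clIm u V₀.toAddSubgroup : Set M) := by
      rw [coe_clIm]
      exact Set.Subset.antisymm subset_closure hcl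
    rw [heq]
    exact isOpen_clIm u _ (hnd V₀)
  rw [isOpenMap_iff_nhds_le]
  intro a S hS
  rw [Filter.mem_map] at hS
  have h0 : (fun z => a + z) ⁻¹' (u ⁻¹' S) ∈ 𝓝 (0 : N) := by
    have hcont : Continuous fun z : N => a + z := continuous_const.add continuous_id
    apply hcont.continuousAt.preimage_mem_nhds
    simpa using hS
  obtain ⟨V₀, hV₀⟩ := NonarchimedeanAddGroup.is_nonarchimedean _ h0
  have hsub : (fun m => u a + m) '' (u '' (V₀ : Set N)) ⊆ S := by
    rintro _ ⟨_, ⟨v, hv, rfl⟩, rfl⟩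
    have := hV₀ hv
    simpa using this
  refine Filter.mem_of_superset ?_ hsub
  have hopen : IsOpen ((fun m => u a + m) '' (u '' (V₀ : Set N))) :=
    (Homeomorph.addLeft (u a)).isOpenMap _ (himage V₀)
  refine hopen.mem_nhds ⟨0, ⟨0, V₀.zero_mem, map_zero u⟩, by simp⟩

include N in
theorem main (u : N →+ M) (hu : Continuous u) :
    Xor (IsOpenMap u) (∃ V : OpenAddSubgroup N, IsNowhereDense (u '' (V : Set N))) := by
  by_cases hb : ∃ V : OpenAddSubgroup N, IsNowhereDense (u '' (V : Set N))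
  · refine Or.inr ⟨hb, fun hopen => ?_⟩
    obtain ⟨V, hV⟩ := hb
    have h1 : IsOpen (u '' (V : Set N)) := hopen _ V.isOpen
    have h2 : u '' (V : Set N) ⊆ interior (closure (u '' (V : Set N))) :=
      interior_maximal subset_closure h1
    have h3 : (0 : M) ∈ u '' (V : Set N) := ⟨0, V.zero_mem, map_zero u⟩
    have h4 : interior (closure (u '' (V : Set N))) = ∅ := hV
    have := h2 h3
    rw [h4] at this
    exact this
  · refine Or.inl ⟨isOpenMap_of_not_nowhereDense u hu fun V hV => hb ⟨V, hV⟩, hb⟩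

end Groth.Agent.H19.OpenMapDich
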