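import Groth.Prelude.Def_FSch5
import Groth.Agent.H87.ThickAffF
import Mathlib.CategoryTheory.Limits.Types.Limits
import Mathlib.CategoryTheory.Sites.Limits
import Mathlib.Algebra.Category.Ring.Limits

/-!
# Sections of the structure sheaf of a formal system; surjectivity of the projections

Helper library (helper19).
-/

set_option autoImplicit false
universe u
open CategoryTheory CategoryTheory.Limits Opposite AlgebraicGeometry TopologicalSpace

namespace Groth.Agent.H19.OshSurj

/-- In a tower of types with surjective successor maps, every element extends to a section. -/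
lemma exists_section_of_surjective (F : ℕᵒᵖ ⥤ Type u)
    (hs : ∀ n, Function.Surjective (F.map (homOfLE (Nat.le_succ n)).op)) (i : ℕ)
    (y : F.obj (op i)) : ∃ s ∈ F.sections, s (op i) = y := by
  classical
  let w : ∀ k, F.obj (op (i + k)) := fun k =>
    Nat.rec (motive := fun k => F.obj (op (i + k))) y
      (fun k wk => (hs (i + k) wk).choose) k
  have hw0 : w 0 = y := rfl
  have hw : ∀ k, F.map (homOfLE (Nat.le_succ (i + k))).op (w (k + 1)) = w k := fun k =>
    (hs (i + k) (w k)).choose_spec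
  have key : ∀ k l (hkl : k ≤ l),
      F.map (homOfLE (Nat.add_le_add_left hkl i)).op (w l) = w k := by
    intro k l hkl
    induction l, hkl using Nat.le_induction with
    | base =>
      have : (homOfLE (Nat.add_le_add_left (le_refl k) i)).op = 𝟙 (op (i + k)) :=
        Subsingleton.elim _ _
      rw [this, F.map_id]
      rfl
    | succ l hkl ih =>
      have : (homOfLE (Nat.add_le_add_left (Nat.le_succ_of_le hkl) i)).op =
          (homOfLE (Nat.le_succ (i + l))).op ≫ (homOfLE (Nat.add_le_add_left hkl i)).op :=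
        Subsingleton.elim _ _
      rw [this, F.map_comp]
      show F.map _ (F.map _ (w (l + 1))) = w k
      rw [hw l, ih]
  refine ⟨fun n => F.map (homOfLE (Nat.le_add_left n.unop i)).op (w n.unop), ?_, ?_⟩
  · intro m n g
    have hnm : n.unop ≤ m.unop := leOfHom g.unop
    show F.map g (F.map _ (w m.unop)) = F.map _ (w n.unop)
    rw [← key n.unop m.unop hnm]
    rw [← Functor.map_comp_apply, ← Functor.map_comp_apply]
    congr 1
  · show F.map _ (w i) = y
    have := key 0 i (Nat.zero_le i)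
    rw [hw0] at this
    rw [← this]

/-- For a surjective closed immersion `t : X ⟶ X'`, an open of `X'` whose preimage is an affine
open of `X` is an affine open. (Restated from helper87's `ThickAffG`.) -/
theorem isAffineOpen_of_preimage {X X' : Scheme.{u}} (t : X ⟶ X') [IsClosedImmersion t]
    [Surjective t] (V' : X'.Opens) (h : IsAffineOpen (t ⁻¹ᵁ V')) : IsAffineOpen V' := by
  have h1 : IsAffine (t ⁻¹ᵁ V').toScheme := h
  have h2 : Surjective (t ∣_ V') :=
    IsZariskiLocalAtTarget.restrict (P := @Surjective) ‹Surjective t› V'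
  exact Groth.Agent.H87.ThickAff.isAffine_of_thickening (t ∣_ V') h2.surj

lemma appLE_surjective_of_eq {X Y : Scheme.{u}} (f : X ⟶ Y) [IsClosedImmersion f] (V : Y.Opens)
    (hV : IsAffineOpen V) (W : X.Opens) (e : W ≤ f ⁻¹ᵁ V) (he : f ⁻¹ᵁ V = W) :
    Function.Surjective (f.appLE V W e) := by
  subst he
  rw [← Scheme.Hom.app_eq_appLE]
  exact f.app_surjective V hV

variable (𝔛 : FSch.Sys.{u}) (h : 𝔛.IsFormal)

lemma toX_preimage_lvU (n : ℕ) (U : (𝔛.X 0).Opens) : (𝔛.toX n) ⁻¹ᵁ (𝔛.lvU h n U) = U := by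
  change (Opens.map ((𝔛.toX n).base ≫ 𝔛.gInv h n)).obj U = U
  rw [FSch.Sys.toX_base_gInv]
  rfl

lemma isAffineOpen_lvU (n : ℕ) (U : (𝔛.X 0).Opens) (hU : IsAffineOpen U) :
    IsAffineOpen (𝔛.lvU h n U) := by
  have := FSch.Sys.toX_isClosedImmersion 𝔛 h n
  have : Surjective (𝔛.toX n) := ⟨FSch.Sys.toX_surjective 𝔛 h n⟩
  refine isAffineOpen_of_preimage (𝔛.toX n) _ ?_
  rw [toX_preimage_lvU]
  exact hU

lemma levelMap_app_surjective (n : ℕ) (U : (𝔛.X 0).Opens) (hU : IsAffineOpen U) :
    Function.Surjective ((𝔛.levelMap h n).hom.app (op U)) := by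
  have := (h n).1
  rw [FSch.Sys.levelMap_app]
  exact appLE_surjective_of_eq (𝔛.ι n) _ (isAffineOpen_lvU 𝔛 h (n + 1) U hU) _ _
    (𝔛.lvU_succ h n U)

/-- The functor of sections over `U`, to types. -/
noncomputable abbrev secFunctor (U : (𝔛.X 0).Opens) :
    Sheaf (Opens.grothendieckTopology (𝔛.X 0)) CommRingCat.{u} ⥤ Type u :=
  sheafToPresheaf _ _ ⋙ (evaluation _ _).obj (op U) ⋙ forget CommRingCat.{u}

/-- Sections of `O_𝔛` over `U` are the compatible families of sections of the levels. -/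
noncomputable def sectionsEquiv (U : (𝔛.X 0).Opens) :
    ((𝔛.Osh h).obj.obj (op U) : Type u) ≃ (𝔛.levelRing h ⋙ secFunctor 𝔛 U).sections :=
  Types.isLimitEquivSections
    (isLimitOfPreserves (secFunctor 𝔛 U) (limit.isLimit (𝔛.levelRing h)))

lemma sectionsEquiv_apply (U : (𝔛.X 0).Opens) (x : ((𝔛.Osh h).obj.obj (op U) : Type u)) (n : ℕ) :
    (sectionsEquiv 𝔛 h U x).1 (op n) = (𝔛.OshProj h n).hom.app (op U) x := rfl

lemma sectionsEquiv_symm_apply (U : (𝔛.X 0).Opens)
    (s : (𝔛.levelRing h ⋙ secFunctor 𝔛 U).sections) (n : ℕ) :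
    (𝔛.OshProj h n).hom.app (op U) ((sectionsEquiv 𝔛 h U).symm s) = s.1 (op n) :=
  Types.isLimitEquivSections_symm_apply
    (isLimitOfPreserves (secFunctor 𝔛 U) (limit.isLimit (𝔛.levelRing h))) s (op n)

theorem main (i : ℕ) (U : (𝔛.X 0).Opens) (hU : IsAffineOpen U) :
    Function.Surjective ((𝔛.OshProj h i).hom.app (op U)) := by
  intro y
  obtain ⟨s, hs, hsi⟩ := exists_section_of_surjective (𝔛.levelRing h ⋙ secFunctor 𝔛 U)
    (fun n => by
      have h1 : (𝔛.levelRing h).map (homOfLE (Nat.le_succ n)).op = 𝔛.levelMap h n :=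
        𝔛.levelRing_map_succ h n
      show Function.Surjective ((secFunctor 𝔛 U).map ((𝔛.levelRing h).map _))
      rw [h1]
      exact levelMap_app_surjective 𝔛 h n U hU) i y
  refine ⟨(sectionsEquiv 𝔛 h U).symm ⟨s, hs⟩, ?_⟩
  rw [sectionsEquiv_symm_apply]
  exact hsi

end Groth.Agent.H19.OshSurj
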