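import Groth.Agent.H19.PPGen
import Mathlib.Algebra.Category.Ring.Constructions

set_option autoImplicit false

namespace Groth.Agent.H19

open scoped TensorProduct
open CategoryTheory CategoryTheory.Limits

universe u

section quotient

variable {R R' : Type u} [CommRing R] [CommRing R']

/-- Quotients by an ideal and by its extension form a pushout square of rings. -/
theorem isPushout_quotient (φ : R →+* R') (J : Ideal R) (J' : Ideal R') (hJ : J.map φ = J')
    (ψ : R ⧸ J →+* R' ⧸ J')
    (hψ : ∀ x : R, ψ (Ideal.Quotient.mk J x) = Ideal.Quotient.mk J' (φ x)) :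
    IsPushout (CommRingCat.ofHom (Ideal.Quotient.mk J)) (CommRingCat.ofHom φ)
      (CommRingCat.ofHom ψ) (CommRingCat.ofHom (Ideal.Quotient.mk J')) := by
  have w : CommRingCat.ofHom (Ideal.Quotient.mk J) ≫ CommRingCat.ofHom ψ =
      CommRingCat.ofHom φ ≫ CommRingCat.ofHom (Ideal.Quotient.mk J') := by
    ext x
    exact hψ x
  refine ⟨⟨w⟩, ⟨PushoutCocone.IsColimit.mk w
    (fun s => CommRingCat.ofHom (Ideal.Quotient.lift J' s.inr.hom ?_)) ?_ ?_ ?_⟩⟩
  · intro x hx
    rw [← hJ] at hx
    refine Submodule.span_induction ?_ ?_ ?_ ?_ hx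
    · rintro _ ⟨j, hj, rfl⟩
      have h1 := congrArg (fun f => f.hom j) s.condition
      simp only [CommRingCat.hom_comp, CommRingCat.hom_ofHom, RingHom.comp_apply] at h1
      rw [← h1, Ideal.Quotient.eq_zero_iff_mem.mpr hj, map_zero]
    · exact map_zero _
    · intro x y _ _ hx hy
      rw [map_add, hx, hy, add_zero]
    · intro a x _ hx
      rw [smul_eq_mul, map_mul, hx, mul_zero]
  · intro s
    ext r
    have h1 := congrArg (fun f => f.hom r) s.condition
    simp only [CommRingCat.hom_comp, CommRingCat.hom_ofHom, RingHom.comp_apply] at h1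
    simp only [CommRingCat.hom_comp, CommRingCat.hom_ofHom, RingHom.comp_apply]
    rw [hψ, Ideal.Quotient.lift_mk, h1]
  · intro s
    ext x
    simp
  · intro s m _ hm
    ext r
    have h1 := congrArg (fun f => f.hom r) hm
    simp only [CommRingCat.hom_comp, CommRingCat.hom_ofHom, RingHom.comp_apply] at h1
    simp only [CommRingCat.hom_comp, CommRingCat.hom_ofHom, RingHom.comp_apply]
    rw [Ideal.Quotient.lift_mk, h1]

end quotient

section main

variable (n : ℕ) (A B A' B' : Type u) [CommRing A] [CommRing B] [Algebra A B]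
  [CommRing A'] [CommRing B'] [Algebra A' B'] [Algebra A A'] [Algebra B B'] [Algebra A B']
  [IsScalarTower A A' B'] [IsScalarTower A B B']

attribute [local instance] PP16.mapAlgebra PP16.isScalarTower_mapAlgebra

theorem isPushout_principalParts [Algebra.IsPushout A B A' B'] :
    Algebra.IsPushout B (PP16.P n A B) B' (PP16.P n A' B') := by
  -- ring homs
  let incL : B →+* B ⊗[A] B := Algebra.TensorProduct.includeLeftRingHom
  let incR : B →+* B ⊗[A] B := (Algebra.TensorProduct.includeRight : B →ₐ[A] B ⊗[A] B).toRingHom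
  let incL' : B' →+* B' ⊗[A'] B' := Algebra.TensorProduct.includeLeftRingHom
  let incR' : B' →+* B' ⊗[A'] B' :=
    (Algebra.TensorProduct.includeRight : B' →ₐ[A'] B' ⊗[A'] B').toRingHom
  let τ : B ⊗[A] B →+* B' ⊗[A'] B' := (PP16.tensorMap A B A' B').toRingHom
  have S1 := CommRingCat.isPushout_of_isPushout A B A' B'
  have S2 := (CommRingCat.isPushout_tensorProduct A' B' B').flip
  have S12 := S1.paste_vert S2
  have S3 := (CommRingCat.isPushout_tensorProduct A B B).flip
  have e1 : CommRingCat.ofHom (algebraMap A A') ≫ CommRingCat.ofHom (algebraMap A' B') =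
      CommRingCat.ofHom (algebraMap A B) ≫ CommRingCat.ofHom (algebraMap B B') := by
    ext a
    simp only [CommRingCat.hom_comp, CommRingCat.hom_ofHom, RingHom.comp_apply]
    rw [← IsScalarTower.algebraMap_apply, ← IsScalarTower.algebraMap_apply]
  have e2 : CommRingCat.ofHom (algebraMap B B') ≫ CommRingCat.ofHom incR' =
      CommRingCat.ofHom incR ≫ CommRingCat.ofHom τ := by
    ext b
    simp only [CommRingCat.hom_comp, CommRingCat.hom_ofHom, RingHom.comp_apply]
    change (1 : B') ⊗ₜ[A'] (algebraMap B B' b) = PP16.tensorMap A B A' B' ((1 : B) ⊗ₜ[A] b)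
    rw [PP16.tensorMap_tmul, map_one]
  have e3 : CommRingCat.ofHom incL ≫ CommRingCat.ofHom τ =
      CommRingCat.ofHom (algebraMap B B') ≫ CommRingCat.ofHom incL' := by
    ext b
    simp only [CommRingCat.hom_comp, CommRingCat.hom_ofHom, RingHom.comp_apply]
    change PP16.tensorMap A B A' B' (b ⊗ₜ[A] (1 : B)) = (algebraMap B B' b) ⊗ₜ[A'] (1 : B')
    rw [PP16.tensorMap_tmul, map_one]
  rw [e1, e2] at S12
  have S4 : IsPushout (CommRingCat.ofHom incL) (CommRingCat.ofHom (algebraMap B B'))
      (CommRingCat.ofHom τ) (CommRingCat.ofHom incL') := IsPushout.of_top S12 e3 S3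
  have hJ : (KaehlerDifferential.ideal A B ^ (n + 1)).map τ =
      KaehlerDifferential.ideal A' B' ^ (n + 1) := by
    rw [Ideal.map_pow]
    congr 1
    exact ideal_map_tensorMap_of_isPushout A B A' B'
  have S5 := isPushout_quotient τ _ _ hJ (PP16.map n A B A' B').toRingHom
    (fun x => PP16.map_mk n A B A' B' x)
  have S6 := S4.paste_horiz S5
  exact CommRingCat.isPushout_iff_isPushout.mp S6

end main

end Groth.Agent.H19
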