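import Groth.Prelude.Def_PP16
import Mathlib.LinearAlgebra.TensorProduct.RightExactness

set_option autoImplicit false

namespace Groth.Agent.H19

open scoped TensorProduct

universe u

section general

variable {R R' : Type*} [CommRing R] [CommRing R']

/-- A surjective ring map `φ : R → R'` carrying `I` onto `I'` induces a surjection
`R/I^m → R'/I'^m` whose kernel is the image of `ker φ`. -/
theorem quotPow_surjective_ker (φ : R →+* R') (hφ : Function.Surjective φ) (I : Ideal R)
    (I' : Ideal R') (hI : I.map φ = I') (m : ℕ) (ψ : R ⧸ I ^ m →+* R' ⧸ I' ^ m)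
    (hψ : ∀ x : R, ψ (Ideal.Quotient.mk _ x) = Ideal.Quotient.mk _ (φ x)) :
    Function.Surjective ψ ∧ RingHom.ker ψ = (RingHom.ker φ).map (Ideal.Quotient.mk (I ^ m)) := by
  constructor
  · intro y
    obtain ⟨y', rfl⟩ := Ideal.Quotient.mk_surjective y
    obtain ⟨x, rfl⟩ := hφ y'
    exact ⟨Ideal.Quotient.mk _ x, hψ x⟩
  · apply le_antisymm
    · intro x hx
      obtain ⟨x', rfl⟩ := Ideal.Quotient.mk_surjective x
      rw [RingHom.mem_ker, hψ, Ideal.Quotient.eq_zero_iff_mem, ← hI, ← Ideal.map_pow,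
        Ideal.mem_map_iff_of_surjective φ hφ] at hx
      obtain ⟨z, hz, hzx⟩ := hx
      have h1 : Ideal.Quotient.mk (I ^ m) x' = Ideal.Quotient.mk (I ^ m) (x' - z) := by
        rw [map_sub, Ideal.Quotient.eq_zero_iff_mem.mpr hz, sub_zero]
      rw [h1]
      apply Ideal.mem_map_of_mem
      rw [RingHom.mem_ker, map_sub, hzx, sub_self]
    · rw [Ideal.map_le_iff_le_comap]
      intro x hx
      rw [Ideal.mem_comap, RingHom.mem_ker, hψ, RingHom.mem_ker.mp hx, map_zero]

end general

section surj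

variable (A B A' B' : Type u) [CommRing A] [CommRing B] [Algebra A B]
  [CommRing A'] [CommRing B'] [Algebra A' B'] [Algebra A A'] [Algebra B B'] [Algebra A B']
  [IsScalarTower A A' B'] [IsScalarTower A B B']

/-- If `B → B'` is surjective, the diagonal ideal of `B'/A'` is the image of that of `B/A`. -/
theorem ideal_map_tensorMap_of_surjective (h : Function.Surjective (algebraMap B B')) :
    (KaehlerDifferential.ideal A B).map (PP16.tensorMap A B A' B') =
      KaehlerDifferential.ideal A' B' := by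
  apply le_antisymm (PP16.ideal_map_tensorMap_le A B A' B')
  rw [← KaehlerDifferential.span_range_eq_ideal A' B', Ideal.span_le]
  rintro _ ⟨b', rfl⟩
  obtain ⟨b, rfl⟩ := h b'
  have : (1 : B') ⊗ₜ[A'] algebraMap B B' b - algebraMap B B' b ⊗ₜ[A'] (1 : B') =
      PP16.tensorMap A B A' B' ((1 : B) ⊗ₜ[A] b - b ⊗ₜ[A] (1 : B)) := by
    rw [map_sub, PP16.tensorMap_tmul, PP16.tensorMap_tmul, map_one]
  change (1 : B') ⊗ₜ[A'] algebraMap B B' b - algebraMap B B' b ⊗ₜ[A'] (1 : B') ∈ _
  rw [this]
  exact Ideal.mem_map_of_mem _ (KaehlerDifferential.one_smul_sub_smul_one_mem_ideal A b)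

end surj

end Groth.Agent.H19
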