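import Groth.Prelude.Def_PP16
import Groth.Agent.H19.DiffOpLin

set_option autoImplicit false

namespace Groth.Agent.H19

open scoped TensorProduct

universe u

section

variable (n : ℕ) (A B : Type u) [CommRing A] [CommRing B] [Algebra A B]
  (M N : Type u) [AddCommGroup M] [Module A M] [Module B M] [IsScalarTower A B M]
  [AddCommGroup N] [Module A N] [Module B N] [IsScalarTower A B N]

/-- The class of `y` in `P^n`, seen in the synonym `Pr`. -/
noncomputable def prMk : B ⊗[A] B →+ PP16.Pr n A B :=
  (Ideal.Quotient.mk (KaehlerDifferential.ideal A B ^ (n + 1))).toAddMonoidHom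

theorem prMk_surjective : Function.Surjective (prMk n A B) :=
  Ideal.Quotient.mk_surjective

theorem prMk_eq_zero {y : B ⊗[A] B} (hy : y ∈ KaehlerDifferential.ideal A B ^ (n + 1)) :
    prMk n A B y = 0 :=
  Ideal.Quotient.eq_zero_iff_mem.mpr hy

omit [Module A M] [IsScalarTower A B M] in
theorem prMk_tmul_eq (b c : B) (m : M) :
    prMk n A B (b ⊗ₜ[A] c) ⊗ₜ[B] m =
      algebraMap B (PP16.P n A B) b • PP16.dM n A B M (c • m) := by
  have h0 : PP16.dM n A B M (c • m) = (c • (1 : PP16.Pr n A B)) ⊗ₜ[B] m := by
    change (1 : PP16.Pr n A B) ⊗ₜ[B] (c • m) = _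
    rw [TensorProduct.smul_tmul]
  rw [h0, TensorProduct.smul_tmul']
  congr 1
  change Ideal.Quotient.mk (KaehlerDifferential.ideal A B ^ (n + 1)) (b ⊗ₜ[A] c) =
    Ideal.Quotient.mk (KaehlerDifferential.ideal A B ^ (n + 1)) (b ⊗ₜ[A] (1 : B)) *
      (Ideal.Quotient.mk (KaehlerDifferential.ideal A B ^ (n + 1)) ((1 : B) ⊗ₜ[A] c) * 1)
  rw [mul_one, ← map_mul, Algebra.TensorProduct.tmul_mul_tmul, mul_one, one_mul]

/-- any `u` with the two properties has prescribed values -/
theorem u_apply_prMk (D : M →ₗ[A] N) (u : PP16.PM n A B M →+ N)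
    (h1 : ∀ (b : B) (t : PP16.PM n A B M), u (algebraMap B (PP16.P n A B) b • t) = b • u t)
    (h2 : ∀ m : M, u (PP16.dM n A B M m) = D m) (y : B ⊗[A] B) (m : M) :
    u (prMk n A B y ⊗ₜ[B] m) = Diff16.linearize A B B N (atElem A B M N D m) y := by
  induction y using TensorProduct.induction_on with
  | zero => rw [map_zero, TensorProduct.zero_tmul, map_zero, map_zero]
  | tmul b c => rw [prMk_tmul_eq, h1, h2, linearize_tmul, atElem_apply]
  | add x y hx hy => rw [map_add, TensorProduct.add_tmul, map_add, hx, hy, map_add]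

/-- the bilinear map `(b ⊗ c, m) ↦ b • D (c • m)` -/
noncomputable def bigLin (D : M →ₗ[A] N) : B ⊗[A] B →ₗ[A] M →ₗ[A] N :=
  TensorProduct.lift
    (LinearMap.mk₂ A
      (fun b c => ((LinearMap.lsmul B N b).restrictScalars A) ∘ₗ D ∘ₗ
        ((LinearMap.lsmul B M c).restrictScalars A))
      (fun b b' c => by ext m; simp)
      (fun a b c => by ext m; simp)
      (fun b c c' => by ext m; simp)
      (fun a b c => by ext m; simp))

theorem bigLin_apply (D : M →ₗ[A] N) (y : B ⊗[A] B) (m : M) :
    bigLin A B M N D y m = Diff16.linearize A B B N (atElem A B M N D m) y := by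
  induction y using TensorProduct.induction_on with
  | zero => simp
  | tmul b c => simp [bigLin]
  | add x y hx hy => rw [map_add, map_add, LinearMap.add_apply, hx, hy]

theorem linearize_atElem_mul (D : M →ₗ[A] N) (b : B) (y : B ⊗[A] B) (m : M) :
    Diff16.linearize A B B N (atElem A B M N D m) (((1 : B) ⊗ₜ[A] b) * y) =
      Diff16.linearize A B B N (atElem A B M N D (b • m)) y := by
  induction y using TensorProduct.induction_on with
  | zero => simp
  | tmul c c' =>
    rw [Algebra.TensorProduct.tmul_mul_tmul, linearize_tmul, linearize_tmul, atElem_apply,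
      atElem_apply, one_mul, mul_smul, smul_comm b c' m]
  | add x y hx hy => rw [mul_add, map_add, map_add, hx, hy]

theorem principalParts_diffOp (D : M →ₗ[A] N) :
    Diff16.IsDiffOpLE A B M N n D ↔
      ∃! u : PP16.PM n A B M →+ N,
        (∀ (b : B) (t : PP16.PM n A B M), u (algebraMap B (PP16.P n A B) b • t) = b • u t) ∧
          ∀ m : M, u (PP16.dM n A B M m) = D m := by
  constructor
  · intro hD
    have hvan : ∀ m : M, VanishesOnPow A B N (n + 1) (atElem A B M N D m) := fun m =>
      (isDiffOpLE_iff_vanishesOnPow A B N n _).mp ((isDiffOpLE_iff_forall_atElem A B M N n D).mp hD m)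
    -- the map on the quotient
    have hG : ((KaehlerDifferential.ideal A B ^ (n + 1)).restrictScalars A) ≤
        LinearMap.ker (bigLin A B M N D) := by
      intro y hy
      rw [LinearMap.mem_ker]
      ext m
      rw [bigLin_apply]
      exact hvan m y hy
    let Gq : PP16.P n A B →ₗ[A] M →ₗ[A] N :=
      (((KaehlerDifferential.ideal A B ^ (n + 1)).restrictScalars A).liftQ (bigLin A B M N D) hG) ∘ₗ
        (Submodule.Quotient.restrictScalarsEquiv A
          (KaehlerDifferential.ideal A B ^ (n + 1))).symm.toLinearMap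
    have hGq : ∀ (y : B ⊗[A] B) (m : M), Gq (Ideal.Quotient.mk _ y) m =
        Diff16.linearize A B B N (atElem A B M N D m) y := by
      intro y m
      rw [← bigLin_apply]
      rfl
    let f : PP16.Pr n A B →+ M →+ N :=
      LinearMap.toAddMonoidHom'.comp
        (show PP16.Pr n A B →+ (M →ₗ[A] N) from Gq.toAddMonoidHom)
    have hfmk : ∀ (y : B ⊗[A] B) (m : M), f (prMk n A B y) m =
        Diff16.linearize A B B N (atElem A B M N D m) y := hGq
    have hf : ∀ (b : B) (x : PP16.Pr n A B) (m : M), f (b • x) m = f x (b • m) := by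
      intro b x m
      obtain ⟨y, rfl⟩ := prMk_surjective n A B x
      have h1 : b • prMk n A B y = prMk n A B (((1 : B) ⊗ₜ[A] b) * y) := by
        change Ideal.Quotient.mk (KaehlerDifferential.ideal A B ^ (n + 1)) ((1 : B) ⊗ₜ[A] b) *
          Ideal.Quotient.mk (KaehlerDifferential.ideal A B ^ (n + 1)) y =
            Ideal.Quotient.mk (KaehlerDifferential.ideal A B ^ (n + 1)) (((1 : B) ⊗ₜ[A] b) * y)
        rw [map_mul]
      rw [h1, hfmk, hfmk, linearize_atElem_mul]
    let u : PP16.PM n A B M →+ N := TensorProduct.liftAddHom f hf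
    have hu : ∀ (y : B ⊗[A] B) (m : M), u (prMk n A B y ⊗ₜ[B] m) =
        Diff16.linearize A B B N (atElem A B M N D m) y := fun y m => hfmk y m
    have hu1 : ∀ (b : B) (t : PP16.PM n A B M),
        u (algebraMap B (PP16.P n A B) b • t) = b • u t := by
      intro b t
      induction t using TensorProduct.induction_on with
      | zero => simp
      | tmul x m =>
        obtain ⟨y, rfl⟩ := prMk_surjective n A B x
        have h1 : algebraMap B (PP16.P n A B) b • (prMk n A B y ⊗ₜ[B] m) =
            prMk n A B ((b ⊗ₜ[A] (1 : B)) * y) ⊗ₜ[B] m := by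
          rw [TensorProduct.smul_tmul']
          congr 1
        rw [h1, hu, hu]
        clear h1
        induction y using TensorProduct.induction_on with
        | zero => simp
        | tmul c c' =>
          rw [Algebra.TensorProduct.tmul_mul_tmul, linearize_tmul, linearize_tmul, one_mul, mul_smul]
        | add y z hy hz => rw [mul_add, map_add, map_add, hy, hz, smul_add]
      | add s t hs ht => rw [smul_add, map_add, map_add, hs, ht, smul_add]
    have hu2 : ∀ m : M, u (PP16.dM n A B M m) = D m := by
      intro m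
      have h1 : PP16.dM n A B M m = prMk n A B ((1 : B) ⊗ₜ[A] (1 : B)) ⊗ₜ[B] m := rfl
      rw [h1, hu, linearize_tmul, atElem_apply, one_smul, one_smul]
    refine ⟨u, ⟨hu1, hu2⟩, ?_⟩
    rintro u' ⟨hu1', hu2'⟩
    apply AddMonoidHom.ext
    intro t
    induction t using TensorProduct.induction_on with
    | zero => simp
    | tmul x m =>
      obtain ⟨y, rfl⟩ := prMk_surjective n A B x
      rw [u_apply_prMk n A B M N D u' hu1' hu2', hu]
    | add s t hs ht => rw [map_add, map_add, hs, ht]
  · rintro ⟨u, ⟨hu1, hu2⟩, -⟩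
    rw [isDiffOpLE_iff_forall_atElem]
    intro m
    rw [isDiffOpLE_iff_vanishesOnPow]
    intro y hy
    rw [← u_apply_prMk n A B M N D u hu1 hu2, prMk_eq_zero n A B hy, TensorProduct.zero_tmul,
      map_zero]

end

end Groth.Agent.H19
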