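import Groth.Prelude.Def_PP16
import Mathlib.RingTheory.Finiteness.NilpotentKer
import Mathlib.RingTheory.Finiteness.ModuleFinitePresentation
import Mathlib.RingTheory.FinitePresentation
import Mathlib.RingTheory.FiniteStability
import Mathlib.RingTheory.Kaehler.Basic

universe u
open scoped TensorProduct

namespace Groth.Agent.H19.PPFinPres

variable (n : ℕ) (A B : Type u) [CommRing A] [CommRing B] [Algebra A B]

/-- The augmentation `P^n_{B/A} → B` as a map of `B`-algebras. -/
noncomputable def aug : PP16.P n A B →ₐ[B] B :=
  Ideal.Quotient.liftₐ ((KaehlerDifferential.ideal A B) ^ (n + 1))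
    (Algebra.TensorProduct.lmul'' A) (fun x hx => by
      have h1 : x ∈ KaehlerDifferential.ideal A B := Ideal.pow_le_self (Nat.succ_ne_zero n) hx
      exact h1)

lemma aug_surjective : Function.Surjective (aug n A B) := fun b =>
  ⟨algebraMap B (PP16.P n A B) b, by rw [AlgHom.commutes]; rfl⟩

lemma ker_aug : RingHom.ker (aug n A B) =
    (KaehlerDifferential.ideal A B).map
      (Ideal.Quotient.mk ((KaehlerDifferential.ideal A B) ^ (n + 1))) := by
  have := Ideal.ker_quotient_lift (I := (KaehlerDifferential.ideal A B) ^ (n + 1))
    (Algebra.TensorProduct.lmul'' A : B ⊗[A] B →ₐ[B] B).toRingHom (fun x hx => by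
      have h1 : x ∈ KaehlerDifferential.ideal A B := Ideal.pow_le_self (Nat.succ_ne_zero n) hx
      exact h1)
  exact this

theorem finite [Algebra.FiniteType A B] : Module.Finite B (PP16.P n A B) := by
  have hfg : (KaehlerDifferential.ideal A B).FG := KaehlerDifferential.ideal_fg A B
  refine Module.finite_of_surjective_of_ker_le_nilradical (aug n A B) (aug_surjective n A B) ?_ ?_
  · rw [ker_aug]
    intro x hx
    refine ⟨n + 1, ?_⟩
    have h1 : x ^ (n + 1) ∈ ((KaehlerDifferential.ideal A B).map
      (Ideal.Quotient.mk ((KaehlerDifferential.ideal A B) ^ (n + 1)))) ^ (n + 1) :=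
      Ideal.pow_mem_pow hx _
    rw [← Ideal.map_pow, Ideal.map_quotient_self] at h1
    exact h1
  · rw [ker_aug]
    exact hfg.map _

theorem finitePresentation [Algebra.FinitePresentation A B] :
    Module.FinitePresentation B (PP16.P n A B) := by
  have hfg : (KaehlerDifferential.ideal A B).FG := KaehlerDifferential.ideal_fg A B
  have h1 : Algebra.FinitePresentation B (B ⊗[A] B) := inferInstance
  have h2 : Algebra.FinitePresentation B (PP16.P n A B) :=
    Algebra.FinitePresentation.quotient (hfg.pow (n := n + 1))
  have h3 : Module.Finite B (PP16.P n A B) := finite n A B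
  exact Module.FinitePresentation.of_finite_of_finitePresentation B (PP16.P n A B)

end Groth.Agent.H19.PPFinPres
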