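import Groth.Agent.H19.PPBasic
import Mathlib.RingTheory.IsTensorProduct

set_option autoImplicit false

namespace Groth.Agent.H19

open scoped TensorProduct

universe u

section gen

variable (A B : Type u) [CommRing A] [CommRing B] [Algebra A B]

/-- the two `A`-algebra maps `B → (B ⊗ B)/J` -/
noncomputable def quotRight (J : Ideal (B ⊗[A] B)) : B →ₐ[A] (B ⊗[A] B) ⧸ J :=
  (Ideal.Quotient.mkₐ A J).comp Algebra.TensorProduct.includeRight

noncomputable def quotLeft (J : Ideal (B ⊗[A] B)) : B →ₐ[A] (B ⊗[A] B) ⧸ J :=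
  (Ideal.Quotient.mkₐ A J).comp (Algebra.TensorProduct.includeLeft (S := A))

theorem quotRight_eq_quotLeft_iff (J : Ideal (B ⊗[A] B)) (x : B) :
    quotRight A B J x = quotLeft A B J x ↔ (1 : B) ⊗ₜ[A] x - x ⊗ₜ[A] (1 : B) ∈ J := by
  change Ideal.Quotient.mk J ((1 : B) ⊗ₜ[A] x) = Ideal.Quotient.mk J (x ⊗ₜ[A] (1 : B)) ↔ _
  rw [Ideal.Quotient.eq]

theorem ideal_le_of_forall (J : Ideal (B ⊗[A] B))
    (h : ∀ x : B, (1 : B) ⊗ₜ[A] x - x ⊗ₜ[A] (1 : B) ∈ J) : KaehlerDifferential.ideal A B ≤ J := by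
  rw [← KaehlerDifferential.span_range_eq_ideal, Ideal.span_le]
  rintro _ ⟨x, rfl⟩
  exact h x

/-- The diagonal ideal is contained in `J` as soon as `J` contains `1 ⊗ x - x ⊗ 1` for `x` in a
generating set. -/
theorem ideal_le_of_adjoin (s : Set B) (hs : Algebra.adjoin A s = ⊤) (J : Ideal (B ⊗[A] B))
    (h : ∀ x ∈ s, (1 : B) ⊗ₜ[A] x - x ⊗ₜ[A] (1 : B) ∈ J) : KaehlerDifferential.ideal A B ≤ J := by
  have key : quotRight A B J = quotLeft A B J :=
    AlgHom.ext_of_adjoin_eq_top hs (fun x hx => (quotRight_eq_quotLeft_iff A B J x).mpr (h x hx))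
  exact ideal_le_of_forall A B J
    (fun x => (quotRight_eq_quotLeft_iff A B J x).mp (AlgHom.congr_fun key x))

theorem ideal_eq_span_of_adjoin (s : Set B) (hs : Algebra.adjoin A s = ⊤) :
    KaehlerDifferential.ideal A B =
      Ideal.span ((fun x : B => (1 : B) ⊗ₜ[A] x - x ⊗ₜ[A] (1 : B)) '' s) := by
  apply le_antisymm
  · exact ideal_le_of_adjoin A B s hs _ (fun x hx => Ideal.subset_span ⟨x, hx, rfl⟩)
  · rw [Ideal.span_le]
    rintro _ ⟨x, _, rfl⟩
    exact KaehlerDifferential.one_smul_sub_smul_one_mem_ideal A x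

end gen

section pushout

variable (A B A' B' : Type u) [CommRing A] [CommRing B] [Algebra A B]
  [CommRing A'] [CommRing B'] [Algebra A' B'] [Algebra A A'] [Algebra B B'] [Algebra A B']
  [IsScalarTower A A' B'] [IsScalarTower A B B']

/-- For a base change `B' = B ⊗_A A'`, the diagonal ideal of `B'/A'` is generated by the image of
that of `B/A`. -/
theorem ideal_map_tensorMap_of_isPushout [Algebra.IsPushout A B A' B'] :
    (KaehlerDifferential.ideal A B).map (PP16.tensorMap A B A' B') =
      KaehlerDifferential.ideal A' B' := by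
  apply le_antisymm (PP16.ideal_map_tensorMap_le A B A' B')
  set J := (KaehlerDifferential.ideal A B).map (PP16.tensorMap A B A' B') with hJ
  have key : (quotRight A' B' J).restrictScalars A = (quotLeft A' B' J).restrictScalars A := by
    apply Algebra.IsPushout.algHom_ext (R := A) (S := B) (R' := A') (S' := B')
    · ext a'
      change quotRight A' B' J (algebraMap A' B' a') = quotLeft A' B' J (algebraMap A' B' a')
      rw [AlgHom.commutes, AlgHom.commutes]
    · ext b
      change quotRight A' B' J (algebraMap B B' b) = quotLeft A' B' J (algebraMap B B' b)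
      rw [quotRight_eq_quotLeft_iff]
      have : (1 : B') ⊗ₜ[A'] algebraMap B B' b - algebraMap B B' b ⊗ₜ[A'] (1 : B') =
          PP16.tensorMap A B A' B' ((1 : B) ⊗ₜ[A] b - b ⊗ₜ[A] (1 : B)) := by
        rw [map_sub, PP16.tensorMap_tmul, PP16.tensorMap_tmul, map_one]
      rw [this]
      exact Ideal.mem_map_of_mem _ (KaehlerDifferential.one_smul_sub_smul_one_mem_ideal A b)
  exact ideal_le_of_forall A' B' J
    (fun x => (quotRight_eq_quotLeft_iff A' B' J x).mp (AlgHom.congr_fun key x))

end pushout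

end Groth.Agent.H19
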