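import Groth.Agent.H19.PPGen
import Mathlib.RingTheory.Localization.Basic
import Mathlib.RingTheory.Nilpotent.Basic

set_option autoImplicit false

namespace Groth.Agent.H19

open scoped TensorProduct

universe u

section loc

variable (A B B' : Type u) [CommRing A] [CommRing B] [Algebra A B]
  [CommRing B'] [Algebra B B'] [Algebra A B'] [IsScalarTower A B B']
  (S : Submonoid B) [IsLocalization S B']

include S in
/-- For a localization `B' = S⁻¹B`, the diagonal ideal of `B'/A` is generated by the image of that
of `B/A`. -/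
theorem ideal_map_tensorMap_of_isLocalization :
    (KaehlerDifferential.ideal A B).map (PP16.tensorMap A B A B') =
      KaehlerDifferential.ideal A B' := by
  apply le_antisymm (PP16.ideal_map_tensorMap_le A B A B')
  set J := (KaehlerDifferential.ideal A B).map (PP16.tensorMap A B A B') with hJ
  have key : quotRight A B' J = quotLeft A B' J := by
    apply AlgHom.coe_ringHom_injective
    apply IsLocalization.ringHom_ext S
    ext b
    change quotRight A B' J (algebraMap B B' b) = quotLeft A B' J (algebraMap B B' b)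
    rw [quotRight_eq_quotLeft_iff]
    have : (1 : B') ⊗ₜ[A] algebraMap B B' b - algebraMap B B' b ⊗ₜ[A] (1 : B') =
        PP16.tensorMap A B A B' ((1 : B) ⊗ₜ[A] b - b ⊗ₜ[A] (1 : B)) := by
      rw [map_sub, PP16.tensorMap_tmul, PP16.tensorMap_tmul, map_one]
    rw [this]
    exact Ideal.mem_map_of_mem _ (KaehlerDifferential.one_smul_sub_smul_one_mem_ideal A b)
  exact ideal_le_of_forall A B' J
    (fun x => (quotRight_eq_quotLeft_iff A B' J x).mp (AlgHom.congr_fun key x))

end loc

section main

variable (n : ℕ) (A B B' : Type u) [CommRing A] [CommRing B] [Algebra A B]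
  [CommRing B'] [Algebra B B'] [Algebra A B'] [IsScalarTower A B B']
  (S : Submonoid B) [IsLocalization S B']

/-- `d^n b - b` is nilpotent in `P^n`. -/
theorem dn_sub_algebraMap_pow (b : B) :
    (PP16.dn n A B b - algebraMap B (PP16.P n A B) b) ^ (n + 1) = 0 := by
  change (Ideal.Quotient.mk _ ((1 : B) ⊗ₜ[A] b) - Ideal.Quotient.mk _ (b ⊗ₜ[A] (1 : B))) ^ (n + 1) = 0
  rw [← map_sub, ← map_pow, Ideal.Quotient.eq_zero_iff_mem]
  exact Ideal.pow_mem_pow (KaehlerDifferential.one_smul_sub_smul_one_mem_ideal A b) _

theorem mk_tmul_eq (b c : B) :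
    (Ideal.Quotient.mk (KaehlerDifferential.ideal A B ^ (n + 1)) (b ⊗ₜ[A] c) : PP16.P n A B) =
      algebraMap B (PP16.P n A B) b * PP16.dn n A B c := by
  change _ = Ideal.Quotient.mk _ (b ⊗ₜ[A] (1 : B)) * Ideal.Quotient.mk _ ((1 : B) ⊗ₜ[A] c)
  rw [← map_mul, Algebra.TensorProduct.tmul_mul_tmul, mul_one, one_mul]

attribute [local instance] PP16.mapAlgebra PP16.isScalarTower_mapAlgebra

/-- the submonoid of `P^n_{B/A}` -/
noncomputable abbrev locM : Submonoid (PP16.P n A B) := S.map (algebraMap B (PP16.P n A B))

variable (L : Type u) [CommRing L] [Algebra (PP16.P n A B) L] [Algebra A L]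
  [IsScalarTower A (PP16.P n A B) L] [IsLocalization (locM n A B S) L]

/-- first-factor map `B' → S⁻¹P` -/
noncomputable def ell1 : B' →ₐ[A] L :=
  IsLocalization.liftAlgHom (M := S)
    (f := (IsScalarTower.toAlgHom A (PP16.P n A B) (L)).comp
      (IsScalarTower.toAlgHom A B (PP16.P n A B)))
    (fun y => IsLocalization.map_units (L)
      (⟨algebraMap B (PP16.P n A B) y, Submonoid.mem_map_of_mem _ y.2⟩ : locM n A B S))

theorem ell1_algebraMap (b : B) :
    ell1 n A B B' S L (algebraMap B B' b) =
      algebraMap (PP16.P n A B) (L) (algebraMap B (PP16.P n A B) b) := by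
  rw [ell1, IsLocalization.liftAlgHom_apply, IsLocalization.lift_eq]
  rfl

/-- second-factor map `B' → S⁻¹P` -/
noncomputable def ell2 : B' →ₐ[A] L :=
  IsLocalization.liftAlgHom (M := S)
    (f := (IsScalarTower.toAlgHom A (PP16.P n A B) (L)).comp
      (PP16.dn n A B))
    (fun y => by
      have h1 : IsUnit (algebraMap (PP16.P n A B) (L)
          (algebraMap B (PP16.P n A B) y)) :=
        IsLocalization.map_units (L)
          (⟨algebraMap B (PP16.P n A B) y, Submonoid.mem_map_of_mem _ y.2⟩ : locM n A B S)
      have h2 : IsNilpotent (algebraMap (PP16.P n A B) (L)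
          (PP16.dn n A B y - algebraMap B (PP16.P n A B) y)) :=
        ⟨n + 1, by rw [← map_pow, dn_sub_algebraMap_pow, map_zero]⟩
      have h3 := h2.isUnit_add_left_of_commute h1 (Commute.all _ _)
      rw [← map_add, add_sub_cancel] at h3
      exact h3)

theorem ell2_algebraMap (b : B) :
    ell2 n A B B' S L (algebraMap B B' b) =
      algebraMap (PP16.P n A B) (L) (PP16.dn n A B b) := by
  rw [ell2, IsLocalization.liftAlgHom_apply, IsLocalization.lift_eq]
  rfl

/-- `B' ⊗ B' → S⁻¹P` -/
noncomputable def tauL : B' ⊗[A] B' →ₐ[A] L :=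
  Algebra.TensorProduct.lift (ell1 n A B B' S L) (ell2 n A B B' S L) (fun _ _ => Commute.all _ _)

theorem tauL_tmul (b c : B') :
    tauL n A B B' S L (b ⊗ₜ[A] c) = ell1 n A B B' S L b * ell2 n A B B' S L c := by
  simp [tauL, Algebra.TensorProduct.lift_tmul]

theorem tauL_tensorMap (y : B ⊗[A] B) :
    tauL n A B B' S L (PP16.tensorMap A B A B' y) =
      algebraMap (PP16.P n A B) (L) (Ideal.Quotient.mk _ y) := by
  induction y using TensorProduct.induction_on with
  | zero => simp
  | tmul b c =>
    rw [PP16.tensorMap_tmul, tauL_tmul, ell1_algebraMap, ell2_algebraMap, ← map_mul, mk_tmul_eq]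
  | add x y hx hy => rw [map_add, map_add, hx, hy, map_add, map_add]

include S in
theorem tauL_eq_zero (x : B' ⊗[A] B') (hx : x ∈ KaehlerDifferential.ideal A B' ^ (n + 1)) :
    tauL n A B B' S L x = 0 := by
  rw [← ideal_map_tensorMap_of_isLocalization A B B' S, ← Ideal.map_pow] at hx
  have hle : (KaehlerDifferential.ideal A B ^ (n + 1)).map (PP16.tensorMap A B A B') ≤
      RingHom.ker (tauL n A B B' S L) := by
    rw [Ideal.map_le_iff_le_comap]
    intro y hy
    rw [Ideal.mem_comap, RingHom.mem_ker]
    rw [tauL_tensorMap, Ideal.Quotient.eq_zero_iff_mem.mpr hy, map_zero]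
  exact hle hx

/-- `P^n_{B'/A} → S⁻¹P^n_{B/A}` -/
noncomputable def toL : PP16.P n A B' →ₐ[A] L :=
  Ideal.Quotient.liftₐ (KaehlerDifferential.ideal A B' ^ (n + 1)) (tauL n A B B' S L)
    (fun x hx => tauL_eq_zero n A B B' S L x hx)

theorem toL_mk (x : B' ⊗[A] B') :
    toL n A B B' S L (Ideal.Quotient.mk _ x) = tauL n A B B' S L x := rfl

theorem toL_algebraMap (x : PP16.P n A B) :
    toL n A B B' S L (algebraMap (PP16.P n A B) (PP16.P n A B') x) =
      algebraMap (PP16.P n A B) (L) x := by
  obtain ⟨y, rfl⟩ := Ideal.Quotient.mk_surjective x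
  change toL n A B B' S L (PP16.map n A B A B' (Ideal.Quotient.mk _ y)) = _
  rw [PP16.map_mk, toL_mk, tauL_tensorMap]

/-- `S⁻¹P^n_{B/A} → P^n_{B'/A}` -/
noncomputable def fromL : L →+* PP16.P n A B' :=
  IsLocalization.lift (M := locM n A B S) (g := algebraMap (PP16.P n A B) (PP16.P n A B'))
    (fun y => by
      obtain ⟨_, s, hs, rfl⟩ := y
      change IsUnit (PP16.map n A B A B' (algebraMap B (PP16.P n A B) s))
      rw [PP16.map_algebraMap]
      exact (IsLocalization.map_units B' (⟨s, hs⟩ : S)).map _)

theorem fromL_algebraMap (x : PP16.P n A B) :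
    fromL n A B B' S L (algebraMap _ _ x) = algebraMap (PP16.P n A B) (PP16.P n A B') x := by
  rw [fromL, IsLocalization.lift_eq]

theorem fromL_ell1 (b : B') :
    fromL n A B B' S L (ell1 n A B B' S L b) = algebraMap B' (PP16.P n A B') b := by
  have : (fromL n A B B' S L).comp (ell1 n A B B' S L : B' →+* _) = algebraMap B' (PP16.P n A B') := by
    apply IsLocalization.ringHom_ext S
    ext b
    change fromL n A B B' S L (ell1 n A B B' S L (algebraMap B B' b)) = _
    rw [ell1_algebraMap, fromL_algebraMap]
    exact PP16.map_algebraMap n A B A B' b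
  exact RingHom.congr_fun this b

theorem fromL_ell2 (b : B') :
    fromL n A B B' S L (ell2 n A B B' S L b) = PP16.dn n A B' b := by
  have : (fromL n A B B' S L).comp (ell2 n A B B' S L : B' →+* _) = (PP16.dn n A B' : B' →+* _) := by
    apply IsLocalization.ringHom_ext S
    ext b
    change fromL n A B B' S L (ell2 n A B B' S L (algebraMap B B' b)) = PP16.dn n A B' (algebraMap B B' b)
    rw [ell2_algebraMap, fromL_algebraMap]
    exact PP16.map_dn n A B A B' b
  exact RingHom.congr_fun this b

theorem fromL_toL (z : PP16.P n A B') : fromL n A B B' S L (toL n A B B' S L z) = z := by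
  obtain ⟨w, rfl⟩ := Ideal.Quotient.mk_surjective z
  rw [toL_mk]
  induction w using TensorProduct.induction_on with
  | zero => simp
  | tmul b c => rw [tauL_tmul, map_mul, fromL_ell1, fromL_ell2, mk_tmul_eq]
  | add x y hx hy => rw [map_add, map_add, hx, hy, map_add]

theorem toL_fromL (z : L) :
    toL n A B B' S L (fromL n A B B' S L z) = z := by
  have : ((toL n A B B' S L : _ →+* _)).comp (fromL n A B B' S L) = RingHom.id _ := by
    apply IsLocalization.ringHom_ext (locM n A B S)
    refine RingHom.ext fun x => ?_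
    change toL n A B B' S L (fromL n A B B' S L (algebraMap (PP16.P n A B) L x)) =
      algebraMap (PP16.P n A B) L x
    rw [fromL_algebraMap, toL_algebraMap]
  exact RingHom.congr_fun this z

/-- the `P`-algebra equivalence -/
noncomputable def locEquiv : L ≃ₐ[PP16.P n A B] PP16.P n A B' :=
  { toFun := fromL n A B B' S L
    invFun := toL n A B B' S L
    left_inv := toL_fromL n A B B' S L
    right_inv := fromL_toL n A B B' S L
    map_mul' := map_mul _
    map_add' := map_add _
    commutes' := fromL_algebraMap n A B B' S L }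

omit [IsLocalization (locM n A B S) L] [IsScalarTower A (PP16.P n A B) L] [Algebra A L]
  [Algebra (PP16.P n A B) L] [CommRing L] in
theorem isLocalization_principalParts :
    IsLocalization (S.map (algebraMap B (PP16.P n A B))) (PP16.P n A B') :=
  IsLocalization.isLocalization_of_algEquiv (S := Localization (locM n A B S)) (locM n A B S)
    (locEquiv n A B B' S (Localization (locM n A B S)))

end main

end Groth.Agent.H19
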