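import Groth.Agent.H19.PPGen
import Mathlib.RingTheory.TensorProduct.MvPolynomial

set_option autoImplicit false

namespace Groth.Agent.H19

open scoped TensorProduct

universe u

section shift

variable {σ : Type u} (R : Type u) [CommRing R] (c : σ → R)

/-- the automorphism `X_i ↦ X_i + c_i` of a polynomial ring -/
noncomputable def shiftEquiv : MvPolynomial σ R ≃ₐ[R] MvPolynomial σ R :=
  AlgEquiv.ofAlgHom (MvPolynomial.aeval (fun i => MvPolynomial.X i + MvPolynomial.C (c i)))
    (MvPolynomial.aeval (fun i => MvPolynomial.X i - MvPolynomial.C (c i)))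
    (by ext i; simp) (by ext i; simp)

@[simp]
theorem shiftEquiv_X (i : σ) :
    shiftEquiv R c (MvPolynomial.X i) = MvPolynomial.X i + MvPolynomial.C (c i) := by
  simp [shiftEquiv]

@[simp]
theorem shiftEquiv_C (r : R) : shiftEquiv R c (MvPolynomial.C r) = MvPolynomial.C r := by
  simp [shiftEquiv]

end shift

section poly

variable (n : ℕ) (A : Type u) [CommRing A] (σ : Type u)

/-- `B ⊗_A B ≃ B[U]`, `1 ⊗ T_i ↦ T_i + U_i` for `B = A[T]`. -/
noncomputable def polyTensorEquiv :
    (MvPolynomial σ A) ⊗[A] (MvPolynomial σ A) ≃ₐ[MvPolynomial σ A]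
      MvPolynomial σ (MvPolynomial σ A) :=
  (MvPolynomial.algebraTensorAlgEquiv A (MvPolynomial σ A)).trans
    (shiftEquiv (MvPolynomial σ A) (fun i => MvPolynomial.X i))

theorem polyTensorEquiv_one_tmul_X (i : σ) :
    polyTensorEquiv A σ ((1 : MvPolynomial σ A) ⊗ₜ[A] MvPolynomial.X i) =
      MvPolynomial.X i + MvPolynomial.C (MvPolynomial.X i) := by
  simp [polyTensorEquiv]

theorem polyTensorEquiv_tmul_one (b : MvPolynomial σ A) :
    polyTensorEquiv A σ (b ⊗ₜ[A] (1 : MvPolynomial σ A)) = MvPolynomial.C b := by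
  simp [polyTensorEquiv, MvPolynomial.smul_eq_C_mul]

theorem ideal_map_polyTensorEquiv :
    (KaehlerDifferential.ideal A (MvPolynomial σ A)).map
        (polyTensorEquiv A σ : _ →+* MvPolynomial σ (MvPolynomial σ A)) =
      Ideal.span (Set.range (MvPolynomial.X : σ → MvPolynomial σ (MvPolynomial σ A))) := by
  rw [ideal_eq_span_of_adjoin A (MvPolynomial σ A) _ MvPolynomial.adjoin_range_X, Ideal.map_span]
  congr 1
  ext p
  constructor
  · rintro ⟨_, ⟨_, ⟨i, rfl⟩, rfl⟩, rfl⟩
    refine ⟨i, ?_⟩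
    change _ = polyTensorEquiv A σ _
    rw [map_sub, polyTensorEquiv_one_tmul_X, polyTensorEquiv_tmul_one, add_sub_cancel_right]
  · rintro ⟨i, rfl⟩
    refine ⟨_, ⟨_, ⟨i, rfl⟩, rfl⟩, ?_⟩
    change polyTensorEquiv A σ _ = _
    rw [map_sub, polyTensorEquiv_one_tmul_X, polyTensorEquiv_tmul_one, add_sub_cancel_right]

theorem principalParts_poly :
    ∃ e : PP16.P n A (MvPolynomial σ A) ≃ₐ[MvPolynomial σ A]
        (MvPolynomial σ (MvPolynomial σ A) ⧸
          Ideal.span (Set.range (MvPolynomial.X : σ → MvPolynomial σ (MvPolynomial σ A))) ^ (n + 1)),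
      ∀ i : σ, e (PP16.dn n A (MvPolynomial σ A) (MvPolynomial.X i)) =
        Ideal.Quotient.mk _ (MvPolynomial.C (MvPolynomial.X i : MvPolynomial σ A) +
          (MvPolynomial.X i : MvPolynomial σ (MvPolynomial σ A))) := by
  have h : Ideal.span (Set.range (MvPolynomial.X : σ → MvPolynomial σ (MvPolynomial σ A))) ^ (n + 1) =
      (KaehlerDifferential.ideal A (MvPolynomial σ A) ^ (n + 1)).map
        (polyTensorEquiv A σ : _ →+* MvPolynomial σ (MvPolynomial σ A)) := by
    rw [Ideal.map_pow, ideal_map_polyTensorEquiv]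
  refine ⟨Ideal.quotientEquivAlg _ _ (polyTensorEquiv A σ) h, ?_⟩
  intro i
  change Ideal.quotientEquivAlg _ _ (polyTensorEquiv A σ) h
    (Ideal.Quotient.mk _ ((1 : MvPolynomial σ A) ⊗ₜ[A] MvPolynomial.X i)) = _
  rw [Ideal.quotientEquivAlg_mk, polyTensorEquiv_one_tmul_X,
    add_comm (MvPolynomial.X i : MvPolynomial σ (MvPolynomial σ A))]

end poly

end Groth.Agent.H19
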