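import Groth.Agent.H19.PPGen
import Mathlib.LinearAlgebra.SymmetricAlgebra.Basic
import Mathlib.RingTheory.TensorProduct.Quotient

set_option autoImplicit false

namespace Groth.Agent.H19

open scoped TensorProduct

universe u

section sym

variable (n : ℕ) (A : Type u) [CommRing A] (E : Type u) [AddCommGroup E] [Module A E]

theorem adjoin_range_ι :
    Algebra.adjoin A (Set.range (SymmetricAlgebra.ι A E)) = ⊤ := by
  have key : ∀ x : SymmetricAlgebra A E,
      x ∈ Algebra.adjoin A (Set.range (SymmetricAlgebra.ι A E)) := by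
    intro x
    induction x using SymmetricAlgebra.induction with
    | algebraMap r => exact Subalgebra.algebraMap_mem _ r
    | ι x => exact Algebra.subset_adjoin ⟨x, rfl⟩
    | mul a b ha hb => exact mul_mem ha hb
    | add a b ha hb => exact add_mem ha hb
  exact eq_top_iff.mpr fun x _ => key x

/-- the augmentation ideal of the symmetric algebra is generated by `E` -/
theorem ker_lift_zero_eq_span :
    RingHom.ker (SymmetricAlgebra.lift (0 : E →ₗ[A] A)) =
      Ideal.span (Set.range (SymmetricAlgebra.ι A E)) := by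
  apply le_antisymm
  · have key : ∀ x : SymmetricAlgebra A E,
        x - algebraMap A _ (SymmetricAlgebra.lift (0 : E →ₗ[A] A) x) ∈
          Ideal.span (Set.range (SymmetricAlgebra.ι A E)) := by
      intro x
      induction x using SymmetricAlgebra.induction with
      | algebraMap r => simp
      | ι x =>
        rw [SymmetricAlgebra.lift_ι_apply, LinearMap.zero_apply, map_zero, sub_zero]
        exact Ideal.subset_span ⟨x, rfl⟩
      | mul a b ha hb =>
        have : a * b - algebraMap A _ (SymmetricAlgebra.lift (0 : E →ₗ[A] A) (a * b)) =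
            a * (b - algebraMap A _ (SymmetricAlgebra.lift (0 : E →ₗ[A] A) b)) +
              algebraMap A _ (SymmetricAlgebra.lift (0 : E →ₗ[A] A) b) *
                (a - algebraMap A _ (SymmetricAlgebra.lift (0 : E →ₗ[A] A) a)) := by
          rw [map_mul, map_mul]
          ring
        rw [this]
        exact add_mem (Ideal.mul_mem_left _ _ hb) (Ideal.mul_mem_left _ _ ha)
      | add a b ha hb =>
        have : a + b - algebraMap A _ (SymmetricAlgebra.lift (0 : E →ₗ[A] A) (a + b)) =
            (a - algebraMap A _ (SymmetricAlgebra.lift (0 : E →ₗ[A] A) a)) +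
              (b - algebraMap A _ (SymmetricAlgebra.lift (0 : E →ₗ[A] A) b)) := by
          rw [map_add, map_add]
          ring
        rw [this]
        exact add_mem ha hb
    intro x hx
    have := key x
    rwa [RingHom.mem_ker.mp hx, map_zero, sub_zero] at this
  · rw [Ideal.span_le]
    rintro _ ⟨t, rfl⟩
    rw [SetLike.mem_coe, RingHom.mem_ker, SymmetricAlgebra.lift_ι_apply, LinearMap.zero_apply]

/-- The `B`-algebra endomorphism of `B ⊗ B` sending `1 ⊗ t` to `1 ⊗ t + c • (t ⊗ 1)`. -/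
noncomputable def symShift (c : A) :
    (SymmetricAlgebra A E) ⊗[A] (SymmetricAlgebra A E) →ₐ[SymmetricAlgebra A E]
      (SymmetricAlgebra A E) ⊗[A] (SymmetricAlgebra A E) :=
  Algebra.TensorProduct.lift (Algebra.ofId _ _)
    (SymmetricAlgebra.lift
      ((Algebra.TensorProduct.includeRight : SymmetricAlgebra A E →ₐ[A] _).toLinearMap ∘ₗ
          SymmetricAlgebra.ι A E +
        c • ((Algebra.TensorProduct.includeLeft (S := A) :
          SymmetricAlgebra A E →ₐ[A] _).toLinearMap ∘ₗ SymmetricAlgebra.ι A E)))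
    (fun _ _ => Commute.all _ _)

theorem symShift_tmul_one (c : A) (b : SymmetricAlgebra A E) :
    symShift A E c (b ⊗ₜ[A] 1) = b ⊗ₜ[A] 1 := by
  simp [symShift, Algebra.ofId_apply, Algebra.TensorProduct.algebraMap_apply]

theorem symShift_one_tmul_ι (c : A) (t : E) :
    symShift A E c (1 ⊗ₜ[A] SymmetricAlgebra.ι A E t) =
      1 ⊗ₜ[A] SymmetricAlgebra.ι A E t + (c • SymmetricAlgebra.ι A E t) ⊗ₜ[A] 1 := by
  simp only [symShift, Algebra.TensorProduct.lift_tmul, map_one, one_mul,
    SymmetricAlgebra.lift_ι_apply, LinearMap.add_apply, LinearMap.coe_comp, Function.comp_apply,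
    AlgHom.toLinearMap_apply, Algebra.TensorProduct.includeRight_apply, LinearMap.smul_apply,
    Algebra.TensorProduct.includeLeft_apply, TensorProduct.smul_tmul']

theorem symShift_comp (c d : A) :
    (symShift A E c).comp (symShift A E d) = symShift A E (c + d) := by
  apply Algebra.TensorProduct.ext
  · ext
  · apply SymmetricAlgebra.algHom_ext
    ext t
    change symShift A E c (symShift A E d (1 ⊗ₜ[A] SymmetricAlgebra.ι A E t)) =
      symShift A E (c + d) (1 ⊗ₜ[A] SymmetricAlgebra.ι A E t)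
    rw [symShift_one_tmul_ι, map_add, symShift_one_tmul_ι, symShift_tmul_one,
      symShift_one_tmul_ι, add_smul, TensorProduct.add_tmul, add_assoc]

theorem symShift_zero : symShift A E 0 = AlgHom.id _ _ := by
  apply Algebra.TensorProduct.ext
  · ext
  · apply SymmetricAlgebra.algHom_ext
    ext t
    change symShift A E 0 (1 ⊗ₜ[A] SymmetricAlgebra.ι A E t) = 1 ⊗ₜ[A] SymmetricAlgebra.ι A E t
    rw [symShift_one_tmul_ι, zero_smul, TensorProduct.zero_tmul, add_zero]

/-- `1 ⊗ t ↦ 1 ⊗ t + t ⊗ 1` as an automorphism. -/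
noncomputable def symEquiv :
    (SymmetricAlgebra A E) ⊗[A] (SymmetricAlgebra A E) ≃ₐ[SymmetricAlgebra A E]
      (SymmetricAlgebra A E) ⊗[A] (SymmetricAlgebra A E) :=
  AlgEquiv.ofAlgHom (symShift A E 1) (symShift A E (-1))
    (by rw [symShift_comp, add_neg_cancel, symShift_zero])
    (by rw [symShift_comp, neg_add_cancel, symShift_zero])

theorem symEquiv_one_tmul_ι (t : E) :
    symEquiv A E (1 ⊗ₜ[A] SymmetricAlgebra.ι A E t) =
      SymmetricAlgebra.ι A E t ⊗ₜ[A] 1 + 1 ⊗ₜ[A] SymmetricAlgebra.ι A E t := by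
  have h : symEquiv A E (1 ⊗ₜ[A] SymmetricAlgebra.ι A E t) =
      symShift A E 1 (1 ⊗ₜ[A] SymmetricAlgebra.ι A E t) := rfl
  rw [h, symShift_one_tmul_ι, one_smul, add_comm]

theorem symEquiv_tmul_one (b : SymmetricAlgebra A E) :
    symEquiv A E (b ⊗ₜ[A] 1) = b ⊗ₜ[A] 1 :=
  symShift_tmul_one A E 1 b

theorem ideal_map_symEquiv :
    (KaehlerDifferential.ideal A (SymmetricAlgebra A E)).map
        (symEquiv A E : _ →+* (SymmetricAlgebra A E) ⊗[A] (SymmetricAlgebra A E)) =
      (RingHom.ker (SymmetricAlgebra.lift (0 : E →ₗ[A] A))).map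
        (Algebra.TensorProduct.includeRight :
          SymmetricAlgebra A E →ₐ[A] (SymmetricAlgebra A E) ⊗[A] (SymmetricAlgebra A E)) := by
  rw [ideal_eq_span_of_adjoin A (SymmetricAlgebra A E) _ (adjoin_range_ι A E), Ideal.map_span,
    ker_lift_zero_eq_span, Ideal.map_span]
  congr 1
  ext p
  constructor
  · rintro ⟨_, ⟨_, ⟨t, rfl⟩, rfl⟩, rfl⟩
    refine ⟨_, ⟨t, rfl⟩, ?_⟩
    change _ = symEquiv A E _
    rw [map_sub, symEquiv_one_tmul_ι, symEquiv_tmul_one, add_sub_cancel_left]
    rfl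
  · rintro ⟨_, ⟨t, rfl⟩, rfl⟩
    refine ⟨_, ⟨_, ⟨t, rfl⟩, rfl⟩, ?_⟩
    change symEquiv A E _ = _
    rw [map_sub, symEquiv_one_tmul_ι, symEquiv_tmul_one, add_sub_cancel_left]
    rfl

theorem principalParts_sym :
    ∃ e : PP16.P n A (SymmetricAlgebra A E) ≃ₐ[SymmetricAlgebra A E]
        (SymmetricAlgebra A E ⊗[A] (SymmetricAlgebra A E ⧸
          RingHom.ker (SymmetricAlgebra.lift (0 : E →ₗ[A] A)) ^ (n + 1))),
      ∀ t : E, e (PP16.dn n A (SymmetricAlgebra A E) (SymmetricAlgebra.ι A E t)) =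
        SymmetricAlgebra.ι A E t ⊗ₜ 1 + 1 ⊗ₜ Ideal.Quotient.mk _ (SymmetricAlgebra.ι A E t) := by
  have h : ((RingHom.ker (SymmetricAlgebra.lift (0 : E →ₗ[A] A))) ^ (n + 1)).map
        (Algebra.TensorProduct.includeRight :
          SymmetricAlgebra A E →ₐ[A] (SymmetricAlgebra A E) ⊗[A] (SymmetricAlgebra A E)) =
      (KaehlerDifferential.ideal A (SymmetricAlgebra A E) ^ (n + 1)).map
        (symEquiv A E : _ →+* (SymmetricAlgebra A E) ⊗[A] (SymmetricAlgebra A E)) := by
    rw [Ideal.map_pow, Ideal.map_pow, ideal_map_symEquiv]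
  let e1 := Ideal.quotientEquivAlg _ _ (symEquiv A E) h
  let e3 := (Algebra.TensorProduct.tensorQuotientEquiv (R := A) (SymmetricAlgebra A E)
    (SymmetricAlgebra A E) (SymmetricAlgebra A E)
    ((RingHom.ker (SymmetricAlgebra.lift (0 : E →ₗ[A] A))) ^ (n + 1))).symm
  refine ⟨e1.trans e3, ?_⟩
  intro t
  change e3 (e1 (Ideal.Quotient.mk _ ((1 : SymmetricAlgebra A E) ⊗ₜ[A] SymmetricAlgebra.ι A E t))) = _
  rw [Ideal.quotientEquivAlg_mk, symEquiv_one_tmul_ι, map_add, map_add]
  rfl

end sym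

end Groth.Agent.H19
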