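import Mathlib.LinearAlgebra.TensorProduct.Pi
import Mathlib.LinearAlgebra.TensorProduct.Finiteness
import Mathlib.RingTheory.Finiteness.Basic
import Mathlib.Algebra.Module.FinitePresentation

/-! S0587: `M` finite ⟺ `M ⊗ ∏ Qᵢ → ∏ (M ⊗ Qᵢ)` surjective for all families. -/

set_option autoImplicit false
universe u v w
open scoped TensorProduct

namespace Groth.Agent.H19.PiTensor

variable {R : Type u} [CommRing R] {M : Type v} [AddCommGroup M] [Module R M]

/-- If `x` spans `M`, every element of `M ⊗ Q` is of the form `∑ x_j ⊗ q_j`. -/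
theorem exists_sum_tmul_of_span_eq_top {n : ℕ} (x : Fin n → M)
    (hx : Submodule.span R (Set.range x) = ⊤) {Q : Type w} [AddCommGroup Q] [Module R Q]
    (t : M ⊗[R] Q) : ∃ q : Fin n → Q, t = ∑ j, x j ⊗ₜ[R] q j := by
  induction t using TensorProduct.induction_on with
  | zero => exact ⟨0, by simp⟩
  | tmul m q =>
    have hm : m ∈ Submodule.span R (Set.range x) := hx ▸ Submodule.mem_top
    obtain ⟨c, rfl⟩ := (Submodule.mem_span_range_iff_exists_fun R).mp hm
    refine ⟨fun j => c j • q, ?_⟩
    rw [TensorProduct.sum_tmul]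
    refine Finset.sum_congr rfl fun j _ => ?_
    rw [TensorProduct.smul_tmul]
  | add a b ha hb =>
    obtain ⟨qa, rfl⟩ := ha
    obtain ⟨qb, rfl⟩ := hb
    refine ⟨qa + qb, ?_⟩
    simp only [Pi.add_apply, TensorProduct.tmul_add, Finset.sum_add_distrib]

theorem piRightHom_surjective_of_finite [Module.Finite R M] {ι : Type*} (Q : ι → Type*)
    [∀ i, AddCommGroup (Q i)] [∀ i, Module R (Q i)] :
    Function.Surjective (TensorProduct.piRightHom R R M Q) := by
  obtain ⟨n, x, hx⟩ := Module.Finite.exists_fin (R := R) (M := M)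
  intro t
  choose q hq using fun i => exists_sum_tmul_of_span_eq_top x hx (t i)
  refine ⟨∑ j, x j ⊗ₜ[R] (fun i => q i j), ?_⟩
  ext i
  rw [map_sum, Finset.sum_apply, hq i]
  rfl

theorem finite_of_piRightHom_surjective
    (h : Function.Surjective (TensorProduct.piRightHom R R M (fun _ : M => R))) :
    Module.Finite R M := by
  classical
  obtain ⟨z, hz⟩ := h (fun m => m ⊗ₜ[R] (1 : R))
  obtain ⟨S, hS⟩ := TensorProduct.exists_finset z
  have key : ∀ m : M, m = ∑ i ∈ S, (i.2 m) • i.1 := by
    intro m
    have h1 := congrFun hz m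
    rw [hS, map_sum, Finset.sum_apply] at h1
    have h2 := congrArg (TensorProduct.rid R M) h1
    rw [map_sum, TensorProduct.rid_tmul, one_smul] at h2
    refine h2.symm.trans ?_
    refine Finset.sum_congr rfl fun i _ => ?_
    rw [TensorProduct.piRightHom_tmul, TensorProduct.rid_tmul]
  refine Module.finite_def.mpr ⟨S.image Prod.fst, eq_top_iff.mpr fun m _ => ?_⟩
  rw [key m]
  refine Submodule.sum_mem _ fun i hi => Submodule.smul_mem _ _ (Submodule.subset_span ?_)
  exact Finset.mem_coe.mpr (Finset.mem_image_of_mem _ hi)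

theorem finite_iff (R : Type u) [CommRing R] (M : Type u) [AddCommGroup M] [Module R M] :
    Module.Finite R M ↔ ∀ (ι : Type u) (Q : ι → Type u) [∀ i, AddCommGroup (Q i)]
      [∀ i, Module R (Q i)], Function.Surjective (TensorProduct.piRightHom R R M Q) :=
  ⟨fun _ _ Q _ _ => piRightHom_surjective_of_finite Q,
    fun h => finite_of_piRightHom_surjective (h M (fun _ => R))⟩

end Groth.Agent.H19.PiTensor
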