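import Groth.Agent.H19.PiTensor
import Mathlib.LinearAlgebra.TensorProduct.RightExactness
import Mathlib.RingTheory.Flat.Basic

/-! S0588: `M` finitely presented ⟺ `M ⊗ ∏ Qᵢ → ∏ (M ⊗ Qᵢ)` bijective for all families. -/

set_option autoImplicit false
universe u v w
open scoped TensorProduct

namespace Groth.Agent.H19.PiTensor

variable {R : Type u} [CommRing R] {M : Type v} [AddCommGroup M] [Module R M]
  {N : Type w} [AddCommGroup N] [Module R N]

theorem piRightHom_rTensor {ι : Type*} (Q : ι → Type*) [∀ i, AddCommGroup (Q i)]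
    [∀ i, Module R (Q i)] (g : M →ₗ[R] N) (z : M ⊗[R] (∀ i, Q i)) (i : ι) :
    TensorProduct.piRightHom R R N Q (g.rTensor (∀ i, Q i) z) i =
      g.rTensor (Q i) (TensorProduct.piRightHom R R M Q z i) := by
  induction z using TensorProduct.induction_on with
  | zero => simp
  | tmul m q => rfl
  | add a b ha hb => simp only [map_add, Pi.add_apply, ha, hb]

theorem eq_zero_of_sum_single_tmul {n : ℕ} {Q : Type*} [AddCommGroup Q] [Module R Q]
    (q : Fin n → Q) (h : ∑ j, (Pi.single j (1 : R) : Fin n → R) ⊗ₜ[R] q j = 0) (k : Fin n) :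
    q k = 0 := by
  have h1 := congrArg ((TensorProduct.lid R Q).toLinearMap ∘ₗ (LinearMap.proj k : (Fin n → R) →ₗ[R] R).rTensor Q) h
  rw [map_sum, map_zero] at h1
  rw [← h1]
  symm
  rw [Finset.sum_eq_single k]
  · simp
  · intro j _ hj
    simp [hj.symm]
  · intro hk
    exact absurd (Finset.mem_univ k) hk

theorem span_single_eq_top (n : ℕ) :
    Submodule.span R (Set.range fun j : Fin n => (Pi.single j (1 : R) : Fin n → R)) = ⊤ := by
  have := (Pi.basisFun R (Fin n)).span_eq
  rw [← this]
  congr 1
  ext f
  simp [Pi.basisFun_apply]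

theorem piRightHom_injective_pi (n : ℕ) {ι : Type*} (Q : ι → Type*) [∀ i, AddCommGroup (Q i)]
    [∀ i, Module R (Q i)] :
    Function.Injective (TensorProduct.piRightHom R R (Fin n → R) Q) := by
  rw [injective_iff_map_eq_zero]
  intro y hy
  obtain ⟨q, rfl⟩ := exists_sum_tmul_of_span_eq_top _ (span_single_eq_top (R := R) n) y
  have hq : ∀ j, q j = 0 := by
    intro j
    funext i
    have h1 := congrFun hy i
    rw [map_sum, Finset.sum_apply] at h1
    exact eq_zero_of_sum_single_tmul (fun j => q j i) h1 j
  simp [hq]

theorem piRightHom_injective_of_fg_ker {n : ℕ} (p : (Fin n → R) →ₗ[R] M)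
    (hp : Function.Surjective p) (hK : (LinearMap.ker p).FG) {ι : Type*} (Q : ι → Type*)
    [∀ i, AddCommGroup (Q i)] [∀ i, Module R (Q i)] :
    Function.Injective (TensorProduct.piRightHom R R M Q) := by
  have : Module.Finite R (LinearMap.ker p) := Module.Finite.iff_fg.mpr hK
  rw [injective_iff_map_eq_zero]
  intro z hz
  obtain ⟨y, rfl⟩ := LinearMap.rTensor_surjective (∀ i, Q i) hp z
  have hex : ∀ i, Function.Exact ((LinearMap.ker p).subtype.rTensor (Q i)) (p.rTensor (Q i)) :=
    fun i => rTensor_exact (Q i) (LinearMap.exact_subtype_ker_map p) hp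
  have h1 : ∀ i, ∃ w : (LinearMap.ker p) ⊗[R] Q i,
      (LinearMap.ker p).subtype.rTensor (Q i) w =
        TensorProduct.piRightHom R R (Fin n → R) Q y i := by
    intro i
    refine ((hex i) _).mp ?_
    rw [← piRightHom_rTensor, hz]
    rfl
  choose w hw using h1
  obtain ⟨v, hv⟩ := piRightHom_surjective_of_finite (R := R) (M := LinearMap.ker p) Q w
  have h2 : (LinearMap.ker p).subtype.rTensor (∀ i, Q i) v = y := by
    apply piRightHom_injective_pi n Q
    funext i
    rw [piRightHom_rTensor, hv, hw]
  rw [← h2, ← LinearMap.comp_apply, ← LinearMap.rTensor_comp]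
  have : p ∘ₗ (LinearMap.ker p).subtype = 0 := by
    ext x
    simp
  rw [this, LinearMap.rTensor_zero, LinearMap.zero_apply]

theorem ker_finite_of_piRightHom_injective {n : ℕ} (p : (Fin n → R) →ₗ[R] M)
    (hp : Function.Surjective p)
    (h : Function.Injective
      (TensorProduct.piRightHom R R M (fun _ : LinearMap.ker p => R))) :
    Module.Finite R (LinearMap.ker p) := by
  apply finite_of_piRightHom_surjective
  intro w
  -- push `w` to the free module
  obtain ⟨y, hy⟩ := piRightHom_surjective_of_finite (R := R) (M := Fin n → R)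
    (fun _ : LinearMap.ker p => R) (fun k => (LinearMap.ker p).subtype.rTensor R (w k))
  have hcomp : p ∘ₗ (LinearMap.ker p).subtype = 0 := by
    ext x
    simp
  have h1 : p.rTensor (LinearMap.ker p → R) y = 0 := by
    apply h
    rw [map_zero]
    funext k
    rw [piRightHom_rTensor, hy, ← LinearMap.comp_apply, ← LinearMap.rTensor_comp, hcomp,
      LinearMap.rTensor_zero, LinearMap.zero_apply]
    rfl
  obtain ⟨v, hv⟩ := (rTensor_exact (LinearMap.ker p → R) (LinearMap.exact_subtype_ker_map p) hp
    y).mp h1
  refine ⟨v, ?_⟩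
  funext k
  have hinj : Function.Injective ((LinearMap.ker p).subtype.rTensor R) :=
    Module.Flat.rTensor_preserves_injective_linearMap _ (Submodule.injective_subtype _)
  apply hinj
  have h2 := piRightHom_rTensor (fun _ : LinearMap.ker p => R) (LinearMap.ker p).subtype v k
  rw [hv, hy] at h2
  exact h2.symm

theorem finitePresentation_iff (R : Type u) [CommRing R] (M : Type u) [AddCommGroup M]
    [Module R M] :
    Module.FinitePresentation R M ↔ ∀ (ι : Type u) (Q : ι → Type u) [∀ i, AddCommGroup (Q i)]
      [∀ i, Module R (Q i)], Function.Bijective (TensorProduct.piRightHom R R M Q) := by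
  constructor
  · intro hM ι Q _ _
    obtain ⟨n, x, hx⟩ := Module.Finite.exists_fin (R := R) (M := M)
    have hp : Function.Surjective (Fintype.linearCombination R x) := by
      rw [← LinearMap.range_eq_top, Fintype.range_linearCombination, hx]
    exact ⟨piRightHom_injective_of_fg_ker _ hp (Module.FinitePresentation.fg_ker _ hp) Q,
      piRightHom_surjective_of_finite Q⟩
  · intro h
    have hfin : Module.Finite R M := finite_of_piRightHom_surjective (h M (fun _ => R)).2
    obtain ⟨n, x, hx⟩ := Module.Finite.exists_fin (R := R) (M := M)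
    have hp : Function.Surjective (Fintype.linearCombination R x) := by
      rw [← LinearMap.range_eq_top, Fintype.range_linearCombination, hx]
    have hK := ker_finite_of_piRightHom_injective _ hp (h _ (fun _ => R)).1
    exact Module.finitePresentation_of_surjective _ hp (Module.Finite.iff_fg.mp hK)

end Groth.Agent.H19.PiTensor
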