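import Groth.Agent.S3573
import Groth.Agent.S3572
import Groth.Agent.H12.QCohIso
import Groth.Agent.H12.QCohEpi
import Groth.Agent.H44.Retract
import Groth.Agent.H19.DblAlg
import Groth.Agent.H18.STL.QuasiAffine

/-!
# Sections of projective space over an affine base and invertible quotients of `R^{n+1}` (helper19)
-/

set_option autoImplicit false
set_option linter.style.haveILetI false
universe u
open CategoryTheory CategoryTheory.Limits AlgebraicGeometry TopologicalSpace Opposite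

namespace Groth.Agent.H19.ProjSec

open Groth.Agent.H18 Groth.Agent.H18.PUP Groth.Agent.H18.STL

section Tilde

variable {R : CommRingCat.{u}}

/-- on an affine scheme, morphisms out of a quasi-coherent module are the linear maps on global
sections -/
theorem exists_hom_Γ {L₁ L₂ : (Spec R).Modules} [L₁.IsQuasicoherent]
    (f : moduleSpecΓFunctor.obj L₁ ⟶ moduleSpecΓFunctor.obj L₂) :
    ∃ τ : L₁ ⟶ L₂, moduleSpecΓFunctor.map τ = f := by
  haveI : IsIso (tilde.adjunction.counit.app L₁) :=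
    (inferInstance : IsIso L₁.fromTildeΓ)
  refine ⟨inv (tilde.adjunction.counit.app L₁) ≫ (tilde.adjunction.homEquiv _ _).symm f, ?_⟩
  have h1 : ∀ φ : L₁ ⟶ L₂, moduleSpecΓFunctor.map φ =
      tilde.adjunction.homEquiv _ _ (tilde.adjunction.counit.app L₁ ≫ φ) := by
    intro φ
    rw [Adjunction.homEquiv_unit, Functor.map_comp, ← Category.assoc,
      Adjunction.right_triangle_components, Category.id_comp]
  rw [h1, IsIso.hom_inv_id_assoc, Equiv.apply_symm_apply]

theorem exists_hom_eq {A : Type u} [Ring A] (M N : ModuleCat.{u} A) (lm : M →ₗ[A] N) :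
    ∃ f : M ⟶ N, f.hom = lm := ⟨ModuleCat.ofHom lm, rfl⟩

/-- a `Γ(Spec R, ⊤)`-linear map of global sections is induced by a morphism of modules, when the
source is quasi-coherent -/
theorem exists_hom_of_linearMap {L₁ L₂ : (Spec R).Modules} [L₁.IsQuasicoherent]
    (g : Γ(L₁, (⊤ : (Spec R).Opens)) →ₗ[Γ(Spec R, ⊤)] Γ(L₂, (⊤ : (Spec R).Opens))) :
    ∃ τ : L₁ ⟶ L₂, ∀ x, τ.app ⊤ x = g x := by
  let lm : ↑(moduleSpecΓFunctor.obj L₁) →ₗ[↑R] ↑(moduleSpecΓFunctor.obj L₂) :=
    { toFun := fun x => g x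
      map_add' := fun x y => g.map_add x y
      map_smul' := fun r x => g.map_smul _ x }
  obtain ⟨f, hf⟩ := exists_hom_eq (moduleSpecΓFunctor.obj L₁) (moduleSpecΓFunctor.obj L₂) lm
  obtain ⟨τ, hτ⟩ := exists_hom_Γ f
  refine ⟨τ, fun x => ?_⟩
  have h1 : (moduleSpecΓFunctor.map τ).hom x = τ.app ⊤ x := rfl
  rw [← h1, hτ, hf]
  rfl

end Tilde

section Pn

variable {R : Type u} [CommRing R] (n : ℕ)

theorem exists_coord_mem (y : CohB1.ProjSpace n R) :
    ∃ i : Fin (n + 1), y ∈ Proj.basicOpen (CohB1.polyGrading n R)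
      (MvPolynomial.X i : MvPolynomial (Fin (n + 1)) R) :=
  exists_notMem_of_adjoin_eq_top (CohB1.polyGrading n R)
    (fun i : Fin (n + 1) => (MvPolynomial.X i : MvPolynomial (Fin (n + 1)) R))
    MvPolynomial.adjoin_range_X y

theorem isInvertible_twistOne : PicF.IsInvertible (Twist.twistProjSpace n R 1) :=
  isInvertible_twist_one (CohB1.polyGrading n R) (fun y =>
    let ⟨i, hi⟩ := exists_coord_mem n y
    ⟨MvPolynomial.X i, MvPolynomial.isHomogeneous_X R i, hi⟩)

theorem isInvertible_pull_twistOne {X : Scheme.{u}} (r : X ⟶ CohB1.ProjSpace n R) :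
    PicF.IsInvertible ((Scheme.Modules.pullback r).obj (Twist.twistProjSpace n R 1)) :=
  PicLoc.isInvertible_pullback r (isInvertible_twistOne n)

theorem generatedBy_pull_coord {X : Scheme.{u}} (r : X ⟶ CohB1.ProjSpace n R) :
    ProjUP.GeneratedBy ((Scheme.Modules.pullback r).obj (Twist.twistProjSpace n R 1))
      (fun i => ProjUP.pullSec r (Twist.twistProjSpace n R 1) (ProjUP.coord n R i)) := by
  refine generatedBy_pullSec r (Twist.twistProjSpace n R 1) (fun i => ProjUP.coord n R i) ?_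
  intro U t y hy
  obtain ⟨i, hi⟩ := exists_coord_mem n y
  obtain ⟨c, hc⟩ : ∃ c : Γ(CohB1.ProjSpace n R,
      U ⊓ Proj.basicOpen (CohB1.polyGrading n R) (MvPolynomial.X i)),
      c • mres (Twist.twistProjSpace n R 1)
        (inf_le_right : U ⊓ Proj.basicOpen (CohB1.polyGrading n R) (MvPolynomial.X i) ≤ _)
        (mres (Twist.twistProjSpace n R 1) le_top (ProjUP.coord n R i)) =
      mres (Twist.twistProjSpace n R 1) inf_le_left t :=
    (isBasisOn_gs (CohB1.polyGrading n R) (MvPolynomial.isHomogeneous_X R i)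
      (U ⊓ Proj.basicOpen (CohB1.polyGrading n R) (MvPolynomial.X i)) inf_le_right).2
        (mres (Twist.twist (CohB1.polyGrading n R) 1) inf_le_left t)
  refine ⟨U ⊓ Proj.basicOpen (CohB1.polyGrading n R) (MvPolynomial.X i), inf_le_left, i, c,
    ⟨hy, hi⟩, ?_⟩
  have h2 := mres_mres (Twist.twistProjSpace n R 1) (le_top : Proj.basicOpen
    (CohB1.polyGrading n R) (MvPolynomial.X i) ≤ ⊤) (inf_le_right : U ⊓ Proj.basicOpen
    (CohB1.polyGrading n R) (MvPolynomial.X i) ≤ _) (ProjUP.coord n R i)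
  exact hc.symm.trans (congrArg (c • ·) h2)

end Pn

section Affine

variable {X : Scheme.{u}}

/-- on an affine scheme, generating global sections of an invertible module span its global
sections -/
theorem exists_coeffs (hX : IsAffineOpen (⊤ : X.Opens)) {L : X.Modules}
    (hL : PicF.IsInvertible L) {k : ℕ} (σ : Fin k → Γ(L, (⊤ : X.Opens)))
    (hσ : ProjUP.GeneratedBy L σ) (x : Γ(L, (⊤ : X.Opens))) :
    ∃ a : Fin k → Γ(X, ⊤), x = ∑ i, a i • σ i := by
  haveI : L.IsQuasicoherent := isQuasicoherent_of_isInvertible hL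
  haveI : Epi (Sigma.desc (fun i : Fin k => sectionHom L (σ i))) := by
    refine epi_desc_sectionHom L σ ?_
    intro V t y hy
    obtain ⟨j, W, hyW, hb⟩ := exists_basis_nhd L hL σ hσ y
    obtain ⟨c, hc⟩ := (hb (V ⊓ W) inf_le_right).2 (mres L inf_le_left t)
    refine ⟨V ⊓ W, inf_le_left, ⟨hy, hyW⟩, ?_⟩
    have hc' : c • mres L (inf_le_right : V ⊓ W ≤ W) (mres L (le_top : W ≤ ⊤) (σ j)) =
        mres L inf_le_left t := hc
    rw [← hc', mres_mres]
    exact Submodule.smul_mem _ _ (Submodule.subset_span ⟨j, rfl⟩)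
  obtain ⟨y, hy⟩ := Groth.Agent.H12.QCohEpi.app_surjective_of_epi
    (Sigma.desc (fun i : Fin k => sectionHom L (σ i))) hX x
  refine ⟨fun i => (show Γ(X, ⊤) from (Groth.Agent.H92.LocFreeRank.prj X k i).app ⊤ y), ?_⟩
  rw [← hy, Groth.Agent.H19.DblAlg.desc_app_eq]
  refine Finset.sum_congr rfl fun i _ => ?_
  rw [mres_self]

end Affine

section Main

variable {R : Type u} [CommRing R] (n : ℕ)

/-- the inverse image of `O(1)` along a morphism to projective space -/
noncomputable abbrev LL (s : Spec (CommRingCat.of R) ⟶ CohB1.ProjSpace n R) :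
    (Spec (CommRingCat.of R)).Modules :=
  (Scheme.Modules.pullback s).obj (Twist.twistProjSpace n R 1)

/-- the pulled back coordinates -/
noncomputable abbrev sg (s : Spec (CommRingCat.of R) ⟶ CohB1.ProjSpace n R) (i : Fin (n + 1)) :
    Γ(LL n s, (⊤ : (Spec (CommRingCat.of R)).Opens)) :=
  ProjUP.pullSec s (Twist.twistProjSpace n R 1) (ProjUP.coord n R i)

theorem mem_secKernel_iff (s : Spec (CommRingCat.of R) ⟶ CohB1.ProjSpace n R)
    (c : Fin (n + 1) → R) :
    c ∈ ProjUP.secKernel n R s ↔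
      ∑ i, ((Scheme.ΓSpecIso (CommRingCat.of R)).inv.hom (c i)) • sg n s i = 0 := by
  letI : Module R (ProjUP.Γm (LL n s)) :=
    Module.compHom _ (Scheme.ΓSpecIso (CommRingCat.of R)).inv.hom
  show c ∈ LinearMap.ker (Fintype.linearCombination R
    (fun i => ProjUP.pullSec s (Twist.twistProjSpace n R 1) (ProjUP.coord n R i))) ↔ _
  rw [LinearMap.mem_ker, Fintype.linearCombination_apply]
  rfl

/-- the linear map `Γ(O)^{n+1} ⟶ Γ(s^*O(1))` given by the pulled back coordinates -/
noncomputable def piLin (s : Spec (CommRingCat.of R) ⟶ CohB1.ProjSpace n R) :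
    (Fin (n + 1) → Γ(Spec (CommRingCat.of R), ⊤)) →ₗ[Γ(Spec (CommRingCat.of R), ⊤)]
      Γ(LL n s, (⊤ : (Spec (CommRingCat.of R)).Opens)) :=
  Fintype.linearCombination Γ(Spec (CommRingCat.of R), ⊤) (sg n s)

theorem piLin_apply (s : Spec (CommRingCat.of R) ⟶ CohB1.ProjSpace n R)
    (a : Fin (n + 1) → Γ(Spec (CommRingCat.of R), ⊤)) :
    piLin n s a = ∑ i, a i • sg n s i :=
  Fintype.linearCombination_apply _ _ _

theorem piLin_single (s : Spec (CommRingCat.of R) ⟶ CohB1.ProjSpace n R) (i : Fin (n + 1)) :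
    piLin n s (Pi.single i 1) = sg n s i := by
  rw [piLin_apply, Finset.sum_eq_single i]
  · rw [Pi.single_eq_same, one_smul]
  · intro j _ hj
    rw [Pi.single_eq_of_ne hj, zero_smul]
  · intro hi
    exact absurd (Finset.mem_univ i) hi

theorem piLin_surjective (s : Spec (CommRingCat.of R) ⟶ CohB1.ProjSpace n R) :
    Function.Surjective (piLin n s) := by
  intro x
  obtain ⟨a, ha⟩ := exists_coeffs (isAffineOpen_top _) (isInvertible_pull_twistOne n s)
    (sg n s) (generatedBy_pull_coord n s) x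
  exact ⟨a, (piLin_apply n s a).trans ha.symm⟩

theorem mem_ker_piLin_iff (s : Spec (CommRingCat.of R) ⟶ CohB1.ProjSpace n R)
    (a : Fin (n + 1) → Γ(Spec (CommRingCat.of R), ⊤)) :
    a ∈ LinearMap.ker (piLin n s) ↔
      (fun i => (Scheme.ΓSpecIso (CommRingCat.of R)).hom.hom (a i)) ∈ ProjUP.secKernel n R s := by
  rw [LinearMap.mem_ker, piLin_apply, mem_secKernel_iff]
  have h1 : ∀ i, (Scheme.ΓSpecIso (CommRingCat.of R)).inv.hom
      ((Scheme.ΓSpecIso (CommRingCat.of R)).hom.hom (a i)) = a i := fun i =>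
    (Scheme.ΓSpecIso (CommRingCat.of R)).hom_inv_id_apply (a i)
  simp only [h1]

theorem section_ext (s₁ s₂ : Spec (CommRingCat.of R) ⟶ CohB1.ProjSpace n R)
    (h₁ : s₁ ≫ CohB1.ProjSpace.toSpec n R = 𝟙 _) (h₂ : s₂ ≫ CohB1.ProjSpace.toSpec n R = 𝟙 _)
    (h : ProjUP.secKernel n R s₁ = ProjUP.secKernel n R s₂) : s₁ = s₂ := by
  have hker : LinearMap.ker (piLin n s₁) = LinearMap.ker (piLin n s₂) := by
    ext a
    rw [mem_ker_piLin_iff, mem_ker_piLin_iff, h]
  let f : Γ(LL n s₁, (⊤ : (Spec (CommRingCat.of R)).Opens)) ≃ₗ[Γ(Spec (CommRingCat.of R), ⊤)]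
      Γ(LL n s₂, (⊤ : (Spec (CommRingCat.of R)).Opens)) :=
    ((piLin n s₁).quotKerEquivOfSurjective (piLin_surjective n s₁)).symm ≪≫ₗ
      Submodule.quotEquivOfEq _ _ hker ≪≫ₗ
      (piLin n s₂).quotKerEquivOfSurjective (piLin_surjective n s₂)
  have hf : ∀ a, f (piLin n s₁ a) = piLin n s₂ a := by
    intro a
    have h1 : ((piLin n s₁).quotKerEquivOfSurjective (piLin_surjective n s₁)).symm
        (piLin n s₁ a) = Submodule.Quotient.mk a := by
      rw [LinearEquiv.symm_apply_eq]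
      rfl
    show (piLin n s₂).quotKerEquivOfSurjective (piLin_surjective n s₂)
      (Submodule.quotEquivOfEq _ _ hker
        (((piLin n s₁).quotKerEquivOfSurjective (piLin_surjective n s₁)).symm (piLin n s₁ a))) = _
    rw [h1]
    rfl
  haveI : (LL n s₁).IsQuasicoherent :=
    isQuasicoherent_of_isInvertible (isInvertible_pull_twistOne n s₁)
  haveI : (LL n s₂).IsQuasicoherent :=
    isQuasicoherent_of_isInvertible (isInvertible_pull_twistOne n s₂)
  obtain ⟨τ, hτ⟩ := exists_hom_of_linearMap (R := CommRingCat.of R) (L₁ := LL n s₁)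
    (L₂ := LL n s₂) f.toLinearMap
  haveI : IsIso τ := by
    refine Groth.Agent.H12.QCohIso.isIso_of_bijective_on_cover τ
      (fun _ : Unit => (⊤ : (Spec (CommRingCat.of R)).Opens)) (fun _ => ⟨(), trivial⟩)
      (fun _ => isAffineOpen_top _) (fun _ => ?_)
    have hfun : (τ.app ⊤ : Γ(LL n s₁, (⊤ : (Spec (CommRingCat.of R)).Opens)) →
        Γ(LL n s₂, (⊤ : (Spec (CommRingCat.of R)).Opens))) = f := funext hτ
    rw [hfun]
    exact f.bijective
  refine Groth.Agent.S3573.result n s₁ s₂ (h₁.trans h₂.symm) (asIso τ) (fun i => ?_)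
  show τ.app ⊤ (sg n s₁ i) = sg n s₂ i
  rw [hτ, ← piLin_single n s₁ i]
  exact (hf _).trans (piLin_single n s₂ i)

end Main

end Groth.Agent.H19.ProjSec
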