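import Groth.Agent.H19.ProjSec
import Groth.Agent.H44.LocFree
import Groth.Agent.H67.FreeNearFinite
import Groth.Agent.H67.TraceSplit
import Groth.Agent.H67.InvertibleNearFibre
import Groth.Agent.H18.STL.TwistGG

/-!
# Sections of projective space over an affine base and invertible quotients (helper19)

A submodule `F` of `R^{n+1}` is the module of relations of the pulled back coordinates of a section
of `P^n_R` over `Spec R` iff `R^{n+1}/F` is an invertible `R`-module.
-/

set_option autoImplicit false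
set_option linter.style.haveILetI false
universe u
open CategoryTheory CategoryTheory.Limits AlgebraicGeometry TopologicalSpace Opposite

namespace Groth.Agent.H19.ProjSec2

open Groth.Agent.H18 Groth.Agent.H18.PUP Groth.Agent.H18.STL Groth.Agent.H19.ProjSec

section Algebra

variable {R A N : Type u} [CommRing R] [CommRing A] [Algebra R A] [AddCommGroup N] [Module R N]
  [Module A N] [IsScalarTower R A N]

theorem isBaseChange_id (h : Function.Bijective (algebraMap R A)) :
    IsBaseChange A (LinearMap.id : N →ₗ[R] N) := by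
  apply IsBaseChange.of_lift_unique
  intro Q _ _ _ _ g
  let φ : R ≃+* A := RingEquiv.ofBijective (algebraMap R A) h
  have hφ : ∀ a : A, algebraMap R A (φ.symm a) = a := fun a => φ.apply_symm_apply a
  refine ⟨{ toFun := g, map_add' := g.map_add, map_smul' := fun a x => ?_ }, ?_, ?_⟩
  · have h1 : a • x = φ.symm a • x := by
      conv_lhs => rw [← hφ a]
      exact algebraMap_smul A (φ.symm a) x
    have h2 : a • g x = φ.symm a • g x := by
      conv_lhs => rw [← hφ a]
      exact algebraMap_smul A (φ.symm a) (g x)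
    simp only [RingHom.id_apply]
    rw [h1, h2, g.map_smul]
  · ext x
    rfl
  · intro g' hg'
    ext x
    exact DFunLike.congr_fun hg' x

theorem projective_of_bijective (h : Function.Bijective (algebraMap R A)) [Module.Projective A N] :
    Module.Projective R N := by
  let φ : R ≃+* A := RingEquiv.ofBijective (algebraMap R A) h
  letI : RingHomInvPair (φ.symm : A →+* R) (φ : R →+* A) := RingHomInvPair.of_ringEquiv φ.symm
  letI : RingHomInvPair (φ : R →+* A) (φ.symm : A →+* R) := RingHomInvPair.of_ringEquiv φ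
  have hφ : ∀ a : A, algebraMap R A (φ.symm a) = a := fun a => φ.apply_symm_apply a
  let e₂ : N ≃ₛₗ[(φ.symm : A →+* R)] N :=
    { toFun := id
      invFun := id
      map_add' := fun _ _ => rfl
      map_smul' := fun a x => by
        show a • x = φ.symm a • x
        conv_lhs => rw [← hφ a]
        exact algebraMap_smul A (φ.symm a) x
      left_inv := fun _ => rfl
      right_inv := fun _ => rfl }
  exact Module.Projective.of_equiv e₂

theorem projective_of_bijective' (h : Function.Bijective (algebraMap R A)) [Module.Projective R N] :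
    Module.Projective A N := by
  let φ : R ≃+* A := RingEquiv.ofBijective (algebraMap R A) h
  letI : RingHomInvPair (φ.symm : A →+* R) (φ : R →+* A) := RingHomInvPair.of_ringEquiv φ.symm
  letI : RingHomInvPair (φ : R →+* A) (φ.symm : A →+* R) := RingHomInvPair.of_ringEquiv φ
  let e₂ : N ≃ₛₗ[(φ : R →+* A)] N :=
    { toFun := id
      invFun := id
      map_add' := fun _ _ => rfl
      map_smul' := fun r x => by
        show r • x = algebraMap R A r • x
        exact (algebraMap_smul A r x).symm
      left_inv := fun _ => rfl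
      right_inv := fun _ => rfl }
  exact Module.Projective.of_equiv e₂

theorem finite_of_bijective (h : Function.Bijective (algebraMap R A)) [Module.Finite A N] :
    Module.Finite R N := by
  haveI : Module.Finite R A := Module.Finite.of_surjective (Algebra.linearMap R A) h.2
  exact Module.Finite.trans A N

theorem rankAtStalk_eq_of_bijective (h : Function.Bijective (algebraMap R A))
    [Module.Flat R N] [Module.Finite R N] (q : PrimeSpectrum A) :
    Module.rankAtStalk (R := A) N q = Module.rankAtStalk (R := R) N (q.comap (algebraMap R A)) :=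
  Module.rankAtStalk_isBaseChange (isBaseChange_id h) q

theorem exists_comap_eq (h : Function.Bijective (algebraMap R A)) (p : PrimeSpectrum R) :
    ∃ q : PrimeSpectrum A, q.comap (algebraMap R A) = p := by
  let φ : R ≃+* A := RingEquiv.ofBijective (algebraMap R A) h
  refine ⟨p.comap (φ.symm : A →+* R), ?_⟩
  ext x
  simp only [PrimeSpectrum.comap_asIdeal, Ideal.mem_comap]
  have : (φ.symm : A →+* R) (algebraMap R A x) = x := φ.symm_apply_apply x
  rw [this]

end Algebra

section Main

variable {R : Type u} [CommRing R] (n : ℕ)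

theorem forward (s : Spec (CommRingCat.of R) ⟶ CohB1.ProjSpace n R) :
    Module.Projective R ((Fin (n + 1) → R) ⧸ ProjUP.secKernel n R s) ∧
      ∀ p : PrimeSpectrum R,
        Module.rankAtStalk (R := R) ((Fin (n + 1) → R) ⧸ ProjUP.secKernel n R s) p = 1 := by
  letI : Algebra R Γ(Spec (CommRingCat.of R), ⊤) :=
    (Scheme.ΓSpecIso (CommRingCat.of R)).inv.hom.toAlgebra
  letI : Module R Γ(LL n s, (⊤ : (Spec (CommRingCat.of R)).Opens)) :=
    Module.compHom _ (Scheme.ΓSpecIso (CommRingCat.of R)).inv.hom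
  haveI : IsScalarTower R Γ(Spec (CommRingCat.of R), ⊤)
      Γ(LL n s, (⊤ : (Spec (CommRingCat.of R)).Opens)) :=
    IsScalarTower.of_algebraMap_smul (fun _ _ => rfl)
  have hbij : Function.Bijective (algebraMap R Γ(Spec (CommRingCat.of R), ⊤)) :=
    ConcreteCategory.bijective_of_isIso (Scheme.ΓSpecIso (CommRingCat.of R)).inv
  have hL : PicF.IsInvertible (LL n s) := isInvertible_pull_twistOne n s
  haveI : (LL n s).IsQuasicoherent := isQuasicoherent_of_isInvertible hL
  have hfl := Groth.Agent.H67.InvertibleNearFibre.isFinLocFreeOfRank_one (LL n s) hL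
  obtain ⟨hfin, hproj⟩ := Groth.Agent.H44.finite_projective_of_isFinLocFree (LL n s)
    (Groth.Agent.H67.FreeNearFinite.isFinLocFree_of_rank hfl)
    (isAffineOpen_top (Spec (CommRingCat.of R)))
  haveI := hfin
  haveI := hproj
  haveI hprojR : Module.Projective R Γ(LL n s, (⊤ : (Spec (CommRingCat.of R)).Opens)) :=
    projective_of_bijective hbij
  haveI hfinR : Module.Finite R Γ(LL n s, (⊤ : (Spec (CommRingCat.of R)).Opens)) :=
    finite_of_bijective hbij
  let π : (Fin (n + 1) → R) →ₗ[R] Γ(LL n s, (⊤ : (Spec (CommRingCat.of R)).Opens)) :=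
    Fintype.linearCombination R (sg n s)
  have hker : ProjUP.secKernel n R s = LinearMap.ker π := rfl
  have hsurj : Function.Surjective π := by
    intro x
    obtain ⟨a, ha⟩ := piLin_surjective n s x
    refine ⟨fun i => (Scheme.ΓSpecIso (CommRingCat.of R)).hom.hom (a i), ?_⟩
    rw [← ha, piLin_apply, Fintype.linearCombination_apply]
    refine Finset.sum_congr rfl fun i _ => ?_
    show (Scheme.ΓSpecIso (CommRingCat.of R)).inv.hom
      ((Scheme.ΓSpecIso (CommRingCat.of R)).hom.hom (a i)) • sg n s i = _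
    rw [(Scheme.ΓSpecIso (CommRingCat.of R)).hom_inv_id_apply (a i)]
  let e : ((Fin (n + 1) → R) ⧸ ProjUP.secKernel n R s) ≃ₗ[R]
      Γ(LL n s, (⊤ : (Spec (CommRingCat.of R)).Opens)) :=
    (Submodule.quotEquivOfEq _ _ hker).trans (π.quotKerEquivOfSurjective hsurj)
  refine ⟨Module.Projective.of_equiv e.symm, fun p => ?_⟩
  obtain ⟨q, rfl⟩ := exists_comap_eq hbij p
  rw [Module.rankAtStalk_eq_of_equiv e, ← rankAtStalk_eq_of_bijective hbij q,
    ← Groth.Agent.H8.primeIdealOf_fromSpec (isAffineOpen_top (Spec (CommRingCat.of R))) q]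
  exact Groth.Agent.H67.FreeNearFinite.rankAtStalk_sections (LL n s) hfl
    (isAffineOpen_top (Spec (CommRingCat.of R))) _

theorem exists_toTop {R' : CommRingCat.{u}} (M : ModuleCat.{u} R') :
    ∃ t : M →+ Γ(tilde M, (⊤ : (Spec R').Opens)), Function.Bijective t ∧
      ∀ (r : R') (m : M), t (r • m) = ((Scheme.ΓSpecIso R').inv.hom r) • t m := by
  refine ⟨(tilde.toOpen M ⊤).hom.toAddMonoidHom, ?_, ?_⟩
  · exact ConcreteCategory.bijective_of_isIso (tilde.toOpen M ⊤)
  · intro r m
    have h1 : (tilde.toOpen M ⊤).hom (r • m) = r • (tilde.toOpen M ⊤).hom m :=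
      (tilde.toOpen M ⊤).hom.map_smul r m
    have h2 : ∀ x : Γ(tilde M, (⊤ : (Spec R').Opens)),
        r • x = ((Scheme.ΓSpecIso R').inv.hom r) • x := by
      intro x
      rw [Scheme.Modules.smul_Spec_def]
      have h : ((⊤ : (Spec R').Opens).leTop) = 𝟙 _ := rfl
      rw [h, op_id, CategoryTheory.Functor.map_id]
      rfl
    exact h1.trans (h2 _)

theorem backward (F : Submodule R (Fin (n + 1) → R))
    [Module.Projective R ((Fin (n + 1) → R) ⧸ F)]
    (hrk : ∀ p : PrimeSpectrum R,
      Module.rankAtStalk (R := R) ((Fin (n + 1) → R) ⧸ F) p = 1) :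
    ∃ s : Spec (CommRingCat.of R) ⟶ CohB1.ProjSpace n R,
      s ≫ CohB1.ProjSpace.toSpec n R = 𝟙 _ ∧ ProjUP.secKernel n R s = F := by
  let L : (Spec (CommRingCat.of R)).Modules :=
    tilde (R := CommRingCat.of R) (ModuleCat.of R ((Fin (n + 1) → R) ⧸ F))
  letI : Algebra R Γ(Spec (CommRingCat.of R), ⊤) :=
    (Scheme.ΓSpecIso (CommRingCat.of R)).inv.hom.toAlgebra
  letI : Module R Γ(L, (⊤ : (Spec (CommRingCat.of R)).Opens)) :=
    Module.compHom _ (Scheme.ΓSpecIso (CommRingCat.of R)).inv.hom
  haveI : IsScalarTower R Γ(Spec (CommRingCat.of R), ⊤)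
      Γ(L, (⊤ : (Spec (CommRingCat.of R)).Opens)) :=
    IsScalarTower.of_algebraMap_smul (fun _ _ => rfl)
  have hbij : Function.Bijective (algebraMap R Γ(Spec (CommRingCat.of R), ⊤)) :=
    ConcreteCategory.bijective_of_isIso (Scheme.ΓSpecIso (CommRingCat.of R)).inv
  obtain ⟨t, htbij, htsmul⟩ := exists_toTop (R' := CommRingCat.of R)
    (ModuleCat.of R ((Fin (n + 1) → R) ⧸ F))
  let tl : ((Fin (n + 1) → R) ⧸ F) →ₗ[R] Γ(L, (⊤ : (Spec (CommRingCat.of R)).Opens)) :=
    { toFun := t, map_add' := t.map_add, map_smul' := fun r m => htsmul r m }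
  let eN : ((Fin (n + 1) → R) ⧸ F) ≃ₗ[R] Γ(L, (⊤ : (Spec (CommRingCat.of R)).Opens)) :=
    LinearEquiv.ofBijective tl htbij
  haveI : L.IsQuasicoherent := inferInstanceAs
    (tilde (R := CommRingCat.of R) (ModuleCat.of R ((Fin (n + 1) → R) ⧸ F))).IsQuasicoherent
  haveI hfinR : Module.Finite R Γ(L, (⊤ : (Spec (CommRingCat.of R)).Opens)) :=
    Module.Finite.equiv eN
  haveI hprojR : Module.Projective R Γ(L, (⊤ : (Spec (CommRingCat.of R)).Opens)) :=
    Module.Projective.of_equiv eN
  haveI hfinA : Module.Finite Γ(Spec (CommRingCat.of R), ⊤)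
      Γ(L, (⊤ : (Spec (CommRingCat.of R)).Opens)) :=
    Module.Finite.of_restrictScalars_finite R _ _
  haveI hprojA : Module.Projective Γ(Spec (CommRingCat.of R), ⊤)
      Γ(L, (⊤ : (Spec (CommRingCat.of R)).Opens)) :=
    projective_of_bijective' hbij
  have hL : PicF.IsInvertible L := by
    intro x
    have hm : Module.rankAtStalk Γ(L, (⊤ : (Spec (CommRingCat.of R)).Opens))
        ((isAffineOpen_top (Spec (CommRingCat.of R))).primeIdealOf ⟨x, trivial⟩) = 1 := by
      rw [rankAtStalk_eq_of_bijective hbij, ← Module.rankAtStalk_eq_of_equiv eN]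
      exact hrk _
    obtain ⟨U, hxU, ⟨e⟩⟩ := Groth.Agent.H67.TraceSplit.exists_iso_freeMod_of_rankAtStalk L
      (isAffineOpen_top (Spec (CommRingCat.of R))) trivial hm
    exact ⟨U, hxU, ⟨e ≪≫ Groth.Agent.H67.InvertibleNearFibre.freeModOneIso _⟩⟩
  let σ : Fin (n + 1) → Γ(L, (⊤ : (Spec (CommRingCat.of R)).Opens)) := fun i =>
    eN (F.mkQ (Pi.single i 1))
  have hcomb : ∀ c : Fin (n + 1) → R, eN (F.mkQ c) = ∑ i, c i • σ i := by
    intro c
    have hc : c = ∑ i, c i • (Pi.single i 1 : Fin (n + 1) → R) := by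
      ext j
      simp [Finset.sum_apply, Pi.single_apply]
    conv_lhs => rw [hc]
    rw [map_sum, map_sum]
    refine Finset.sum_congr rfl fun i _ => ?_
    rw [map_smul, map_smul]
  have hspan : Submodule.span Γ(Spec (CommRingCat.of R), ⊤) (Set.range σ) = ⊤ := by
    rw [eq_top_iff]
    intro y _
    obtain ⟨m, rfl⟩ := eN.surjective y
    obtain ⟨c, rfl⟩ := F.mkQ_surjective m
    rw [hcomb]
    refine Submodule.sum_mem _ fun i _ => ?_
    rw [← algebraMap_smul Γ(Spec (CommRingCat.of R), ⊤) (c i) (σ i)]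
    exact Submodule.smul_mem _ _ (Submodule.subset_span ⟨i, rfl⟩)
  have hσ : ProjUP.GeneratedBy L σ := fun x =>
    span_germ_eq_top_of_span_eq_top L (isAffineOpen_top (Spec (CommRingCat.of R))) σ hspan
      (x := x) trivial
  obtain ⟨r, hr, τ, hτ⟩ := Groth.Agent.S3572.result n (𝟙 (Spec (CommRingCat.of R))) L hL σ hσ
  refine ⟨r, hr, ?_⟩
  have hinj : Function.Injective (τ.hom.app ⊤) :=
    (ConcreteCategory.bijective_of_isIso (τ.hom.app ⊤)).1
  ext c
  rw [mem_secKernel_iff]
  have h3 : τ.hom.app ⊤ (∑ i, ((Scheme.ΓSpecIso (CommRingCat.of R)).inv.hom (c i)) • sg n r i) =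
      eN (F.mkQ c) := by
    rw [hcomb, map_sum]
    refine Finset.sum_congr rfl fun i _ => ?_
    rw [Scheme.Modules.Hom.app_smul]
    exact congrArg (((Scheme.ΓSpecIso (CommRingCat.of R)).inv.hom (c i)) • ·) (hτ i)
  constructor
  · intro h0
    rw [h0, map_zero] at h3
    have h4 : F.mkQ c = 0 :=
      eN.injective (h3.symm.trans (map_zero eN).symm)
    exact (Submodule.Quotient.mk_eq_zero F).mp h4
  · intro hc
    have h4 : F.mkQ c = 0 :=
      (Submodule.Quotient.mk_eq_zero F).mpr hc
    rw [h4, map_zero] at h3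
    exact hinj (h3.trans (map_zero _).symm)

theorem main (F : Submodule R (Fin (n + 1) → R)) :
    (∃ s : Spec (CommRingCat.of R) ⟶ CohB1.ProjSpace n R,
        s ≫ CohB1.ProjSpace.toSpec n R = 𝟙 _ ∧ ProjUP.secKernel n R s = F) ↔
      (Module.Projective R ((Fin (n + 1) → R) ⧸ F) ∧
        ∀ p : PrimeSpectrum R, Module.finrank (Localization.AtPrime p.asIdeal)
          (LocalizedModule p.asIdeal.primeCompl ((Fin (n + 1) → R) ⧸ F)) = 1) := by
  constructor
  · rintro ⟨s, -, rfl⟩
    exact forward n s
  · rintro ⟨hp, hrk⟩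
    haveI := hp
    exact backward n F hrk

end Main

end Groth.Agent.H19.ProjSec2
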