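import Mathlib
import Groth.Prelude.Def_Pic
import Groth.Prelude.Def_Coh
import Groth.Agent.H67.UnitIso
import Groth.Agent.H67.PullBasis
import Groth.Agent.H18.STL.Invertible
import Groth.Agent.H18.STL.Inverse

/-!
# Invertible modules trivial locally over the base are pulled back from the base (helper19)

`f : X ⟶ S` with `O_S(U) ≃ O_X(f⁻¹ U)` for all `U`; `L` invertible on `X`, trivial over `f⁻¹ U`
for a cover of `S`.  Then `f_* L` is invertible and `f^* f_* L ≅ L`.
-/

set_option autoImplicit false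
universe u
open CategoryTheory CategoryTheory.Limits AlgebraicGeometry TopologicalSpace Opposite

namespace Groth.Agent.H19.PullLocTriv

open Groth.Agent.H18 Groth.Agent.H18.PUP Groth.Agent.H18.STL Scheme.Modules

variable {X S : Scheme.{u}} (f : X ⟶ S)

/-- a basis of `L` over `f⁻¹ U` is a basis of `f_* L` over `U` when functions on `S` and on `X`
agree -/
theorem isBasisOn_pushforward (hf : ∀ U : S.Opens, Function.Bijective (f.app U)) (L : X.Modules)
    (U : S.Opens) (e : Γ(L, f ⁻¹ᵁ U)) (he : IsBasisOn L (f ⁻¹ᵁ U) e) :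
    IsBasisOn ((pushforward f).obj L) U (show Γ((pushforward f).obj L, U) from e) := by
  intro V hV
  have hb := he (f ⁻¹ᵁ V) (f.preimage_mono hV)
  have : (fun r : Γ(S, V) => r • mres ((pushforward f).obj L) hV
      (show Γ((pushforward f).obj L, U) from e)) =
      (fun r' : Γ(X, f ⁻¹ᵁ V) => r' • mres L (f.preimage_mono hV) e) ∘ (f.app V).hom := by
    funext r
    rfl
  rw [this]
  exact hb.comp (hf V)

/-- the counit `f^* f_* L ⟶ L` sends the pullback of a section `e` of `f_* L` over `U` to `e` -/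
theorem counit_app_pullSect (L : X.Modules) (U : S.Opens) (e : Γ(L, f ⁻¹ᵁ U)) :
    ((pullbackPushforwardAdjunction f).counit.app L).app (f ⁻¹ᵁ U)
      (OmegaSh.pullSect f ((pushforward f).obj L) U (show Γ((pushforward f).obj L, U) from e)) =
      e := by
  have h := (pullbackPushforwardAdjunction f).right_triangle_components L
  have h2 := congrArg (fun φ : (pushforward f).obj L ⟶ (pushforward f).obj L =>
    φ.app U (show Γ((pushforward f).obj L, U) from e)) h
  exact h2

theorem main (hf : ∀ U : S.Opens, Function.Bijective (f.app U)) (L : X.Modules)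
    (hloc : ∀ s : S, ∃ U : S.Opens, s ∈ U ∧
      Nonempty ((Scheme.Modules.pullback (f ⁻¹ᵁ U).ι).obj L ≅ Coh.structureModule (f ⁻¹ᵁ U))) :
    ∃ N : S.Modules, PicF.IsInvertible N ∧ Nonempty (L ≅ (Scheme.Modules.pullback f).obj N) := by
  -- local bases of `L` over preimages of opens of the base
  have hbasis : ∀ s : S, ∃ (U : S.Opens) (e : Γ(L, f ⁻¹ᵁ U)), s ∈ U ∧ IsBasisOn L (f ⁻¹ᵁ U) e := by
    intro s
    obtain ⟨U, hsU, ⟨φ⟩⟩ := hloc s
    let φ' : L.restrict (f ⁻¹ᵁ U).ι ≅ Coh.structureModule ((f ⁻¹ᵁ U : X.Opens) : Scheme.{u}) :=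
      (restrictFunctorIsoPullback (f ⁻¹ᵁ U).ι).app L ≪≫ φ
    obtain ⟨σ, hσ⟩ := Groth.Agent.H8.exists_isFreeGen_of_iso L (f ⁻¹ᵁ U) φ'
    exact ⟨U, σ, hsU, hσ⟩
  let N : S.Modules := (pushforward f).obj L
  have hN : PicF.IsInvertible N := by
    refine isInvertible_of_local_bases N (fun s => ?_)
    obtain ⟨U, e, hsU, he⟩ := hbasis s
    exact ⟨U, (show Γ((pushforward f).obj L, U) from e), hsU, isBasisOn_pushforward f hf L U e he⟩
  have hε : IsIso ((pullbackPushforwardAdjunction f).counit.app L) := by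
    refine Groth.Agent.H67.UnitIso.isIso_of_isIso_restrict _ (fun x => ?_)
    obtain ⟨U, e, hsU, he⟩ := hbasis (f x)
    refine ⟨f ⁻¹ᵁ U, hsU, ?_⟩
    rw [Groth.Agent.H67.GenLocusAffine.isIso_restrict_iff]
    intro W hW
    set ε := (pullbackPushforwardAdjunction f).counit.app L with hε_def
    let a := OmegaSh.pullSect f N U (show Γ((pushforward f).obj L, U) from e)
    have ha : IsBasisOn ((Scheme.Modules.pullback f).obj N) (f ⁻¹ᵁ U) a :=
      Groth.Agent.H67.PullBasis.isBasisOn_pullSect f N U _ (isBasisOn_pushforward f hf L U e he)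
    have hεa : ε.app (f ⁻¹ᵁ U) a = e := counit_app_pullSect f L U e
    have hb1 := ha W hW
    have hb2 := he W hW
    have hcomp : (fun r : Γ(X, W) => r • mres L hW e) =
        (ε.app W) ∘ (fun r : Γ(X, W) => r • mres ((Scheme.Modules.pullback f).obj N) hW a) := by
      funext r
      have h1 : ε.app W (r • mres ((Scheme.Modules.pullback f).obj N) hW a) =
          r • ε.app W (mres ((Scheme.Modules.pullback f).obj N) hW a) :=
        Scheme.Modules.Hom.app_smul ε r _
      have h2 : ε.app W (mres ((Scheme.Modules.pullback f).obj N) hW a) = mres L hW (ε.app (f ⁻¹ᵁ U) a) :=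
        (hom_app_mres ε hW a).symm
      simp only [Function.comp]
      rw [h1, h2, hεa]
    have hb3 : Function.Bijective ((ε.app W) ∘
        (fun r : Γ(X, W) => r • mres ((Scheme.Modules.pullback f).obj N) hW a)) := by
      rw [← hcomp]
      exact hb2
    exact (Function.Bijective.of_comp_iff _ hb1).1 hb3
  exact ⟨N, hN, ⟨(asIso ((pullbackPushforwardAdjunction f).counit.app L)).symm⟩⟩

end Groth.Agent.H19.PullLocTriv
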