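import Groth.Agent.H19.QuasiReg
import Mathlib.Algebra.MvPolynomial.Monad
import Mathlib.LinearAlgebra.Matrix.NonsingularInverse

set_option autoImplicit false

namespace Groth.Agent.H19.QRegGen

open MvPolynomial Groth.Agent.H19.QReg

universe u

variable {A : Type u} [CommRing A] {n : ℕ}

/-- the linear forms attached to a matrix -/
noncomputable def lin (N : Fin n → Fin n → A) (i : Fin n) : MvPolynomial (Fin n) A :=
  ∑ j, C (N i j) * X j

lemma lin_isHomogeneous (N : Fin n → Fin n → A) (i : Fin n) : (lin N i).IsHomogeneous 1 :=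
  IsHomogeneous.sum _ _ _ (fun _ _ => isHomogeneous_C_mul_X _ _)

lemma eval_lin (N : Fin n → Fin n → A) (f : Fin n → A) (i : Fin n) :
    eval f (lin N i) = ∑ j, N i j * f j := by
  simp [lin]

lemma map_lin {B : Type*} [CommRing B] (φ : A →+* B) (N : Fin n → Fin n → A) (i : Fin n) :
    map φ (lin N i) = lin (fun i j => φ (N i j)) i := by
  simp [lin]

lemma bind₁_lin_lin (M N : Fin n → Fin n → A) (i : Fin n) :
    bind₁ (lin M) (lin N i) = lin (fun i k => ∑ j, N i j * M j k) i := by
  simp only [lin, map_sum, map_mul, bind₁_C_right, bind₁_X_right, Finset.mul_sum]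
  rw [Finset.sum_comm]
  refine Finset.sum_congr rfl fun k _ => ?_
  rw [Finset.sum_mul]
  refine Finset.sum_congr rfl fun j _ => ?_
  ring

lemma lin_one (i : Fin n) : lin (fun i j => if i = j then (1 : A) else 0) i = X i := by
  simp [lin]

lemma coeff_lin (N : Fin n → Fin n → A) (i k : Fin n) :
    coeff (Finsupp.single k 1) (lin N i) = N i k := by
  classical
  simp only [lin, coeff_sum, coeff_C_mul, coeff_X]
  rw [Finset.sum_eq_single k]
  · simp
  · intro j _ hjk
    have : Finsupp.single j 1 ≠ Finsupp.single k 1 := by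
      intro h
      exact hjk (Finsupp.single_left_injective one_ne_zero h)
    simp [this]
  · intro h; exact absurd (Finset.mem_univ k) h

lemma lin_one' : lin (fun i j : Fin n => if i = j then (1 : A) else 0) = X := by
  funext i
  exact lin_one i

/-- Quasi-regularity only depends on the ideal (for sequences of the same length). -/
theorem qr_of_span_eq (f f' : Fin n → A) (hf : QR f)
    (h : Ideal.span (Set.range f') = Ideal.span (Set.range f)) : QR f' := by
  classical
  have hJ : J f' = J f := h
  have hN : ∀ i, ∃ c : Fin n → A, ∑ j, c j * f j = f' i := fun i =>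
    Ideal.mem_span_range_iff_exists_fun.mp (h ▸ Ideal.subset_span ⟨i, rfl⟩)
  have hM : ∀ i, ∃ c : Fin n → A, ∑ j, c j * f' j = f i := fun i =>
    Ideal.mem_span_range_iff_exists_fun.mp (h.symm ▸ Ideal.subset_span ⟨i, rfl⟩)
  choose N hN using hN
  choose M hM using hM
  -- `M * N - 1` has entries in `J`
  have hMN : ∀ i k, (∑ j, M i j * N j k) - (if i = k then 1 else 0) ∈ J f := by
    intro i k
    set D : Fin n → Fin n → A := fun i k => (∑ j, M i j * N j k) - (if i = k then 1 else 0)
      with hD
    have hev : eval f (lin D i) = 0 := by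
      rw [eval_lin]
      simp only [hD, sub_mul, Finset.sum_sub_distrib, ite_mul, one_mul, zero_mul,
        Finset.sum_ite_eq, Finset.mem_univ, if_true]
      rw [sub_eq_zero, ← hM i]
      simp only [Finset.sum_mul]
      rw [Finset.sum_comm]
      refine Finset.sum_congr rfl fun j _ => ?_
      rw [← hN j, Finset.mul_sum]
      refine Finset.sum_congr rfl fun k _ => ?_
      ring
    have := hf 1 (lin D i) (lin_isHomogeneous D i) (by rw [hev]; exact zero_mem _)
      (Finsupp.single k 1)
    rwa [coeff_lin] at this
  set π := Ideal.Quotient.mk (J f) with hπ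
  have hMNb : (Matrix.of fun i j => π (M i j)) * (Matrix.of fun i j => π (N i j)) =
      (1 : Matrix (Fin n) (Fin n) (A ⧸ J f)) := by
    ext i k
    rw [Matrix.mul_apply, Matrix.one_apply]
    simp only [Matrix.of_apply]
    have h1 := Ideal.Quotient.eq_zero_iff_mem.mpr (hMN i k)
    rw [map_sub, sub_eq_zero, map_sum] at h1
    simp only [map_mul] at h1
    rw [h1]
    split_ifs <;> simp
  have hNMb := mul_eq_one_comm.mp hMNb
  have hone : (fun i k => ∑ j, π (N i j) * π (M j k)) =
      fun i k : Fin n => if i = k then (1 : A ⧸ J f) else 0 := by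
    funext i k
    have := congrFun (congrFun hNMb i) k
    rw [Matrix.mul_apply, Matrix.one_apply] at this
    simpa only [Matrix.of_apply] using this
  intro d P' hP' hev'
  have hP : (bind₁ (lin N) P').IsHomogeneous d := by
    have := hP'.aeval (lin N) (lin_isHomogeneous N)
    rwa [one_mul] at this
  have hevP : eval f (bind₁ (lin N) P') = eval f' P' := by
    have h1 := aeval_bind₁ (S := A) f (lin N) P'
    have h2 : (fun i => aeval f (lin N i)) = f' := by
      funext i
      rw [← hN i, ← eval_lin]
      rfl
    rw [h2] at h1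
    exact h1
  have hco := hf d _ hP (by rw [hevP, ← hJ]; exact hev')
  have hzero : map π (bind₁ (lin N) P') = 0 := by
    ext m
    rw [coeff_map, coeff_zero]
    exact Ideal.Quotient.eq_zero_iff_mem.mpr (hco m)
  rw [map_bind₁] at hzero
  simp only [map_lin] at hzero
  have h3 := congrArg (bind₁ (lin fun i j => π (M i j))) hzero
  rw [bind₁_bind₁, map_zero] at h3
  simp only [bind₁_lin_lin] at h3
  rw [hone, lin_one', bind₁_X_left] at h3
  intro m
  have h4 := congrArg (coeff m) h3
  rw [AlgHom.id_apply, coeff_map, coeff_zero] at h4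
  rw [hJ]
  exact Ideal.Quotient.eq_zero_iff_mem.mp h4

end Groth.Agent.H19.QRegGen
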