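import Groth.Agent.H67.SumSections
import Groth.Prelude.Def_LinSer

/-!
# Rational points impose at most one condition each on a linear system (helper19)
-/

set_option autoImplicit false
universe u
open CategoryTheory CategoryTheory.Limits AlgebraicGeometry TopologicalSpace Opposite

namespace Groth.Agent.H19.RatPts

open Groth.Agent.H18 Groth.Agent.H18.PUP Groth.Agent.H18.STL Groth.Agent.H67.BasisLocal
  Groth.Agent.H67.SumSections

variable {k : Type u} [Field k] {X : Scheme.{u}}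

theorem top_le_preimage (P : Spec (CommRingCat.of k) ⟶ X) (U : X.Opens)
    (hU : P (IsLocalRing.closedPoint k) ∈ U) : (⊤ : (Spec (CommRingCat.of k)).Opens) ≤ P ⁻¹ᵁ U := by
  intro y _
  have : y = IsLocalRing.closedPoint k := Subsingleton.elim _ _
  rw [this]
  exact hU

/-- evaluation of functions at a point with values in the field `k` -/
noncomputable def evalAt (P : Spec (CommRingCat.of k) ⟶ X) (U : X.Opens)
    (hU : P (IsLocalRing.closedPoint k) ∈ U) : Γ(X, U) →+* k :=
  ((Scheme.ΓSpecIso (CommRingCat.of k)).hom.hom).comp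
    (P.appLE U ⊤ (top_le_preimage P U hU)).hom

theorem evalAt_ne_zero (P : Spec (CommRingCat.of k) ⟶ X) (U : X.Opens)
    (hU : P (IsLocalRing.closedPoint k) ∈ U) (f : Γ(X, U))
    (hf : P (IsLocalRing.closedPoint k) ∈ X.basicOpen f) : evalAt P U hU f ≠ 0 := by
  intro h0
  have h1 : (P.appLE U ⊤ (top_le_preimage P U hU)).hom f = 0 := by
    have hinj : Function.Injective ((Scheme.ΓSpecIso (CommRingCat.of k)).hom.hom) :=
      (Scheme.ΓSpecIso (CommRingCat.of k)).commRingCatIsoToRingEquiv.injective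
    exact hinj (h0.trans (map_zero _).symm)
  have h2 := Scheme.basicOpen_appLE P ⊤ U (top_le_preimage P U hU) f
  have h3 : IsLocalRing.closedPoint k ∈
      (Spec (CommRingCat.of k)).basicOpen ((P.appLE U ⊤ (top_le_preimage P U hU)).hom f) := by
    rw [h2]
    exact ⟨trivial, hf⟩
  rw [h1, Scheme.basicOpen_zero] at h3
  exact h3

theorem evalAt_toGlobal (P : Spec (CommRingCat.of k) ⟶ X) (q : X ⟶ Spec (CommRingCat.of k))
    (hPq : P ≫ q = 𝟙 _) (U : X.Opens)
    (hU : P (IsLocalRing.closedPoint k) ∈ U) (c : k) :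
    evalAt P U hU (rres X (le_top : U ≤ ⊤) (Coh.toGlobal q c)) = c := by
  have hid : ∀ (g : Spec (CommRingCat.of k) ⟶ Spec (CommRingCat.of k)) (_ : g = 𝟙 _)
      (e : (⊤ : (Spec (CommRingCat.of k)).Opens) ≤ g ⁻¹ᵁ ⊤), g.appLE ⊤ ⊤ e = 𝟙 _ := by
    intro g hg e
    subst hg
    rw [Scheme.Hom.appLE, Scheme.Hom.id_app]
    exact (Category.id_comp _).trans (CategoryTheory.Functor.map_id _ _)
  have key : q.appTop ≫ X.presheaf.map (homOfLE (le_top : U ≤ ⊤)).op ≫
      P.appLE U ⊤ (top_le_preimage P U hU) = 𝟙 _ := by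
    rw [Scheme.Hom.map_appLE]
    have h1 : q.appTop = q.appLE ⊤ (q ⁻¹ᵁ ⊤) le_rfl := Scheme.Hom.app_eq_appLE q
    rw [h1]
    have h2 := Scheme.Hom.appLE_comp_appLE P q ⊤ (q ⁻¹ᵁ ⊤) ⊤ le_rfl (fun _ _ => trivial)
    exact h2.trans (hid _ hPq _)
  set z : Γ(Spec (CommRingCat.of k), ⊤) := (Scheme.ΓSpecIso (CommRingCat.of k)).inv.hom c with hz
  have h3 : (P.appLE U ⊤ (top_le_preimage P U hU)).hom
      (rres X (le_top : U ≤ ⊤) (Coh.toGlobal q c)) = z := by
    have := congrArg (fun φ => φ.hom z) key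
    exact this
  show (Scheme.ΓSpecIso (CommRingCat.of k)).hom.hom
    ((P.appLE U ⊤ (top_le_preimage P U hU)).hom
      (rres X (le_top : U ≤ ⊤) (Coh.toGlobal q c))) = c
  rw [h3, hz]
  exact congrArg (fun φ => φ.hom c) (Scheme.ΓSpecIso (CommRingCat.of k)).inv_hom_id

theorem exists_ne_zero_mulVec_eq_zero (n : ℕ) (M : Matrix (Fin n) (Fin (n + 1)) k) :
    ∃ c : Fin (n + 1) → k, c ≠ 0 ∧ M.mulVec c = 0 := by
  by_contra hcon
  have hinj : Function.Injective (Matrix.mulVecLin M) := by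
    rw [← LinearMap.ker_eq_bot, LinearMap.ker_eq_bot']
    intro c hc
    by_contra hne
    exact hcon ⟨c, hne, hc⟩
  have := LinearMap.finrank_le_finrank_of_injective hinj
  simp at this

theorem unitHomEquiv_val_top {L : X.Modules} (t : Coh.structureModule X ⟶ L) :
    (L.unitHomEquiv t).val (op ⊤) = SecTwist.val t ⊤ :=
  SheafOfModules.unitHomEquiv_apply_coe (R := X.ringCatSheaf) L t (op ⊤)

theorem mres_sum (M : X.Modules) {W W' : X.Opens} (h : W' ≤ W) {ι : Type*} (s : Finset ι)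
    (f : ι → Γ(M, W)) : mres M h (∑ j ∈ s, f j) = ∑ j ∈ s, mres M h (f j) :=
  map_sum (mres M h).hom f s

theorem main (k : Type u) [Field k] (X : Scheme.{u}) [X.Over (Spec (CommRingCat.of k))]
    (L : X.Modules) (hL : PicF.IsInvertible L)
    (n : ℕ) (p : Fin n → (Spec (CommRingCat.of k) ⟶ X))
    (hp : ∀ i, p i ≫ (X ↘ Spec (CommRingCat.of k)) = 𝟙 _)
    (t : Fin (n + 1) → (Coh.structureModule X ⟶ L))
    (ht : LinSer.LinIndep k X L (fun j => (L.unitHomEquiv (t j)).val (op ⊤))) :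
    ∃ s : Coh.structureModule X ⟶ L, s ≠ 0 ∧
      ∀ i, (p i) (IsLocalRing.closedPoint k) ∉ CohB1.genLocus L s := by
  classical
  choose W e hxW he using
    fun i => exists_basis_of_isInvertible hL ((p i) (IsLocalRing.closedPoint k))
  let a : ∀ i : Fin n, Fin (n + 1) → Γ(X, W i) :=
    fun i j => (he i).coord le_rfl (SecTwist.val (t j) (W i))
  have ha : ∀ i j, SecTwist.val (t j) (W i) = a i j • e i := by
    intro i j
    have := (he i).coord_smul le_rfl (SecTwist.val (t j) (W i))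
    rw [mres_self] at this
    exact this.symm
  let M : Matrix (Fin n) (Fin (n + 1)) k := fun i j => evalAt (p i) (W i) (hxW i) (a i j)
  obtain ⟨c, hc0, hMc⟩ := exists_ne_zero_mulVec_eq_zero n M
  let τ : Fin (n + 1) → LinSer.Sect X L := fun j => (L.unitHomEquiv (t j)).val (op ⊤)
  have hτ : ∀ j, τ j = SecTwist.val (t j) ⊤ := fun j => unitHomEquiv_val_top (t j)
  let σ : Γ(L, (⊤ : X.Opens)) :=
    ∑ j, (Coh.toGlobal (X ↘ Spec (CommRingCat.of k)) (c j)) • τ j
  refine ⟨sectionHom L σ, ?_, ?_⟩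
  · intro h0
    have h1 : SecTwist.val (sectionHom L σ) ⊤ = 0 := by rw [h0]; exact val_zero ⊤
    rw [val_sectionHom, mres_self] at h1
    exact hc0 (ht c h1)
  · intro i hi
    have hval : SecTwist.val (sectionHom L σ) (W i) =
        (∑ j, rres X (le_top : W i ≤ ⊤) (Coh.toGlobal (X ↘ Spec (CommRingCat.of k)) (c j)) *
          a i j) • e i := by
      rw [val_sectionHom, mres_sum, Finset.sum_smul]
      refine Finset.sum_congr rfl fun j _ => ?_
      have e1 : mres L (le_top : W i ≤ ⊤)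
          ((Coh.toGlobal (X ↘ Spec (CommRingCat.of k)) (c j)) • τ j) =
          rres X (le_top : W i ≤ ⊤) (Coh.toGlobal (X ↘ Spec (CommRingCat.of k)) (c j)) •
            mres L (le_top : W i ≤ ⊤) (τ j) :=
        mres_smul L (le_top : W i ≤ ⊤) _ _
      refine e1.trans ?_
      rw [hτ, mres_val, ha, mul_smul]
    have h1 := genLocus_inf_eq_basicOpen (sectionHom L σ) (he i) _ hval
    have h2 : (p i) (IsLocalRing.closedPoint k) ∈ X.basicOpen
        (∑ j, rres X (le_top : W i ≤ ⊤) (Coh.toGlobal (X ↘ Spec (CommRingCat.of k)) (c j)) *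
          a i j) := by
      rw [← h1]; exact ⟨hi, hxW i⟩
    apply evalAt_ne_zero (p i) (W i) (hxW i) _ h2
    rw [map_sum]
    have h3 : ∀ j, evalAt (p i) (W i) (hxW i)
        (rres X (le_top : W i ≤ ⊤) (Coh.toGlobal (X ↘ Spec (CommRingCat.of k)) (c j)) * a i j) =
        M i j * c j := by
      intro j
      rw [map_mul, evalAt_toGlobal (p i) _ (hp i), mul_comm]
    rw [Finset.sum_congr rfl (fun j _ => h3 j)]
    exact congrFun hMc i

end Groth.Agent.H19.RatPts
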