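import Groth.Prelude.Def_FSch5
import Mathlib.AlgebraicGeometry.Noetherian

/-!
# The formal system induced on an open subset

Helper library (helper19): the restriction of a formal (resp. locally Noetherian formal) system to
an open of the common underlying space is again such.
-/

set_option autoImplicit false
universe u
open CategoryTheory CategoryTheory.Limits Opposite AlgebraicGeometry TopologicalSpace

namespace Groth.Agent.H19.RestrictOpenSys

section General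

variable {X Y : Scheme.{u}}

lemma isClosedImmersion_resLE_of_eq (f : X ⟶ Y) [IsClosedImmersion f] (V : Y.Opens) (W : X.Opens)
    (e : W ≤ f ⁻¹ᵁ V) (he : f ⁻¹ᵁ V = W) : IsClosedImmersion (f.resLE V W e) := by
  subst he
  rw [Scheme.Hom.resLE_eq_morphismRestrict]
  exact IsZariskiLocalAtTarget.restrict (P := @IsClosedImmersion) ‹_› V

lemma surjective_resLE_of_eq (f : X ⟶ Y) (hf : Function.Surjective f.base) (V : Y.Opens)
    (W : X.Opens) (e : W ≤ f ⁻¹ᵁ V) (he : f ⁻¹ᵁ V = W) :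
    Function.Surjective (f.resLE V W e).base := by
  subst he
  rw [Scheme.Hom.resLE_eq_morphismRestrict]
  have h1 : Surjective f := ⟨hf⟩
  have h2 : Surjective (f ∣_ V) := IsZariskiLocalAtTarget.restrict (P := @Surjective) h1 V
  exact h2.surj

lemma ker_resLE_ideal (f : X ⟶ Y) [QuasiCompact f] (V : Y.Opens) (W : X.Opens)
    (e : W ≤ f ⁻¹ᵁ V) (he : f ⁻¹ᵁ V = W) (V' : V.toScheme.affineOpens) :
    (f.resLE V W e).ker.ideal V' =
      f.ker.ideal ⟨V.ι ''ᵁ V', V'.2.image_of_isOpenImmersion _⟩ := by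
  subst he
  rw [Scheme.Hom.resLE_eq_morphismRestrict]
  exact Scheme.ker_morphismRestrict_ideal f V V'

end General

variable (𝔛 : FSch.Sys.{u}) (h : 𝔛.IsFormal) (U : (𝔛.X 0).Opens)

theorem isFormal_restrictOpen : (𝔛.restrictOpen h U).IsFormal := by
  intro n
  have := (h n).1
  exact ⟨isClosedImmersion_resLE_of_eq (𝔛.ι n) _ _ _ (𝔛.lvU_succ h n U),
    surjective_resLE_of_eq (𝔛.ι n) (h n).2 _ _ _ (𝔛.lvU_succ h n U)⟩

lemma toX_preimage_lvU (n : ℕ) : (𝔛.toX n) ⁻¹ᵁ (𝔛.lvU h n U) = 𝔛.lvU h 0 U := by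
  induction n with
  | zero => rfl
  | succ n ih =>
    change (𝔛.toX n) ⁻¹ᵁ ((𝔛.ι n) ⁻¹ᵁ (𝔛.lvU h (n + 1) U)) = _
    rw [𝔛.lvU_succ h n U, ih]

lemma restrictOpen_toX (n : ℕ) :
    (𝔛.restrictOpen h U).toX n =
      (𝔛.toX n).resLE (𝔛.lvU h n U) (𝔛.lvU h 0 U) (toX_preimage_lvU 𝔛 h U n).ge := by
  induction n with
  | zero =>
    refine Eq.trans ?_ (Scheme.Hom.resLE_id _).symm
    exact (Scheme.homOfLE_rfl _ _).symm
  | succ n ih =>
    refine (congrArg (· ≫ (𝔛.restrictOpen h U).ι n) ih).trans ?_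
    exact Scheme.Hom.resLE_comp_resLE _ _ _ _

lemma ker_ideal_eq (hA : 𝔛.IsAdic) (n : ℕ) (V' : (𝔛.lvU h (n + 1) U).toScheme.affineOpens) :
    ((𝔛.ι n).resLE (𝔛.lvU h (n + 1) U) (𝔛.lvU h n U) (𝔛.lvU_le h n U)).ker.ideal V' =
      (((𝔛.toX (n + 1)).resLE (𝔛.lvU h (n + 1) U) (𝔛.lvU h 0 U)
        (toX_preimage_lvU 𝔛 h U (n + 1)).ge).ker.ideal V') ^ (n + 1) := by
  have := (h n).1
  have := FSch.Sys.toX_isClosedImmersion 𝔛 h (n + 1)
  rw [ker_resLE_ideal (𝔛.ι n) _ _ _ (𝔛.lvU_succ h n U),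
    ker_resLE_ideal (𝔛.toX (n + 1)) _ _ _ (toX_preimage_lvU 𝔛 h U (n + 1)), hA n,
    Scheme.IdealSheafData.ideal_pow, Pi.pow_apply]
  rfl

theorem isAdic_restrictOpen (hA : 𝔛.IsAdic) : (𝔛.restrictOpen h U).IsAdic := by
  intro n
  have e := restrictOpen_toX 𝔛 h U (n + 1)
  rw [e]
  apply Scheme.IdealSheafData.ext
  funext V'
  rw [Scheme.IdealSheafData.ideal_pow, Pi.pow_apply]
  exact ker_ideal_eq 𝔛 h U hA n V'

theorem main :
    (𝔛.restrictOpen h U).IsFormal ∧ (𝔛.IsLocNoethFormal → (𝔛.restrictOpen h U).IsLocNoethFormal) ∧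
      (𝔛.IsLocNoethFormal → CompactSpace (𝔛.X 0) → CompactSpace ((𝔛.restrictOpen h U).X 0)) := by
  refine ⟨isFormal_restrictOpen 𝔛 h U, fun hL => ⟨isFormal_restrictOpen 𝔛 h U,
    isAdic_restrictOpen 𝔛 h U hL.2.1, fun n => ?_⟩, fun hL hc => ?_⟩
  · have := hL.2.2 n
    change IsLocallyNoetherian (𝔛.lvU h n U).toScheme
    infer_instance
  · have := hL.2.2 0
    have : IsNoetherian (𝔛.X 0) := { }
    change CompactSpace (𝔛.lvU h 0 U).toScheme
    exact isCompact_iff_compactSpace.mp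
      (TopologicalSpace.NoetherianSpace.isCompact (𝔛.lvU h 0 U : Set (𝔛.X 0)))

end Groth.Agent.H19.RestrictOpenSys
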