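import Groth.Agent.H19.DepthOne
import Mathlib.Topology.NoetherianSpace
import Mathlib.Topology.Sober
import Mathlib.AlgebraicGeometry.Properties
import Mathlib.AlgebraicGeometry.Noetherian

set_option autoImplicit false

open CategoryTheory AlgebraicGeometry TopologicalSpace

universe u

namespace Groth.Agent.H19.S1Dense

/-- In a quasi-sober Noetherian space, a point without proper generizations lies in every dense
open subset. -/
theorem mem_of_dense_of_forall_specializes {α : Type*} [TopologicalSpace α] [QuasiSober α]
    [NoetherianSpace α] (U : Set α) (hU : IsOpen U) (hd : Dense U) (x : α)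
    (hx : ∀ y, y ⤳ x → x ⤳ y) : x ∈ U := by
  have hZ : closure {x} ∈ irreducibleComponents α := by
    refine ⟨isIrreducible_singleton.closure, fun s hs hle => ?_⟩
    obtain ⟨y, hy⟩ := QuasiSober.sober hs.closure isClosed_closure
    have hyx : y ⤳ x := by
      rw [specializes_iff_mem_closure, hy.def]
      exact subset_closure (hle (subset_closure rfl))
    have hxy : x ⤳ y := hx y hyx
    have h1 : closure {y} ⊆ closure {x} :=
      closure_minimal (Set.singleton_subset_iff.mpr (specializes_iff_mem_closure.mp hxy))
        isClosed_closure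
    calc s ⊆ closure s := subset_closure
      _ = closure {y} := hy.def.symm
      _ ⊆ closure {x} := h1
  obtain ⟨o, ho, hne, hoZ⟩ :=
    NoetherianSpace.exists_isOpen_nonempty_subset_irreducibleComponent _ hZ
  obtain ⟨y, hyo, hyU⟩ := hd.inter_open_nonempty o ho hne
  have hxy : x ⤳ y := specializes_iff_mem_closure.mpr (hoZ hyo)
  exact hxy.mem_open hU hyU

variable {X : Scheme.{u}}

/-- In a locally Noetherian scheme, a point whose local ring has dimension zero lies in every dense
open. -/
theorem mem_of_dense_of_isMax [IsLocallyNoetherian X] (U : X.Opens) (hd : Dense (U : Set X))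
    (x : X) (hx : IsMax x) : x ∈ U := by
  obtain ⟨W, hW, hxW, -⟩ := exists_isAffineOpen_mem_and_subset (x := x) (U := ⊤) trivial
  have : IsNoetherianRing Γ(X, W) := IsLocallyNoetherian.component_noetherian ⟨W, hW⟩
  have hN : NoetherianSpace W := noetherianSpace_of_isAffineOpen W hW
  have hemb : Topology.IsOpenEmbedding (Subtype.val : W → X) := W.isOpen.isOpenEmbedding_subtypeVal
  have hS : QuasiSober W := hemb.quasiSober
  have hmax : ∀ y : W, y ⤳ (⟨x, hxW⟩ : W) → (⟨x, hxW⟩ : W) ⤳ y := by
    intro y hy
    have h1 : (y : X) ⤳ x := hy.map continuous_subtype_val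
    have h2 : x ⤳ (y : X) := hx (show x ≤ (y : X) from h1)
    exact hemb.isInducing.specializes_iff.mp h2
  exact @mem_of_dense_of_forall_specializes W _ hS hN (Subtype.val ⁻¹' (U : Set X))
    (U.isOpen.preimage continuous_subtype_val) (hd.preimage hemb.isOpenMap) ⟨x, hxW⟩ hmax

theorem dense_of_isSchematicallyDense (U : X.Opens) (hU : CInt.IsSchematicallyDense U) :
    Dense (U : Set X) := by
  rw [dense_iff_inter_open]
  intro W hW hne
  by_contra hcon
  rw [Set.not_nonempty_iff_eq_empty] at hcon
  let W' : X.Opens := ⟨W, hW⟩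
  have hbot : W' ⊓ U = ⊥ := by
    ext y
    simp only [Opens.coe_inf, Opens.coe_bot]
    rw [← hcon]
    rfl
  have hinj := hU W'
  have : Nonempty W' := ⟨⟨hne.some, hne.some_mem⟩⟩
  have hnt : Nontrivial Γ(X, W') := inferInstance
  have hsub : Subsingleton Γ(X, W' ⊓ U) := by
    rw [hbot]
    infer_instance
  have : Subsingleton Γ(X, W') := hinj.subsingleton
  exact not_subsingleton _ this

theorem main (X : Scheme.{u}) [IsLocallyNoetherian X]
    (hS1 : ∀ x : X, min (1 : WithBot ℕ∞) (ringKrullDim (X.presheaf.stalk x)) ≤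
      ((LocCoh.depth (X.presheaf.stalk x) (X.presheaf.stalk x) : ℕ∞) : WithBot ℕ∞))
    (U : X.Opens) : CInt.IsSchematicallyDense U ↔ Dense (U : Set X) := by
  refine ⟨dense_of_isSchematicallyDense U, fun hd => ?_⟩
  rw [DepthOne.main X U]
  intro x hxU
  by_contra hlt
  rw [not_le, Order.lt_one_iff] at hlt
  have h1 := hS1 x
  rw [hlt] at h1
  have h2 : ringKrullDim (X.presheaf.stalk x) ≤ 0 := by
    rcases min_le_iff.mp h1 with h | h
    · exact absurd h (by decide)
    · exact h
  rw [ringKrullDim_stalk_eq_coheight] at h2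
  have h3 : Order.coheight x = 0 := by
    have : Order.coheight x ≤ 0 := by exact_mod_cast h2
    exact le_antisymm this bot_le
  exact hxU (mem_of_dense_of_isMax U hd x (Order.coheight_eq_zero.mp h3))

end Groth.Agent.H19.S1Dense
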