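import Groth.Prelude.Def_CInt
import Mathlib.AlgebraicGeometry.Morphisms.SchemeTheoreticallyDominant
import Mathlib.AlgebraicGeometry.Morphisms.Flat
import Mathlib.AlgebraicGeometry.Noetherian

set_option autoImplicit false

namespace Groth.Agent.H19

open AlgebraicGeometry CategoryTheory CategoryTheory.Limits TopologicalSpace

universe u

variable {X : Scheme.{u}}

theorem ι_image_preimage_eq (U W : X.Opens) : U.ι ''ᵁ U.ι ⁻¹ᵁ W = W ⊓ U := by
  rw [Scheme.Hom.image_preimage_eq_opensRange_inf, Scheme.Opens.opensRange_ι, inf_comm]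

/-- restriction to `W ⊓ U` is injective iff `U.ι.app W` is -/
theorem injective_res_iff (U W : X.Opens) :
    Function.Injective (X.presheaf.map (homOfLE (inf_le_left : W ⊓ U ≤ W)).op) ↔
      Function.Injective (U.ι.app W) := by
  have e := ι_image_preimage_eq U W
  have hle : U.ι ''ᵁ U.ι ⁻¹ᵁ W ≤ W := e.le.trans inf_le_left
  have h1 : X.presheaf.map (homOfLE (inf_le_left : W ⊓ U ≤ W)).op =
      X.presheaf.map (homOfLE hle).op ≫ X.presheaf.map (eqToHom e.symm).op := by
    rw [← Functor.map_comp]; rfl
  have h2 : X.presheaf.map (homOfLE hle).op =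
      X.presheaf.map (homOfLE (inf_le_left : W ⊓ U ≤ W)).op ≫
        X.presheaf.map (eqToHom e).op := by
    rw [← Functor.map_comp]; rfl
  have h3 : ∀ a, U.ι.app W a = X.presheaf.map (homOfLE hle).op a := fun a => rfl
  constructor
  · intro h a b hab
    apply h
    rw [h3, h3] at hab
    rw [h1, CommRingCat.comp_apply, CommRingCat.comp_apply, hab]
  · intro h a b hab
    apply h
    rw [h3, h3, h2, CommRingCat.comp_apply, CommRingCat.comp_apply, hab]

theorem isSchematicallyDense_of_dominant (U : X.Opens) [QuasiCompact U.ι]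
    [IsSchemeTheoreticallyDominant U.ι] : CInt.IsSchematicallyDense U := by
  intro W
  rw [injective_res_iff]
  exact U.ι.app_injective W

theorem dominant_of_isSchematicallyDense (U : X.Opens) [QuasiCompact U.ι]
    (h : CInt.IsSchematicallyDense U) : IsSchemeTheoreticallyDominant U.ι := by
  constructor
  ext V : 2
  rw [Scheme.Hom.ker_apply]
  simp only [Scheme.IdealSheafData.ideal_bot, Pi.bot_apply]
  rw [← RingHom.injective_iff_ker_eq_bot]
  exact (injective_res_iff U V.1).mp (h V.1)

/-- flat pullback preserves schematically dense quasi-compact opens -/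
theorem isSchematicallyDense_preimage_of_flat {X' : Scheme.{u}} (f : X' ⟶ X) [Flat f]
    (V : X.Opens) [QuasiCompact V.ι] (hV : CInt.IsSchematicallyDense V) :
    CInt.IsSchematicallyDense (f ⁻¹ᵁ V) := by
  have h1 : IsSchemeTheoreticallyDominant V.ι := dominant_of_isSchematicallyDense V hV
  have hpb := isPullback_morphismRestrict f V
  have h2 : IsSchemeTheoreticallyDominant (f ⁻¹ᵁ V).ι :=
    IsSchemeTheoreticallyDominant.of_isPullback hpb
  have h3 : QuasiCompact (f ⁻¹ᵁ V).ι :=
    MorphismProperty.of_isPullback (P := @QuasiCompact) hpb inferInstance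
  exact isSchematicallyDense_of_dominant _

end Groth.Agent.H19
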