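import Groth.Agent.H19.SchDenseRed
import Groth.Agent.S3833
import Mathlib.AlgebraicGeometry.Noetherian
import Mathlib.RingTheory.Ideal.AssociatedPrime.Finiteness

universe u
open CategoryTheory AlgebraicGeometry TopologicalSpace

namespace Groth.Agent.H19.SchDenseAff

variable {X : Scheme.{u}}

/-- The prime ideal of global sections vanishing at `x`. -/
noncomputable def primeAt (x : X) : Ideal Γ(X, ⊤) :=
  (IsLocalRing.maximalIdeal (X.presheaf.stalk x)).comap (X.presheaf.germ ⊤ x trivial).hom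

instance (x : X) : (primeAt x).IsPrime := by
  unfold primeAt
  infer_instance

lemma mem_primeAt {x : X} {a : Γ(X, ⊤)} : a ∈ primeAt x ↔ x ∉ X.basicOpen a := by
  rw [Scheme.mem_basicOpen_top, primeAt, Ideal.mem_comap, IsLocalRing.mem_maximalIdeal,
    mem_nonunits_iff]

/-- The ideal of global sections whose non-vanishing locus lies in `U`. -/
noncomputable def idealOf (U : X.Opens) : Ideal Γ(X, ⊤) :=
  ⨅ x : {x : X // x ∉ U}, primeAt x.1

lemma mem_idealOf {U : X.Opens} {a : Γ(X, ⊤)} : a ∈ idealOf U ↔ X.basicOpen a ≤ U := by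
  rw [idealOf, Ideal.mem_iInf]
  constructor
  · intro h x hx
    by_contra hxU
    exact mem_primeAt.mp (h ⟨x, hxU⟩) hx
  · intro h x
    exact mem_primeAt.mpr fun hx => x.2 (h hx)

lemma exists_mem_idealOf [IsAffine X] {U : X.Opens} {x : X} (hx : x ∈ U) :
    ∃ a ∈ idealOf U, x ∈ X.basicOpen a := by
  obtain ⟨a, ha, hxa⟩ := (isAffineOpen_top X).exists_basicOpen_le (V := U) ⟨x, hx⟩ trivial
  exact ⟨a, mem_idealOf.mpr ha, hxa⟩

/-- A global section killed by the ideal of `U` restricts to zero on `U`. -/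
lemma res_eq_zero_of_mul_eq_zero [IsAffine X] {U : X.Opens} (b : Γ(X, ⊤))
    (hb : ∀ a ∈ idealOf U, a * b = 0) :
    X.presheaf.map (homOfLE (inf_le_left : ⊤ ⊓ U ≤ ⊤)).op b = 0 := by
  refine TopCat.Presheaf.section_ext X.sheaf (⊤ ⊓ U) _ 0 (fun x hx => ?_)
  obtain ⟨a, ha, hxa⟩ := exists_mem_idealOf (U := U) (x := x) hx.2
  have h1 : X.presheaf.germ (⊤ ⊓ U) x hx
      (X.presheaf.map (homOfLE (inf_le_left : ⊤ ⊓ U ≤ ⊤)).op b) =
      X.presheaf.germ ⊤ x trivial b :=
    X.presheaf.germ_res_apply (homOfLE (inf_le_left : ⊤ ⊓ U ≤ ⊤)) x hx b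
  change X.presheaf.germ (⊤ ⊓ U) x hx
      (X.presheaf.map (homOfLE (inf_le_left : ⊤ ⊓ U ≤ ⊤)).op b) =
    X.presheaf.germ (⊤ ⊓ U) x hx 0
  rw [h1, map_zero]
  have hu : IsUnit (X.presheaf.germ ⊤ x trivial a) := (Scheme.mem_basicOpen_top X a x).mp hxa
  have h2 : X.presheaf.germ ⊤ x trivial a * X.presheaf.germ ⊤ x trivial b = 0 := by
    rw [← map_mul, hb a ha, map_zero]
  exact (hu.mul_right_eq_zero).mp h2

lemma isSchematicallyDense_mono {U U' : X.Opens} (h : U' ≤ U)
    (hU' : CInt.IsSchematicallyDense U') : CInt.IsSchematicallyDense U := by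
  intro V
  have hle : V ⊓ U' ≤ V ⊓ U := inf_le_inf_left V h
  have hcomp : (X.presheaf.map (homOfLE (inf_le_left : V ⊓ U' ≤ V)).op).hom =
      (X.presheaf.map (homOfLE hle).op).hom.comp
        (X.presheaf.map (homOfLE (inf_le_left : V ⊓ U ≤ V)).op).hom := by
    rw [← CommRingCat.hom_comp, ← Functor.map_comp]
    rfl
  have hinj := hU' V
  intro a b hab
  apply hinj
  change (X.presheaf.map (homOfLE (inf_le_left : V ⊓ U' ≤ V)).op).hom a =
    (X.presheaf.map (homOfLE (inf_le_left : V ⊓ U' ≤ V)).op).hom b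
  rw [hcomp, RingHom.comp_apply, RingHom.comp_apply]
  exact congrArg _ hab

/-- On an affine scheme, a regular global section has schematically dense non-vanishing locus. -/
lemma isSchematicallyDense_basicOpen [IsAffine X] (t : Γ(X, ⊤))
    (ht : t ∈ nonZeroDivisors Γ(X, ⊤)) : CInt.IsSchematicallyDense (X.basicOpen t) := by
  apply Groth.Agent.S3833.result
  intro x
  have hloc := (isAffineOpen_top X).isLocalization_stalk ⟨x, trivial⟩
  let _ := TopCat.Presheaf.algebra_section_stalk X.presheaf (⟨x, trivial⟩ : (⊤ : X.Opens))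
  have := IsLocalization.map_nonZeroDivisors_le
    ((isAffineOpen_top X).primeIdealOf ⟨x, trivial⟩).asIdeal.primeCompl
    (X.presheaf.stalk x)
  exact this ⟨t, ht, rfl⟩

/-- Noetherian case: a schematically dense open of an affine Noetherian scheme contains the
non-vanishing locus of a regular global section. -/
lemma exists_regular_of_noetherian [IsAffine X] [IsNoetherian X] (U : X.Opens)
    (hU : CInt.IsSchematicallyDense U) :
    ∃ t : Γ(X, ⊤), t ∈ nonZeroDivisors Γ(X, ⊤) ∧ X.basicOpen t ≤ U := by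
  have hN : IsNoetherianRing Γ(X, ⊤) :=
    IsLocallyNoetherian.component_noetherian ⟨⊤, isAffineOpen_top X⟩
  by_contra hcon
  have hdisj : Disjoint (idealOf U : Set Γ(X, ⊤)) (nonZeroDivisors Γ(X, ⊤)) := by
    rw [Set.disjoint_left]
    intro t ht htr
    exact hcon ⟨t, htr, mem_idealOf.mp ht⟩
  have hlt := Ideal.bot_lt_annihilator_of_disjoint_nonZeroDivisors hdisj
  obtain ⟨b, hb, hb0⟩ := SetLike.exists_of_lt hlt
  have hb' : ∀ a ∈ idealOf U, a * b = 0 := by
    intro a ha
    have := (Module.mem_annihilator.mp hb) ⟨a, ha⟩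
    have h2 := congrArg Subtype.val this
    rw [mul_comm]
    simpa using h2
  have hres := res_eq_zero_of_mul_eq_zero b hb'
  have : b = 0 := (injective_iff_map_eq_zero _).mp (hU ⊤) b hres
  exact hb0 (by rw [this]; exact Submodule.zero_mem _)

/-- Reduced case with finitely many irreducible components. -/
lemma exists_regular_of_reduced [IsAffine X] [IsReduced X]
    (hfin : (irreducibleComponents ↥X).Finite) (U : X.Opens)
    (hU : CInt.IsSchematicallyDense U) :
    ∃ t : Γ(X, ⊤), t ∈ nonZeroDivisors Γ(X, ⊤) ∧ X.basicOpen t ≤ U := by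
  classical
  have hfin' : ∀ x : ↥X, ∃ W : X.Opens, x ∈ W ∧
      {Z ∈ irreducibleComponents ↥X | (Z ∩ (W : Set ↥X)).Nonempty}.Finite :=
    fun x => ⟨⊤, trivial, hfin.subset fun Z hZ => hZ.1⟩
  -- choose generic points
  have hgen : ∀ Z : Set X, Z ∈ irreducibleComponents ↥X → ∃ η, IsGenericPoint η Z := fun Z hZ =>
    QuasiSober.sober hZ.1 (isClosed_of_mem_irreducibleComponents Z hZ)
  choose η hη using hgen
  let f : Set X → Ideal Γ(X, ⊤) := fun Z =>
    if h : Z ∈ irreducibleComponents ↥X then primeAt (η Z h) else ⊤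
  have hfprime : ∀ Z ∈ hfin.toFinset, Z ≠ (∅ : Set X) → Z ≠ (∅ : Set X) → (f Z).IsPrime := by
    intro Z hZ _ _
    have hZ' : Z ∈ irreducibleComponents ↥X := hfin.mem_toFinset.mp hZ
    simp only [f, dif_pos hZ']
    infer_instance
  -- find `t` in the ideal avoiding all generic points
  have hex : ∃ t ∈ idealOf U, ∀ Z (hZ : Z ∈ irreducibleComponents ↥X),
      η Z hZ ∈ X.basicOpen t := by
    by_contra hcon
    push Not at hcon
    have hsub : (idealOf U : Set Γ(X, ⊤)) ⊆ ⋃ Z ∈ (↑hfin.toFinset : Set (Set X)), f Z := by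
      intro t ht
      obtain ⟨Z, hZ, hηZ⟩ := hcon t ht
      refine Set.mem_iUnion₂.mpr ⟨Z, hfin.mem_toFinset.mpr hZ, ?_⟩
      simp only [f, dif_pos hZ]
      exact mem_primeAt.mpr hηZ
    obtain ⟨Z, hZ, hle⟩ := (Ideal.subset_union_prime (∅ : Set X) (∅ : Set X) hfprime).mp hsub
    have hZ' : Z ∈ irreducibleComponents ↥X := hfin.mem_toFinset.mp hZ
    simp only [f, dif_pos hZ'] at hle
    have hηU : η Z hZ' ∈ U :=
      SchDenseRed.mem_of_isGenericPoint hfin' U hU hZ' (hη Z hZ')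
    obtain ⟨a, ha, hxa⟩ := exists_mem_idealOf hηU
    exact mem_primeAt.mp (hle ha) hxa
  obtain ⟨t, ht, hηt⟩ := hex
  refine ⟨t, ?_, mem_idealOf.mp ht⟩
  -- `D(t)` is dense, hence schematically dense
  have hdense : Dense ((X.basicOpen t : X.Opens) : Set X) := by
    rw [dense_iff_inter_open]
    rintro W hWo ⟨x, hx⟩
    have hZ : irreducibleComponent x ∈ irreducibleComponents ↥X :=
      irreducibleComponent_mem_irreducibleComponents x
    have hW : η _ hZ ∈ W :=
      ((hη _ hZ).specializes (mem_irreducibleComponent (x := x))).mem_open hWo hx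
    exact ⟨η _ hZ, hW, hηt _ hZ⟩
  have hsd := SchDenseRed.isSchematicallyDense_of_dense (X.basicOpen t) hdense
  rw [mem_nonZeroDivisors_iff_right]
  intro b hb
  have h1 : X.presheaf.map (homOfLE (inf_le_left : ⊤ ⊓ X.basicOpen t ≤ ⊤)).op b = 0 := by
    refine TopCat.Presheaf.section_ext X.sheaf (⊤ ⊓ X.basicOpen t) _ 0 (fun x hx => ?_)
    have h2 : X.presheaf.germ (⊤ ⊓ X.basicOpen t) x hx
        (X.presheaf.map (homOfLE (inf_le_left : ⊤ ⊓ X.basicOpen t ≤ ⊤)).op b) =
        X.presheaf.germ ⊤ x trivial b :=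
      X.presheaf.germ_res_apply (homOfLE (inf_le_left : ⊤ ⊓ X.basicOpen t ≤ ⊤)) x hx b
    change X.presheaf.germ (⊤ ⊓ X.basicOpen t) x hx
        (X.presheaf.map (homOfLE (inf_le_left : ⊤ ⊓ X.basicOpen t ≤ ⊤)).op b) =
      X.presheaf.germ (⊤ ⊓ X.basicOpen t) x hx 0
    rw [h2, map_zero]
    have hu : IsUnit (X.presheaf.germ ⊤ x trivial t) :=
      (Scheme.mem_basicOpen_top X t x).mp hx.2
    have h3 : X.presheaf.germ ⊤ x trivial t * X.presheaf.germ ⊤ x trivial b = 0 := by
      rw [← map_mul, mul_comm, hb, map_zero]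
    exact (hu.mul_right_eq_zero).mp h3
  exact (injective_iff_map_eq_zero _).mp (hsd ⊤) _ h1

theorem main (X : Scheme.{u}) [IsAffine X]
    (hX : IsNoetherian X ∨ (IsReduced X ∧ (irreducibleComponents ↥X).Finite)) (U : X.Opens) :
    CInt.IsSchematicallyDense U ↔
      ∃ t : Γ(X, ⊤), t ∈ nonZeroDivisors Γ(X, ⊤) ∧ X.basicOpen t ≤ U := by
  constructor
  · intro hU
    rcases hX with hN | ⟨hR, hfin⟩
    · exact exists_regular_of_noetherian U hU
    · exact exists_regular_of_reduced hfin U hU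
  · rintro ⟨t, ht, htU⟩
    exact isSchematicallyDense_mono htU (isSchematicallyDense_basicOpen t ht)

end Groth.Agent.H19.SchDenseAff
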