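import Groth.Prelude.Def_CInt
import Mathlib.AlgebraicGeometry.Properties
import Mathlib.Topology.Sober
import Mathlib.Topology.Irreducible

universe u
open CategoryTheory AlgebraicGeometry TopologicalSpace

namespace Groth.Agent.H19.SchDenseRed

variable {X : Scheme.{u}}

/-- On a reduced scheme, a topologically dense open is schematically dense. -/
theorem isSchematicallyDense_of_dense [IsReduced X] (U : X.Opens) (hU : Dense (U : Set X)) :
    CInt.IsSchematicallyDense U := by
  intro W
  rw [injective_iff_map_eq_zero]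
  intro s hs
  rw [← basicOpen_eq_bot_iff]
  have h1 : X.basicOpen (X.presheaf.map (homOfLE (inf_le_left : W ⊓ U ≤ W)).op s) = ⊥ := by
    rw [hs]
    exact Scheme.basicOpen_zero X _
  rw [Scheme.basicOpen_res] at h1
  by_contra hne
  have hne' : ((X.basicOpen s : X.Opens) : Set X).Nonempty := by
    rw [Set.nonempty_iff_ne_empty]
    intro h
    exact hne (Opens.ext h)
  obtain ⟨x, hxb, hxU⟩ := hU.inter_open_nonempty _ (X.basicOpen s).2 hne'
  have hxW : x ∈ W := X.basicOpen_le s hxb
  have : x ∈ ((W ⊓ U) ⊓ X.basicOpen s : X.Opens) := ⟨⟨hxW, hxU⟩, hxb⟩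
  rw [h1] at this
  exact this

/-- A schematically dense open contains the generic point of every irreducible component, when
the irreducible components are locally finite. -/
theorem mem_of_isGenericPoint
    (hfin : ∀ x : ↥X, ∃ W : X.Opens, x ∈ W ∧
      {Z ∈ irreducibleComponents ↥X | (Z ∩ (W : Set ↥X)).Nonempty}.Finite)
    (V : X.Opens) (hV : CInt.IsSchematicallyDense V) {Z : Set X}
    (hZ : Z ∈ irreducibleComponents ↥X) {η : X} (hη : IsGenericPoint η Z) : η ∈ V := by
  by_contra hηV
  obtain ⟨W, hηW, hWfin⟩ := hfin η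
  set T : Set (Set X) := {Z' ∈ irreducibleComponents ↥X | (Z' ∩ (W : Set ↥X)).Nonempty} \ {Z}
    with hT
  have hTfin : T.Finite := hWfin.subset Set.sdiff_subset
  have hclosed : IsClosed (⋃₀ T) := by
    rw [Set.sUnion_eq_biUnion]
    refine hTfin.isClosed_biUnion fun Z' hZ' => ?_
    exact isClosed_of_mem_irreducibleComponents Z' hZ'.1.1
  set W' : X.Opens := ⟨(W : Set X) \ ⋃₀ T, W.2.sdiff hclosed⟩ with hW'
  have hηW' : η ∈ W' := by
    refine ⟨hηW, ?_⟩
    rintro ⟨Z', hZ'T, hηZ'⟩
    have hZ'c : IsClosed Z' := isClosed_of_mem_irreducibleComponents Z' hZ'T.1.1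
    have hsub : Z ⊆ Z' := (hη.mem_closed_set_iff hZ'c).mp hηZ'
    have : Z = Z' := by
      refine le_antisymm hsub ?_
      exact hZ.2 hZ'T.1.1.1 hsub
    exact hZ'T.2 this.symm
  have hW'Z : (W' : Set X) ⊆ Z := by
    intro y hy
    have hyc : irreducibleComponent y ∈ irreducibleComponents ↥X :=
      irreducibleComponent_mem_irreducibleComponents y
    by_contra hyZ
    refine hy.2 ⟨irreducibleComponent y, ⟨⟨hyc, ⟨y, mem_irreducibleComponent, hy.1⟩⟩, ?_⟩,
      mem_irreducibleComponent⟩
    intro h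
    rw [Set.mem_singleton_iff] at h
    exact hyZ (h ▸ mem_irreducibleComponent)
  have hdisj : W' ⊓ V = ⊥ := by
    ext y
    simp only [Opens.coe_inf, Opens.coe_bot, Set.mem_empty_iff_false, iff_false]
    rintro ⟨hyW', hyV⟩
    have hspec : η ⤳ y := hη.specializes (hW'Z hyW')
    exact hηV (hspec.mem_open V.2 hyV)
  have hinj := hV W'
  have hsub : Subsingleton Γ(X, W' ⊓ V) := by
    rw [hdisj]
    infer_instance
  have hsub' : Subsingleton Γ(X, W') := hinj.subsingleton
  have h01 : (1 : Γ(X, W')) = 0 := Subsingleton.elim _ _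
  have h2 := congrArg (X.presheaf.germ W' η hηW') h01
  rw [map_one, map_zero] at h2
  exact one_ne_zero h2

theorem isSchematicallyDense_preimage {X' : Scheme.{u}} (f : X' ⟶ X) [IsReduced X']
    (hfin : ∀ x : ↥X, ∃ W : X.Opens, x ∈ W ∧
      {Z ∈ irreducibleComponents ↥X | (Z ∩ (W : Set ↥X)).Nonempty}.Finite)
    (hdom : ∀ Z' ∈ irreducibleComponents ↥X', closure (f '' Z') ∈ irreducibleComponents ↥X)
    (V : X.Opens) (hV : CInt.IsSchematicallyDense V) : CInt.IsSchematicallyDense (f ⁻¹ᵁ V) := by
  apply isSchematicallyDense_of_dense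
  rw [dense_iff_inter_open]
  intro W' hW'o hW'ne
  obtain ⟨x', hx'⟩ := hW'ne
  have hZ' : irreducibleComponent x' ∈ irreducibleComponents ↥X' :=
    irreducibleComponent_mem_irreducibleComponents x'
  have hirr : IsIrreducible (irreducibleComponent x') := isIrreducible_irreducibleComponent
  have hcl : IsClosed (irreducibleComponent x') := isClosed_irreducibleComponent
  obtain ⟨η', hη'⟩ := QuasiSober.sober hirr hcl
  have hη'W : η' ∈ W' :=
    (hη'.specializes (mem_irreducibleComponent (x := x'))).mem_open hW'o hx'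
  have hfη' : IsGenericPoint (f η') (closure (f '' irreducibleComponent x')) :=
    hη'.image f.continuous
  have hmem : f η' ∈ V :=
    mem_of_isGenericPoint hfin V hV (hdom _ hZ') hfη'
  exact ⟨η', hη'W, hmem⟩

end Groth.Agent.H19.SchDenseRed
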