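import Mathlib

/-!
# Scheme-theoretically dense reduced open subschemes (H19)
-/

namespace Groth.Agent.H19.SchDenseReduced

open AlgebraicGeometry CategoryTheory TopologicalSpace

universe u

variable (X : Scheme.{u}) (U : X.Opens)

/-- For a reduced open subscheme `U` and a closed set `Z ⊇ U`, the vanishing ideal of `Z` is
contained in the kernel of the inclusion of `U`. -/
theorem vanishingIdeal_le_ker [IsReduced (↑U : Scheme.{u})] (Z : Closeds X)
    (hZ : (U : Set X) ⊆ Z) : Scheme.IdealSheafData.vanishingIdeal Z ≤ U.ι.ker := by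
  rw [Scheme.Hom.ker, Scheme.IdealSheafData.le_ofIdeals_iff]
  intro W s hs
  rw [Scheme.IdealSheafData.vanishingIdeal_ideal] at hs
  rw [RingHom.mem_ker]
  rw [← basicOpen_eq_bot_iff, ← Scheme.preimage_basicOpen]
  -- `Z ∩ W ⊆ zeroLocus s`
  have h1 : W.2.fromSpec ⁻¹' (Z : Set X) ⊆ PrimeSpectrum.zeroLocus {s} := by
    intro p hp
    show p ∈ PrimeSpectrum.zeroLocus {s}
    have h0 : s ∈ p.asIdeal := (PrimeSpectrum.mem_vanishingIdeal _ _).mp hs p hp
    exact (PrimeSpectrum.mem_zeroLocus _ _).mpr (Set.singleton_subset_iff.mpr h0)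
  have h2 : (Z : Set X) ∩ W.1 ⊆ X.zeroLocus {s} := by
    have h3 := Set.image_mono (f := W.2.fromSpec) h1
    rw [Set.image_preimage_eq_inter_range, IsAffineOpen.range_fromSpec,
      IsAffineOpen.fromSpec_image_zeroLocus] at h3
    exact h3.trans Set.inter_subset_left
  rw [Scheme.zeroLocus_singleton] at h2
  ext x
  simp only [Opens.coe_bot, Set.mem_empty_iff_false, iff_false]
  intro hx
  have hx' : (U.ι x) ∈ X.basicOpen s := hx
  have hxW : U.ι x ∈ W.1 := X.basicOpen_le s hx'
  exact h2 ⟨hZ (by simp), hxW⟩ hx'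

/-- A scheme with vanishing nilradical is reduced. -/
theorem isReduced_of_nilradical_eq_bot (h : X.nilradical = ⊥) : IsReduced X := by
  have h1 : ∀ W : X.affineOpens, _root_.IsReduced Γ(X, W.1) := by
    intro W
    have h2 := congrArg (fun I => Scheme.IdealSheafData.ideal I W) h
    simp only [Scheme.nilradical, Scheme.IdealSheafData.radical_ideal,
      Scheme.IdealSheafData.ideal_bot, Pi.bot_apply] at h2
    exact nilradical_eq_bot_iff.mp h2
  have h3 : ∀ W : X.affineOpens, IsReduced (↑W.1 : Scheme.{u}) := by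
    intro W
    have : IsAffine (↑W.1 : Scheme.{u}) := W.2
    have : _root_.IsReduced Γ(↑W.1, ⊤) :=
      isReduced_of_injective (Scheme.Opens.topIso W.1).hom.hom
        (Scheme.Opens.topIso W.1).commRingCatIsoToRingEquiv.injective
    exact isReduced_of_isAffine_isReduced _
  have : ∀ i, IsReduced ((X.openCoverOfIsOpenCover (fun W : X.affineOpens => W.1)
      (iSup_affineOpens_eq_top X)).X i) := fun i => h3 i
  exact IsReduced.of_openCover X
    (X.openCoverOfIsOpenCover (fun W : X.affineOpens => W.1) (iSup_affineOpens_eq_top X))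

theorem isReduced_of_ker_eq_bot [IsReduced (↑U : Scheme.{u})] (h : U.ι.ker = ⊥) :
    IsReduced X := by
  apply isReduced_of_nilradical_eq_bot
  have h1 := vanishingIdeal_le_ker X U ⊤ (fun _ _ => trivial)
  rw [Scheme.IdealSheafData.vanishingIdeal_top, h] at h1
  exact le_bot_iff.mp h1

theorem dense_of_ker_eq_bot [IsReduced (↑U : Scheme.{u})] (h : U.ι.ker = ⊥) :
    Dense (U : Set X) := by
  let Z : Closeds X := ⟨closure U, isClosed_closure⟩
  have h1 := vanishingIdeal_le_ker X U Z subset_closure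
  rw [h, le_bot_iff] at h1
  have h2 : ((Scheme.IdealSheafData.vanishingIdeal Z).support : Set X) = Z :=
    Scheme.IdealSheafData.coe_support_vanishingIdeal Z
  rw [h1, Scheme.IdealSheafData.support_bot] at h2
  rw [dense_iff_closure_eq]
  exact h2.symm

theorem isDominant_homOfLE_inf (hU : Dense (U : Set X)) (W : X.Opens) :
    IsDominant (X.homOfLE (inf_le_right : U ⊓ W ≤ W)) := by
  constructor
  rw [DenseRange, dense_iff_inter_open]
  rintro O hO ⟨w, hw⟩
  have hO' : IsOpen (W.ι '' O) := W.ι.isOpenEmbedding.isOpenMap O hO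
  obtain ⟨x, ⟨w', hw'O, rfl⟩, hxU⟩ := hU.inter_open_nonempty _ hO' ⟨W.ι w, w, hw, rfl⟩
  refine ⟨w', hw'O, ⟨⟨W.ι w', ⟨hxU, w'.2⟩⟩, ?_⟩⟩
  apply Subtype.ext
  rw [Scheme.homOfLE_apply]
  rfl

/-- S9360. -/
theorem main [IsReduced (↑U : Scheme.{u})] :
    (IsSchemeTheoreticallyDominant U.ι ↔
        ∀ W : X.Opens, IsSchemeTheoreticallyDominant (X.homOfLE (inf_le_right : U ⊓ W ≤ W))) ∧
      (IsSchemeTheoreticallyDominant U.ι → IsReduced X) := by
  refine ⟨⟨fun h W => ?_, fun h => ?_⟩, fun h => isReduced_of_ker_eq_bot X U h.ker_eq_bot⟩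
  · have h1 := isReduced_of_ker_eq_bot X U h.ker_eq_bot
    have h2 := isDominant_homOfLE_inf X U (dense_of_ker_eq_bot X U h.ker_eq_bot) W
    exact IsSchemeTheoreticallyDominant.of_isDominant _
  · have h1 := h ⊤
    have e : X.homOfLE (le_inf le_rfl le_top : U ≤ U ⊓ ⊤) ≫
        X.homOfLE (inf_le_right : U ⊓ ⊤ ≤ ⊤) ≫ (⊤ : X.Opens).ι = U.ι := by
      rw [Scheme.homOfLE_ι, Scheme.homOfLE_ι]
    have h2 : IsIso (X.homOfLE (le_inf le_rfl le_top : U ≤ U ⊓ ⊤)) :=
      ⟨X.homOfLE inf_le_left, by rw [Scheme.homOfLE_homOfLE, Scheme.homOfLE_rfl],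
        by rw [Scheme.homOfLE_homOfLE, Scheme.homOfLE_rfl]⟩
    have h3 : IsIso (⊤ : X.Opens).ι := X.topIso.isIso_hom
    rw [← e]
    infer_instance

end Groth.Agent.H19.SchDenseReduced
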