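import Mathlib

/-!
# Schematically dominant families: equivalent conditions (H19)
-/

namespace Groth.Agent.H19.SchDomTFAE

open AlgebraicGeometry CategoryTheory Limits

universe u

variable {X S : Scheme.{u}} (p : X ⟶ S) {ι : Type u} (Z : ι → Scheme.{u}) (f : ∀ i, Z i ⟶ X)

theorem app_eq_zero_of_comp {Y T W' : Scheme.{u}} (j : Y ⟶ T) (g : W' ⟶ Y) (φ : W' ⟶ T)
    (h : g ≫ j = φ) (V : T.Opens) (t : Γ(T, V)) (ht : j.app V t = 0) : φ.app V t = 0 := by
  subst h
  rw [Scheme.Hom.comp_app]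
  show (g.app (j ⁻¹ᵁ V)) ((j.app V) t) = 0
  rw [ht, map_zero]

include f in
theorem c_of_b (hb : ∀ (V : X.Opens) (t : Γ(X, V)), (∀ i, (f i).app V t = 0) → t = 0)
    (U : X.Opens) (Y : Scheme.{u}) (j : Y ⟶ (U : Scheme.{u})) (hj : IsClosedImmersion j)
    (hg : ∀ i, ∃ g : ((f i) ⁻¹ᵁ U : Scheme.{u}) ⟶ Y, g ≫ j = (f i) ∣_ U) : IsIso j := by
  rw [IsClosedImmersion.isIso_iff_ker_eq_bot, ← le_bot_iff]
  intro W
  refine (j.ideal_ker_le W).trans ?_
  intro t ht
  rw [RingHom.mem_ker] at ht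
  show t ∈ (⊥ : Ideal _)
  rw [Ideal.mem_bot]
  apply hb (U.ι ''ᵁ W.1) t
  intro i
  obtain ⟨g, hg⟩ := hg i
  have h1 : ((f i) ∣_ U).app W.1 t = 0 := app_eq_zero_of_comp j g _ hg W.1 t ht
  rw [morphismRestrict_app] at h1
  have h2 : ((Z i).presheaf.map (eqToHom (image_morphismRestrict_preimage (f i) U W.1)).op)
      ((f i).app (U.ι ''ᵁ W.1) t) = 0 := h1
  have hiso : IsIso ((Z i).presheaf.map
      (eqToHom (image_morphismRestrict_preimage (f i) U W.1)).op) := inferInstance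
  apply (ConcreteCategory.bijective_of_isIso ((Z i).presheaf.map
      (eqToHom (image_morphismRestrict_preimage (f i) U W.1)).op)).1
  rw [h2, map_zero]

include p in
theorem d_of_c (hc : ∀ (U : X.Opens) (Y : Scheme.{u}) (j : Y ⟶ (U : Scheme.{u})),
      IsClosedImmersion j →
        (∀ i, ∃ g : ((f i) ⁻¹ᵁ U : Scheme.{u}) ⟶ Y, g ≫ j = (f i) ∣_ U) → IsIso j)
    (X' : Scheme.{u}) (q : X' ⟶ S) (hq : IsSeparated q) (U : X.Opens)
    (u v : (U : Scheme.{u}) ⟶ X') (hu : u ≫ q = U.ι ≫ p) (hv : v ≫ q = U.ι ≫ p)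
    (h : ∀ i, ((f i) ∣_ U) ≫ u = ((f i) ∣_ U) ≫ v) : u = v := by
  let A : Over S := Over.mk (u ≫ q)
  let B : Over S := Over.mk q
  let u' : A ⟶ B := Over.homMk u
  let v' : A ⟶ B := Over.homMk v (by simp [A, B, hu, hv])
  have : IsSeparated B.hom := hq
  have hcl : IsClosedImmersion (equalizer.ι u' v').left := inferInstance
  have hiso : IsIso (equalizer.ι u' v').left := by
    apply hc U _ _ hcl
    intro i
    let Ci : Over S := Over.mk (((f i) ∣_ U) ≫ u ≫ q)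
    let ιi : Ci ⟶ A := Over.homMk ((f i) ∣_ U)
    have hι : ιi ≫ u' = ιi ≫ v' := by
      ext1
      exact h i
    refine ⟨(equalizer.lift ιi hι).left, ?_⟩
    rw [← Over.comp_left, equalizer.lift_ι]
    rfl
  rw [← cancel_epi (equalizer.ι u' v').left]
  exact congr($(equalizer.condition u' v').left)

include p in
theorem b_of_d (hd : ∀ (X' : Scheme.{u}) (q : X' ⟶ S), IsSeparated q → ∀ (U : X.Opens)
      (u v : (U : Scheme.{u}) ⟶ X'), u ≫ q = U.ι ≫ p → v ≫ q = U.ι ≫ p →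
        (∀ i, ((f i) ∣_ U) ≫ u = ((f i) ∣_ U) ≫ v) → u = v)
    (V : X.Opens) (t : Γ(X, V)) (ht : ∀ i, (f i).app V t = 0) : t = 0 := by
  let n : Type u := PUnit
  let t' : Γ((V : Scheme.{u}), ⊤) := V.topIso.inv t
  let uu : (V : Scheme.{u}) ⟶ 𝔸(n; S) := AffineSpace.homOfVector (V.ι ≫ p) (fun _ => t')
  let vv : (V : Scheme.{u}) ⟶ 𝔸(n; S) := AffineSpace.homOfVector (V.ι ≫ p) (fun _ => 0)
  have h1 : uu = vv := by
    apply hd 𝔸(n; S) (𝔸(n; S) ↘ S) inferInstance V uu vv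
      (AffineSpace.homOfVector_over _ _) (AffineSpace.homOfVector_over _ _)
    intro i
    rw [AffineSpace.comp_homOfVector, AffineSpace.comp_homOfVector]
    congr 1
    funext _
    simp only [Function.comp]
    rw [map_zero]
    show ((f i) ∣_ V).appTop (V.topIso.inv t) = 0
    rw [morphismRestrict_appTop]
    show ((Z i).presheaf.map _) (((f i).app (V.ι ''ᵁ ⊤)) (V.topIso.inv t)) = 0
    have h5 : V.topIso.inv ≫ (f i).app (V.ι ''ᵁ ⊤) = (f i).app V ≫
        (Z i).presheaf.map ((TopologicalSpace.Opens.map (f i).base).map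
          (eqToHom V.ι_image_top)).op := by
      rw [Scheme.Opens.topIso_inv]
      exact (f i).naturality _
    have h6 := congrArg (fun φ => φ t) h5
    simp only [CommRingCat.comp_apply] at h6
    have h7 : ((f i).app (V.ι ''ᵁ ⊤)) (V.topIso.inv t) = 0 :=
      h6.trans ((congrArg (fun z => ((Z i).presheaf.map
        ((TopologicalSpace.Opens.map (f i).base).map (eqToHom V.ι_image_top)).op) z)
          (ht i)).trans (map_zero _))
    exact (congrArg (fun z => ((Z i).presheaf.map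
      (eqToHom (image_morphismRestrict_preimage (f i) V ⊤)).op) z) h7).trans (map_zero _)
  have h2 := congrArg (fun φ => φ.appTop (AffineSpace.coord S PUnit.unit)) h1
  simp only [uu, vv, AffineSpace.homOfVector_appTop_coord] at h2
  have h3 : V.topIso.hom t' = t := V.topIso.inv_hom_id_apply t
  rw [← h3, h2, map_zero]

/-- S4872. -/
theorem tfae :
    [(∀ (V : (X).Opens) (t : Γ(X, V)), (∀ i, (f i).app V t = 0) → t = 0),
      ∀ (U : X.Opens) (Y : Scheme.{u}) (j : Y ⟶ (U : Scheme.{u})), IsClosedImmersion j →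
        (∀ i, ∃ g : ((f i) ⁻¹ᵁ U : Scheme.{u}) ⟶ Y, g ≫ j = (f i) ∣_ U) → IsIso j,
      ∀ (X' : Scheme.{u}) (q : X' ⟶ S), IsSeparated q → ∀ (U : X.Opens)
        (u v : (U : Scheme.{u}) ⟶ X'),
        u ≫ q = U.ι ≫ p → v ≫ q = U.ι ≫ p →
          (∀ i, ((f i) ∣_ U) ≫ u = ((f i) ∣_ U) ≫ v) → u = v].TFAE := by
  tfae_have 1 → 2 := fun hb U Y j hj hg => c_of_b Z f hb U Y j hj hg
  tfae_have 2 → 3 := fun hc X' q hq U u v hu hv h => d_of_c p Z f hc X' q hq U u v hu hv h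
  tfae_have 3 → 1 := fun hd V t ht => b_of_d p Z f hd V t ht
  tfae_finish

end Groth.Agent.H19.SchDomTFAE
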