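import Mathlib

open AlgebraicGeometry CategoryTheory

namespace Groth.Agent.H19.SchImageSection

universe u

theorem main {X Y : Scheme.{u}} (f : X ⟶ Y) [IsSeparated f] (V : Y.Opens) [QuasiCompact V.ι]
    (s : (↑V : Scheme.{u}) ⟶ X) (hs : s ≫ f = V.ι) :
    IsIso ((s.imageι ≫ f) ∣_ V) := by
  have h1 : IsImmersion (s ≫ f) := by rw [hs]; infer_instance
  have h2 : QuasiCompact (s ≫ f) := by rw [hs]; infer_instance
  have h3 : IsImmersion s := IsImmersion.of_comp s f
  have h4 : QuasiCompact s := QuasiCompact.of_comp s f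
  have h5 : IsOpenImmersion s.toImage := inferInstance
  have hsg : s.toImage ≫ (s.imageι ≫ f) = V.ι := by
    rw [← Category.assoc, s.toImage_imageι, hs]
  have hrange : Set.range s.toImage ⊆ ((s.imageι ≫ f) ⁻¹ᵁ V : Set s.image) := by
    rintro _ ⟨x, rfl⟩
    show (s.imageι ≫ f) (s.toImage x) ∈ V
    have : (s.imageι ≫ f) (s.toImage x) = V.ι x := by
      rw [← Scheme.Hom.comp_apply, hsg]
    rw [this]
    exact x.2
  have hr' : Set.range s.toImage ⊆ Set.range ((s.imageι ≫ f) ⁻¹ᵁ V).ι := by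
    rw [Scheme.Opens.range_ι]
    exact hrange
  let t : (↑V : Scheme.{u}) ⟶ ↑((s.imageι ≫ f) ⁻¹ᵁ V) :=
    IsOpenImmersion.lift ((s.imageι ≫ f) ⁻¹ᵁ V).ι s.toImage hr'
  have ht : t ≫ ((s.imageι ≫ f) ⁻¹ᵁ V).ι = s.toImage := IsOpenImmersion.lift_fac _ _ _
  have ht2 : t ≫ ((s.imageι ≫ f) ∣_ V) = 𝟙 _ := by
    rw [← cancel_mono V.ι, Category.assoc, morphismRestrict_ι, ← Category.assoc, ht, hsg,
      Category.id_comp]
  have h6 : IsOpenImmersion (t ≫ ((s.imageι ≫ f) ⁻¹ᵁ V).ι) := by rw [ht]; infer_instance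
  have h7 : IsOpenImmersion t := IsOpenImmersion.of_comp t ((s.imageι ≫ f) ⁻¹ᵁ V).ι
  have h8 : IsSeparated ((s.imageι ≫ f) ∣_ V) := inferInstance
  have h9 : IsClosedImmersion t := by
    have : IsClosedImmersion (t ≫ ((s.imageι ≫ f) ∣_ V)) := by rw [ht2]; infer_instance
    exact IsClosedImmersion.of_comp t ((s.imageι ≫ f) ∣_ V)
  have hdense : DenseRange t := by
    have hd : Dense (Set.range s.toImage) := s.toImage.denseRange
    have := hd.preimage ((s.imageι ≫ f) ⁻¹ᵁ V).ι.isOpenEmbedding.isOpenMap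
    have he : ((s.imageι ≫ f) ⁻¹ᵁ V).ι ⁻¹' (Set.range s.toImage) = Set.range t := by
      ext w
      constructor
      · rintro ⟨x, hx⟩
        refine ⟨x, ((s.imageι ≫ f) ⁻¹ᵁ V).ι.isOpenEmbedding.injective ?_⟩
        rw [← hx, ← Scheme.Hom.comp_apply, ht]
      · rintro ⟨x, rfl⟩
        exact ⟨x, by rw [← Scheme.Hom.comp_apply, ht]⟩
    rw [he] at this
    exact this
  have hsurj : Function.Surjective t := by
    rw [← Set.range_eq_univ, ← t.isClosedEmbedding.isClosed_range.closure_eq]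
    exact hdense.closure_eq
  have h10 : IsIso t := by
    apply isIso_of_isOpenImmersion_of_opensRange_eq_top
    ext w
    exact ⟨fun _ => trivial, fun _ => hsurj w⟩
  have h11 : IsIso (t ≫ ((s.imageι ≫ f) ∣_ V)) := by rw [ht2]; infer_instance
  exact IsIso.of_isIso_comp_left t _

end Groth.Agent.H19.SchImageSection
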