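import Mathlib.RingTheory.Derivation.Basic
import Mathlib.Algebra.Polynomial.Derivative
import Mathlib.RingTheory.Ideal.Quotient.Operations
import Mathlib.Algebra.BigOperators.Group.Finset.Basic
import Mathlib.Algebra.BigOperators.NatAntidiagonal
import Mathlib.Data.Nat.Choose.Sum
import Mathlib.Algebra.Polynomial.Coeff
import Mathlib.Tactic

/-!
# The slice theorem for a locally nilpotent derivation with a slice
-/

namespace Groth.Agent.H19.SliceThm

open Finset Polynomial

universe u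

variable {A : Type u} [CommRing A] [Algebra ℚ A] (D : Derivation ℚ A A)

/-- iterated derivation -/
noncomputable def Dn (n : ℕ) (x : A) : A := ((D : A →ₗ[ℚ] A) ^ n) x

theorem Dn_zero (x : A) : Dn D 0 x = x := by simp [Dn]

theorem Dn_succ (n : ℕ) (x : A) : Dn D (n + 1) x = D (Dn D n x) := by
  unfold Dn
  rw [pow_succ', Module.End.mul_apply]; rfl

theorem Dn_succ' (n : ℕ) (x : A) : Dn D (n + 1) x = Dn D n (D x) := by
  unfold Dn
  rw [pow_succ, Module.End.mul_apply]; rfl

theorem Dn_add (m n : ℕ) (x : A) : Dn D (m + n) x = Dn D m (Dn D n x) := by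
  unfold Dn
  rw [pow_add, Module.End.mul_apply]

theorem Dn_map_add (n : ℕ) (x y : A) : Dn D n (x + y) = Dn D n x + Dn D n y := by
  unfold Dn; exact map_add _ _ _

theorem Dn_map_zero (n : ℕ) : Dn D n (0 : A) = 0 := by
  unfold Dn; exact map_zero _

theorem Dn_map_smul (n : ℕ) (q : ℚ) (x : A) : Dn D n (q • x) = q • Dn D n x := by
  unfold Dn; exact map_smul _ _ _

theorem Dn_eq_zero_of_le {N n : ℕ} {x : A} (h : Dn D N x = 0) (hn : N ≤ n) : Dn D n x = 0 := by
  obtain ⟨k, rfl⟩ := Nat.exists_eq_add_of_le hn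
  rw [add_comm, Dn_add, h, Dn_map_zero]

/-- divided iterated derivation -/
noncomputable def dn (n : ℕ) (x : A) : A := ((n.factorial : ℚ)⁻¹) • Dn D n x

theorem dn_zero (x : A) : dn D 0 x = x := by simp [dn, Dn_zero]

theorem dn_map_add (n : ℕ) (x y : A) : dn D n (x + y) = dn D n x + dn D n y := by
  simp [dn, Dn_map_add, smul_add]

theorem dn_map_zero (n : ℕ) : dn D n (0 : A) = 0 := by
  simp [dn, Dn_map_zero]

theorem dn_map_smul (n : ℕ) (q : ℚ) (x : A) : dn D n (q • x) = q • dn D n x := by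
  simp [dn, Dn_map_smul, smul_comm q]

theorem dn_eq_zero_of_le {N n : ℕ} {x : A} (h : Dn D N x = 0) (hn : N ≤ n) : dn D n x = 0 := by
  simp [dn, Dn_eq_zero_of_le D h hn]

theorem D_dn (n : ℕ) (x : A) : D (dn D n x) = ((n + 1 : ℕ) : ℚ) • dn D (n + 1) x := by
  unfold dn
  rw [Derivation.map_smul, ← Dn_succ, smul_smul]
  congr 1
  rw [Nat.factorial_succ]
  have h1 : ((n + 1 : ℕ) : ℚ) ≠ 0 := by positivity
  have h2 : ((n.factorial : ℕ) : ℚ) ≠ 0 := by positivity
  push_cast
  field_simp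

theorem dn_D (n : ℕ) (x : A) : dn D n (D x) = ((n + 1 : ℕ) : ℚ) • dn D (n + 1) x := by
  unfold dn
  rw [← Dn_succ', smul_smul]
  congr 1
  rw [Nat.factorial_succ]
  have h1 : ((n + 1 : ℕ) : ℚ) ≠ 0 := by positivity
  have h2 : ((n.factorial : ℕ) : ℚ) ≠ 0 := by positivity
  push_cast
  field_simp

theorem dn_mul (n : ℕ) (x y : A) :
    dn D n (x * y) = ∑ ij ∈ antidiagonal n, dn D ij.1 x * dn D ij.2 y := by
  induction n with
  | zero => simp [dn_zero]
  | succ n ih =>
    have h1 : ((n + 1 : ℕ) : ℚ) ≠ 0 := by positivity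
    have key : ((n + 1 : ℕ) : ℚ) • dn D (n + 1) (x * y) =
        ((n + 1 : ℕ) : ℚ) • ∑ ij ∈ antidiagonal (n + 1), dn D ij.1 x * dn D ij.2 y := by
      rw [← D_dn, ih, map_sum]
      have e1 : ∀ ij : ℕ × ℕ, D (dn D ij.1 x * dn D ij.2 y) =
          ((ij.1 + 1 : ℕ) : ℚ) • (dn D (ij.1 + 1) x * dn D ij.2 y) +
          ((ij.2 + 1 : ℕ) : ℚ) • (dn D ij.1 x * dn D (ij.2 + 1) y) := by
        intro ij
        rw [Derivation.leibniz, D_dn, D_dn, smul_eq_mul, smul_eq_mul]
        rw [mul_smul_comm, mul_smul_comm, mul_comm (dn D ij.2 y), add_comm]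
      simp_rw [e1]
      rw [Finset.sum_add_distrib]
      have e2 : ((n + 1 : ℕ) : ℚ) • ∑ ij ∈ antidiagonal (n + 1), dn D ij.1 x * dn D ij.2 y =
          ∑ ij ∈ antidiagonal (n + 1), ((ij.1 : ℕ) : ℚ) • (dn D ij.1 x * dn D ij.2 y) +
          ∑ ij ∈ antidiagonal (n + 1), ((ij.2 : ℕ) : ℚ) • (dn D ij.1 x * dn D ij.2 y) := by
        rw [Finset.smul_sum, ← Finset.sum_add_distrib]
        refine Finset.sum_congr rfl fun ij hij => ?_
        rw [← add_smul]
        congr 1
        rw [mem_antidiagonal] at hij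
        rw [← hij]; push_cast; ring
      rw [e2, Finset.Nat.sum_antidiagonal_succ, Finset.Nat.sum_antidiagonal_succ' (n := n)]
      simp
    exact (IsUnit.mk0 _ h1).smul_left_cancel.mp key


theorem Dn_one_ring (n : ℕ) (hn : 1 ≤ n) : Dn D n (1 : A) = 0 := by
  obtain ⟨k, rfl⟩ := Nat.exists_eq_add_of_le hn
  rw [add_comm, Dn_succ', Derivation.map_one_eq_zero, Dn_map_zero]

theorem dn_dn (m n : ℕ) (x : A) :
    dn D m (dn D n x) = (((m + n).choose m : ℕ) : ℚ) • dn D (m + n) x := by
  unfold dn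
  rw [Dn_map_smul, ← Dn_add, smul_smul, smul_smul]
  congr 1
  have h := Nat.add_choose_mul_factorial_mul_factorial n m
  have h1 : ((m.factorial : ℕ) : ℚ) ≠ 0 := by positivity
  have h2 : ((n.factorial : ℕ) : ℚ) ≠ 0 := by positivity
  have h3 : (((m + n).factorial : ℕ) : ℚ) ≠ 0 := by positivity
  have h' : (((n + m).choose m : ℕ) : ℚ) * n.factorial * m.factorial = ((n + m).factorial : ℕ) := by
    exact_mod_cast h
  rw [add_comm n m] at h'
  field_simp
  linarith [h']

section slice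

variable (a : A)

/-- The quotient map. -/
noncomputable abbrev proj : A →+* A ⧸ Ideal.span ({a} : Set A) :=
  Ideal.Quotient.mk (Ideal.span ({a} : Set A))

variable {D a}
variable (ha : D a = 1)
include ha

theorem dn_one_a : dn D 1 a = 1 := by
  simp [dn, Dn_succ, Dn_zero, ha]

theorem dn_a_of_two_le {n : ℕ} (hn : 2 ≤ n) : dn D n a = 0 := by
  obtain ⟨k, rfl⟩ := Nat.exists_eq_add_of_le hn
  have : Dn D (2 + k) a = 0 := by
    rw [add_comm, Dn_add]
    have : Dn D 2 a = 0 := by
      rw [Dn_succ, Dn_succ, Dn_zero, ha, Derivation.map_one_eq_zero]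
    rw [this, Dn_map_zero]
  simp [dn, this]

/-- `D^(M+1) (a z) = a D^(M+1) z + (M+1) D^M z`. -/
theorem Dn_a_mul (M : ℕ) (z : A) :
    Dn D (M + 1) (a * z) = a * Dn D (M + 1) z + ((M + 1 : ℕ) : ℚ) • Dn D M z := by
  induction M with
  | zero =>
    rw [Dn_succ, Dn_succ, Dn_zero, Dn_zero, Derivation.leibniz, ha]
    simp
  | succ M ih =>
    rw [Dn_succ, ih, map_add, Derivation.leibniz, Derivation.map_smul, ← Dn_succ, ← Dn_succ, ha]
    rw [smul_eq_mul, smul_eq_mul]
    have : (((M + 1 + 1 : ℕ) : ℚ)) • Dn D (M + 1) z =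
        Dn D (M + 1) z + ((M + 1 : ℕ) : ℚ) • Dn D (M + 1) z := by
      rw [Nat.cast_succ (M + 1), add_smul, one_smul, add_comm]
    rw [this]
    ring

/-- An element of `(a)` killed by `D` vanishes (under local nilpotency). -/
theorem eq_zero_of_D_a_mul (M : ℕ) (z : A) (hz : Dn D M z = 0) (h : D (a * z) = 0) : z = 0 := by
  induction M with
  | zero => simpa [Dn_zero] using hz
  | succ M ih =>
    apply ih
    have h1 : Dn D (M + 1) (a * z) = 0 := by
      rw [Dn_succ', h, Dn_map_zero]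
    rw [Dn_a_mul ha, hz, mul_zero, zero_add] at h1
    have h2 : ((M + 1 : ℕ) : ℚ) ≠ 0 := by positivity
    have := (IsUnit.mk0 _ h2).smul_left_cancel (x := Dn D M z) (y := 0)
    rw [smul_zero] at this
    exact this.mp h1

end slice


section chi

variable (a : A) (hnil : ∀ x : A, ∃ n : ℕ, Dn D n x = 0)

open Classical in
/-- underlying function of `χ` -/
noncomputable def chiFun (x : A) : Polynomial (A ⧸ Ideal.span ({a} : Set A)) :=
  ∑ n ∈ range (Nat.find (hnil x)), monomial n (proj a (dn D n x))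

theorem coeff_chiFun (x : A) (k : ℕ) : (chiFun D a hnil x).coeff k = proj a (dn D k x) := by
  classical
  unfold chiFun
  rw [Polynomial.finsetSum_coeff]
  simp only [coeff_monomial]
  rw [Finset.sum_ite_eq' (range (Nat.find (hnil x))) k]
  split_ifs with h
  · rfl
  · rw [Finset.mem_range, not_lt] at h
    rw [dn_eq_zero_of_le D (Nat.find_spec (hnil x)) h, map_zero]

/-- The ring homomorphism `χ`. -/
noncomputable def chi : A →+* Polynomial (A ⧸ Ideal.span ({a} : Set A)) where
  toFun := chiFun D a hnil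
  map_one' := by
    ext k
    rw [coeff_chiFun, coeff_one]
    split_ifs with h
    · subst h; rw [dn_zero, map_one]
    · have : dn D k (1 : A) = 0 := by
        simp [dn, Dn_one_ring D k (Nat.one_le_iff_ne_zero.mpr h)]
      rw [this, map_zero]
  map_mul' x y := by
    ext k
    rw [coeff_chiFun, coeff_mul, dn_mul, map_sum]
    refine Finset.sum_congr rfl fun ij _ => ?_
    rw [coeff_chiFun, coeff_chiFun, map_mul]
  map_zero' := by
    ext k
    rw [coeff_chiFun, dn_map_zero, map_zero, coeff_zero]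
  map_add' x y := by
    ext k
    rw [coeff_chiFun, coeff_add, coeff_chiFun, coeff_chiFun, dn_map_add, map_add]

theorem coeff_chi (x : A) (k : ℕ) : (chi D a hnil x).coeff k = proj a (dn D k x) :=
  coeff_chiFun D a hnil x k

theorem chi_formula (x : A) (N : ℕ) (hN : Dn D N x = 0) :
    chi D a hnil x = ∑ n ∈ Finset.range N,
      ((n.factorial : ℚ)⁻¹ • Polynomial.C (proj a (Dn D n x))) * Polynomial.X ^ n := by
  classical
  ext k
  rw [coeff_chi, Polynomial.finsetSum_coeff]
  have : ∀ n, (((n.factorial : ℚ)⁻¹ • Polynomial.C (proj a (Dn D n x))) * Polynomial.X ^ n).coeff k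
      = if n = k then proj a (dn D n x) else 0 := by
    intro n
    rw [Polynomial.smul_C, Polynomial.C_mul_X_pow_eq_monomial, coeff_monomial]
    unfold dn
    rw [map_rat_smul]
  simp_rw [this]
  rw [Finset.sum_ite_eq' (range N) k]
  split_ifs with h
  · rfl
  · rw [Finset.mem_range, not_lt] at h
    rw [dn_eq_zero_of_le D hN h, map_zero]

theorem chi_smul (q : ℚ) (x : A) : chi D a hnil (q • x) = q • chi D a hnil x :=
  map_rat_smul _ _ _

theorem chi_D (x : A) : chi D a hnil (D x) = Polynomial.derivative (chi D a hnil x) := by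
  ext k
  rw [coeff_chi, Polynomial.coeff_derivative, coeff_chi, dn_D, map_rat_smul]
  rw [Nat.cast_smul_eq_nsmul ℚ, nsmul_eq_mul, mul_comm]
  push_cast
  rfl

end chi


theorem alt_sum (k N : ℕ) (hk : k < N) :
    ∑ n ∈ range N, ((-1 : ℚ) ^ n * ((k.choose n : ℕ) : ℚ)) = if k = 0 then 1 else 0 := by
  have h1 : ∑ n ∈ range N, ((-1 : ℚ) ^ n * ((k.choose n : ℕ) : ℚ)) =
      ∑ n ∈ range (k + 1), ((-1 : ℚ) ^ n * ((k.choose n : ℕ) : ℚ)) := by
    symm
    refine Finset.sum_subset (Finset.range_subset_range.mpr hk) fun n _ hn => ?_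
    rw [Finset.mem_range, not_lt] at hn
    rw [Nat.choose_eq_zero_of_lt (by omega)]
    simp
  rw [h1]
  have h2 := Int.alternating_sum_range_choose (n := k)
  have h3 := congrArg (Int.cast (R := ℚ)) h2
  push_cast at h3
  rw [h3]

section main

variable {a : A} (hnil : ∀ x : A, ∃ n : ℕ, Dn D n x = 0) (ha : D a = 1)
include ha

theorem chi_a : chi D a hnil a = Polynomial.X := by
  ext k
  rw [coeff_chi, coeff_X]
  rcases k with _ | _ | k
  · rw [dn_zero, if_neg (by omega)]
    exact Ideal.Quotient.eq_zero_iff_mem.mpr (Ideal.mem_span_singleton_self a)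
  · rw [dn_one_a ha]; simp
  · rw [dn_a_of_two_le ha (by omega), map_zero]
    rw [if_neg (by omega)]

theorem chi_inv_formula (x : A) (N : ℕ) (hN : Dn D N x = 0) :
    chi D a hnil (∑ n ∈ Finset.range N,
      (((-1 : ℚ) ^ n * (n.factorial : ℚ)⁻¹) • (Dn D n x * a ^ n))) =
      Polynomial.C (proj a x) := by
  classical
  rw [map_sum]
  have hterm : ∀ n, chi D a hnil (((-1 : ℚ) ^ n * (n.factorial : ℚ)⁻¹) • (Dn D n x * a ^ n)) =
      ((-1 : ℚ) ^ n) • (chi D a hnil (dn D n x) * Polynomial.X ^ n) := by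
    intro n
    rw [chi_smul, mul_smul, map_mul, map_pow, chi_a D hnil ha]
    congr 1
    unfold dn
    rw [chi_smul, smul_mul_assoc]
  simp_rw [hterm]
  ext k
  rw [Polynomial.finsetSum_coeff]
  have hc : ∀ n, (((-1 : ℚ) ^ n) • (chi D a hnil (dn D n x) * Polynomial.X ^ n)).coeff k =
      ((-1 : ℚ) ^ n * ((k.choose n : ℕ) : ℚ)) • proj a (dn D k x) := by
    intro n
    rw [Polynomial.coeff_smul, Polynomial.coeff_mul_X_pow', mul_smul]
    congr 1
    split_ifs with h
    · rw [coeff_chi, dn_dn, Nat.sub_add_cancel h, map_rat_smul, Nat.choose_symm h]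
    · rw [Nat.choose_eq_zero_of_lt (by omega)]
      simp
  simp_rw [hc]
  rw [← Finset.sum_smul]
  by_cases hk : k < N
  · rw [alt_sum k N hk, coeff_C]
    split_ifs with h
    · subst h; rw [one_smul, dn_zero]
    · rw [zero_smul]
  · rw [not_lt] at hk
    rw [dn_eq_zero_of_le D hN hk, map_zero, smul_zero, coeff_C]
    split_ifs with h
    · subst h
      have : N = 0 := by omega
      subst this
      rw [Dn_zero] at hN
      rw [hN, map_zero]
    · rfl

theorem chi_injective : Function.Injective (chi D a hnil) := by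
  rw [injective_iff_map_eq_zero]
  have key : ∀ N : ℕ, ∀ x : A, Dn D N x = 0 → chi D a hnil x = 0 → x = 0 := by
    intro N
    induction N with
    | zero => intro x hx _; simpa [Dn_zero] using hx
    | succ N ih =>
      intro x hx hchi
      have hDx : D x = 0 := by
        apply ih (D x)
        · rw [← Dn_succ']; exact hx
        · rw [chi_D, hchi, map_zero]
      have hmem : x ∈ Ideal.span ({a} : Set A) := by
        have := congrArg (fun p => Polynomial.coeff p 0) hchi
        simp only [coeff_chi, dn_zero, coeff_zero] at this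
        exact Ideal.Quotient.eq_zero_iff_mem.mp this
      obtain ⟨z, rfl⟩ := Ideal.mem_span_singleton'.mp hmem
      obtain ⟨M, hM⟩ := hnil z
      rw [mul_comm] at hDx ⊢
      rw [eq_zero_of_D_a_mul ha M z hM hDx, mul_zero]
  intro x hx
  obtain ⟨N, hN⟩ := hnil x
  exact key N x hN hx

theorem chi_surjective : Function.Surjective (chi D a hnil) := by
  intro p
  induction p using Polynomial.induction_on with
  | C c =>
    obtain ⟨x, rfl⟩ := Ideal.Quotient.mk_surjective c
    obtain ⟨N, hN⟩ := hnil x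
    exact ⟨_, chi_inv_formula D hnil ha x N hN⟩
  | add p q hp hq =>
    obtain ⟨x, rfl⟩ := hp
    obtain ⟨y, rfl⟩ := hq
    exact ⟨x + y, map_add _ _ _⟩
  | monomial n c h =>
    obtain ⟨x, hx⟩ := h
    refine ⟨x * a, ?_⟩
    rw [map_mul, hx, chi_a D hnil ha, pow_succ, mul_assoc]

end main

theorem main (D : Derivation ℚ A A)
    (hnil : ∀ x : A, ∃ n : ℕ, ((D : A →ₗ[ℚ] A) ^ n) x = 0) (a : A) (ha : D a = 1) :
    ∃ χ : A ≃+* Polynomial (A ⧸ Ideal.span ({a} : Set A)),
      (∀ (x : A) (N : ℕ), ((D : A →ₗ[ℚ] A) ^ N) x = 0 →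
        χ x = ∑ n ∈ Finset.range N,
          ((n.factorial : ℚ)⁻¹ • Polynomial.C (Ideal.Quotient.mk (Ideal.span ({a} : Set A)) (((D : A →ₗ[ℚ] A) ^ n) x))) *
            Polynomial.X ^ n) ∧
      χ.symm Polynomial.X = a ∧
      (∀ (x : A) (N : ℕ), ((D : A →ₗ[ℚ] A) ^ N) x = 0 →
        χ.symm (Polynomial.C (Ideal.Quotient.mk (Ideal.span ({a} : Set A)) x)) =
          ∑ n ∈ Finset.range N, (((-1 : ℚ) ^ n * (n.factorial : ℚ)⁻¹) • ((((D : A →ₗ[ℚ] A) ^ n) x) * a ^ n))) ∧
      ∀ p : Polynomial (A ⧸ Ideal.span ({a} : Set A)), χ (D (χ.symm p)) = Polynomial.derivative p := by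
  have hnil' : ∀ x : A, ∃ n : ℕ, Dn D n x = 0 := hnil
  refine ⟨RingEquiv.ofBijective (chi D a hnil') ⟨chi_injective D hnil' ha, chi_surjective D hnil' ha⟩,
    ?_, ?_, ?_, ?_⟩
  · intro x N hN
    exact chi_formula D a hnil' x N hN
  · rw [RingEquiv.symm_apply_eq]
    exact (chi_a D hnil' ha).symm
  · intro x N hN
    rw [RingEquiv.symm_apply_eq]
    exact (chi_inv_formula D hnil' ha x N hN).symm
  · intro p
    have : ∀ y : A, (RingEquiv.ofBijective (chi D a hnil')
        ⟨chi_injective D hnil' ha, chi_surjective D hnil' ha⟩) y = chi D a hnil' y := fun _ => rfl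
    rw [this, chi_D, ← this, RingEquiv.apply_symm_apply]

end Groth.Agent.H19.SliceThm
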