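import Mathlib.AlgebraicGeometry.IdealSheaf.Basic
import Mathlib.AlgebraicGeometry.Morphisms.ClosedImmersion
import Mathlib.RingTheory.Ideal.Quotient.PowTransition
import Mathlib.RingTheory.Spectrum.Prime.Topology

set_option autoImplicit false

namespace Groth.Agent.H19

open AlgebraicGeometry CategoryTheory

universe u

/-- The ideal sheaf on `Spec R` attached to an ideal of `R`. -/
noncomputable def specIdeal (R : CommRingCat.{u}) (K : Ideal R) : (Spec R).IdealSheafData :=
  Scheme.IdealSheafData.ofIdealTop (K.comap (Scheme.ΓSpecIso R).hom.hom)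

theorem specIdeal_pow (R : CommRingCat.{u}) (K : Ideal R) (m : ℕ) :
    specIdeal R (K ^ m) = specIdeal R K ^ m := by
  have h1 : ∀ L : Ideal R, L.comap (Scheme.ΓSpecIso R).hom.hom =
      L.map (Scheme.ΓSpecIso R).inv.hom := by
    intro L
    have := Ideal.map_comap_of_equiv (I := L) (Scheme.ΓSpecIso R).commRingCatIsoToRingEquiv.symm
    exact this.symm
  unfold specIdeal
  rw [h1, h1, Ideal.map_pow]
  exact map_pow (Scheme.IdealSheafData.equivOfIsAffine (X := Spec R)).symm _ m

theorem ker_specMap {R S : CommRingCat.{u}} (φ : R ⟶ S) :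
    (Spec.map φ).ker = specIdeal R (RingHom.ker φ.hom) := by
  rw [Scheme.ker_of_isAffine, specIdeal]
  congr 1
  ext x
  simp only [RingHom.mem_ker, Ideal.mem_comap]
  have h := Scheme.ΓSpecIso_naturality φ
  have h2 : (Scheme.ΓSpecIso S).hom.hom ((Spec.map φ).appTop.hom x) =
      φ.hom ((Scheme.ΓSpecIso R).hom.hom x) := by
    have := congrArg (fun g => g.hom x) h
    exact this
  rw [← h2]
  constructor
  · intro hx; rw [hx, map_zero]
  · intro hx
    have hinj : Function.Injective (Scheme.ΓSpecIso S).hom.hom :=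
      (ConcreteCategory.bijective_of_isIso (Scheme.ΓSpecIso S).hom).1
    exact hinj (by rw [hx, map_zero])

theorem specMap_surjective_of_ker_le_nilradical {R S : Type u} [CommRing R] [CommRing S]
    (φ : R →+* S) (hφ : Function.Surjective φ) (hker : RingHom.ker φ ≤ nilradical R) :
    Function.Surjective (Spec.map (CommRingCat.ofHom φ)).base := by
  intro x
  have h1 : Set.range (PrimeSpectrum.comap φ) = Set.univ := by
    rw [range_comap_of_surjective _ _ hφ, PrimeSpectrum.zeroLocus_eq_univ_iff]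
    exact hker
  have : x ∈ Set.range (PrimeSpectrum.comap φ) := by rw [h1]; trivial
  obtain ⟨y, hy⟩ := this
  exact ⟨y, hy⟩

end Groth.Agent.H19

namespace Groth.Agent.H19

open AlgebraicGeometry CategoryTheory

universe u

variable {A : Type u} [CommRing A] (J : Ideal A)

/-- `Spec (A/J^(k+1)) ⟶ Spec (A/J^(m+1))` for `k ≤ m`. -/
noncomputable def specFactor (k m : ℕ) (h : k ≤ m) :
    Spec (CommRingCat.of (A ⧸ J ^ (k + 1))) ⟶ Spec (CommRingCat.of (A ⧸ J ^ (m + 1))) :=
  Spec.map (CommRingCat.ofHom (Ideal.Quotient.factor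
    (Ideal.pow_le_pow_right (Nat.succ_le_succ h) : J ^ (m + 1) ≤ J ^ (k + 1))))

theorem specFactor_comp (k m l : ℕ) (h : k ≤ m) (h' : m ≤ l) :
    specFactor J k m h ≫ specFactor J m l h' = specFactor J k l (h.trans h') := by
  unfold specFactor
  rw [← Spec.map_comp, ← CommRingCat.ofHom_comp]
  congr 2
  exact Ideal.Quotient.factor_comp _ _

theorem specFactor_self (k : ℕ) : specFactor J k k le_rfl = 𝟙 _ := by
  unfold specFactor
  rw [← Spec.map_id]
  congr 1
  ext a
  rfl

theorem ker_specFactor (k m : ℕ) (h : k ≤ m) :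
    (specFactor J k m h).ker = specIdeal (CommRingCat.of (A ⧸ J ^ (m + 1)))
      ((J ^ (k + 1)).map (Ideal.Quotient.mk (J ^ (m + 1)))) := by
  unfold specFactor
  rw [ker_specMap]
  congr 1
  exact Ideal.Quotient.factor_ker
    (Ideal.pow_le_pow_right (Nat.succ_le_succ h) : J ^ (m + 1) ≤ J ^ (k + 1))

theorem ker_specFactor_adic (n : ℕ) :
    (specFactor J n (n + 1) (Nat.le_succ n)).ker =
      (specFactor J 0 (n + 1) (Nat.zero_le _)).ker ^ (n + 1) := by
  rw [ker_specFactor, ker_specFactor, ← specIdeal_pow, ← Ideal.map_pow, ← pow_mul]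
  simp

theorem isClosedImmersion_specFactor (k m : ℕ) (h : k ≤ m) :
    IsClosedImmersion (specFactor J k m h) :=
  IsClosedImmersion.spec_of_surjective _ (Ideal.Quotient.factor_surjective
    (Ideal.pow_le_pow_right (Nat.succ_le_succ h) : J ^ (m + 1) ≤ J ^ (k + 1)))

theorem surjective_specFactor (k m : ℕ) (h : k ≤ m) :
    Function.Surjective (specFactor J k m h).base := by
  apply specMap_surjective_of_ker_le_nilradical _ (Ideal.Quotient.factor_surjective
    (Ideal.pow_le_pow_right (Nat.succ_le_succ h) : J ^ (m + 1) ≤ J ^ (k + 1)))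
  rw [Ideal.Quotient.factor_ker]
  intro x hx
  refine ⟨m + 1, ?_⟩
  have h2 : x ^ (m + 1) ∈ ((J ^ (k + 1)).map (Ideal.Quotient.mk (J ^ (m + 1)))) ^ (m + 1) :=
    Ideal.pow_mem_pow hx (m + 1)
  rw [← Ideal.map_pow, ← pow_mul] at h2
  have h3 : (J ^ ((k + 1) * (m + 1))).map (Ideal.Quotient.mk (J ^ (m + 1))) = ⊥ := by
    rw [Ideal.map_eq_bot_iff_le_ker, Ideal.mk_ker]
    exact Ideal.pow_le_pow_right (by nlinarith)
  rw [h3] at h2
  exact h2

end Groth.Agent.H19
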