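import Groth.Prelude.Def_FSch3
import Mathlib.RingTheory.AdicCompletion.Algebra

set_option autoImplicit false

namespace Groth.Agent.H19

open AlgebraicGeometry CategoryTheory

universe u

variable {A B : Type u} [CommRing A] [CommRing B] (I : Ideal A) (K : Ideal B)

theorem spfMap_injective [IsAdicComplete I A] :
    Function.Injective (fun φ : {φ : B →+* A // K ≤ I.comap φ} ↦ FSch.spfMap I K φ.1 φ.2) := by
  rintro ⟨φ, hφ⟩ ⟨ψ, hψ⟩ h
  apply Subtype.ext
  change φ = ψ
  ext b
  have hb : ∀ n : ℕ, φ b - ψ b ∈ I ^ (n + 1) := by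
    intro n
    have h1 := congrArg (fun F : FSch.Hom _ _ => F.app n) h
    simp only [FSch.spfMap_app] at h1
    have h2 := Spec.map_injective h1
    have h3 : FSch.quotPowMap I K φ hφ n = FSch.quotPowMap I K ψ hψ n := by
      have := congrArg CommRingCat.Hom.hom h2
      exact this
    have h4 := congrArg (fun g => g (Ideal.Quotient.mk (K ^ (n + 1)) b)) h3
    simp only [FSch.quotPowMap, Ideal.quotientMap_mk] at h4
    exact Ideal.Quotient.eq.mp h4
  have hH : IsHausdorff I A := inferInstance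
  have := hH.haus' (φ b - ψ b) (fun n => by
    rw [SModEq.zero, smul_eq_mul, Ideal.mul_top]
    rcases n with _ | n
    · simp
    · exact hb n)
  exact sub_eq_zero.mp this


theorem spfMap_surjective [IsAdicComplete I A] :
    Function.Surjective (fun φ : {φ : B →+* A // K ≤ I.comap φ} ↦ FSch.spfMap I K φ.1 φ.2) := by
  intro F
  -- the ring maps θ_n
  have hθ : ∀ n, ∃ θ : B ⧸ K ^ (n + 1) →+* A ⧸ I ^ (n + 1),
      (F : FSch.Hom _ _).app n = Spec.map (CommRingCat.ofHom θ) := by
    intro n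
    obtain ⟨θ, hθ⟩ := Spec.map_surjective ((F : FSch.Hom _ _).app n)
    exact ⟨θ.hom, hθ.symm⟩
  choose θ hθ using hθ
  -- compatibility
  have hcomp : ∀ n, (θ n).comp (Ideal.Quotient.factor
      (Ideal.pow_le_pow_right (Nat.le_succ (n + 1)) : K ^ (n + 2) ≤ K ^ (n + 1))) =
      (Ideal.Quotient.factor
        (Ideal.pow_le_pow_right (Nat.le_succ (n + 1)) : I ^ (n + 2) ≤ I ^ (n + 1))).comp (θ (n + 1)) := by
    intro n
    have h1 := (F : FSch.Hom _ _).comm n
    rw [hθ n, hθ (n + 1)] at h1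
    have h2 : Spec.map (CommRingCat.ofHom (θ n)) ≫ Spec.map (CommRingCat.ofHom (Ideal.Quotient.factor
        (Ideal.pow_le_pow_right (Nat.le_succ (n + 1)) : K ^ (n + 2) ≤ K ^ (n + 1)))) =
        Spec.map (CommRingCat.ofHom (Ideal.Quotient.factor
        (Ideal.pow_le_pow_right (Nat.le_succ (n + 1)) : I ^ (n + 2) ≤ I ^ (n + 1)))) ≫
          Spec.map (CommRingCat.ofHom (θ (n + 1))) := h1
    rw [← Spec.map_comp, ← Spec.map_comp, ← CommRingCat.ofHom_comp, ← CommRingCat.ofHom_comp] at h2
    have h3 := Spec.map_injective h2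
    exact congrArg CommRingCat.Hom.hom h3
  -- the family f n : B → A / I^n
  let f : (n : ℕ) → B →+* A ⧸ I ^ n := fun n =>
    ((Ideal.Quotient.factorPow I (Nat.le_succ n)).comp (θ n)).comp (Ideal.Quotient.mk (K ^ (n + 1)))
  have hsucc : ∀ n, (Ideal.Quotient.factorPow I (Nat.le_succ n)).comp (f (n + 1)) = f n := by
    intro n
    ext b
    simp only [f, RingHom.comp_apply]
    have h1 := congrArg (fun g => g (Ideal.Quotient.mk (K ^ (n + 2)) b)) (hcomp n)
    simp only [RingHom.comp_apply, Ideal.Quotient.factor_mk] at h1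
    rw [h1]
  have hf : ∀ {m n : ℕ} (hle : m ≤ n), (Ideal.Quotient.factorPow I hle).comp (f n) = f m := by
    intro m n hle
    induction n, hle using Nat.le_induction with
    | base =>
      ext b
      simp only [RingHom.comp_apply]
      obtain ⟨a, ha⟩ := Ideal.Quotient.mk_surjective (f m b)
      rw [← ha]
      rfl
    | succ n hmn ih =>
      rw [← ih, ← hsucc n]
      ext b
      simp only [RingHom.comp_apply]
      obtain ⟨a, ha⟩ := Ideal.Quotient.mk_surjective (f (n + 1) b)
      rw [← ha]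
      rfl
  let φ : B →+* A := ((AdicCompletion.ofAlgEquiv I).symm : AdicCompletion I A →+* A).comp
    (AdicCompletion.liftRingHom I f hf)
  have hφ : ∀ (n : ℕ) (b : B), Ideal.Quotient.mk (I ^ n) (φ b) = f n b := by
    intro n b
    simp only [φ, RingHom.comp_apply]
    erw [AdicCompletion.mk_ofAlgEquiv_symm]
    exact AdicCompletion.evalₐ_liftRingHom I f hf n b
  have hφ' : ∀ (n : ℕ) (b : B), Ideal.Quotient.mk (I ^ (n + 1)) (φ b) =
      θ n (Ideal.Quotient.mk (K ^ (n + 1)) b) := by
    intro n b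
    rw [hφ]
    simp only [f, RingHom.comp_apply]
    have h1 := congrArg (fun g => g (Ideal.Quotient.mk (K ^ (n + 2)) b)) (hcomp n)
    simp only [RingHom.comp_apply, Ideal.Quotient.factor_mk] at h1
    rw [h1]
  have hK : K ≤ I.comap φ := by
    intro b hb
    rw [Ideal.mem_comap]
    have h1 := hφ' 0 b
    have h2 : Ideal.Quotient.mk (K ^ (0 + 1)) b = 0 := by
      rw [Ideal.Quotient.eq_zero_iff_mem]; simpa using hb
    rw [h2, map_zero, Ideal.Quotient.eq_zero_iff_mem] at h1
    simpa using h1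
  refine ⟨⟨φ, hK⟩, ?_⟩
  apply FSch.Hom.ext
  funext n
  change (FSch.spfMap I K φ hK : FSch.Hom _ _).app n = _
  rw [FSch.spfMap_app, hθ n]
  congr 2
  apply Ideal.Quotient.ringHom_ext
  ext b
  simp only [RingHom.comp_apply, FSch.quotPowMap, Ideal.quotientMap_mk]
  exact hφ' n b

end Groth.Agent.H19
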