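import Groth.Agent.H89.ComplFinite
import Groth.Agent.H20.ComplNoeth

/-!
# Square-zero extensions of complete Noetherian local rings are complete

If `f : E → A` is a surjection onto a complete Noetherian local ring whose kernel is finitely
generated of square zero, then `E` is complete for the preimage of the maximal ideal.
-/

set_option autoImplicit false
set_option linter.unusedSectionVars false
set_option linter.style.haveILetI false

namespace Groth.Agent.H19.SqZeroComplete

universe u v

/-- A ring with a finitely generated nilpotent ideal and Noetherian quotient is Noetherian. -/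
theorem isNoetherianRing_of_nilp {E : Type*} [CommRing E] (I : Ideal E) (hI : I.FG) (m : ℕ)
    (hm : I ^ m = ⊥) [IsNoetherianRing (E ⧸ I)] : IsNoetherianRing E := by
  have hbot : (I ^ m • ⊤ : Submodule E E) = ⊥ := by
    rw [hm]
    exact Submodule.bot_smul _
  have : IsHausdorff I E := ⟨fun x hx => by
    have h := hx m
    rw [hbot] at h
    exact SModEq.bot.mp h⟩
  have : IsPrecomplete I E := ⟨fun f hf => ⟨f m, fun n => by
    rcases le_total n m with h | h
    · exact hf h
    · have h1 := hf h
      rw [hbot] at h1
      rw [SModEq.bot.mp h1]⟩⟩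
  exact Groth.Agent.H20.ComplNoeth.isNoetherianRing_of_isAdicComplete I hI

section transfer

variable {E : Type v} {A : Type u} [CommRing E] [CommRing A] (f : E →+* A)
  (hf : Function.Surjective f)
variable (P : Type*) [AddCommGroup P] [Module A P] [Module E P]
  (hsm : ∀ (e : E) (p : P), e • p = f e • p)

include hf hsm in
theorem mem_pow_smul_top_iff (m : Ideal A) (k : ℕ) (p : P) :
    p ∈ ((m.comap f) ^ k • (⊤ : Submodule E P)) ↔ p ∈ (m ^ k • (⊤ : Submodule A P)) := by
  constructor
  · intro hp
    refine Submodule.smul_induction_on hp ?_ ?_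
    · intro e he q _
      rw [hsm]
      refine Submodule.smul_mem_smul ?_ Submodule.mem_top
      have h1 : f e ∈ Ideal.map f ((m.comap f) ^ k) := Ideal.mem_map_of_mem f he
      rw [Ideal.map_pow] at h1
      exact Ideal.pow_right_mono Ideal.map_comap_le k h1
    · intro x y hx hy
      exact Submodule.add_mem _ hx hy
  · intro hp
    refine Submodule.smul_induction_on hp ?_ ?_
    · intro a ha q _
      have h1 : a ∈ Ideal.map f ((m.comap f) ^ k) := by
        rw [Ideal.map_pow, Ideal.map_comap_of_surjective f hf]
        exact ha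
      obtain ⟨e, he, rfl⟩ := (Ideal.mem_map_iff_of_surjective f hf).mp h1
      rw [← hsm]
      exact Submodule.smul_mem_smul he Submodule.mem_top
    · intro x y hx hy
      exact Submodule.add_mem _ hx hy

include hf hsm in
theorem isPrecomplete_transfer (m : Ideal A) [hP : IsPrecomplete m P] :
    IsPrecomplete (m.comap f) P := by
  refine ⟨fun g hg => ?_⟩
  obtain ⟨L, hL⟩ := hP.prec' g (fun {a b} hab => by
    have := hg hab
    rw [SModEq.sub_mem] at this ⊢
    exact (mem_pow_smul_top_iff f hf P hsm m a _).mp this)
  refine ⟨L, fun k => ?_⟩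
  have := hL k
  rw [SModEq.sub_mem] at this ⊢
  exact (mem_pow_smul_top_iff f hf P hsm m k _).mpr this

end transfer

section fourlemma

variable {E : Type v} [CommRing E] [IsNoetherianRing E] (n : Ideal E)
  {K' : Type v} {A' : Type v} [AddCommGroup K'] [Module E K'] [AddCommGroup A'] [Module E A']

theorem isPrecomplete_of_exact (i : K' →ₗ[E] E) (g : E →ₗ[E] A') (hi : Function.Injective i)
    (hex : Function.Exact i g) (hg : Function.Surjective g) [hK : IsPrecomplete n K']
    [hA : IsPrecomplete n A'] : IsPrecomplete n E := by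
  rw [← AdicCompletion.of_surjective_iff]
  have hex' : Function.Exact (AdicCompletion.map n i) (AdicCompletion.map n g) :=
    AdicCompletion.map_exact (I := n) hi hex hg
  intro y
  obtain ⟨a, ha⟩ := (AdicCompletion.of_surjective_iff.mpr hA) (AdicCompletion.map n g y)
  obtain ⟨e, rfl⟩ := hg a
  have h0 : AdicCompletion.map n g (y - AdicCompletion.of n E e) = 0 := by
    rw [map_sub, AdicCompletion.map_of, ha, sub_self]
  obtain ⟨z, hz⟩ := (hex' _).mp h0
  obtain ⟨κ, rfl⟩ := (AdicCompletion.of_surjective_iff.mpr hK) z
  refine ⟨e + i κ, ?_⟩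
  rw [AdicCompletion.map_of] at hz
  rw [map_add, hz]
  abel

end fourlemma

section main

variable {A : Type u} {E : Type v} [CommRing A] [CommRing E]

theorem isUnit_of_map (f : E →+* A) (hf : Function.Surjective f) (hsq : RingHom.ker f ^ 2 = ⊥)
    (e : E) (he : IsUnit (f e)) : IsUnit e := by
  obtain ⟨a, ha⟩ := he.exists_right_inv
  obtain ⟨e', rfl⟩ := hf a
  have hκ : e * e' - 1 ∈ RingHom.ker f := by
    rw [RingHom.mem_ker, map_sub, map_mul, ha, map_one, sub_self]
  have hκ2 : (e * e' - 1) * (e * e' - 1) = 0 := by
    have : (e * e' - 1) * (e * e' - 1) ∈ RingHom.ker f ^ 2 := by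
      rw [pow_two]
      exact Ideal.mul_mem_mul hκ hκ
    rw [hsq] at this
    exact this
  refine IsUnit.of_mul_eq_one (e' * (1 - (e * e' - 1))) ?_
  have : e * (e' * (1 - (e * e' - 1))) = 1 - (e * e' - 1) * (e * e' - 1) := by ring
  rw [this, hκ2, sub_zero]

theorem main [IsNoetherianRing A] [IsLocalRing A]
    [IsAdicComplete (IsLocalRing.maximalIdeal A) A]
    (f : E →+* A) (hf : Function.Surjective f)
    (hsq : RingHom.ker f ^ 2 = ⊥) (hfg : (RingHom.ker f).FG) :
    IsAdicComplete ((IsLocalRing.maximalIdeal A).comap f) E := by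
  classical
  set K := RingHom.ker f with hK
  set m := IsLocalRing.maximalIdeal A with hm
  -- `E` is Noetherian
  haveI : IsNoetherianRing (E ⧸ K) :=
    isNoetherianRing_of_ringEquiv A (RingHom.quotientKerEquivOfSurjective hf).symm
  haveI : IsNoetherianRing E := isNoetherianRing_of_nilp K hfg 2 hsq
  -- Hausdorff
  have hjac : m.comap f ≤ Ideal.jacobson ⊥ := by
    intro x hx
    rw [Ideal.mem_jacobson_bot]
    intro y
    apply isUnit_of_map f hf hsq
    rw [map_add, map_mul, map_one]
    rw [← IsLocalRing.notMem_maximalIdeal]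
    intro h
    have h1 : f x * f y ∈ m := Ideal.mul_mem_right _ _ hx
    have h2 : (1 : A) ∈ m := by
      have := Ideal.sub_mem _ h h1
      rwa [add_sub_cancel_left] at this
    exact (Ideal.ne_top_iff_one m).mp (IsLocalRing.maximalIdeal.isMaximal A).ne_top h2
  haveI : IsHausdorff (m.comap f) E := IsHausdorff.of_le_jacobson _ _ hjac
  -- module structures
  let φ : A ≃+* E ⧸ K := (RingHom.quotientKerEquivOfSurjective hf).symm
  have hφ : ∀ e : E, φ (f e) = Ideal.Quotient.mk K e := by
    intro e
    rw [RingEquiv.symm_apply_eq]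
    rfl
  letI : Module A (E ⧸ K) := Module.compHom (E ⧸ K) (φ : A →+* E ⧸ K)
  have hsmQ : ∀ (e : E) (p : E ⧸ K), e • p = f e • p := by
    intro e p
    change e • p = φ (f e) * p
    rw [hφ]
    rfl
  haveI : Module.Finite A (E ⧸ K) := by
    refine Module.Finite.of_surjective (LinearMap.toSpanSingleton A (E ⧸ K) 1) ?_
    intro p
    refine ⟨φ.symm p, ?_⟩
    change φ (φ.symm p) * 1 = p
    rw [RingEquiv.apply_symm_apply, mul_one]
  haveI : IsAdicComplete m (E ⧸ K) := Groth.Agent.H89.isAdicComplete_of_finite_noeth m (E ⧸ K)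
  haveI : IsPrecomplete (m.comap f) (E ⧸ K) := isPrecomplete_transfer f hf (E ⧸ K) hsmQ m
  have hKK : ∀ (d : E) (x : K), d ∈ K → d • x = 0 := by
    intro d x hd
    apply Subtype.ext
    have : d * (x : E) ∈ K ^ 2 := by
      rw [pow_two]
      exact Ideal.mul_mem_mul hd x.2
    rw [hsq] at this
    exact this
  letI : SMul A K := ⟨fun a x => (Function.surjInv hf a) • x⟩
  have hsmK : ∀ (c : E) (x : K), f c • x = c • x := by
    intro c x
    change (Function.surjInv hf (f c)) • x = c • x
    have hd : Function.surjInv hf (f c) - c ∈ K := by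
      rw [hK, RingHom.mem_ker, map_sub, Function.surjInv_eq hf, sub_self]
    have := hKK _ x hd
    rw [sub_smul, sub_eq_zero] at this
    exact this
  letI : Module A K := Function.Surjective.moduleLeft f hf hsmK
  letI : Algebra E A := f.toAlgebra
  haveI : IsScalarTower E A K := ⟨fun e a x => by
    obtain ⟨e', rfl⟩ := hf a
    have : e • f e' = f (e * e') := by
      rw [map_mul]
      rfl
    rw [this, hsmK, hsmK, mul_smul]⟩
  haveI : Module.Finite E K := Module.Finite.iff_fg.mpr hfg
  haveI : Module.Finite A K := Module.Finite.of_restrictScalars_finite E A K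
  haveI : IsAdicComplete m K := Groth.Agent.H89.isAdicComplete_of_finite_noeth m K
  haveI : IsPrecomplete (m.comap f) K :=
    isPrecomplete_transfer f hf K (fun e x => (hsmK e x).symm) m
  -- four lemma
  haveI : IsPrecomplete (m.comap f) E :=
    isPrecomplete_of_exact (m.comap f) K.subtype K.mkQ
      (Submodule.injective_subtype K) (LinearMap.exact_subtype_mkQ K) (Submodule.mkQ_surjective K)
  exact { }

end main

end Groth.Agent.H19.SqZeroComplete
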