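import Mathlib
import Groth.Prelude.Def_CohTop
import Groth.Agent.H69.CS.Const
import Groth.Agent.H19.ConstIrr

/-!
# Subsheaves of the constant sheaf `ℤ` on an irreducible space (H19)
-/

open CategoryTheory TopologicalSpace Opposite CategoryTheory.Limits
open Groth.Agent.H69.CS Groth.Agent.H19.ConstIrr

namespace Groth.Agent.H19.SubConst

universe u

/-- The group `ULift ℤ` as an object. -/
abbrev MZ : AddCommGrpCat.{u} := AddCommGrpCat.of (ULift.{u} ℤ)

variable {X : TopCat.{u}}

section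
variable (H : CohTop.Ab X) (ι : H ⟶ cst (Opens.grothendieckTopology X) MZ.{u})

lemma app_injective [Mono ι] (V : Opens X) : Function.Injective (app ι V) := by
  have h1 : Mono ι.hom := (Sheaf.Hom.mono_iff_presheaf_mono _ _ ι).mp inferInstance
  have h2 : Mono (ι.hom.app (op V)) := (NatTrans.mono_iff_mono_app ι.hom).mp h1 (op V)
  exact (AddCommGrpCat.mono_iff_injective _).mp h2

variable [IrreducibleSpace X]

/-- The subgroup of integers occurring as values of `ι` on sections of `H` over nonempty opens. -/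
def valueGroup : AddSubgroup ℤ where
  carrier := {n | ∃ V : Opens X, V ≠ ⊥ ∧ ∃ h : Sec H V,
    app ι V h = eta (Opens.grothendieckTopology X) MZ.{u} V ⟨n⟩}
  zero_mem' := by
    refine ⟨⊤, ?_, 0, ?_⟩
    · intro h
      obtain ⟨x⟩ : Nonempty X := inferInstance
      have : x ∈ (⊤ : Opens X) := trivial
      rw [h] at this
      exact this
    · rw [map_zero]
      exact (map_zero (eta (Opens.grothendieckTopology X) MZ.{u} ⊤)).symm
  add_mem' := by
    rintro a b ⟨V₁, hV₁, h₁, e₁⟩ ⟨V₂, hV₂, h₂, e₂⟩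
    refine ⟨V₁ ⊓ V₂, inter_ne_bot hV₁ hV₂,
      res H (homOfLE inf_le_left) h₁ + res H (homOfLE inf_le_right) h₂, ?_⟩
    rw [map_add, app_res, app_res, e₁, e₂, res_eta, res_eta, ← map_add]
    rfl
  neg_mem' := by
    rintro a ⟨V, hV, h, e⟩
    refine ⟨V, hV, -h, ?_⟩
    rw [map_neg, e, ← map_neg]
    rfl

end

section
variable [IrreducibleSpace X] (H : CohTop.Ab X)
  (ι : H ⟶ cst (Opens.grothendieckTopology X) MZ.{u}) {U : Opens X} (h₀ : Sec H U)

open Classical in
/-- The map `n ↦ n • h₀|_V` on sections of the constant sheaf over `V ≤ U`. -/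
noncomputable def cMap {V : Opens X} (hVU : V ≤ U) :
    Sec (cst (Opens.grothendieckTopology X) MZ.{u}) V →+ Sec H V :=
  if hV : V = ⊥ then 0 else
    ((zmultiplesHom (Sec H V)) (res H (homOfLE hVU) h₀)).comp
      ((AddEquiv.ulift.toAddMonoidHom).comp (etaEquiv MZ.{u} hV).symm.toAddMonoidHom)

lemma cMap_eta {V : Opens X} (hVU : V ≤ U) (hV : V ≠ ⊥) (m : ULift.{u} ℤ) :
    cMap H h₀ hVU (eta (Opens.grothendieckTopology X) MZ.{u} V m) =
      m.down • res H (homOfLE hVU) h₀ := by
  unfold cMap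
  rw [dif_neg hV]
  have : (etaEquiv MZ.{u} hV).symm (eta (Opens.grothendieckTopology X) MZ.{u} V m) = m :=
    (etaEquiv MZ.{u} hV).symm_apply_apply m
  show ((etaEquiv MZ.{u} hV).symm (eta (Opens.grothendieckTopology X) MZ.{u} V m)).down •
    res H (homOfLE hVU) h₀ = _
  rw [this]

lemma cMap_res {V V' : Opens X} (hVU : V ≤ U) (hV'V : V' ≤ V)
    (s : Sec (cst (Opens.grothendieckTopology X) MZ.{u}) V) :
    res H (homOfLE hV'V) (cMap H h₀ hVU s) =
      cMap H h₀ (hV'V.trans hVU) (res (cst (Opens.grothendieckTopology X) MZ.{u})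
        (homOfLE hV'V) s) := by
  by_cases hV' : V' = ⊥
  · exact sec_subsingleton_bot H hV' _ _
  · have hV : V ≠ ⊥ := by
      rintro rfl
      exact hV' (le_bot_iff.mp hV'V)
    obtain ⟨m, rfl⟩ := eta_surjective MZ.{u} hV s
    rw [cMap_eta _ _ _ hV, res_eta, cMap_eta _ _ _ hV', map_zsmul, res_res]
    rfl

lemma app_cMap (d : ℤ)
    (hh₀ : app ι U h₀ = eta (Opens.grothendieckTopology X) MZ.{u} U ⟨d⟩)
    {V : Opens X} (hVU : V ≤ U) (s : Sec (cst (Opens.grothendieckTopology X) MZ.{u}) V) :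
    app ι V (cMap H h₀ hVU s) = d • s := by
  by_cases hV : V = ⊥
  · exact sec_subsingleton_bot _ hV _ _
  · obtain ⟨m, rfl⟩ := eta_surjective MZ.{u} hV s
    rw [cMap_eta _ _ _ hV, map_zsmul, app_res, hh₀, res_eta, ← map_zsmul, ← map_zsmul]
    congr 1
    apply ULift.ext
    simp [mul_comm]

lemma cMap_bijective [Mono ι] (d : ℤ) (hd : d ≠ 0)
    (hh₀ : app ι U h₀ = eta (Opens.grothendieckTopology X) MZ.{u} U ⟨d⟩)
    (hS : valueGroup H ι = AddSubgroup.closure {d})
    {V : Opens X} (hVU : V ≤ U) : Function.Bijective (cMap H h₀ hVU) := by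
  by_cases hV : V = ⊥
  · constructor
    · intro a b _
      exact sec_subsingleton_bot _ hV _ _
    · intro t
      exact ⟨0, sec_subsingleton_bot _ hV _ _⟩
  · constructor
    · rw [injective_iff_map_eq_zero]
      intro s hs
      have h1 := app_cMap H ι h₀ d hh₀ hVU s
      rw [hs, map_zero] at h1
      obtain ⟨m, rfl⟩ := eta_surjective MZ.{u} hV s
      rw [← map_zsmul] at h1
      have h2 : d • m = 0 := eta_injective MZ.{u} hV (h1.symm.trans (map_zero _).symm)
      have h3 : m = 0 := by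
        apply ULift.ext
        have := congrArg ULift.down h2
        simpa [hd] using this
      rw [h3, map_zero]
    · intro t
      obtain ⟨m, hm⟩ := eta_surjective MZ.{u} hV (app ι V t)
      have hmem : m.down ∈ valueGroup H ι := ⟨V, hV, t, hm.symm⟩
      rw [hS, AddSubgroup.mem_closure_singleton] at hmem
      obtain ⟨n, hn⟩ := hmem
      refine ⟨eta (Opens.grothendieckTopology X) MZ.{u} V ⟨n⟩, app_injective H ι V ?_⟩
      rw [app_cMap H ι h₀ d hh₀, ← map_zsmul, ← hm]
      congr 1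
      apply ULift.ext
      simp only [ULift.smul_down, smul_eq_mul]
      rw [← hn, smul_eq_mul, mul_comm]

end

end Groth.Agent.H19.SubConst
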