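import Mathlib
import Groth.Prelude.Def_CohTop
import Groth.Agent.H69.CS.Const
import Groth.Agent.H19.ConstIrr
import Groth.Agent.H19.SubConst

/-!
# Subsheaves of the constant sheaf `ℤ` on an irreducible space, main statement (H19)
-/

open CategoryTheory TopologicalSpace Opposite CategoryTheory.Limits
open Groth.Agent.H69.CS Groth.Agent.H19.ConstIrr

namespace Groth.Agent.H19.SubConst

universe u

variable {X : TopCat.{u}} [IrreducibleSpace X] (H : CohTop.Ab X)
  (ι : H ⟶ cst (Opens.grothendieckTopology X) MZ.{u}) {U : Opens X} (h₀ : Sec H U)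

lemma functor_le (U : Opens X) (W : Opens (TopCat.of U)) :
    U.isOpenEmbedding.isOpenMap.functor.obj W ≤ U := by
  rintro _ ⟨x, _, rfl⟩
  exact x.2

/-- The morphism `ℤ|_U → H|_U`, `n ↦ n • h₀`. -/
noncomputable def chi :
    (CohTop.restrFunctor U).obj (cst (Opens.grothendieckTopology X) MZ.{u}) ⟶
      (CohTop.restrFunctor U).obj H :=
  ⟨{ app := fun W => AddCommGrpCat.ofHom (cMap H h₀ (functor_le U W.unop))
     naturality := fun W W' f => by
       ext s
       exact (cMap_res H h₀ (functor_le U W.unop)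
        (leOfHom (U.isOpenEmbedding.isOpenMap.functor.map f.unop)) s).symm }⟩

lemma chi_comp (d : ℤ)
    (hh₀ : app ι U h₀ = eta (Opens.grothendieckTopology X) MZ.{u} U ⟨d⟩) :
    chi H h₀ ≫ (CohTop.restrFunctor U).map ι =
      (CohTop.restrFunctor U).map (d • 𝟙 (cst (Opens.grothendieckTopology X) MZ.{u})) := by
  apply Sheaf.hom_ext
  ext W s
  exact app_cMap H ι h₀ d hh₀ (functor_le U W.unop) s

lemma chi_isIso [Mono ι] (d : ℤ) (hd : d ≠ 0)
    (hh₀ : app ι U h₀ = eta (Opens.grothendieckTopology X) MZ.{u} U ⟨d⟩)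
    (hS : valueGroup H ι = AddSubgroup.closure {d}) : IsIso (chi H h₀) := by
  have h1 : ∀ W, IsIso ((chi H h₀).hom.app W) := fun W => by
    rw [ConcreteCategory.isIso_iff_bijective]
    exact cMap_bijective H ι h₀ d hd hh₀ hS (functor_le U W.unop)
  have h2 : IsIso (chi H h₀).hom := NatIso.isIso_of_isIso_app _
  have h3 : IsIso ((sheafToPresheaf _ _).map (chi H h₀)) := h2
  exact isIso_of_reflects_iso _ (sheafToPresheaf _ _)

theorem main [Mono ι] : ∃ (U : Opens X) (d : ℤ), U ≠ ⊥ ∧
    imageSubobject ((CohTop.restrFunctor U).map ι) =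
      imageSubobject ((CohTop.restrFunctor U).map
        (d • 𝟙 (cst (Opens.grothendieckTopology X) MZ.{u}))) := by
  obtain ⟨d, hS⟩ := Int.subgroup_cyclic (valueGroup H ι)
  by_cases hd : d = 0
  · subst hd
    have hι : ι = 0 := by
      apply Sheaf.hom_ext
      ext V s
      show app ι V.unop s = 0
      by_cases hV : V.unop = ⊥
      · exact sec_subsingleton_bot _ hV _ _
      · obtain ⟨m, hm⟩ := eta_surjective MZ.{u} hV (app ι V.unop s)
        have hmem : m.down ∈ valueGroup H ι := ⟨V.unop, hV, s, hm.symm⟩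
        rw [hS, AddSubgroup.mem_closure_singleton] at hmem
        obtain ⟨n, hn⟩ := hmem
        have hm0 : m = 0 := by
          apply ULift.ext
          rw [← hn]
          simp
        rw [← hm, hm0, map_zero]
    have htop : (⊤ : Opens X) ≠ ⊥ := by
      intro h
      obtain ⟨x⟩ : Nonempty X := inferInstance
      have : x ∈ (⊤ : Opens X) := trivial
      rw [h] at this
      exact this
    refine ⟨⊤, 0, htop, ?_⟩
    rw [hι, zero_smul, Functor.map_zero, Functor.map_zero, imageSubobject_zero,
      imageSubobject_zero]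
  · have hdmem : d ∈ valueGroup H ι := by
      rw [hS]
      exact AddSubgroup.subset_closure rfl
    obtain ⟨U, hU, h₀, hh₀⟩ := hdmem
    refine ⟨U, d, hU, ?_⟩
    have := chi_isIso H ι h₀ d hd hh₀ hS
    rw [← chi_comp H ι h₀ d hh₀, imageSubobject_iso_comp]

end Groth.Agent.H19.SubConst
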