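import Mathlib

/-!
# Extension by empty/zero from a subterminal object is fully faithful (H19)
-/

namespace Groth.Agent.H19.SubtermUnit

open CategoryTheory CategoryTheory.Limits Opposite

universe w w' v u

variable {C : Type u} [Category.{v} C] (J : GrothendieckTopology C) (U : C)

theorem full_forget (hU : ∀ V : C, Subsingleton (V ⟶ U)) : (Over.forget U).Full :=
  ⟨fun {_ _} f => ⟨Over.homMk f (@Subsingleton.elim _ (hU _) _ _), rfl⟩⟩

variable (A : Type w) [Category.{w'} A]
  [∀ F : (Over U)ᵒᵖ ⥤ A, (Over.forget U).op.HasPointwiseRightKanExtension F]
  [((Over.forget U).sheafPushforwardContinuous A (J.over U) J).IsRightAdjoint]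

theorem unit_isIso (hU : ∀ V : C, Subsingleton (V ⟶ U)) :
    IsIso ((Over.forget U).sheafAdjunctionContinuous A (J.over U) J).unit := by
  have hfull : (Over.forget U).Full := full_forget U hU
  have hfull' : (Over.forget U).op.Full := inferInstance
  have hfaith' : (Over.forget U).op.Faithful := inferInstance
  have hco : ∀ G : Sheaf (J.over U) A,
      IsIso (((Over.forget U).sheafAdjunctionCocontinuous A (J.over U) J).counit.app G) := by
    intro G
    have h1 : IsIso ((sheafToPresheaf (J.over U) A).map
        (((Over.forget U).sheafAdjunctionCocontinuous A (J.over U) J).counit.app G)) := by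
      show IsIso (((Over.forget U).sheafAdjunctionCocontinuous A (J.over U) J).counit.app G).hom
      rw [Functor.sheafAdjunctionCocontinuous_counit_app_hom]
      exact Functor.instIsIsoAppCounitRanAdjunctionOfHasPointwiseRightKanExtension
        (L := (Over.forget U).op) (H := A) G.obj
    exact isIso_of_fully_faithful (sheafToPresheaf (J.over U) A) _
  have hco' : IsIso ((Over.forget U).sheafAdjunctionCocontinuous A (J.over U) J).counit :=
    NatIso.isIso_of_isIso_app _
  let t : Adjunction.Triple ((Over.forget U).sheafPullback A (J.over U) J)
      ((Over.forget U).sheafPushforwardContinuous A (J.over U) J)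
      ((Over.forget U).sheafPushforwardCocontinuous A (J.over U) J) :=
    ⟨(Over.forget U).sheafAdjunctionContinuous A (J.over U) J,
      (Over.forget U).sheafAdjunctionCocontinuous A (J.over U) J⟩
  exact t.isIso_unit_iff_isIso_counit.mpr hco'

theorem unit_app_isIso (hU : ∀ V : C, Subsingleton (V ⟶ U)) (F : Sheaf (J.over U) A) :
    IsIso (((Over.forget U).sheafAdjunctionContinuous A (J.over U) J).unit.app F) := by
  have := unit_isIso J U A hU
  infer_instance

end Groth.Agent.H19.SubtermUnit
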