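import Mathlib
import Groth.Agent.H19.SubtermUnit

/-!
# Weakly contractible objects localize to a subterminal object (H19)
-/

namespace Groth.Agent.H19.SubtermWC

open CategoryTheory CategoryTheory.Limits Opposite

universe v u

variable {C : Type u} [Category.{v} C] (J : GrothendieckTopology C) (U : C)

theorem main (hU : ∀ W : C, Subsingleton (W ⟶ U))
    [HasWeakSheafify J (Type (max u v))]
    [∀ (P : (Over U)ᵒᵖ ⥤ Type (max u v)), (Over.forget U).op.HasLeftKanExtension P]
    (V : C) (hV : (∀ (A B : Sheaf J (Type (max u v))) (ψ : A ⟶ B), Epi ψ →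
      Function.Surjective (ψ.hom.app (op V)))) (a : V ⟶ U) :
    ∀ (A B : Sheaf (J.over U) (Type (max u v))) (ψ : A ⟶ B), Epi ψ →
      Function.Surjective (ψ.hom.app (op (Over.mk a))) := by
  intro A B ψ hψ
  let adj := (Over.forget U).sheafAdjunctionContinuous (Type (max u v)) (J.over U) J
  let L := (Over.forget U).sheafPullback (Type (max u v)) (J.over U) J
  let R := (Over.forget U).sheafPushforwardContinuous (Type (max u v)) (J.over U) J
  have hpe : L.PreservesEpimorphisms := Functor.preservesEpimorphisms_of_adjunction adj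
  have hepi : Epi (L.map ψ) := inferInstance
  have hsurj := hV (L.obj A) (L.obj B) (L.map ψ) hepi
  have hnat : ψ ≫ adj.unit.app B = adj.unit.app A ≫ R.map (L.map ψ) := adj.unit.naturality ψ
  have hnat' : ∀ x, (adj.unit.app B).hom.app (op (Over.mk a)) (ψ.hom.app (op (Over.mk a)) x) =
      (L.map ψ).hom.app (op V) ((adj.unit.app A).hom.app (op (Over.mk a)) x) := by
    intro x
    have := congrArg (fun φ => φ.hom.app (op (Over.mk a)) x) hnat
    exact this
  have hisoA : IsIso (adj.unit.app A) :=
    Groth.Agent.H19.SubtermUnit.unit_app_isIso J U (Type (max u v)) hU A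
  have hisoB : IsIso (adj.unit.app B) :=
    Groth.Agent.H19.SubtermUnit.unit_app_isIso J U (Type (max u v)) hU B
  have hbijA : Function.Bijective ((adj.unit.app A).hom.app (op (Over.mk a))) := by
    have h1 : IsIso ((sheafToPresheaf _ _).map (adj.unit.app A)) := inferInstance
    have h2 : IsIso (((sheafToPresheaf _ _).map (adj.unit.app A)).app (op (Over.mk a))) :=
      inferInstance
    exact (isIso_iff_bijective _).mp h2
  have hbijB : Function.Bijective ((adj.unit.app B).hom.app (op (Over.mk a))) := by
    have h1 : IsIso ((sheafToPresheaf _ _).map (adj.unit.app B)) := inferInstance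
    have h2 : IsIso (((sheafToPresheaf _ _).map (adj.unit.app B)).app (op (Over.mk a))) :=
      inferInstance
    exact (isIso_iff_bijective _).mp h2
  intro b
  obtain ⟨x, hx⟩ := hsurj ((adj.unit.app B).hom.app (op (Over.mk a)) b)
  obtain ⟨a', ha'⟩ := hbijA.2 x
  refine ⟨a', hbijB.1 ?_⟩
  rw [hnat', ha', hx]

end Groth.Agent.H19.SubtermWC
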