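import Mathlib
import Groth.Prelude.Def_FlatMod2

/-!
# Retracts of finite free `O_X`-modules vs finite projective `Γ(X, O_X)`-modules (H19)
-/

open CategoryTheory CategoryTheory.Limits AlgebraicGeometry Opposite

namespace Groth.Agent.H19.SummandsFree

universe u

section General

variable {C D : Type*} [Category C] [Category D] (F : C ⥤ D)

/-- If `F` is bijective on `Hom(A₀, B₀)`, it is bijective on homs between retracts. -/
lemma bijective_map_of_retract {A A₀ B B₀ : C} (iA : A ⟶ A₀) (rA : A₀ ⟶ A) (hA : iA ≫ rA = 𝟙 A)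
    (iB : B ⟶ B₀) (rB : B₀ ⟶ B) (hB : iB ≫ rB = 𝟙 B)
    (h : Function.Bijective (F.map : (A₀ ⟶ B₀) → (F.obj A₀ ⟶ F.obj B₀))) :
    Function.Bijective (F.map : (A ⟶ B) → (F.obj A ⟶ F.obj B)) := by
  constructor
  · intro φ φ' hφ
    have h1 : rA ≫ φ ≫ iB = rA ≫ φ' ≫ iB := by
      apply h.1
      simp only [F.map_comp]
      rw [hφ]
    calc φ = (iA ≫ rA) ≫ φ ≫ (iB ≫ rB) := by rw [hA, hB, Category.id_comp, Category.comp_id]
      _ = iA ≫ (rA ≫ φ ≫ iB) ≫ rB := by simp only [Category.assoc]
      _ = iA ≫ (rA ≫ φ' ≫ iB) ≫ rB := by rw [h1]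
      _ = (iA ≫ rA) ≫ φ' ≫ (iB ≫ rB) := by simp only [Category.assoc]
      _ = φ' := by rw [hA, hB, Category.id_comp, Category.comp_id]
  · intro ψ
    obtain ⟨χ, hχ⟩ := h.2 (F.map rA ≫ ψ ≫ F.map iB)
    refine ⟨iA ≫ χ ≫ rB, ?_⟩
    rw [F.map_comp, F.map_comp, hχ]
    have h1 : F.map iA ≫ F.map rA = 𝟙 _ := by rw [← F.map_comp, hA, F.map_id]
    have h2 : F.map iB ≫ F.map rB = 𝟙 _ := by rw [← F.map_comp, hB, F.map_id]
    simp only [Category.assoc]
    rw [h2, Category.comp_id, ← Category.assoc, h1, Category.id_comp]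

/-- If `F` preserves a coproduct and is bijective on homs out of each summand, it is bijective on
homs out of the coproduct. -/
lemma bijective_map_of_coproduct {J : Type*} (f : J → C) [HasCoproduct f]
    [PreservesColimit (Discrete.functor f) F] (N : C)
    (h : ∀ j, Function.Bijective (F.map : (f j ⟶ N) → (F.obj (f j) ⟶ F.obj N))) :
    Function.Bijective (F.map : (∐ f ⟶ N) → (F.obj (∐ f) ⟶ F.obj N)) := by
  have hc : IsColimit (F.mapCocone (colimit.cocone (Discrete.functor f))) :=
    isColimitOfPreserves F (colimit.isColimit _)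
  constructor
  · intro φ φ' hφ
    apply Sigma.hom_ext
    intro j
    apply (h j).1
    rw [F.map_comp, F.map_comp, hφ]
  · intro ψ
    choose χ hχ using fun j => (h j).2 (F.map (Sigma.ι f j) ≫ ψ)
    refine ⟨Sigma.desc χ, ?_⟩
    apply hc.hom_ext
    rintro ⟨j⟩
    have : (F.mapCocone (colimit.cocone (Discrete.functor f))).ι.app ⟨j⟩ =
        F.map (Sigma.ι f j) := rfl
    rw [this, ← F.map_comp, Sigma.ι_desc, hχ]

end General

section Scheme

variable (X : Scheme.{u})

/-- The global sections functor on `O_X`-modules. -/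
noncomputable def G : X.Modules ⥤ ModuleCat.{u} (Γ(X, ⊤)) :=
  SheafOfModules.evaluation X.ringCatSheaf (op ⊤)

instance : (G X).Additive where
  map_add := rfl

/-- Evaluation of sections at the top open is bijective. -/
lemma sections_eval_top_bijective (M : X.Modules) :
    Function.Bijective (fun s : SheafOfModules.sections M => s.val (op ⊤)) := by
  constructor
  · intro s t h
    apply PresheafOfModules.sections_ext
    intro U
    have hs := PresheafOfModules.sections_property s (homOfLE (le_top : U.unop ≤ ⊤)).op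
    have ht := PresheafOfModules.sections_property t (homOfLE (le_top : U.unop ≤ ⊤)).op
    rw [← hs, ← ht]
    exact congrArg _ h
  · intro m
    refine ⟨PresheafOfModules.sectionsMk
      (fun U => M.val.map (homOfLE (le_top : U.unop ≤ ⊤)).op m) ?_, ?_⟩
    · intro U V f
      rw [← PresheafOfModules.map_comp_apply]
      rfl
    · change M.val.map (𝟙 _) m = m
      rw [PresheafOfModules.map_id]
      rfl

/-- Evaluation at `1` on maps out of the global sections of the structure module. -/
noncomputable def evOne (N : X.Modules) :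
    ((G X).obj (Coh.structureModule X) ⟶ (G X).obj N) ≃ (G X).obj N :=
  (ModuleCat.homEquiv).trans
    (LinearMap.ringLmapEquivSelf (Γ(X, ⊤)) ℤ ((G X).obj N)).toEquiv

lemma map_unit_bijective (N : X.Modules) :
    Function.Bijective ((G X).map :
      (Coh.structureModule X ⟶ N) → ((G X).obj (Coh.structureModule X) ⟶ (G X).obj N)) := by
  have h1 : Function.Bijective ((evOne X N) ∘ ((G X).map :
      (Coh.structureModule X ⟶ N) → ((G X).obj (Coh.structureModule X) ⟶ (G X).obj N))) := by
    have h2 : ((evOne X N) ∘ ((G X).map :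
        (Coh.structureModule X ⟶ N) → ((G X).obj (Coh.structureModule X) ⟶ (G X).obj N))) =
        (fun s : SheafOfModules.sections N => s.val (op ⊤)) ∘
          (SheafOfModules.unitHomEquiv N) := by
      funext f
      rfl
    rw [h2]
    exact (sections_eval_top_bijective X N).comp (SheafOfModules.unitHomEquiv N).bijective
  exact (Function.Bijective.of_comp_iff' (evOne X N).bijective _).mp h1

lemma map_free_bijective (n : ℕ) (N : X.Modules) :
    Function.Bijective ((G X).map :
      (FlatMod.freeMod X n ⟶ N) → ((G X).obj (FlatMod.freeMod X n) ⟶ (G X).obj N)) :=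
  bijective_map_of_coproduct (G X) (fun _ : Fin n => Coh.structureModule X) N
    (fun _ => map_unit_bijective X N)

/-- Global sections of the free module of rank `n`. -/
noncomputable def freeIso (n : ℕ) :
    (G X).obj (FlatMod.freeMod X n) ≅ ModuleCat.of (Γ(X, ⊤)) (Fin n → Γ(X, ⊤)) :=
  PreservesCoproduct.iso (G X) (fun _ : Fin n => Coh.structureModule X) ≪≫
    (biproduct.isoCoproduct (fun _ : Fin n => (G X).obj (Coh.structureModule X))).symm ≪≫
    ModuleCat.biproductIsoPi (fun _ : Fin n => (G X).obj (Coh.structureModule X))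

lemma finite_projective_of_retract {M : X.Modules} {n : ℕ} (i : M ⟶ FlatMod.freeMod X n)
    (r : FlatMod.freeMod X n ⟶ M) (h : i ≫ r = 𝟙 M) :
    Module.Finite (Γ(X, ⊤)) ((G X).obj M) ∧ Module.Projective (Γ(X, ⊤)) ((G X).obj M) := by
  let a : (G X).obj M ⟶ ModuleCat.of (Γ(X, ⊤)) (Fin n → Γ(X, ⊤)) :=
    (G X).map i ≫ (freeIso X n).hom
  let b : ModuleCat.of (Γ(X, ⊤)) (Fin n → Γ(X, ⊤)) ⟶ (G X).obj M :=
    (freeIso X n).inv ≫ (G X).map r
  have hab : a ≫ b = 𝟙 _ := by
    simp only [a, b, Category.assoc, Iso.hom_inv_id_assoc]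
    rw [← (G X).map_comp, h, (G X).map_id]
  have hab' : b.hom.comp a.hom = LinearMap.id := by
    have := congrArg ModuleCat.Hom.hom hab
    exact this
  constructor
  · refine Module.Finite.of_surjective b.hom ?_
    intro m
    exact ⟨a.hom m, LinearMap.congr_fun hab' m⟩
  · exact Module.Projective.of_split a.hom b.hom hab'

/-- Retracts of finite free modules. -/
def P : ObjectProperty X.Modules := fun M =>
  ∃ (n : ℕ) (i : M ⟶ FlatMod.freeMod X n) (r : FlatMod.freeMod X n ⟶ M), i ≫ r = 𝟙 M

/-- Finite projective modules. -/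
def Q : ObjectProperty (ModuleCat.{u} (Γ(X, ⊤))) := fun N =>
  Module.Finite (Γ(X, ⊤)) N ∧ Module.Projective (Γ(X, ⊤)) N

lemma Q_G_of_P (M : X.Modules) (hM : P X M) : Q X ((G X).obj M) := by
  obtain ⟨n, i, r, h⟩ := hM
  exact finite_projective_of_retract X i r h

/-- The global sections functor restricted to retracts of finite free modules. -/
noncomputable def Φ : (P X).FullSubcategory ⥤ (Q X).FullSubcategory :=
  (Q X).lift ((P X).ι ⋙ G X) (fun M => Q_G_of_P X M.obj M.property)

lemma G_map_bijective_of_P {M M' : X.Modules} (hM : P X M) (hM' : P X M') :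
    Function.Bijective ((G X).map : (M ⟶ M') → ((G X).obj M ⟶ (G X).obj M')) := by
  obtain ⟨n, i, r, h⟩ := hM
  obtain ⟨n', i', r', h'⟩ := hM'
  exact bijective_map_of_retract (G X) i r h i' r' h' (map_free_bijective X n _)

instance : (Φ X).Faithful where
  map_injective {M M'} f g hfg := by
    apply ObjectProperty.hom_ext
    apply (G_map_bijective_of_P X M.property M'.property).1
    exact congrArg (fun φ => φ.hom) hfg

instance : (Φ X).Full where
  map_surjective {M M'} ψ := by
    obtain ⟨φ, hφ⟩ := (G_map_bijective_of_P X M.property M'.property).2 ψ.hom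
    refine ⟨ObjectProperty.homMk φ, ?_⟩
    apply ObjectProperty.hom_ext
    exact hφ

/-- Every finite projective module is a retract of the sections of a free module. -/
lemma exists_retract_of_Q (N : ModuleCat.{u} (Γ(X, ⊤))) (hN : Q X N) :
    ∃ (n : ℕ) (i : N ⟶ (G X).obj (FlatMod.freeMod X n))
      (r : (G X).obj (FlatMod.freeMod X n) ⟶ N), i ≫ r = 𝟙 N := by
  obtain ⟨hfin, hproj⟩ := hN
  obtain ⟨n, f, hf⟩ := Module.Finite.exists_fin' (Γ(X, ⊤)) N
  obtain ⟨s, hs⟩ := Module.projective_lifting_property f LinearMap.id hf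
  refine ⟨n, ModuleCat.ofHom s ≫ (freeIso X n).inv, (freeIso X n).hom ≫ ModuleCat.ofHom f, ?_⟩
  simp only [Category.assoc, Iso.inv_hom_id_assoc]
  rw [← ModuleCat.ofHom_comp, hs]
  rfl

instance : (Φ X).EssSurj where
  mem_essImage N := by
    obtain ⟨n, iN, rN, hN⟩ := exists_retract_of_Q X N.obj N.property
    obtain ⟨p, hp⟩ := (map_free_bijective X n (FlatMod.freeMod X n)).2 (rN ≫ iN)
    have hpp : p ≫ p = p := by
      apply (map_free_bijective X n (FlatMod.freeMod X n)).1
      rw [(G X).map_comp, hp]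
      simp only [Category.assoc]
      rw [← Category.assoc iN, hN, Category.id_comp]
    obtain ⟨M, iM, rM, h1, h2⟩ :=
      IsIdempotentComplete.idempotents_split (FlatMod.freeMod X n) p hpp
    have hPM : P X M := ⟨n, iM, rM, h1⟩
    refine ⟨⟨M, hPM⟩, ⟨ObjectProperty.isoMk _ ?_⟩⟩
    refine ⟨(G X).map iM ≫ rN, iN ≫ (G X).map rM, ?_, ?_⟩
    · -- G iM ≫ rN ≫ iN ≫ G rM = G (iM ≫ p ≫ rM) = 𝟙
      have : (G X).map iM ≫ (rN ≫ iN) ≫ (G X).map rM = 𝟙 _ := by
        rw [← hp, ← (G X).map_comp, ← (G X).map_comp, ← h2]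
        have h3 : iM ≫ (rM ≫ iM) ≫ rM = 𝟙 M := by
          rw [Category.assoc, ← Category.assoc iM, h1, Category.id_comp]
        rw [h3, (G X).map_id]
      simp only [Category.assoc] at this ⊢
      exact this
    · have : iN ≫ ((G X).map rM ≫ (G X).map iM) ≫ rN = 𝟙 _ := by
        rw [← (G X).map_comp, h2, hp]
        simp only [Category.assoc]
        rw [hN, Category.comp_id, hN]
      simp only [Category.assoc] at this ⊢
      exact this

instance : (Φ X).IsEquivalence where

theorem nonempty_equiv :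
    Nonempty ((ObjectProperty.FullSubcategory fun M : X.Modules =>
        ∃ (n : ℕ) (i : M ⟶ FlatMod.freeMod X n) (r : FlatMod.freeMod X n ⟶ M), i ≫ r = 𝟙 M) ≌
      (ObjectProperty.FullSubcategory fun N : ModuleCat.{u} (Γ(X, ⊤)) =>
        Module.Finite (Γ(X, ⊤)) N ∧ Module.Projective (Γ(X, ⊤)) N)) :=
  ⟨(Φ X).asEquivalence⟩

end Scheme

end Groth.Agent.H19.SummandsFree
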