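import Groth.Agent.H19.SchDenseAff
import Groth.Agent.H19.SchDense
import Groth.Agent.H22.QCohLoc
import Groth.Prelude.Def_Coh
import Mathlib.Algebra.Module.Torsion.Basic

set_option autoImplicit false

open CategoryTheory AlgebraicGeometry TopologicalSpace

universe u

namespace Groth.Agent.H19.TorsFreeInj

variable {X : Scheme.{u}}

/-- In a locally Noetherian scheme, a schematically dense open contains, inside any affine open `W`,
the non-vanishing locus of a regular element of `Γ(X, W)`. -/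
theorem exists_regular_of_isAffineOpen [IsLocallyNoetherian X] (U : X.Opens)
    (hU : CInt.IsSchematicallyDense U) {W : X.Opens} (hW : IsAffineOpen W) :
    ∃ t : Γ(X, W), t ∈ nonZeroDivisors Γ(X, W) ∧ X.basicOpen t ≤ U := by
  have : IsAffine W := hW
  have hN : IsNoetherian W := { }
  have hd' : CInt.IsSchematicallyDense (W.ι ⁻¹ᵁ U) :=
    isSchematicallyDense_preimage_of_flat W.ι U hU
  obtain ⟨t, ht, hle⟩ := SchDenseAff.exists_regular_of_noetherian (W.ι ⁻¹ᵁ U) hd'
  refine ⟨W.topIso.hom t, ?_, ?_⟩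
  · rw [mem_nonZeroDivisors_iff_right] at ht ⊢
    intro z hz
    have h3 : W.topIso.inv z * t = 0 := by
      have h4 : W.topIso.inv (z * W.topIso.hom t) = W.topIso.inv z * t := by
        rw [map_mul, ← CommRingCat.comp_apply, Iso.hom_inv_id]; rfl
      rw [← h4, hz, map_zero]
    have h5 := ht _ h3
    have h6 : W.topIso.hom (W.topIso.inv z) = z := by
      rw [← CommRingCat.comp_apply, Iso.inv_hom_id]; rfl
    rw [← h6, h5, map_zero]
  · have h1 := Scheme.Opens.ι_image_basicOpen_topIso_inv W (W.topIso.hom t)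
    rw [← h1]
    have h2 : W.topIso.inv (W.topIso.hom t) = t := by
      rw [← CommRingCat.comp_apply, Iso.hom_inv_id]; rfl
    rw [h2]
    calc W.ι ''ᵁ (W.toScheme.basicOpen t) ≤ W.ι ''ᵁ (W.ι ⁻¹ᵁ U) := Scheme.Hom.image_mono _ hle
      _ ≤ U := by
        rw [ι_image_preimage_eq]
        exact inf_le_left

theorem main (X : Scheme.{u}) [IsLocallyNoetherian X] (F G : X.Modules) (hF : Coh.IsQCoh F)
    (htf : ∀ V : X.affineOpens, Submodule.torsion Γ(X, V.1) (F.val.obj (Opposite.op V.1)) = ⊥)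
    (φ : F ⟶ G) (U : X.Opens) (hU : CInt.IsSchematicallyDense U)
    (hφU : ∀ V : X.Opens, V ≤ U →
      Function.Injective ⇑(ConcreteCategory.hom (φ.val.app (Opposite.op V)))) (V : X.Opens) :
    Function.Injective ⇑(ConcreteCategory.hom (φ.val.app (Opposite.op V))) := by
  have : F.IsQuasicoherent := hF
  have hnat : ∀ {V W : X.Opens} (i : W ⟶ V) (s : Γ(F, V)),
      φ.app W (F.presheaf.map i.op s) = G.presheaf.map i.op (φ.app V s) := by
    intro V W i s
    have := φ.mapPresheaf.naturality i.op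
    exact ConcreteCategory.congr_hom this s
  have key : ∀ (W : X.affineOpens) (s : Γ(F, W.1)), φ.app W.1 s = 0 → s = 0 := by
    intro W s hs
    obtain ⟨t, ht, hle⟩ := exists_regular_of_isAffineOpen U hU W.2
    have h1 : F.presheaf.map (homOfLE (X.basicOpen_le t)).op s = 0 := by
      apply hφU (X.basicOpen t) hle
      change φ.app (X.basicOpen t) (F.presheaf.map _ s) = φ.app _ 0
      rw [hnat, hs, map_zero, map_zero]
    obtain ⟨n, hn⟩ := Groth.Agent.H22.exists_pow_smul_eq_zero_of_isAffineOpen F W.2 t s h1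
    have h2 : (show ↑(F.val.obj (Opposite.op W.1)) from s) ∈
        Submodule.torsion Γ(X, W.1) (F.val.obj (Opposite.op W.1)) :=
      (Submodule.mem_torsion_iff _).mpr ⟨⟨t ^ n, pow_mem ht n⟩, hn⟩
    rw [htf W] at h2
    exact (Submodule.mem_bot _).mp h2
  rw [injective_iff_map_eq_zero]
  intro s hs
  change Γ(F, V) at s
  change φ.app V s = 0 at hs
  let ι := {W : X.affineOpens // W.1 ≤ V}
  refine TopCat.Sheaf.eq_of_locally_eq' ⟨_, F.isSheaf⟩ (fun i : ι => (i.1 : X.Opens)) V
    (fun i => homOfLE i.2) ?_ s 0 ?_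
  · intro x hx
    obtain ⟨W, hW, hxW, hWV⟩ := exists_isAffineOpen_mem_and_subset (x := x) (U := V) hx
    exact Opens.mem_iSup.mpr ⟨⟨⟨W, hW⟩, hWV⟩, hxW⟩
  · intro i
    change F.presheaf.map (homOfLE i.2).op s = F.presheaf.map (homOfLE i.2).op 0
    rw [map_zero]
    apply key i.1
    rw [hnat, hs, map_zero]

end Groth.Agent.H19.TorsFreeInj
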