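import Groth.Agent.H44.SmulModQuot

/-!
# Coherent formal modules killed by a fixed power of the ideal are algebraizable

Helper library (helper19).  Purely categorical: the quotient `M ⟶ M/JM` is characterised by a
universal property (`IsQuot`), quotients compose, and a formal system killed by `I^c` is
stationary from level `c` on.
-/

set_option autoImplicit false
set_option linter.style.haveILetI false
universe u
open CategoryTheory CategoryTheory.Limits AlgebraicGeometry Opposite

namespace Groth.Agent.H19.TorsSys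

variable {A : Type u} [CommRing A] {X : Scheme.{u}} [X.Over (Spec (CommRingCat.of A))]

theorem smulFamily_comp_eq_zero_iff (J : Ideal A) {M T : X.Modules} (g : M ⟶ T) :
    Formal.smulFamily J M ≫ g = 0 ↔ ∀ a ∈ J, Formal.smulMod A M a ≫ g = 0 := by
  constructor
  · intro h a ha
    have e : Formal.smulMod A M a =
        Sigma.ι (fun _ : J => M) ⟨a, ha⟩ ≫ Formal.smulFamily J M := by
      simp [Formal.smulFamily]
    rw [e, Category.assoc, h, comp_zero]
  · intro h
    apply Sigma.hom_ext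
    intro a
    have e : Sigma.ι (fun _ : J => M) a ≫ Formal.smulFamily J M = Formal.smulMod A M (a : A) := by
      simp [Formal.smulFamily]
    rw [comp_zero, ← Category.assoc, e]
    exact h a a.2

/-- `π : M ⟶ Q` is "the" quotient of `M` by `J M`. -/
structure IsQuot (J : Ideal A) {M Q : X.Modules} (π : M ⟶ Q) : Prop where
  epi : Epi π
  kills : ∀ a ∈ J, Formal.smulMod A M a ≫ π = 0
  desc : ∀ {T : X.Modules} (g : M ⟶ T), (∀ a ∈ J, Formal.smulMod A M a ≫ g = 0) →
    ∃ g' : Q ⟶ T, π ≫ g' = g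

theorem isQuot_cokernel_π (J : Ideal A) (M : X.Modules) :
    IsQuot J (cokernel.π (Formal.smulFamily J M)) where
  epi := inferInstance
  kills := (smulFamily_comp_eq_zero_iff J _).mp (cokernel.condition _)
  desc g hg := ⟨cokernel.desc _ g ((smulFamily_comp_eq_zero_iff J g).mpr hg),
    cokernel.π_desc _ _ _⟩

theorem IsQuot.comp_iso {J : Ideal A} {M Q Q' : X.Modules} {π : M ⟶ Q} (h : IsQuot J π)
    (e : Q ⟶ Q') [IsIso e] : IsQuot J (π ≫ e) where
  epi := haveI := h.epi; epi_comp π e
  kills a ha := by rw [← Category.assoc, h.kills a ha, zero_comp]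
  desc g hg := by
    obtain ⟨g', hg'⟩ := h.desc g hg
    exact ⟨inv e ≫ g', by rw [Category.assoc, IsIso.hom_inv_id_assoc, hg']⟩

theorem IsQuot.comp {K J : Ideal A} {M Q R : X.Modules} {π : M ⟶ Q} {t : Q ⟶ R}
    (hK : IsQuot K π) (hJ : IsQuot J t) (hKJ : K ≤ J) : IsQuot J (π ≫ t) where
  epi := haveI := hK.epi; haveI := hJ.epi; epi_comp π t
  kills a ha := by
    rw [← Category.assoc, Groth.Agent.H44.smulMod_naturality, Category.assoc, hJ.kills a ha,
      comp_zero]
  desc g hg := by
    haveI := hK.epi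
    obtain ⟨g₁, hg₁⟩ := hK.desc g (fun a ha => hg a (hKJ ha))
    have h1 : ∀ a ∈ J, Formal.smulMod A Q a ≫ g₁ = 0 := by
      intro a ha
      rw [← cancel_epi π, comp_zero, ← Category.assoc, ← Groth.Agent.H44.smulMod_naturality,
        Category.assoc, hg₁]
      exact hg a ha
    obtain ⟨g₂, hg₂⟩ := hJ.desc g₁ h1
    exact ⟨g₂, by rw [Category.assoc, hg₂, hg₁]⟩

theorem isQuot_of_isIso (J : Ideal A) {M Q : X.Modules} (ψ : M ⟶ Q) [IsIso ψ]
    (hM : ∀ a ∈ J, Formal.smulMod A M a = 0) : IsQuot J ψ where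
  epi := inferInstance
  kills a ha := by rw [hM a ha, zero_comp]
  desc g _ := ⟨inv ψ ≫ g, IsIso.hom_inv_id_assoc ψ g⟩

theorem IsQuot.isIso_of_killed {J : Ideal A} {M Q : X.Modules} {t : M ⟶ Q} (h : IsQuot J t)
    (hM : ∀ a ∈ J, Formal.smulMod A M a = 0) : IsIso t := by
  haveI := h.epi
  obtain ⟨g', hg'⟩ := h.desc (𝟙 M) (fun a ha => by rw [hM a ha, zero_comp])
  refine ⟨g', hg', ?_⟩
  rw [← cancel_epi t, ← Category.assoc, hg', Category.id_comp, Category.comp_id]

theorem IsQuot.isIso_desc {J : Ideal A} {M Q : X.Modules} {ψ : M ⟶ Q} (h : IsQuot J ψ)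
    (w : Formal.smulFamily J M ≫ ψ = 0) : IsIso (cokernel.desc (Formal.smulFamily J M) ψ w) := by
  haveI := h.epi
  obtain ⟨g', hg'⟩ := h.desc (cokernel.π (Formal.smulFamily J M)) (isQuot_cokernel_π J M).kills
  refine ⟨g', ?_, ?_⟩
  · rw [← cancel_epi (cokernel.π (Formal.smulFamily J M)), cokernel.π_desc_assoc, hg',
      Category.comp_id]
  · rw [← cancel_epi ψ, ← Category.assoc, hg', cokernel.π_desc, Category.comp_id]

theorem isQuot_of_isIso_desc (J : Ideal A) {M Q : X.Modules} (ψ : M ⟶ Q)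
    (w : Formal.smulFamily J M ≫ ψ = 0) [IsIso (cokernel.desc (Formal.smulFamily J M) ψ w)] :
    IsQuot J ψ := by
  have := (isQuot_cokernel_π J M).comp_iso (cokernel.desc (Formal.smulFamily J M) ψ w)
  rwa [cokernel.π_desc] at this

end Groth.Agent.H19.TorsSys
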