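import Groth.Agent.H19.TorsSys

/-!
# Coherent formal modules killed by a fixed power of the ideal are algebraizable: main theorem

Helper library (helper19).
-/

set_option autoImplicit false
set_option linter.style.haveILetI false
universe u
open CategoryTheory CategoryTheory.Limits AlgebraicGeometry Opposite

namespace Groth.Agent.H19.TorsSys

variable {A : Type u} [CommRing A] {X : Scheme.{u}} [X.Over (Spec (CommRingCat.of A))]
  (I : Ideal A) (F : ℕᵒᵖ ⥤ X.Modules)

theorem map_comp_homOfLE {a b c : ℕ} (hab : a ≤ b) (hbc : b ≤ c) :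
    F.map (homOfLE hbc).op ≫ F.map (homOfLE hab).op = F.map (homOfLE (hab.trans hbc)).op := by
  rw [← F.map_comp]
  exact congrArg F.map (Subsingleton.elim _ _)

theorem isQuot_tr (hF : Formal.IsCohFormal I F) (n : ℕ) :
    IsQuot (I ^ (n + 1)) (F.map (homOfLE (Nat.le_succ n)).op) := by
  obtain ⟨h, hiso⟩ := hF.2.2 n
  exact isQuot_of_isIso_desc _ _ h

theorem killed_of_le {c : ℕ} (hc : ∀ n : ℕ, Formal.KilledBy (I ^ c) (F.obj (op n))) {k : ℕ}
    (hk : c ≤ k) (n : ℕ) : ∀ a ∈ I ^ k, Formal.smulMod A (F.obj (op n)) a = 0 :=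
  fun a ha => hc n a (Ideal.pow_le_pow_right hk ha)

theorem isIso_tr (hF : Formal.IsCohFormal I F) {c : ℕ}
    (hc : ∀ n : ℕ, Formal.KilledBy (I ^ c) (F.obj (op n))) (n : ℕ) (hn : c ≤ n + 1) :
    IsIso (F.map (homOfLE (Nat.le_succ n)).op) :=
  (isQuot_tr I F hF n).isIso_of_killed (killed_of_le I F hc hn (n + 1))

theorem isIso_map_of_le (hF : Formal.IsCohFormal I F) {c : ℕ}
    (hc : ∀ n : ℕ, Formal.KilledBy (I ^ c) (F.obj (op n))) {N m : ℕ} (hN : c ≤ N + 1)
    (h : N ≤ m) : IsIso (F.map (homOfLE h).op) := by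
  induction m, h using Nat.le_induction with
  | base =>
    have : F.map (homOfLE (le_refl N)).op = 𝟙 _ := by
      rw [← F.map_id]
      exact congrArg F.map (Subsingleton.elim _ _)
    rw [this]
    infer_instance
  | succ m hm ih =>
    rw [← map_comp_homOfLE F hm (Nat.le_succ m)]
    haveI := ih
    haveI := isIso_tr I F hF hc m (hN.trans (Nat.succ_le_succ hm))
    infer_instance

theorem psi_indep {N n m m' : ℕ} (hNm : N ≤ m) (hnm : n ≤ m) (hmm' : m ≤ m')
    [IsIso (F.map (homOfLE hNm).op)] [IsIso (F.map (homOfLE (hNm.trans hmm')).op)] :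
    inv (F.map (homOfLE (hNm.trans hmm')).op) ≫ F.map (homOfLE (hnm.trans hmm')).op =
      inv (F.map (homOfLE hNm).op) ≫ F.map (homOfLE hnm).op := by
  rw [IsIso.inv_comp_eq, ← map_comp_homOfLE F hNm hmm', ← map_comp_homOfLE F hnm hmm',
    Category.assoc, IsIso.hom_inv_id_assoc]

/-- A coherent formal module all of whose terms are killed by `I^c` is the system
`(M/I^(n+1)M)` for `M` its term in position `c`. -/
theorem exists_iso_completion (hF : Formal.IsCohFormal I F) (c : ℕ)
    (hc : ∀ n : ℕ, Formal.KilledBy (I ^ c) (F.obj (op n))) :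
    ∃ M : X.Modules, Coh.IsCoh M ∧ Nonempty (Formal.completion I M ≅ F) := by
  refine ⟨F.obj (op c), hF.1 c, ?_⟩
  haveI hiso : ∀ {m : ℕ} (h : c ≤ m), IsIso (F.map (homOfLE h).op) :=
    fun h => isIso_map_of_le I F hF hc (Nat.le_succ c) h
  let ψ : ∀ n : ℕ, F.obj (op c) ⟶ F.obj (op n) := fun n =>
    inv (F.map (homOfLE (le_max_right n c)).op) ≫ F.map (homOfLE (le_max_left n c)).op
  have hcompat : ∀ n : ℕ, ψ (n + 1) ≫ F.map (homOfLE (Nat.le_succ n)).op = ψ n := by
    intro n
    have hmm' : max n c ≤ max (n + 1) c := max_le_max (Nat.le_succ n) le_rfl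
    change (inv (F.map (homOfLE (le_max_right (n + 1) c)).op) ≫
      F.map (homOfLE (le_max_left (n + 1) c)).op) ≫ F.map (homOfLE (Nat.le_succ n)).op = _
    rw [Category.assoc, map_comp_homOfLE]
    exact psi_indep F (le_max_right n c) (le_max_left n c) hmm'
  have hquot : ∀ (k n : ℕ), c ≤ n + k → IsQuot (I ^ (n + 1)) (ψ n) := by
    intro k
    induction k with
    | zero =>
      intro n hn
      haveI : IsIso (F.map (homOfLE (le_max_left n c)).op) :=
        isIso_map_of_le I F hF hc (hn.trans (Nat.le_succ n)) (le_max_left n c)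
      haveI : IsIso (ψ n) := IsIso.comp_isIso
      exact isQuot_of_isIso _ (ψ n) (killed_of_le I F hc (hn.trans (Nat.le_succ n)) c)
    | succ k ih =>
      intro n hn
      have h1 := ih (n + 1) (by omega)
      have h2 := isQuot_tr I F hF n
      have h3 := h1.comp h2 (Ideal.pow_le_pow_right (Nat.le_succ (n + 1)))
      rwa [hcompat n] at h3
  have hq : ∀ n : ℕ, IsQuot (I ^ (n + 1)) (ψ n) := fun n => hquot c n (Nat.le_add_left c n)
  have hw : ∀ n : ℕ, Formal.smulFamily (I ^ (n + 1)) (F.obj (op c)) ≫ ψ n = 0 :=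
    fun n => (smulFamily_comp_eq_zero_iff _ _).mpr (hq n).kills
  let θ : ∀ n : ℕ, Formal.modPow I (n + 1) (F.obj (op c)) ⟶ F.obj (op n) := fun n =>
    cokernel.desc (Formal.smulFamily (I ^ (n + 1)) (F.obj (op c))) (ψ n) (hw n)
  haveI hθ : ∀ n : ℕ, IsIso (θ n) := fun n => (hq n).isIso_desc (hw n)
  have hπθ : ∀ n : ℕ, Formal.modPowπ I (n + 1) (F.obj (op c)) ≫ θ n = ψ n :=
    fun n => cokernel.π_desc _ _ _
  have hnat : ∀ n : ℕ, Formal.modPowTrans I (n + 1) (F.obj (op c)) ≫ θ n =
      θ (n + 1) ≫ F.map (homOfLE (n.le_add_right 1)).op := by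
    intro n
    rw [← cancel_epi (Formal.modPowπ I (n + 1 + 1) (F.obj (op c)))]
    rw [← Category.assoc, Formal.modPowπ_trans, hπθ n, ← Category.assoc, hπθ (n + 1)]
    exact (hcompat n).symm
  have e1 : ∀ n : ℕ, (Formal.completion I (F.obj (op c))).map (homOfLE (n.le_add_right 1)).op =
      Formal.modPowTrans I (n + 1) (F.obj (op c)) := fun n =>
    Functor.ofOpSequence_map_homOfLE_succ (X := fun n => Formal.modPow I (n + 1) (F.obj (op c)))
      (fun k => Formal.modPowTrans I (k + 1) (F.obj (op c))) n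
  let α : Formal.completion I (F.obj (op c)) ⟶ F :=
    NatTrans.ofOpSequence (F := Formal.completion I (F.obj (op c))) (G := F) θ (fun n =>
      (congrArg (fun t => t ≫ θ n) (e1 n)).trans (hnat n))
  haveI : IsIso α := by
    haveI : ∀ n : ℕᵒᵖ, IsIso (α.app n) := fun n => hθ n.unop
    exact NatIso.isIso_of_isIso_app α
  exact ⟨asIso α⟩

end Groth.Agent.H19.TorsSys
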