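import Groth.Agent.H19.TorsSysTilde
import Groth.Agent.H19.TorsSysMain
import Groth.Agent.H19.AffSysMod
import Groth.Agent.H12.CohOpen

/-!
# Coherent formal modules on the spectrum of a complete Noetherian ring are algebraizable

Helper library (helper19).
-/

set_option autoImplicit false
set_option linter.style.haveILetI false
set_option linter.unusedSectionVars false
universe u
open CategoryTheory CategoryTheory.Limits AlgebraicGeometry Opposite

namespace Groth.Agent.H19.TorsSys

variable (R : CommRingCat.{u}) [(Spec (CommRingCat.of R)).Over (Spec (CommRingCat.of R))]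
  (hX : (Spec (CommRingCat.of R)) ↘ Spec (CommRingCat.of R) = 𝟙 _)
  (I : Ideal R) (G : ℕᵒᵖ ⥤ (Spec (CommRingCat.of R)).Modules) (hG : Formal.IsCohFormal I G)

include hX in
/-- If `π : M~ ⟶ Q` is a quotient by `J`, then `Γ(Q) = M/JM`. -/
theorem exists_iso_of_isQuot_tilde (M : ModuleCat.{u} R) (J : Ideal R)
    {Q : (Spec (CommRingCat.of R)).Modules} (π : (tilde.functor R).obj M ⟶ Q)
    (hπ : IsQuot J π) :
    ∃ l : ModuleCat.of R (M ⧸ (J • (⊤ : Submodule R M))) ⟶ (moduleSpecΓFunctor (R := R)).obj Q,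
      IsIso l ∧ ModuleCat.ofHom (Submodule.mkQ (J • (⊤ : Submodule R M))) ≫ l =
        (tilde.adjunction (R := R)).homEquiv _ _ π := by
  let adj := tilde.adjunction (R := R)
  let q : ModuleCat.of R M ⟶ ModuleCat.of R (M ⧸ (J • (⊤ : Submodule R M))) :=
    ModuleCat.ofHom (Submodule.mkQ (J • (⊤ : Submodule R M)))
  have hsurj : Function.Surjective q.hom :=
    Submodule.mkQ_surjective (J • (⊤ : Submodule R M))
  have hker : LinearMap.ker q.hom = J • (⊤ : Submodule R M) :=
    Submodule.ker_mkQ (J • (⊤ : Submodule R M))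
  have h1 : IsQuot J ((tilde.functor R).map q) := isQuot_tilde_map R hX J q hsurj hker
  obtain ⟨κ, hκ⟩ := h1.exists_iso hπ
  refine ⟨adj.homEquiv _ _ κ.hom, ?_, ?_⟩
  · rw [adj.homEquiv_unit]
    haveI : IsIso (adj.unit.app (ModuleCat.of R (M ⧸ (J • (⊤ : Submodule R M))))) :=
      inferInstance
    haveI : IsIso ((moduleSpecΓFunctor (R := R)).map κ.hom) := Functor.map_isIso _ _
    exact IsIso.comp_isIso
  · change q ≫ adj.homEquiv _ _ κ.hom = _
    rw [← adj.homEquiv_naturality_left, hκ]

include hX in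
/-- For a quotient `t : P ⟶ Q` by `J` with `P` quasi-coherent, the map on global sections is
surjective with kernel `J Γ(P)`. -/
theorem Γ_map_surjective_and_ker {P Q : (Spec (CommRingCat.of R)).Modules} [P.IsQuasicoherent]
    (J : Ideal R) (t : P ⟶ Q) (ht : IsQuot J t) :
    Function.Surjective ((moduleSpecΓFunctor (R := R)).map t).hom ∧
      LinearMap.ker ((moduleSpecΓFunctor (R := R)).map t).hom =
        J • (⊤ : Submodule R ((moduleSpecΓFunctor (R := R)).obj P)) := by
  let adj := tilde.adjunction (R := R)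
  haveI : IsIso (adj.counit.app P) := (inferInstance : IsIso P.fromTildeΓ)
  have h2 : IsQuot J (adj.counit.app P ≫ t) := ht.iso_comp _
  obtain ⟨l, hl, hlq⟩ := exists_iso_of_isQuot_tilde R hX ((moduleSpecΓFunctor (R := R)).obj P) J
    (adj.counit.app P ≫ t) h2
  have h3 : adj.homEquiv _ _ (adj.counit.app P ≫ t) = (moduleSpecΓFunctor (R := R)).map t := by
    rw [adj.homEquiv_naturality_right]
    have h4 : adj.homEquiv _ _ (adj.counit.app P) = 𝟙 _ :=
      (congrArg (adj.homEquiv _ _) (adj.homEquiv_symm_id P).symm).trans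
        (Equiv.apply_symm_apply _ _)
    rw [h4, Category.id_comp]
  rw [h3] at hlq
  have hinj : Function.Injective l.hom :=
    (ModuleCat.mono_iff_injective l).mp inferInstance
  have hsur : Function.Surjective l.hom :=
    (ModuleCat.epi_iff_surjective l).mp inferInstance
  have hcomp : ∀ x, ((moduleSpecΓFunctor (R := R)).map t).hom x =
      l.hom (Submodule.mkQ (J • (⊤ : Submodule R ((moduleSpecΓFunctor (R := R)).obj P))) x) :=
    fun x => (congrArg (fun f => f.hom x) hlq).symm
  constructor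
  · intro y
    obtain ⟨z, rfl⟩ := hsur y
    obtain ⟨x, rfl⟩ := Submodule.mkQ_surjective _ z
    exact ⟨x, hcomp x⟩
  · ext x
    rw [LinearMap.mem_ker, hcomp x]
    constructor
    · intro h
      have h5 := hinj (h.trans (map_zero _).symm)
      exact (Submodule.Quotient.mk_eq_zero _).mp h5
    · intro h
      have h5 : Submodule.mkQ (J • (⊤ : Submodule R ((moduleSpecΓFunctor (R := R)).obj P))) x = 0 :=
        (Submodule.Quotient.mk_eq_zero _).mpr h
      rw [h5, map_zero]

open Groth.Agent.H19.AffSysAlg in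
include hX in
/-- Abstract form: a tower of modules `Mo n` with `Mo n = Mo (n+1)/I^(n+1)`, `Mo 0` finite,
identified compatibly with the global sections of `G`. -/
theorem exists_tilde_completion_iso_aux [IsNoetherianRing R] [IsAdicComplete I R]
    (Mo : ℕ → ModuleCat.{u} R) (t : ∀ n, Mo (n + 1) ⟶ Mo n)
    (ε : ∀ n, (tilde.functor R).obj (Mo n) ⟶ G.obj (op n)) [∀ n, IsIso (ε n)]
    (hnat : ∀ n, (tilde.functor R).map (t n) ≫ ε n =
      ε (n + 1) ≫ G.map (homOfLE (Nat.le_succ n)).op)
    (hsurj : ∀ n, Function.Surjective (t n).hom)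
    (hker : ∀ n, LinearMap.ker (t n).hom = I ^ (n + 1) • (⊤ : Submodule R (Mo (n + 1))))
    [Module.Finite R (Mo 0)] :
    ∃ M : ModuleCat.{u} R, Module.Finite R M ∧
      Nonempty (Formal.completion I ((tilde.functor R).obj M) ≅ G) := by
  let N : ℕ → Type u := fun n => Mo n
  let tl : ∀ n, N (n + 1) →ₗ[R] N n := fun n => (t n).hom
  obtain ⟨hfin, hsurjπ, hkerπ⟩ := limit_main I N tl hsurj hker
  let p : ∀ n, ModuleCat.of R (limSub N tl) ⟶ Mo n := fun n => ModuleCat.ofHom (limProj N tl n)
  let ψ : ∀ n, (tilde.functor R).obj (ModuleCat.of R (limSub N tl)) ⟶ G.obj (op n) := fun n =>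
    (tilde.functor R).map (p n) ≫ ε n
  have hq : ∀ n, IsQuot (I ^ (n + 1)) (ψ n) := fun n =>
    (isQuot_tilde_map R hX (I ^ (n + 1)) (p n) (hsurjπ n) (hkerπ n)).comp_iso _
  have hp : ∀ n, p (n + 1) ≫ t n = p n := by
    intro n
    apply ModuleCat.hom_ext
    exact limProj_comp N tl n
  have hψ : ∀ n, ψ (n + 1) ≫ G.map (homOfLE (Nat.le_succ n)).op = ψ n := by
    intro n
    change ((tilde.functor R).map (p (n + 1)) ≫ ε (n + 1)) ≫
      G.map (homOfLE (Nat.le_succ n)).op = (tilde.functor R).map (p n) ≫ ε n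
    rw [Category.assoc, ← hnat n, ← Category.assoc, ← Functor.map_comp, hp n]
  obtain ⟨α, -⟩ := exists_completion_iso_of_isQuot I _ G ψ hψ hq
  exact ⟨ModuleCat.of R (limSub N tl), hfin, ⟨α⟩⟩

include hX hG in
/-- A coherent formal module on the spectrum of a Noetherian `I`-adically complete ring is the
system `(M~/I^(n+1)M~)` of a finite module `M`. -/
theorem exists_tilde_completion_iso [IsNoetherianRing R] [IsAdicComplete I R] :
    ∃ M : ModuleCat.{u} R, Module.Finite R M ∧
      Nonempty (Formal.completion I ((tilde.functor R).obj M) ≅ G) := by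
  let adj := tilde.adjunction (R := R)
  let Γf := moduleSpecΓFunctor (R := R)
  haveI hqc : ∀ n, (G.obj (op n)).IsQuasicoherent := fun n => (hG.1 n).1
  have hst := fun n => Γ_map_surjective_and_ker R hX (I ^ (n + 1)) _ (isQuot_tr I G hG n)
  haveI hft : SheafOfModules.IsFiniteType (R := (Spec (CommRingCat.of R)).ringCatSheaf)
      (G.obj (op 0)) := (hG.1 0).2
  haveI hfin0' : Module.Finite Γ(Spec (CommRingCat.of R), ⊤) Γ(G.obj (op 0), ⊤) :=
    Groth.Agent.H44.finite_sections_of_isFiniteType (G.obj (op 0)) (isAffineOpen_top _)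
  haveI hfin0 : Module.Finite R (Γf.obj (G.obj (op 0))) :=
    Groth.Agent.H19.AffSysMod.finite_compHom (Scheme.ΓSpecIso (CommRingCat.of R)).inv.hom
      (ConcreteCategory.bijective_of_isIso (Scheme.ΓSpecIso (CommRingCat.of R)).inv).2
      Γ(G.obj (op 0), ⊤)
  haveI hiso : ∀ n, IsIso (adj.counit.app (G.obj (op n))) := fun n =>
    (inferInstance : IsIso (G.obj (op n)).fromTildeΓ)
  exact exists_tilde_completion_iso_aux R hX I G (fun n => Γf.obj (G.obj (op n)))
    (fun n => Γf.map (G.map (homOfLE (Nat.le_succ n)).op))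
    (fun n => adj.counit.app (G.obj (op n)))
    (fun n => adj.counit.naturality (G.map (homOfLE (Nat.le_succ n)).op))
    (fun n => (hst n).1) (fun n => (hst n).2)

end Groth.Agent.H19.TorsSys
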