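import Groth.Agent.H19.TorsSysMain
import Groth.Prelude.Def_Algz

/-!
# Pro-morphisms between coherent formal modules

Helper library (helper19).
-/

set_option autoImplicit false
set_option linter.style.haveILetI false
universe u
open CategoryTheory CategoryTheory.Limits AlgebraicGeometry Opposite

namespace Groth.Agent.H19.TorsSys

variable {A : Type u} [CommRing A] {X : Scheme.{u}} [X.Over (Spec (CommRingCat.of A))]
  (I : Ideal A) (F G : ℕᵒᵖ ⥤ X.Modules)

/-- In a coherent formal module, `F_m ⟶ F_n` is the quotient by `I^(n+1)`. -/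
theorem isQuot_map_of_le (hF : Formal.IsCohFormal I F) {n m : ℕ} (h : n ≤ m) :
    IsQuot (I ^ (n + 1)) (F.map (homOfLE h).op) := by
  induction m, h using Nat.le_induction with
  | base =>
    have : F.map (homOfLE (le_refl n)).op = 𝟙 _ := by
      rw [← F.map_id]
      exact congrArg F.map (Subsingleton.elim _ _)
    rw [this]
    exact isQuot_of_isIso _ _ (hF.2.1 n)
  | succ m hm ih =>
    rw [← map_comp_homOfLE F hm (Nat.le_succ m)]
    exact (isQuot_tr I F hF m).comp ih (Ideal.pow_le_pow_right (Nat.succ_le_succ hm))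

/-- A levelwise map from a re-indexing of the coherent formal module `F` to the coherent formal
module `G` factors uniquely through `F`. -/
theorem existsUnique_factor (hF : Formal.IsCohFormal I F) (hG : Formal.IsCohFormal I G)
    (m : ℕ → ℕ) (hm : Monotone m) (hle : ∀ n : ℕ, n ≤ m n) (π : DerCA.reindex F hm ⟶ F)
    (hπ : ∀ n : ℕ, π.app (op n) = F.map (homOfLE (hle n)).op) (α : DerCA.reindex F hm ⟶ G) :
    ∃! β : F ⟶ G, π ≫ β = α := by
  have hq : ∀ n : ℕ, IsQuot (I ^ (n + 1)) (π.app (op n)) := fun n => by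
    rw [hπ n]
    exact isQuot_map_of_le I F hF (hle n)
  have hkill : ∀ n : ℕ, ∀ a ∈ I ^ (n + 1),
      Formal.smulMod A ((DerCA.reindex F hm).obj (op n)) a ≫ α.app (op n) = 0 := fun n a ha => by
    rw [Groth.Agent.H44.smulMod_naturality, hG.2.1 n a ha, comp_zero]
  choose β hβ using fun n => (hq n).desc (α.app (op n)) (hkill n)
  have hnat : ∀ n : ℕ, F.map (homOfLE (n.le_add_right 1)).op ≫ β n =
      β (n + 1) ≫ G.map (homOfLE (n.le_add_right 1)).op := by
    intro n
    haveI := (hq (n + 1)).epi
    rw [← cancel_epi (π.app (op (n + 1)))]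
    have h1 := π.naturality (homOfLE (n.le_add_right 1)).op
    have h2 := α.naturality (homOfLE (n.le_add_right 1)).op
    rw [← Category.assoc, ← h1, Category.assoc, hβ n, h2, ← Category.assoc, hβ (n + 1)]
  refine ⟨NatTrans.ofOpSequence β hnat, ?_, ?_⟩
  · apply NatTrans.ext
    funext n
    exact hβ n.unop
  · intro β' hβ'
    apply NatTrans.ext
    funext n
    haveI := (hq n.unop).epi
    rw [← cancel_epi (π.app (op n.unop))]
    have h3 : π.app (op n.unop) ≫ β'.app (op n.unop) = α.app (op n.unop) :=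
      congrArg (fun t => t.app (op n.unop)) hβ'
    exact h3.trans (hβ n.unop).symm

/-- The levelwise map from a re-indexing of `F` to `F` given by the transition maps. -/
def reindexπ (m : ℕ → ℕ) (hm : Monotone m) (hle : ∀ n : ℕ, n ≤ m n) :
    DerCA.reindex F hm ⟶ F where
  app n := F.map (homOfLE (hle n.unop)).op
  naturality k n f := by
    change F.map ((Monotone.functor hm).op.map f) ≫ F.map (homOfLE (hle n.unop)).op =
      F.map (homOfLE (hle k.unop)).op ≫ F.map f
    rw [← F.map_comp, ← F.map_comp]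
    exact congrArg F.map (Subsingleton.elim _ _)

/-- Pro-isomorphic coherent formal modules are isomorphic. -/
theorem nonempty_iso_of_isProIsomorphic (hF : Formal.IsCohFormal I F)
    (hG : Formal.IsCohFormal I G) (h : Algz.IsProIsomorphic F G) : Nonempty (F ≅ G) := by
  obtain ⟨m, hm, hle, a, ha⟩ := h
  let π := reindexπ F m hm hle
  have hπ : ∀ n : ℕ, π.app (op n) = F.map (homOfLE (hle n)).op := fun n => rfl
  obtain ⟨β, hβ, -⟩ := existsUnique_factor I F G hF hG m hm hle π hπ a
  have hβn : ∀ n : ℕ, π.app (op n) ≫ β.app (op n) = a.app (op n) :=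
    fun n => congrArg (fun t => t.app (op n)) hβ
  have hq : ∀ n : ℕ, IsQuot (I ^ (n + 1)) (π.app (op n)) := fun n =>
    isQuot_map_of_le I F hF (hle n)
  haveI : ∀ n : ℕᵒᵖ, IsIso (β.app n) := by
    intro n'
    obtain ⟨n⟩ := n'
    obtain ⟨k, hk, b, hb1, hb2⟩ := ha n
    have hqG := isQuot_map_of_le I G hG hk
    have hqF := isQuot_map_of_le I F hF hk
    haveI := hqG.epi
    haveI := hqF.epi
    haveI := (hq k).epi
    have hkill : ∀ c ∈ I ^ (n + 1),
        Formal.smulMod A (G.obj (op k)) c ≫ b ≫ π.app (op n) = 0 := fun c hc => by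
      rw [← Category.assoc, Groth.Agent.H44.smulMod_naturality, Category.assoc,
        Groth.Agent.H44.smulMod_naturality, hF.2.1 n c hc, comp_zero, comp_zero]
    obtain ⟨γ, hγ⟩ := hqG.desc (b ≫ π.app (op n)) hkill
    refine ⟨γ, ?_, ?_⟩
    · rw [← cancel_epi (π.app (op k) ≫ F.map (homOfLE hk).op)]
      have h1 := β.naturality (homOfLE hk).op
      have h2 := π.naturality (homOfLE hk).op
      calc (π.app (op k) ≫ F.map (homOfLE hk).op) ≫ β.app (op n) ≫ γ
          = π.app (op k) ≫ (F.map (homOfLE hk).op ≫ β.app (op n)) ≫ γ := by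
            simp only [Category.assoc]
        _ = π.app (op k) ≫ (β.app (op k) ≫ G.map (homOfLE hk).op) ≫ γ := by rw [h1]
        _ = (π.app (op k) ≫ β.app (op k)) ≫ G.map (homOfLE hk).op ≫ γ := by
            simp only [Category.assoc]
        _ = a.app (op k) ≫ b ≫ π.app (op n) := by rw [hβn k, hγ]
        _ = (a.app (op k) ≫ b) ≫ π.app (op n) := by rw [Category.assoc]
        _ = (DerCA.reindex F hm).map (homOfLE hk).op ≫ π.app (op n) := by rw [hb1]
        _ = π.app (op k) ≫ F.map (homOfLE hk).op := h2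
        _ = (π.app (op k) ≫ F.map (homOfLE hk).op) ≫ 𝟙 _ := (Category.comp_id _).symm
    · rw [← cancel_epi (G.map (homOfLE hk).op), ← Category.assoc, hγ, Category.assoc, hβn n,
        Category.comp_id]
      exact hb2
  haveI : IsIso β := NatIso.isIso_of_isIso_app β
  exact ⟨asIso β⟩

end Groth.Agent.H19.TorsSys
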