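import Groth.Agent.H19.TorsSysExtends2
import Groth.Agent.H19.TorsSysPro

/-!
# Systems canonically extending to `Spec A` extend to `Spec A`

Helper library (helper19).
-/

set_option autoImplicit false
set_option linter.style.haveILetI false
set_option linter.unusedSectionVars false
universe u v w
open CategoryTheory CategoryTheory.Limits AlgebraicGeometry Opposite

namespace Groth.Agent.H19.TorsSys

section Pro

variable {C : Type u} [Category.{v} C] {D : Type u} [Category.{v} D]

/-- A functor preserves pro-isomorphy of inverse systems. -/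
theorem isProIsomorphic_comp_functor {X Y : ℕᵒᵖ ⥤ C} (Φ : C ⥤ D)
    (h : Algz.IsProIsomorphic X Y) : Algz.IsProIsomorphic (X ⋙ Φ) (Y ⋙ Φ) := by
  obtain ⟨m, hm, hle, a, ha⟩ := h
  refine ⟨m, hm, hle, Functor.whiskerRight a Φ, ?_⟩
  intro n
  obtain ⟨k, hk, b, hb1, hb2⟩ := ha n
  refine ⟨k, hk, Φ.map b, ?_, ?_⟩
  · change Φ.map (a.app (op k)) ≫ Φ.map b = Φ.map ((DerCA.reindex X hm).map (homOfLE hk).op)
    rw [← Φ.map_comp, hb1]
  · change Φ.map b ≫ Φ.map (a.app (op n)) = Φ.map (Y.map (homOfLE hk).op)
    rw [← Φ.map_comp, hb2]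

/-- Pro-isomorphy is invariant under isomorphism of the source system. -/
theorem isProIsomorphic_of_iso_left {X X' Y : ℕᵒᵖ ⥤ C} (e : X ≅ X')
    (h : Algz.IsProIsomorphic X Y) : Algz.IsProIsomorphic X' Y := by
  obtain ⟨m, hm, hle, a, ha⟩ := h
  refine ⟨m, hm, hle, Functor.whiskerLeft (Monotone.functor hm).op e.inv ≫ a, ?_⟩
  intro n
  obtain ⟨k, hk, b, hb1, hb2⟩ := ha n
  let φ : (op (m k) : ℕᵒᵖ) ⟶ op (m n) := (Monotone.functor hm).op.map (homOfLE hk).op
  let ak : X.obj (op (m k)) ⟶ Y.obj (op k) := a.app (op k)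
  let an : X.obj (op (m n)) ⟶ Y.obj (op n) := a.app (op n)
  let b' : Y.obj (op k) ⟶ X.obj (op (m n)) := b
  have h1 : ak ≫ b' = X.map φ := hb1
  have h2 : b' ≫ an = Y.map (homOfLE hk).op := hb2
  refine ⟨k, hk, b' ≫ e.hom.app (op (m n)), ?_, ?_⟩
  · change (e.inv.app (op (m k)) ≫ ak) ≫ b' ≫ e.hom.app (op (m n)) = X'.map φ
    calc (e.inv.app (op (m k)) ≫ ak) ≫ b' ≫ e.hom.app (op (m n))
        = e.inv.app (op (m k)) ≫ (ak ≫ b') ≫ e.hom.app (op (m n)) := by
          simp only [Category.assoc]
      _ = e.inv.app (op (m k)) ≫ X.map φ ≫ e.hom.app (op (m n)) := by rw [h1]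
      _ = e.inv.app (op (m k)) ≫ e.hom.app (op (m k)) ≫ X'.map φ := by
          rw [e.hom.naturality]
      _ = X'.map φ := by rw [Iso.inv_hom_id_app_assoc]
  · change (b' ≫ e.hom.app (op (m n))) ≫ e.inv.app (op (m n)) ≫ an = Y.map (homOfLE hk).op
    calc (b' ≫ e.hom.app (op (m n))) ≫ e.inv.app (op (m n)) ≫ an
        = b' ≫ (e.hom.app (op (m n)) ≫ e.inv.app (op (m n))) ≫ an := by
          simp only [Category.assoc]
      _ = b' ≫ an := by rw [Iso.hom_inv_id_app, Category.id_comp]
      _ = Y.map (homOfLE hk).op := h2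

end Pro

section Restrict

variable {A : Type u} [CommRing A] {X : Scheme.{u}} [X.Over (Spec (CommRingCat.of A))]
  (U : X.Opens) [(U : Scheme.{u}).Over (Spec (CommRingCat.of A))]
  (hU : U.ι ≫ (X ↘ Spec (CommRingCat.of A)) = (U : Scheme.{u}) ↘ Spec (CommRingCat.of A))

include hU in
/-- The restriction to an open of a coherent formal module is a coherent formal module. -/
theorem isCohFormal_comp_restrict (I : Ideal A) (G : ℕᵒᵖ ⥤ X.Modules)
    (hG : Formal.IsCohFormal I G) :
    Formal.IsCohFormal I (G ⋙ Scheme.Modules.restrictFunctor U.ι) := by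
  refine ⟨fun n => ?_, fun n a ha => ?_, fun n => ?_⟩
  · haveI : (G.obj (op n)).IsQuasicoherent := (hG.1 n).1
    exact ⟨Scheme.Modules.isQuasicoherent_restrictFunctor U.ι _,
      Groth.Agent.H12.CohOpen.isFiniteType_restrict U.ι _ (hG.1 n).2⟩
  · change Formal.smulMod A ((Scheme.Modules.restrictFunctor U.ι).obj (G.obj (op n))) a = 0
    rw [← restrict_map_smulMod U hU, hG.2.1 n a ha, Functor.map_zero]
  · obtain ⟨h, hiso⟩ := hG.2.2 n
    have hq : IsQuot (I ^ (n + 1)) (G.map (homOfLE (Nat.le_succ n)).op) :=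
      isQuot_of_isIso_desc _ _ h
    have hq' := hq.restrict U hU
    have hw := (smulFamily_comp_eq_zero_iff _ _).mpr hq'.kills
    exact ⟨hw, hq'.isIso_desc hw⟩

end Restrict

section Canon

variable (R : CommRingCat.{u}) [IsNoetherianRing R] (U : (Spec (CommRingCat.of R)).Opens)

theorem quasiCompact_ι_of_noetherian : QuasiCompact U.ι :=
  Groth.Agent.H12.QCohOpen.quasiCompact_ι_of_isCompact U
    (TopologicalSpace.NoetherianSpace.isCompact _)

/-- The restriction to `U` of the system `(H⁰(U, G_n))~` is the system `(G_n)` itself, for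
quasi-coherent `G_n`. -/
theorem nonempty_restrictSys_sectSys_iso (G : ℕᵒᵖ ⥤ (U : Scheme.{u}).Modules)
    (hqc : ∀ n, (G.obj n).IsQuasicoherent) :
    Nonempty (Algz.restrictSys U (Algz.sectSys R U G) ≅ G) := by
  let tadj := tilde.adjunction (R := CommRingCat.of R)
  let radj := Scheme.Modules.restrictAdjunction U.ι
  let α : Algz.restrictSys U (Algz.sectSys R U G) ⟶ G :=
    { app := fun n => (Scheme.Modules.restrictFunctor U.ι).map
          (tadj.counit.app ((Scheme.Modules.pushforward U.ι).obj (G.obj n))) ≫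
        radj.counit.app (G.obj n)
      naturality := fun n n' f => by
        have h1 := tadj.counit.naturality ((Scheme.Modules.pushforward U.ι).map (G.map f))
        have h2 := radj.counit.naturality (G.map f)
        change (Scheme.Modules.restrictFunctor U.ι).map ((tilde.functor (CommRingCat.of R)).map
            ((moduleSpecΓFunctor (R := CommRingCat.of R)).map
              ((Scheme.Modules.pushforward U.ι).map (G.map f)))) ≫
          (Scheme.Modules.restrictFunctor U.ι).map
            (tadj.counit.app ((Scheme.Modules.pushforward U.ι).obj (G.obj n'))) ≫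
          radj.counit.app (G.obj n') = _
        rw [← Category.assoc, ← Functor.map_comp]
        erw [h1]
        rw [Functor.map_comp, Category.assoc]
        erw [h2]
        rw [Category.assoc]
        rfl }
  haveI := quasiCompact_ι_of_noetherian R U
  haveI : ∀ n, IsIso (α.app n) := by
    intro n
    haveI := hqc n
    haveI : ((Scheme.Modules.pushforward U.ι).obj (G.obj n)).IsQuasicoherent :=
      Groth.Agent.H8.isQuasicoherent_pushforward_of_qcqs U.ι (G.obj n)
    haveI : IsIso (tadj.counit.app ((Scheme.Modules.pushforward U.ι).obj (G.obj n))) :=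
      (inferInstance : IsIso ((Scheme.Modules.pushforward U.ι).obj (G.obj n)).fromTildeΓ)
    haveI : IsIso (radj.counit.app (G.obj n)) := inferInstance
    change IsIso ((Scheme.Modules.restrictFunctor U.ι).map
          (tadj.counit.app ((Scheme.Modules.pushforward U.ι).obj (G.obj n))) ≫
        radj.counit.app (G.obj n))
    infer_instance
  haveI : IsIso α := NatIso.isIso_of_isIso_app α
  exact ⟨asIso α⟩

variable [(Spec (CommRingCat.of R)).Over (Spec (CommRingCat.of R))] (I : Ideal R)
  [(U : Scheme.{u}).Over (Spec (CommRingCat.of R))]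
  (hU : U.ι ≫ ((Spec (CommRingCat.of R)) ↘ Spec (CommRingCat.of R)) =
    (U : Scheme.{u}) ↘ Spec (CommRingCat.of R))

include hU in
/-- A coherent formal module on `U` whose system of sections is pro-isomorphic to a coherent formal
module `G'` on `Spec R` is the restriction of `G'`. -/
theorem extends_of_isProIsomorphic_sectSys (G : ℕᵒᵖ ⥤ (U : Scheme.{u}).Modules)
    (hG : Formal.IsCohFormal I G) (G' : ℕᵒᵖ ⥤ (Spec (CommRingCat.of R)).Modules)
    (hG' : Formal.IsCohFormal I G') (hpro : Algz.IsProIsomorphic (Algz.sectSys R U G) G') :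
    Algz.Extends I U G := by
  obtain ⟨e⟩ := nonempty_restrictSys_sectSys_iso R U G (fun n => (hG.1 n.unop).1)
  have h1 : Algz.IsProIsomorphic (Algz.restrictSys U (Algz.sectSys R U G))
      (Algz.restrictSys U G') :=
    isProIsomorphic_comp_functor (Scheme.Modules.restrictFunctor U.ι) hpro
  have h2 : Algz.IsProIsomorphic G (Algz.restrictSys U G') := isProIsomorphic_of_iso_left e h1
  have hG'U := isCohFormal_comp_restrict U hU I G' hG'
  obtain ⟨ι⟩ := nonempty_iso_of_isProIsomorphic I G _ hG hG'U h2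
  exact ⟨G', hG', ⟨ι.symm⟩⟩

end Canon

end Groth.Agent.H19.TorsSys
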