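import Groth.Agent.H19.TorsSysStable
import Groth.Agent.H19.TorsSysCanon

/-!
# Global generation of `F_n` by `lim H⁰(U, F_m)` for Mittag-Leffler systems

Helper library (helper19).
-/

set_option autoImplicit false
set_option linter.style.haveILetI false
set_option linter.unusedSectionVars false
universe u
open CategoryTheory CategoryTheory.Limits AlgebraicGeometry Opposite

namespace Groth.Agent.H19.TorsSys

variable (R : CommRingCat.{u}) [IsNoetherianRing R] (U : (Spec (CommRingCat.of R)).Opens)

/-- The canonical map `(H⁰(U, F))~|_U ⟶ F`. -/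
noncomputable def sectCounit (F : (U : Scheme.{u}).Modules) :
    (Scheme.Modules.restrictFunctor U.ι).obj ((tilde.functor (CommRingCat.of R)).obj
      ((moduleSpecΓFunctor (R := CommRingCat.of R)).obj
        ((Scheme.Modules.pushforward U.ι).obj F))) ⟶ F :=
  (Scheme.Modules.restrictFunctor U.ι).map
      ((tilde.adjunction (R := CommRingCat.of R)).counit.app
        ((Scheme.Modules.pushforward U.ι).obj F)) ≫
    (Scheme.Modules.restrictAdjunction U.ι).counit.app F

theorem isIso_sectCounit (F : (U : Scheme.{u}).Modules) [F.IsQuasicoherent] :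
    IsIso (sectCounit R U F) := by
  let tadj := tilde.adjunction (R := CommRingCat.of R)
  let radj := Scheme.Modules.restrictAdjunction U.ι
  haveI := quasiCompact_ι_of_noetherian R U
  haveI : ((Scheme.Modules.pushforward U.ι).obj F).IsQuasicoherent :=
    Groth.Agent.H8.isQuasicoherent_pushforward_of_qcqs U.ι F
  haveI : IsIso (tadj.counit.app ((Scheme.Modules.pushforward U.ι).obj F)) :=
    (inferInstance : IsIso ((Scheme.Modules.pushforward U.ι).obj F).fromTildeΓ)
  haveI : IsIso (radj.counit.app F) := inferInstance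
  change IsIso ((Scheme.Modules.restrictFunctor U.ι).map
        (tadj.counit.app ((Scheme.Modules.pushforward U.ι).obj F)) ≫
      radj.counit.app F)
  infer_instance

theorem sectCounit_naturality {F F' : (U : Scheme.{u}).Modules} (f : F ⟶ F') :
    (Scheme.Modules.restrictFunctor U.ι).map ((tilde.functor (CommRingCat.of R)).map
        ((moduleSpecΓFunctor (R := CommRingCat.of R)).map
          ((Scheme.Modules.pushforward U.ι).map f))) ≫ sectCounit R U F' =
      sectCounit R U F ≫ f := by
  let tadj := tilde.adjunction (R := CommRingCat.of R)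
  let radj := Scheme.Modules.restrictAdjunction U.ι
  have h1 := tadj.counit.naturality ((Scheme.Modules.pushforward U.ι).map f)
  have h2 := radj.counit.naturality f
  unfold sectCounit
  rw [← Category.assoc, ← Functor.map_comp]
  erw [h1]
  rw [Functor.map_comp, Category.assoc]
  erw [h2]
  rw [Category.assoc]
  rfl

theorem epi_map_of_le (G : ℕᵒᵖ ⥤ (U : Scheme.{u}).Modules)
    (hepi : ∀ n, Epi (G.map (homOfLE (Nat.le_succ n)).op)) {n k : ℕ} (h : n ≤ k) :
    Epi (G.map (homOfLE h).op) := by
  induction k, h using Nat.le_induction with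
  | base =>
    have : G.map (homOfLE (le_refl n)).op = 𝟙 _ := tr_self G n
    rw [this]
    infer_instance
  | succ k h ih =>
    have : G.map (homOfLE (h.trans (Nat.le_succ k))).op =
        G.map (homOfLE (Nat.le_succ k)).op ≫ G.map (homOfLE h).op := (tr_comp G h _).symm
    rw [this]
    haveI := hepi k
    exact epi_comp _ _

theorem homEquiv_symm_eq (G : ℕᵒᵖ ⥤ (U : Scheme.{u}).Modules) (n : ℕ) :
    ((Scheme.Modules.restrictAdjunction U.ι).homEquiv _ (G.obj (op n))).symm
      (((tilde.adjunction (R := CommRingCat.of R)).homEquiv (limit (Algz.sectMod R U G))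
        ((Scheme.Modules.pushforward U.ι).obj (G.obj (op n)))).symm
          (limit.π (Algz.sectMod R U G) (op n))) =
      (Scheme.Modules.restrictFunctor U.ι).map ((tilde.functor (CommRingCat.of R)).map
        (limit.π (Algz.sectMod R U G) (op n))) ≫ sectCounit R U (G.obj (op n)) := by
  rw [Adjunction.homEquiv_counit]
  erw [Adjunction.homEquiv_counit]
  rw [Functor.map_comp, Category.assoc]
  rfl

theorem epi_homEquiv_symm_limit_π (G : ℕᵒᵖ ⥤ (U : Scheme.{u}).Modules)
    (hqc : ∀ n, (G.obj (op n)).IsQuasicoherent)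
    (hepi : ∀ n, Epi (G.map (homOfLE (Nat.le_succ n)).op))
    (hML : ARSys.IsML (Algz.sectMod R U G)) (n : ℕ) :
    Epi (((Scheme.Modules.restrictAdjunction U.ι).homEquiv _ (G.obj (op n))).symm
      (((tilde.adjunction (R := CommRingCat.of R)).homEquiv (limit (Algz.sectMod R U G))
        ((Scheme.Modules.pushforward U.ι).obj (G.obj (op n)))).symm
          (limit.π (Algz.sectMod R U G) (op n)))) := by
  rw [homEquiv_symm_eq]
  let Φ := tilde.functor (CommRingCat.of R) ⋙ Scheme.Modules.restrictFunctor U.ι
  obtain ⟨k, hk, S, pM, pk, ι, hpMepi, hpM, hpk⟩ :=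
    exists_factor_of_isML (Algz.sectMod R U G) hML n
  haveI hq1 := hqc n
  haveI hq2 := hqc k
  let σn : Φ.obj ((Algz.sectMod R U G).obj (op n)) ⟶ G.obj (op n) :=
    sectCounit R U (G.obj (op n))
  let σk : Φ.obj ((Algz.sectMod R U G).obj (op k)) ⟶ G.obj (op k) :=
    sectCounit R U (G.obj (op k))
  haveI : IsIso σn := isIso_sectCounit R U (G.obj (op n))
  haveI : IsIso σk := isIso_sectCounit R U (G.obj (op k))
  haveI := epi_map_of_le R U G hepi hk
  have h1 : Φ.map (ARSys.tr (Algz.sectMod R U G) hk) ≫ σn = σk ≫ G.map (homOfLE hk).op :=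
    sectCounit_naturality R U (G.map (homOfLE hk).op)
  have e0 : Φ.map pk ≫ (Φ.map ι ≫ σn) = σk ≫ G.map (homOfLE hk).op := by
    rw [← Category.assoc, ← Φ.map_comp, hpk, h1]
  haveI e1 : Epi (Φ.map pk ≫ (Φ.map ι ≫ σn)) := by
    rw [e0]
    exact epi_comp _ _
  haveI e2 : Epi (Φ.map ι ≫ σn) := epi_of_epi (Φ.map pk) _
  have e3 : Φ.map (limit.π (Algz.sectMod R U G) (op n)) ≫ σn = Φ.map pM ≫ (Φ.map ι ≫ σn) := by
    rw [← hpM, Φ.map_comp, Category.assoc]
  change Epi (Φ.map (limit.π (Algz.sectMod R U G) (op n)) ≫ σn)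
  rw [e3]
  exact epi_comp _ _

end Groth.Agent.H19.TorsSys
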