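import Groth.Agent.H19.TorsSysAffine
import Groth.Prelude.Def_Algz

/-!
# Extendable coherent formal modules on an open of `Spec A`, `A` complete, are completions

Helper library (helper19).
-/

set_option autoImplicit false
set_option linter.style.haveILetI false
set_option linter.unusedSectionVars false
universe u
open CategoryTheory CategoryTheory.Limits AlgebraicGeometry Opposite

namespace Groth.Agent.H19.TorsSys

/-- `M~` is of finite type when `M` is a finite module. -/
theorem isFiniteType_tilde (R : CommRingCat.{u}) (N₀ : ModuleCat.{u} R) [Module.Finite R N₀] :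
    SheafOfModules.IsFiniteType (R := (Spec (CommRingCat.of R)).ringCatSheaf)
      ((tilde.functor R).obj N₀) := by
  refine Groth.Agent.H71.QCoh.isFiniteType_of_finite_sections_cover ((tilde.functor R).obj N₀)
    (fun _ : PUnit.{u + 1} ↦ ⊤)
    (show (⨆ _ : PUnit.{u + 1}, (⊤ : (Spec (CommRingCat.of R)).Opens)) = ⊤ from ciSup_const)
    (fun _ ↦ isAffineOpen_top _) (fun _ ↦ ?_)
  have : Module.Finite R Γ(tilde N₀, ⊤) :=
    Module.Finite.equiv (tilde.isoTop N₀).toLinearEquiv
  exact Module.Finite.of_restrictScalars_finite R Γ(Spec R, ⊤) Γ(tilde N₀, ⊤)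

variable (R : CommRingCat.{u}) [(Spec (CommRingCat.of R)).Over (Spec (CommRingCat.of R))]
  (hX : (Spec (CommRingCat.of R)) ↘ Spec (CommRingCat.of R) = 𝟙 _)
  (I : Ideal R) (U : (Spec (CommRingCat.of R)).Opens)
  [(U : Scheme.{u}).Over (Spec (CommRingCat.of R))]
  (hU : U.ι ≫ ((Spec (CommRingCat.of R)) ↘ Spec (CommRingCat.of R)) =
    (U : Scheme.{u}) ↘ Spec (CommRingCat.of R))

include hX hU in
/-- If `R` is Noetherian and `I`-adically complete, every system on the open `U` of `Spec R` which
extends to a coherent formal module on `Spec R` is the completion of a coherent module on `U`. -/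
theorem exists_completion_iso_of_extends [IsNoetherianRing R] [IsAdicComplete I R]
    (G : ℕᵒᵖ ⥤ (U : Scheme.{u}).Modules) (h : Algz.Extends I U G) :
    ∃ F : (U : Scheme.{u}).Modules, Coh.IsCoh F ∧ Nonempty (Formal.completion I F ≅ G) := by
  obtain ⟨G', hG', ⟨e⟩⟩ := h
  obtain ⟨M, hM, ⟨α⟩⟩ := exists_tilde_completion_iso R hX I G' hG'
  refine ⟨(Scheme.Modules.restrictFunctor U.ι).obj ((tilde.functor R).obj M), ⟨?_, ?_⟩, ?_⟩
  · exact Scheme.Modules.isQuasicoherent_restrictFunctor U.ι _
  · exact Groth.Agent.H12.CohOpen.isFiniteType_restrict U.ι _ (isFiniteType_tilde R M)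
  · obtain ⟨β, -⟩ := exists_completion_restrict_iso U hU I ((tilde.functor R).obj M)
    exact ⟨β ≪≫ Functor.isoWhiskerRight α (Scheme.Modules.restrictFunctor U.ι) ≪≫ e⟩

end Groth.Agent.H19.TorsSys
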