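import Groth.Agent.H19.TorsSysExtends

/-!
# Completions of coherent modules on an open of `Spec A` extend to `Spec A`

Helper library (helper19).
-/

set_option autoImplicit false
set_option linter.style.haveILetI false
set_option linter.unusedSectionVars false
universe u
open CategoryTheory CategoryTheory.Limits AlgebraicGeometry Opposite

namespace Groth.Agent.H19.TorsSys

section General

variable {A : Type u} [CommRing A] {X : Scheme.{u}} [X.Over (Spec (CommRingCat.of A))]

/-- The system `(M/I^(n+1)M)` is a coherent formal module as soon as its terms are coherent. -/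
theorem isCohFormal_completion (I : Ideal A) (M : X.Modules)
    (hcoh : ∀ n : ℕ, Coh.IsCoh (Formal.modPow I (n + 1) M)) :
    Formal.IsCohFormal I (Formal.completion I M) := by
  refine ⟨fun n => hcoh n, fun n => killedBy_modPow I (n + 1) M, fun n => ?_⟩
  have e1 : (Formal.completion I M).map (homOfLE (Nat.le_succ n)).op =
      Formal.modPowTrans I (n + 1) M :=
    Functor.ofOpSequence_map_homOfLE_succ (X := fun n => Formal.modPow I (n + 1) M)
      (fun k => Formal.modPowTrans I (k + 1) M) n
  have hq : IsQuot (I ^ (n + 1)) ((Formal.completion I M).map (homOfLE (Nat.le_succ n)).op) :=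
    e1 ▸ isQuot_modPowTrans I (n + 1) M
  have hw := (smulFamily_comp_eq_zero_iff _ _).mpr hq.kills
  exact ⟨hw, hq.isIso_desc hw⟩

/-- The system `(M/I^(n+1)M)` only depends on the isomorphism class of `M`. -/
theorem exists_completion_iso_of_iso (I : Ideal A) {M M' : X.Modules} (ι : M ≅ M') :
    Nonempty (Formal.completion I M ≅ Formal.completion I M') := by
  obtain ⟨α, -⟩ := exists_completion_iso_of_isQuot I M (Formal.completion I M')
    (fun n => ι.hom ≫ Formal.modPowπ I (n + 1) M') (fun n => by
      have e1 : (Formal.completion I M').map (homOfLE (Nat.le_succ n)).op =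
          Formal.modPowTrans I (n + 1) M' :=
        Functor.ofOpSequence_map_homOfLE_succ (X := fun n => Formal.modPow I (n + 1) M')
          (fun k => Formal.modPowTrans I (k + 1) M') n
      have e2 : Formal.modPowπ I (n + 1 + 1) M' ≫
          (Formal.completion I M').map (homOfLE (Nat.le_succ n)).op =
            Formal.modPowπ I (n + 1) M' :=
        (congrArg (fun t => Formal.modPowπ I (n + 1 + 1) M' ≫ t) e1).trans
          (Formal.modPowπ_trans I (n + 1) M')
      exact (Category.assoc _ _ _).trans (congrArg (fun t => ι.hom ≫ t) e2))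
    (fun n => (isQuot_modPowπ I (n + 1) M').iso_comp ι.hom)
  exact ⟨α⟩

end General

variable (R : CommRingCat.{u}) [(Spec (CommRingCat.of R)).Over (Spec (CommRingCat.of R))]
  (hX : (Spec (CommRingCat.of R)) ↘ Spec (CommRingCat.of R) = 𝟙 _)
  (I : Ideal R)

include hX in
/-- `M~/J M~` is the tilde of `M/JM`, hence coherent for finite `M`. -/
theorem isCoh_modPow_tilde (M : ModuleCat.{u} R) [Module.Finite R M] (n : ℕ) :
    Coh.IsCoh (Formal.modPow I n ((tilde.functor R).obj M)) := by
  let J := I ^ n
  let q : ModuleCat.of R M ⟶ ModuleCat.of R (M ⧸ (J • (⊤ : Submodule R M))) :=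
    ModuleCat.ofHom (Submodule.mkQ (J • (⊤ : Submodule R M)))
  have h1 : IsQuot J ((tilde.functor R).map q) := isQuot_tilde_map R hX J q
    (Submodule.mkQ_surjective (J • (⊤ : Submodule R M)))
    (Submodule.ker_mkQ (J • (⊤ : Submodule R M)))
  obtain ⟨κ, -⟩ := h1.exists_iso (isQuot_modPowπ I n ((tilde.functor R).obj M))
  haveI : Module.Finite R (M ⧸ (J • (⊤ : Submodule R M))) := inferInstance
  have hft := isFiniteType_tilde R (ModuleCat.of R (M ⧸ (J • (⊤ : Submodule R M))))
  haveI hqc : ((tilde.functor R).obj
      (ModuleCat.of R (M ⧸ (J • (⊤ : Submodule R M))))).IsQuasicoherent := inferInstance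
  haveI hqc2 : (Formal.modPow I n ((tilde.functor R).obj M)).IsQuasicoherent :=
    Groth.Agent.H12.QCohAbelian.isQuasicoherent_of_iso κ
  exact ⟨hqc2, Groth.Agent.H12.CohOpen.isFiniteType_of_iso κ.symm hft⟩

variable (U : (Spec (CommRingCat.of R)).Opens)
  [(U : Scheme.{u}).Over (Spec (CommRingCat.of R))]
  (hU : U.ι ≫ ((Spec (CommRingCat.of R)) ↘ Spec (CommRingCat.of R)) =
    (U : Scheme.{u}) ↘ Spec (CommRingCat.of R))

include hX hU in
/-- The completion of a coherent module on an open `U` of `Spec R`, `R` Noetherian, extends to a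
coherent formal module on `Spec R`. -/
theorem extends_of_completion_iso [IsNoetherianRing R]
    (G : ℕᵒᵖ ⥤ (U : Scheme.{u}).Modules) (F : (U : Scheme.{u}).Modules) (hF : Coh.IsCoh F)
    (e : Formal.completion I F ≅ G) : Algz.Extends I U G := by
  haveI : F.IsQuasicoherent := hF.1
  haveI : SheafOfModules.IsFiniteType (R := (U : Scheme.{u}).ringCatSheaf) F := hF.2
  obtain ⟨M, hM, ⟨ι⟩⟩ := Groth.Agent.H12.CohOpen.exists_finite_tilde_restrict U F
  refine ⟨Formal.completion I ((tilde.functor R).obj M),
    isCohFormal_completion I _ (fun n => isCoh_modPow_tilde R hX I M (n + 1)), ?_⟩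
  obtain ⟨β, -⟩ := exists_completion_restrict_iso U hU I ((tilde.functor R).obj M)
  obtain ⟨γ⟩ := exists_completion_iso_of_iso I ι
  exact ⟨β.symm ≪≫ γ.symm ≪≫ e⟩

end Groth.Agent.H19.TorsSys
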