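import Groth.Agent.H12.CohOpen

/-!
# Finiteness of `(N~)|_V` from finiteness of localisations

Helper library (helper19).
-/

set_option autoImplicit false
set_option linter.style.haveILetI false
universe u
open CategoryTheory CategoryTheory.Limits AlgebraicGeometry Opposite

namespace Groth.Agent.H19.TorsSys

open Groth.Agent.H12.CohOpen Groth.Agent.H44

/-- If `M → P` and `M ↠ N` are linear maps with `ker (M → P) ≤ ker (M → N)` and the localisation
of `P` is finite over the Noetherian localisation `S` of `R`, the localisation of `N` is finite. -/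
theorem finite_localized_of_ker_le {R : Type*} [CommRing R] (p : Submonoid R)
    (S : Type*) [CommRing S] [Algebra R S] [IsLocalization p S] [IsNoetherianRing S]
    {M P N P' N' : Type*} [AddCommGroup M] [Module R M] [AddCommGroup P] [Module R P]
    [AddCommGroup N] [Module R N]
    [AddCommGroup P'] [Module R P'] [Module S P'] [IsScalarTower R S P']
    [AddCommGroup N'] [Module R N'] [Module S N'] [IsScalarTower R S N']
    (ρ : P →ₗ[R] P') [IsLocalizedModule p ρ] (τ : N →ₗ[R] N') [IsLocalizedModule p τ]
    [Module.Finite S P'] (π : M →ₗ[R] P) (q : M →ₗ[R] N) (hq : Function.Surjective q)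
    (hker : LinearMap.ker π ≤ LinearMap.ker q) : Module.Finite S N' := by
  let X : Submodule R P := LinearMap.range π
  let X' : Submodule S P' := X.localized' S p ρ
  haveI : IsNoetherian S P' := isNoetherian_of_isNoetherianRing_of_finite S P'
  haveI : Module.Finite S X' := Module.IsNoetherian.finite S X'
  let g : X →ₗ[R] N :=
    ((LinearMap.ker π).liftQ q hker) ∘ₗ π.quotKerEquivRange.symm.toLinearMap
  have hg : Function.Surjective g := by
    intro n
    obtain ⟨m, rfl⟩ := hq n
    refine ⟨π.quotKerEquivRange ((LinearMap.ker π).mkQ m), ?_⟩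
    simp [g]
  let G : X' →ₗ[S] N' := IsLocalizedModule.mapExtendScalars p (X.toLocalized' S p ρ) τ S g
  have hG : Function.Surjective G := IsLocalizedModule.map_surjective p _ τ g hg
  exact Module.Finite.of_surjective G hG

variable {R : CommRingCat.{u}}

set_option backward.isDefEq.respectTransparency false in
theorem finite_sections_tilde_of_ker_le [IsNoetherianRing R] (P : (Spec R).Modules)
    [P.IsQuasicoherent] (f : R)
    (hfin : Module.Finite Γ(Spec R, PrimeSpectrum.basicOpen f) Γ(P, PrimeSpectrum.basicOpen f))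
    {M N : ModuleCat.{u} R} (π : M ⟶ gammaSpec P) (q : M ⟶ N)
    (hq : Function.Surjective q.hom) (hker : LinearMap.ker π.hom ≤ LinearMap.ker q.hom) :
    Module.Finite Γ(Spec R, PrimeSpectrum.basicOpen f) Γ(tilde N, PrimeSpectrum.basicOpen f) := by
  have hloc := Groth.Agent.H8.isLocalizedModule_of_isQuasicoherent_Spec P f
  let U : (Spec R).Opens := PrimeSpectrum.basicOpen f
  have hlocN : IsLocalizedModule (Submonoid.powers f)
      (tilde.toOpen N (PrimeSpectrum.basicOpen f)).hom := inferInstance
  let P' := ((modulesSpecToSheaf.obj P).obj.obj (op U))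
  let i1 : Module Γ(Spec R, U) P' := (inferInstance : Module Γ(Spec R, U) Γ(P, U))
  have i2 : IsScalarTower R Γ(Spec R, U) P' :=
    (inferInstance : IsScalarTower R Γ(Spec R, U) Γ(P, U))
  have i3 : Module.Finite Γ(Spec R, U) P' := hfin
  let N' := ((modulesSpecToSheaf.obj (tilde N)).obj.obj (op U))
  let j1 : Module Γ(Spec R, U) N' := (inferInstance : Module Γ(Spec R, U) Γ(tilde N, U))
  have j2 : IsScalarTower R Γ(Spec R, U) N' :=
    (inferInstance : IsScalarTower R Γ(Spec R, U) Γ(tilde N, U))
  haveI : IsNoetherianRing Γ(Spec R, U) :=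
    IsLocalization.isNoetherianRing (Submonoid.powers f) Γ(Spec R, U) inferInstance
  have key : Module.Finite Γ(Spec R, U) N' :=
    finite_localized_of_ker_le (Submonoid.powers f) Γ(Spec R, U)
      (P' := P') (N' := N')
      ((modulesSpecToSheaf.obj P).obj.map (TopologicalSpace.Opens.leTop U).op).hom
      (tilde.toOpen N U).hom π.hom q.hom hq hker
  exact key

set_option backward.isDefEq.respectTransparency false in
theorem isFiniteType_restrict_tilde (V : (Spec R).Opens) (N : ModuleCat.{u} R)
    (h : ∀ x : Spec R, x ∈ V → ∃ f : R, (PrimeSpectrum.basicOpen f : (Spec R).Opens) ≤ V ∧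
      x ∈ (PrimeSpectrum.basicOpen f : (Spec R).Opens) ∧
      Module.Finite Γ(Spec R, PrimeSpectrum.basicOpen f) Γ(tilde N, PrimeSpectrum.basicOpen f)) :
    SheafOfModules.IsFiniteType (R := (V : Scheme.{u}).ringCatSheaf) ((tilde N).restrict V.ι) := by
  let J : Type u := {f : R // (PrimeSpectrum.basicOpen f : (Spec R).Opens) ≤ V ∧
      Module.Finite Γ(Spec R, PrimeSpectrum.basicOpen f) Γ(tilde N, PrimeSpectrum.basicOpen f)}
  haveI : ((tilde N).restrict V.ι).IsQuasicoherent :=
    (inferInstance : ((Scheme.Modules.restrictFunctor V.ι).obj (tilde N)).IsQuasicoherent)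
  refine Groth.Agent.H71.QCoh.isFiniteType_of_finite_sections_cover ((tilde N).restrict V.ι)
    (fun f : J => V.ι ⁻¹ᵁ (PrimeSpectrum.basicOpen f.1)) ?_ ?_ ?_
  · apply TopologicalSpace.IsOpenCover.mk
    rw [eq_top_iff]
    intro x _
    obtain ⟨f, hf1, hf2, hf3⟩ := h x.1 x.2
    exact TopologicalSpace.Opens.mem_iSup.mpr ⟨⟨f, hf1, hf3⟩, hf2⟩
  · intro f
    exact (IsAffineOpen.Spec_basicOpen f.1).preimage_of_isOpenImmersion V.ι
      (by rw [Scheme.Opens.opensRange_ι]; exact f.2.1)
  · intro f
    have himg : V.ι ''ᵁ (V.ι ⁻¹ᵁ (PrimeSpectrum.basicOpen f.1)) = PrimeSpectrum.basicOpen f.1 := by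
      rw [Scheme.Hom.image_preimage_eq_opensRange_inf, Scheme.Opens.opensRange_ι]
      exact inf_eq_right.mpr f.2.1
    refine finite_sections_restrict V.ι (tilde N) _ ?_
    have aux : ∀ U' : (Spec R).Opens, U' = PrimeSpectrum.basicOpen f.1 →
        Module.Finite Γ(Spec R, U') Γ(tilde N, U') := by
      intro U' h
      subst h
      exact f.2.2
    exact aux _ himg

end Groth.Agent.H19.TorsSys
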