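import Groth.Agent.H19.TorsSysML2
import Groth.Agent.H19.AffSysAlg

/-!
# The limit topology on the limit of a system pro-isomorphic to an adic one

Helper library (helper19).
-/

set_option autoImplicit false
set_option linter.style.haveILetI false
set_option linter.unusedSectionVars false
universe u
open CategoryTheory CategoryTheory.Limits AlgebraicGeometry Opposite

namespace Groth.Agent.H19.TorsSys

open Groth.Agent.H19.AffSysAlg

section Mod

variable {A : Type u} [CommRing A]

theorem ker_limit_π_le (X Y : ℕᵒᵖ ⥤ ModuleCat.{u} A) (I : Ideal A) (hI : I.FG) (m : ℕ → ℕ)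
    (hm : Monotone m) (hle : ∀ n, n ≤ m n) (a : DerCA.reindex X hm ⟶ Y)
    (ha : DerCA.IsProIso a)
    (hsurj : ∀ n, Function.Surjective (Y.map (homOfLE (Nat.le_succ n)).op).hom)
    (hker : ∀ n, LinearMap.ker (Y.map (homOfLE (Nat.le_succ n)).op).hom =
      I ^ (n + 1) • (⊤ : Submodule A (Y.obj (op (n + 1)))))
    (k : ℕ) :
    ∃ n, LinearMap.ker (limit.π X (op n)).hom ≤ I ^ k • (⊤ : Submodule A ↑(limit X)) := by
  classical
  let N : ℕ → Type u := fun n => Y.obj (op n)
  let t : ∀ n, N (n + 1) →ₗ[A] N n := fun n => (Y.map (homOfLE (Nat.le_succ n)).op).hom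
  have hkerπ : ∀ n, LinearMap.ker (limProj N t n) =
      I ^ (n + 1) • (⊤ : Submodule A (limSub N t)) := fun n =>
    Groth.Agent.H12.ker_pi_eq hI hsurj hker (limProj_comp N t) (limProj_inj N t)
      (limProj_lift N t) n
  -- projections are compatible with all transition maps
  have hproj : ∀ (i j : ℕ) (h : i ≤ j),
      ModuleCat.ofHom (limProj N t j) ≫ ARSys.tr Y h = ModuleCat.ofHom (limProj N t i) := by
    intro i j h
    induction j, h using Nat.le_induction with
    | base =>
      have : ARSys.tr Y (le_refl i) = 𝟙 _ :=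
        (congrArg _ (Subsingleton.elim _ _)).trans (CategoryTheory.Functor.map_id _ _)
      rw [this, Category.comp_id]
    | succ j h ih =>
      rw [← tr_comp Y h (Nat.le_succ j), ← Category.assoc, ← ih]
      congr 1
      ext y
      exact y.2 j
  choose p hp b hb1 hb2 using ha
  let α : ∀ j, X.obj (op (m j)) ⟶ Y.obj (op j) := fun j => a.app (op j)
  have hα : ∀ i j (h : i ≤ j), ARSys.tr X (hm h) ≫ α i = α j ≫ ARSys.tr Y h :=
    fun i j h => a.naturality (homOfLE h).op
  let β : ∀ n, Y.obj (op (p n)) ⟶ X.obj (op (m n)) := b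
  have hβ1 : ∀ n, α (p n) ≫ β n = ARSys.tr X (hm (hp n)) := hb1
  have hβ2 : ∀ n, β n ≫ α n = ARSys.tr Y (hp n) := hb2
  let pr : ∀ n, ModuleCat.of A (limSub N t) ⟶ Y.obj (op n) := fun n =>
    ModuleCat.ofHom (limProj N t n)
  have hpr : ∀ (i j : ℕ) (h : i ≤ j), pr j ≫ ARSys.tr Y h = pr i := hproj
  let c : ∀ n, ModuleCat.of A (limSub N t) ⟶ X.obj (op n) := fun n =>
    pr (p n) ≫ β n ≫ ARSys.tr X (hle n)
  have hc : ∀ n q (hq : p n ≤ q),
      c n = pr (p q) ≫ β q ≫ ARSys.tr X ((hle n).trans (hm ((hp n).trans hq))) := by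
    intro n q hq
    have h1 : pr (p n) = pr (p q) ≫ β q ≫ ARSys.tr X (hm hq) ≫ α (p n) := by
      rw [hα _ _ hq, reassoc_of% (hβ2 q), tr_comp, hpr]
    change pr (p n) ≫ β n ≫ ARSys.tr X (hle n) = _
    rw [h1]
    simp only [Category.assoc]
    rw [reassoc_of% (hβ1 n), tr_comp, tr_comp]
  have hcnat : ∀ (i j : ℕ) (h : i ≤ j), c j ≫ ARSys.tr X h = c i := by
    intro i j h
    rw [hc j (max (p i) (p j)) (le_max_right _ _), hc i (max (p i) (p j)) (le_max_left _ _)]
    simp only [Category.assoc]
    rw [tr_comp]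
  let cone : Cone X :=
    { pt := ModuleCat.of A (limSub N t)
      π :=
        { app := fun j => c j.unop
          naturality := fun j j' f => by
            have hij : j'.unop ≤ j.unop := leOfHom f.unop
            have hf : f = (homOfLE hij).op := Subsingleton.elim _ _
            subst hf
            change 𝟙 _ ≫ c j'.unop = c j.unop ≫ ARSys.tr X hij
            rw [Category.id_comp, hcnat] } }
  let ψ : ModuleCat.of A (limSub N t) ⟶ limit X := limit.lift X cone
  have hψ : ∀ n, ψ ≫ limit.π X (op n) = c n := fun n => limit.lift_π cone (op n)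
  -- the map from the limit of `X`
  let φl : ↑(limit X) →ₗ[A] limSub N t :=
    { toFun := fun x => ⟨fun j => (limit.π X (op (m j)) ≫ α j).hom x, fun j => by
        change (((limit.π X (op (m (j + 1))) ≫ α (j + 1)) ≫ ARSys.tr Y (Nat.le_succ j)).hom x) =
          (limit.π X (op (m j)) ≫ α j).hom x
        rw [Category.assoc, ← hα j (j + 1) (Nat.le_succ j), ← Category.assoc]
        have : limit.π X (op (m (j + 1))) ≫ ARSys.tr X (hm (Nat.le_succ j)) =
          limit.π X (op (m j)) := limit.w X _
        rw [this]⟩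
      map_add' := fun x y => by
        apply Subtype.ext
        funext j
        exact map_add _ x y
      map_smul' := fun r x => by
        apply Subtype.ext
        funext j
        exact map_smul _ r x }
  let φ : limit X ⟶ ModuleCat.of A (limSub N t) := ModuleCat.ofHom φl
  have hφpr : ∀ j, φ ≫ pr j = limit.π X (op (m j)) ≫ α j := fun j => by
    ext x
    rfl
  have hφψ : φ ≫ ψ = 𝟙 _ := by
    apply limit.hom_ext
    intro j
    obtain ⟨n⟩ := j
    rw [Category.assoc, hψ, Category.id_comp]
    change φ ≫ pr (p n) ≫ β n ≫ ARSys.tr X (hle n) = _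
    rw [reassoc_of% (hφpr (p n)), reassoc_of% (hβ1 n), tr_comp]
    exact limit.w X _
  -- conclusion
  refine ⟨m k, fun x hx => ?_⟩
  have h1 : φl x ∈ LinearMap.ker (limProj N t k) := by
    rw [LinearMap.mem_ker]
    change (α k).hom ((limit.π X (op (m k))).hom x) = 0
    rw [LinearMap.mem_ker.mp hx, map_zero]
  rw [hkerπ k] at h1
  have h2 : φl x ∈ I ^ k • (⊤ : Submodule A (limSub N t)) :=
    Submodule.smul_mono_left (Ideal.pow_le_pow_right (Nat.le_succ k)) h1
  have h3 : ψ.hom (φl x) ∈ Submodule.map ψ.hom (I ^ k • (⊤ : Submodule A (limSub N t))) :=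
    ⟨_, h2, rfl⟩
  rw [Submodule.map_smul''] at h3
  have h4 : ψ.hom (φl x) = x := by
    change (φ ≫ ψ).hom x = x
    rw [hφψ]
    rfl
  rw [h4] at h3
  exact Submodule.smul_mono le_rfl le_top h3

end Mod

end Groth.Agent.H19.TorsSys
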