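import Groth.Agent.H19.TorsSysLimTop

/-!
# The limit topology on `lim H⁰(U, F_n)` for a canonically extendable system

Helper library (helper19).
-/

set_option autoImplicit false
set_option linter.style.haveILetI false
set_option linter.unusedSectionVars false
universe u
open CategoryTheory CategoryTheory.Limits AlgebraicGeometry Opposite

namespace Groth.Agent.H19.TorsSys

variable (R : CommRingCat.{u}) [(Spec (CommRingCat.of R)).Over (Spec (CommRingCat.of R))]
  (hX : (Spec (CommRingCat.of R)) ↘ Spec (CommRingCat.of R) = 𝟙 _)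
  (I : Ideal R) (U : (Spec (CommRingCat.of R)).Opens)

include hX in
theorem ker_limit_π_sectMod_le (hI : I.FG) (G : ℕᵒᵖ ⥤ (U : Scheme.{u}).Modules)
    (G' : ℕᵒᵖ ⥤ (Spec (CommRingCat.of R)).Modules) (hG' : Formal.IsCohFormal I G')
    (hpro : Algz.IsProIsomorphic (Algz.sectSys R U G) G') (k : ℕ) :
    ∃ n : ℕ, LinearMap.ker (limit.π (Algz.sectMod R U G) (op n)).hom ≤
      I ^ k • (⊤ : Submodule R ↑(limit (Algz.sectMod R U G))) := by
  have h1 : Algz.IsProIsomorphic
      (Algz.sectSys R U G ⋙ moduleSpecΓFunctor (R := CommRingCat.of R))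
      (G' ⋙ moduleSpecΓFunctor (R := CommRingCat.of R)) :=
    isProIsomorphic_comp_functor _ hpro
  obtain ⟨m, hm, hle, a, ha⟩ := isProIsomorphic_of_iso_left (sectSysΓIso R U G) h1
  haveI : ∀ n, (G'.obj (op n)).IsQuasicoherent := fun n => (hG'.1 n).1
  have hq := fun n => Γ_map_surjective_and_ker R hX (I ^ (n + 1)) _ (isQuot_tr I G' hG' n)
  exact ker_limit_π_le _ _ I hI m hm hle a ha (fun n => (hq n).1) (fun n => (hq n).2) k

end Groth.Agent.H19.TorsSys
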