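import Groth.Agent.H19.TorsSysCanon
import Groth.Agent.H19.TorsSysAffine
import Mathlib.Algebra.Category.ModuleCat.Images

/-!
# Mittag-Leffler for systems pro-isomorphic to a strict system

Helper library (helper19).
-/

set_option autoImplicit false
set_option linter.style.haveILetI false
set_option linter.unusedSectionVars false
universe u
open CategoryTheory CategoryTheory.Limits AlgebraicGeometry Opposite

namespace Groth.Agent.H19.TorsSys

section Mod

variable {A : Type u} [Ring A]

theorem imageSubobject_le_of_range_le {X Y Z : ModuleCat.{u} A} (f : X ⟶ Z) (g : Y ⟶ Z)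
    (h : LinearMap.range f.hom ≤ LinearMap.range g.hom) :
    imageSubobject f ≤ imageSubobject g := by
  refine imageSubobject_le f
    (ModuleCat.ofHom (f.hom.codRestrict (LinearMap.range g.hom) (fun x => h ⟨x, rfl⟩)) ≫
      (ModuleCat.imageIsoRange g).inv ≫ (imageSubobjectIso g).inv) ?_
  rw [Category.assoc, Category.assoc, imageSubobject_arrow', ModuleCat.imageIsoRange_inv_image_ι]
  ext x
  rfl

theorem imageSubobject_eq_of_range_eq {X Y Z : ModuleCat.{u} A} (f : X ⟶ Z) (g : Y ⟶ Z)
    (h : LinearMap.range f.hom = LinearMap.range g.hom) :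
    imageSubobject f = imageSubobject g :=
  le_antisymm (imageSubobject_le_of_range_le f g h.le) (imageSubobject_le_of_range_le g f h.ge)

theorem tr_comp {C : Type*} [Category C] (X : ℕᵒᵖ ⥤ C) {a b c : ℕ} (h1 : a ≤ b) (h2 : b ≤ c) :
    ARSys.tr X h2 ≫ ARSys.tr X h1 = ARSys.tr X (h1.trans h2) := by
  change X.map _ ≫ X.map _ = X.map _
  rw [← X.map_comp]
  rfl

/-- A system of modules pro-isomorphic to a system with surjective transition maps is
Mittag-Leffler. -/
theorem isML_of_isProIso (X Y : ℕᵒᵖ ⥤ ModuleCat.{u} A) (m : ℕ → ℕ) (hm : Monotone m)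
    (hle : ∀ n, n ≤ m n) (a : DerCA.reindex X hm ⟶ Y) (ha : DerCA.IsProIso a)
    (hY : ∀ (n p : ℕ) (h : n ≤ p), Function.Surjective (ARSys.tr Y h).hom) :
    ARSys.IsML X := by
  intro n
  obtain ⟨p, hp, b0, hb1, hb2⟩ := ha n
  let α : ∀ j, X.obj (op (m j)) ⟶ Y.obj (op j) := fun j => a.app (op j)
  have hα : ∀ i j (h : i ≤ j), ARSys.tr X (hm h) ≫ α i = α j ≫ ARSys.tr Y h :=
    fun i j h => a.naturality (homOfLE h).op
  let b : Y.obj (op p) ⟶ X.obj (op (m n)) := b0
  have hb1 : α p ≫ b = ARSys.tr X (hm hp) := hb1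
  -- the stable image
  let J : Submodule A (X.obj (op n)) := LinearMap.range (b ≫ ARSys.tr X (hle n)).hom
  have key : ∀ k (hk : m p ≤ k),
      LinearMap.range (ARSys.tr X ((hle n).trans ((hm hp).trans hk))).hom = J := by
    intro k hk
    apply le_antisymm
    · rintro _ ⟨x, rfl⟩
      have e1 : ARSys.tr X ((hle n).trans ((hm hp).trans hk)) =
          ARSys.tr X hk ≫ α p ≫ b ≫ ARSys.tr X (hle n) := by
        rw [reassoc_of% hb1, tr_comp, tr_comp]
      rw [e1]
      exact ⟨(ARSys.tr X hk ≫ α p).hom x, rfl⟩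
    · rintro _ ⟨y, rfl⟩
      obtain ⟨p', hp', b0', hb1', hb2'⟩ := ha k
      let b' : Y.obj (op p') ⟶ X.obj (op (m k)) := b0'
      have hb2' : b' ≫ α k = ARSys.tr Y hp' := hb2'
      have hpk : p ≤ k := (hle p).trans hk
      obtain ⟨z, rfl⟩ := hY p p' (hpk.trans hp') y
      have e2 : ARSys.tr Y (hpk.trans hp') ≫ b =
          b' ≫ ARSys.tr X (hm hpk) ≫ ARSys.tr X (hm hp) := by
        have : ARSys.tr Y (hpk.trans hp') = b' ≫ ARSys.tr X (hm hpk) ≫ α p := by
          rw [hα p k hpk, reassoc_of% hb2', tr_comp]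
        rw [this, Category.assoc, Category.assoc, hb1]
      have e3 : (b ≫ ARSys.tr X (hle n)).hom ((ARSys.tr Y (hpk.trans hp')).hom z) =
          (ARSys.tr X ((hle n).trans ((hm hp).trans hk))).hom
            ((b' ≫ ARSys.tr X (hle k)).hom z) := by
        change (ARSys.tr Y (hpk.trans hp') ≫ b ≫ ARSys.tr X (hle n)).hom z =
          ((b' ≫ ARSys.tr X (hle k)) ≫ ARSys.tr X ((hle n).trans ((hm hp).trans hk))).hom z
        rw [reassoc_of% e2, tr_comp, tr_comp, Category.assoc, tr_comp]
      rw [e3]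
      exact ⟨_, rfl⟩
  refine ⟨m p, fun s hs => ?_⟩
  apply imageSubobject_eq_of_range_eq
  have h1 := key (n + s) (hs.trans (Nat.le_add_left s n))
  have h2 := key (n + m p) (Nat.le_add_left (m p) n)
  exact h1.trans h2.symm

end Mod

end Groth.Agent.H19.TorsSys
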