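import Groth.Agent.H19.TorsSysML

/-!
# Mittag-Leffler for the sections of a canonically extendable system

Helper library (helper19).
-/

set_option autoImplicit false
set_option linter.style.haveILetI false
set_option linter.unusedSectionVars false
universe u
open CategoryTheory CategoryTheory.Limits AlgebraicGeometry Opposite

namespace Groth.Agent.H19.TorsSys

variable (R : CommRingCat.{u}) [(Spec (CommRingCat.of R)).Over (Spec (CommRingCat.of R))]
  (hX : (Spec (CommRingCat.of R)) ↘ Spec (CommRingCat.of R) = 𝟙 _)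
  (I : Ideal R) (U : (Spec (CommRingCat.of R)).Opens)

/-- `Γ` of the system `(H⁰(U, G_n))~` is the system `H⁰(U, G_n)`. -/
noncomputable def sectSysΓIso (G : ℕᵒᵖ ⥤ (U : Scheme.{u}).Modules) :
    Algz.sectSys R U G ⋙ moduleSpecΓFunctor (R := CommRingCat.of R) ≅ Algz.sectMod R U G :=
  Functor.associator _ _ _ ≪≫
    Functor.isoWhiskerLeft (Algz.sectMod R U G)
      (tilde.toTildeΓNatIso (R := CommRingCat.of R)).symm ≪≫
    Functor.rightUnitor _

include hX in
/-- The transition maps of `Γ` of a coherent formal module on `Spec R` are surjective. -/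
theorem Γ_tr_surjective (G' : ℕᵒᵖ ⥤ (Spec (CommRingCat.of R)).Modules)
    (hG' : Formal.IsCohFormal I G') (n p : ℕ) (h : n ≤ p) :
    Function.Surjective
      (ARSys.tr (G' ⋙ moduleSpecΓFunctor (R := CommRingCat.of R)) h).hom := by
  induction p, h using Nat.le_induction with
  | base =>
    have : ARSys.tr (G' ⋙ moduleSpecΓFunctor (R := CommRingCat.of R)) (le_refl n) = 𝟙 _ := by
      change (G' ⋙ moduleSpecΓFunctor (R := CommRingCat.of R)).map _ = _
      exact (congrArg _ (Subsingleton.elim _ _)).trans (CategoryTheory.Functor.map_id _ _)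
    rw [this]
    exact Function.surjective_id
  | succ p h ih =>
    haveI : (G'.obj (op (p + 1))).IsQuasicoherent := (hG'.1 (p + 1)).1
    have h1 := (Γ_map_surjective_and_ker R hX (I ^ (p + 1)) _ (isQuot_tr I G' hG' p)).1
    have h2 : ARSys.tr (G' ⋙ moduleSpecΓFunctor (R := CommRingCat.of R)) (h.trans (Nat.le_succ p)) =
        ARSys.tr (G' ⋙ moduleSpecΓFunctor (R := CommRingCat.of R)) (Nat.le_succ p) ≫
          ARSys.tr (G' ⋙ moduleSpecΓFunctor (R := CommRingCat.of R)) h := (tr_comp _ _ _).symm
    rw [h2]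
    exact ih.comp h1

include hX in
theorem isML_sectMod_of_isProIsomorphic (G : ℕᵒᵖ ⥤ (U : Scheme.{u}).Modules)
    (G' : ℕᵒᵖ ⥤ (Spec (CommRingCat.of R)).Modules) (hG' : Formal.IsCohFormal I G')
    (hpro : Algz.IsProIsomorphic (Algz.sectSys R U G) G') :
    ARSys.IsML (Algz.sectMod R U G) := by
  have h1 : Algz.IsProIsomorphic
      (Algz.sectSys R U G ⋙ moduleSpecΓFunctor (R := CommRingCat.of R))
      (G' ⋙ moduleSpecΓFunctor (R := CommRingCat.of R)) :=
    isProIsomorphic_comp_functor _ hpro
  obtain ⟨m, hm, hle, a, ha⟩ := isProIsomorphic_of_iso_left (sectSysΓIso R U G) h1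
  exact isML_of_isProIso _ _ m hm hle a ha (Γ_tr_surjective R hX I G' hG')

end Groth.Agent.H19.TorsSys
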