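import Groth.Agent.H12.CohOpen

/-!
# Compatible sections of `(M/I^(n+1)M)~` over `D(f)` killed in `P_n` vanish

Helper library (helper19).
-/

set_option autoImplicit false
universe u
open CategoryTheory CategoryTheory.Limits AlgebraicGeometry Opposite

namespace Groth.Agent.H19.TorsSys

open Groth.Agent.H12.CohOpen Groth.Agent.H44

variable {R : CommRingCat.{u}}

set_option backward.isDefEq.respectTransparency false in
theorem eq_zero_of_compatible (I : Ideal R) (f : R)
    (M : ModuleCat.{u} R) (Q : ℕ → ModuleCat.{u} R) (q : ∀ n, M ⟶ Q n) (t : ∀ n, Q (n + 1) ⟶ Q n)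
    (hq : ∀ n, Function.Surjective (q n).hom) (hqt : ∀ n, q (n + 1) ≫ t n = q n)
    (hkerq : ∀ n, LinearMap.ker (q n).hom = I ^ (n + 1) • (⊤ : Submodule R M))
    (P : ℕ → (Spec R).Modules) [∀ n, (P n).IsQuasicoherent]
    (ℓ : ∀ n, Q n ⟶ gammaSpec (P n))
    (hanti : ∀ i j, i ≤ j → LinearMap.ker (q j ≫ ℓ j).hom ≤ LinearMap.ker (q i ≫ ℓ i).hom)
    (hb : ∀ k : ℕ, ∃ m : ℕ, LinearMap.ker (q m ≫ ℓ m).hom ≤ I ^ k • (⊤ : Submodule R M))
    (x : ∀ n, ↑((modulesSpecToSheaf.obj (tilde (Q n))).presheaf.obj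
      (op (PrimeSpectrum.basicOpen f))))
    (hx : ∀ n, ((modulesSpecToSheaf.map (tilde.map (t n))).1.app
      (op (PrimeSpectrum.basicOpen f))).hom (x (n + 1)) = x n)
    (hx0 : ∀ n, ((modulesSpecToSheaf.map (subTildeHom (P n) (ℓ n))).1.app
      (op (PrimeSpectrum.basicOpen f))).hom (x n) = 0) :
    ∀ n, x n = 0 := by
  let U : (Spec R).Opens := PrimeSpectrum.basicOpen f
  let τ : ∀ n, Q n →ₗ[R] ↑((modulesSpecToSheaf.obj (tilde (Q n))).presheaf.obj (op U)) :=
    fun n => (tilde.toOpen (Q n) U).hom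
  -- transport of representatives down the tower
  have hdown : ∀ (d n a : ℕ) (y : M), f ^ a • x (n + d) = τ (n + d) ((q (n + d)).hom y) →
      f ^ a • x n = τ n ((q n).hom y) := by
    intro d
    induction d with
    | zero => intro n a y h; exact h
    | succ d ih =>
      intro n a y h
      apply ih n a y
      have h1 := congrArg ((modulesSpecToSheaf.map (tilde.map (t (n + d)))).1.app (op U)).hom h
      rw [map_smul] at h1
      have h2 : ((modulesSpecToSheaf.map (tilde.map (t (n + d)))).1.app (op U)).hom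
          (τ (n + d + 1) ((q (n + d + 1)).hom y)) = τ (n + d) ((q (n + d)).hom y) := by
        have e := congrArg (fun φ => φ.hom ((q (n + d + 1)).hom y))
          (tilde.toOpen_map_app (t (n + d)) U)
        have e' : (t (n + d)).hom ((q (n + d + 1)).hom y) = (q (n + d)).hom y :=
          congrArg (fun φ => φ.hom y) (hqt (n + d))
        exact e.trans (congrArg (τ (n + d)) e')
      have h0 : f ^ a • x (n + d) = f ^ a •
          ((modulesSpecToSheaf.map (tilde.map (t (n + d)))).1.app (op U)).hom (x (n + d + 1)) :=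
        (congrArg (fun z => f ^ a • z) (hx (n + d))).symm
      exact (h0.trans h1).trans h2
  intro n
  obtain ⟨m₀, hm₀⟩ := hb (n + 1)
  obtain ⟨d, hd⟩ : ∃ d, n + d = max m₀ n := ⟨max m₀ n - n, by omega⟩
  have hker : LinearMap.ker (q (n + d) ≫ ℓ (n + d)).hom ≤ I ^ (n + 1) • (⊤ : Submodule R M) :=
    (hanti m₀ (n + d) (by omega)).trans hm₀
  -- represent x (n+d)
  obtain ⟨⟨z, s⟩, hs⟩ := IsLocalizedModule.surj (Submonoid.powers f) (τ (n + d)) (x (n + d))
  obtain ⟨s, a, rfl⟩ := s
  obtain ⟨y, rfl⟩ := hq (n + d) z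
  have hs' : f ^ a • x (n + d) = τ (n + d) ((q (n + d)).hom y) := hs
  have h1 := hdown d n a y hs'
  -- the image of `y` dies in `P (n+d)` over `D(f)`
  have hloc := Groth.Agent.H8.isLocalizedModule_of_isQuasicoherent_Spec (P (n + d)) f
  have h2 : ((modulesSpecToSheaf.obj (P (n + d))).obj.map (PrimeSpectrum.basicOpen f).leTop.op).hom
      ((q (n + d) ≫ ℓ (n + d)).hom y) = 0 := by
    have e := congrArg (fun φ => φ.hom ((q (n + d)).hom y))
      (toOpen_subTildeHom (P (n + d)) (ℓ (n + d)) U)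
    have e2 : ((modulesSpecToSheaf.map (subTildeHom (P (n + d)) (ℓ (n + d)))).1.app (op U)).hom
        (τ (n + d) ((q (n + d)).hom y)) = 0 := by
      rw [← hs', map_smul, hx0, smul_zero]
    exact e.symm.trans e2
  obtain ⟨⟨c, b, rfl⟩, hc⟩ := (IsLocalizedModule.eq_zero_iff (Submonoid.powers f) _).mp h2
  have h3 : f ^ b • y ∈ LinearMap.ker (q (n + d) ≫ ℓ (n + d)).hom := by
    rw [LinearMap.mem_ker, map_smul]
    exact hc
  have h4 : (q n).hom (f ^ b • y) = 0 := by
    have := hker h3
    rw [← hkerq n] at this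
    exact this
  have h5 : f ^ (b + a) • x n = 0 := by
    rw [pow_add, mul_smul, h1, ← map_smul, ← map_smul, h4, map_zero]
  have hunit := IsLocalizedModule.map_units (τ n) (⟨f ^ (b + a), b + a, rfl⟩ : Submonoid.powers f)
  have hinj : Function.Injective (algebraMap R (Module.End R _) (f ^ (b + a))) :=
    ((Module.End.isUnit_iff _).mp hunit).injective
  exact hinj (h5.trans (map_zero _).symm)

end Groth.Agent.H19.TorsSys
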