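import Groth.Agent.H19.TorsSysFin
import Groth.Agent.H19.TorsSysMono
import Groth.Agent.H19.TorsSysEpi

/-!
# Coherence of `(M/I^(n+1)M)~|_U` and injectivity on compatible sections

Helper library (helper19).
-/

set_option autoImplicit false
set_option linter.style.haveILetI false
set_option linter.unusedSectionVars false
universe u
open CategoryTheory CategoryTheory.Limits AlgebraicGeometry Opposite

namespace Groth.Agent.H19.TorsSys

open Groth.Agent.H12.CohOpen Groth.Agent.H44

variable (R : CommRingCat.{u}) [IsNoetherianRing R]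

set_option backward.isDefEq.respectTransparency false in
theorem isCoh_restrict_tmod_quotPow (I 𝔞 : Ideal R)
    (G : ℕᵒᵖ ⥤ (↑(LocCoh.puncturedOpen R 𝔞) : Scheme.{u}).Modules)
    (hG : ∀ n, Coh.IsCoh (G.obj (op n)))
    (hb : ∀ k : ℕ, ∃ n : ℕ,
      LinearMap.ker (limit.π (Algz.sectMod R (LocCoh.puncturedOpen R 𝔞) G) (op n)).hom ≤
      I ^ k • (⊤ : Submodule R ↑(limit (Algz.sectMod R (LocCoh.puncturedOpen R 𝔞) G))))
    (n : ℕ) :
    Coh.IsCoh ((Scheme.Modules.restrictFunctor (LocCoh.puncturedOpen R 𝔞).ι).obj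
      (Formal2.tmod R (Formal2.quotPow R I
        ↑(limit (Algz.sectMod R (LocCoh.puncturedOpen R 𝔞) G)) n))) := by
  let U : (Spec (CommRingCat.of R)).Opens := LocCoh.puncturedOpen R 𝔞
  obtain ⟨m, hm⟩ := hb (n + 1)
  haveI hq1 : (G.obj (op m)).IsQuasicoherent := (hG m).1
  haveI hq2 : SheafOfModules.IsFiniteType (R := (U : Scheme.{u}).ringCatSheaf) (G.obj (op m)) :=
    (hG m).2
  haveI := quasiCompact_ι_of_noetherian R U
  let P : (Spec (CommRingCat.of R)).Modules := (Scheme.Modules.pushforward U.ι).obj (G.obj (op m))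
  haveI hP : P.IsQuasicoherent :=
    Groth.Agent.H8.isQuasicoherent_pushforward_of_qcqs U.ι (G.obj (op m))
  let L : ModuleCat.{u} R := limit (Algz.sectMod R U G)
  let N : ModuleCat.{u} R := ModuleCat.of R (Formal2.quotPow R I L n)
  let q : L ⟶ N := ModuleCat.ofHom (Formal2.quotPowπ R I L n)
  let π : L ⟶ gammaSpec P := limit.π (Algz.sectMod R U G) (op m)
  have hq : Function.Surjective q.hom := Submodule.mkQ_surjective _
  have hker : LinearMap.ker π.hom ≤ LinearMap.ker q.hom := by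
    refine hm.trans (le_of_eq ?_)
    exact (Submodule.ker_mkQ _).symm
  refine ⟨(inferInstance : ((Scheme.Modules.restrictFunctor U.ι).obj
    (tilde (R := CommRingCat.of R) N)).IsQuasicoherent), ?_⟩
  refine isFiniteType_restrict_tilde (R := CommRingCat.of R) U N ?_
  intro x hx
  have hx' : ¬ ((𝔞 : Set R) ⊆ x.asIdeal) := fun h => hx ((PrimeSpectrum.mem_zeroLocus x _).mpr h)
  rw [Set.not_subset] at hx'
  obtain ⟨f, hf𝔞, hfx⟩ := hx'
  have hle : (PrimeSpectrum.basicOpen f : (Spec (CommRingCat.of R)).Opens) ≤ U := by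
    intro y hy hy'
    exact hy (hy' hf𝔞)
  refine ⟨f, hle, hfx, ?_⟩
  exact finite_sections_tilde_of_ker_le (R := CommRingCat.of R) P f
    (finite_sections_push U (G.obj (op m)) _ (IsAffineOpen.Spec_basicOpen f) hle) π q hq hker

variable (R : CommRingCat.{u}) [IsNoetherianRing R] (U : (Spec (CommRingCat.of R)).Opens)

set_option backward.isDefEq.respectTransparency false in
theorem eq_zero_of_compatible_sections (I : Ideal R)
    (G : ℕᵒᵖ ⥤ (U : Scheme.{u}).Modules)
    (hqc : ∀ n, (G.obj (op n)).IsQuasicoherent)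
    (hb : ∀ k : ℕ, ∃ n : ℕ,
      LinearMap.ker (limit.π (Algz.sectMod R U G) (op n)).hom ≤
      I ^ k • (⊤ : Submodule R ↑(limit (Algz.sectMod R U G))))
    (ℓ : ∀ n : ℕ, ModuleCat.of R (Formal2.quotPow R I ↑(limit (Algz.sectMod R U G)) n) ⟶
      (Algz.sectMod R U G).obj (op n))
    (hℓ : ∀ n : ℕ, ModuleCat.ofHom (Formal2.quotPowπ R I ↑(limit (Algz.sectMod R U G)) n) ≫ ℓ n =
      limit.π (Algz.sectMod R U G) (op n))
    (f : R)
    (x : ∀ n : ℕ, (Scheme.Modules.presheaf (Formal2.tmod R (Formal2.quotPow R I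
      ↑(limit (Algz.sectMod R U G)) n))).obj
        (op (PrimeSpectrum.basicOpen f : (Spec (CommRingCat.of R)).Opens)))
    (hx : ∀ n : ℕ, Scheme.Modules.Hom.app (Formal2.tmodMap R (Formal2.quotPowTrans R I
      ↑(limit (Algz.sectMod R U G)) n))
        (PrimeSpectrum.basicOpen f : (Spec (CommRingCat.of R)).Opens) (x (n + 1)) = x n)
    (hx0 : ∀ n : ℕ, Scheme.Modules.Hom.app
      (((tilde.adjunction (R := CommRingCat.of R)).homEquiv
        (ModuleCat.of R (Formal2.quotPow R I ↑(limit (Algz.sectMod R U G)) n))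
        ((Scheme.Modules.pushforward U.ι).obj (G.obj (op n)))).symm (ℓ n))
      (PrimeSpectrum.basicOpen f : (Spec (CommRingCat.of R)).Opens) (x n) = 0) :
    ∀ n : ℕ, x n = 0 := by
  haveI := quasiCompact_ι_of_noetherian R U
  let L : ModuleCat.{u} R := limit (Algz.sectMod R U G)
  let Q : ℕ → ModuleCat.{u} R := fun n => ModuleCat.of R (Formal2.quotPow R I L n)
  let q : ∀ n, L ⟶ Q n := fun n => ModuleCat.ofHom (Formal2.quotPowπ R I L n)
  let t : ∀ n, Q (n + 1) ⟶ Q n := fun n => ModuleCat.ofHom (Formal2.quotPowTrans R I L n)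
  let P : ℕ → (Spec (CommRingCat.of R)).Modules :=
    fun n => (Scheme.Modules.pushforward U.ι).obj (G.obj (op n))
  haveI hP : ∀ n, (P n).IsQuasicoherent := fun n => by
    haveI := hqc n
    exact Groth.Agent.H8.isQuasicoherent_pushforward_of_qcqs U.ι (G.obj (op n))
  let ℓ' : ∀ n, Q n ⟶ gammaSpec (P n) := ℓ
  have hℓ' : ∀ n, q n ≫ ℓ' n = limit.π (Algz.sectMod R U G) (op n) := hℓ
  have hsub : ∀ n, ((tilde.adjunction (R := CommRingCat.of R)).homEquiv (Q n) (P n)).symm (ℓ n) =
      subTildeHom (P n) (ℓ' n) := by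
    intro n
    rw [Adjunction.homEquiv_counit]
    rfl
  refine eq_zero_of_compatible (R := CommRingCat.of R) I f L Q q t
    (fun n => Submodule.mkQ_surjective _) (fun n => rfl) (fun n => Submodule.ker_mkQ _) P ℓ'
    ?_ ?_ x hx ?_
  · intro i j hij y hy
    rw [LinearMap.mem_ker] at hy ⊢
    have h1 : (q i ≫ ℓ' i) = (q j ≫ ℓ' j) ≫ (Algz.sectMod R U G).map (homOfLE hij).op := by
      rw [hℓ', hℓ', limit.w]
    rw [h1]
    change ((Algz.sectMod R U G).map (homOfLE hij).op).hom ((q j ≫ ℓ' j).hom y) = 0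
    rw [hy, map_zero]
  · intro k
    obtain ⟨m, hm⟩ := hb k
    refine ⟨m, ?_⟩
    rw [hℓ']
    exact hm
  · intro n
    have := hx0 n
    rw [hsub n] at this
    exact this

end Groth.Agent.H19.TorsSys
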