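import Groth.Agent.H19.TorsSys
import Groth.Agent.H30.SmulMod
import Groth.Agent.H44.PullbackFT

/-!
# Pullback of coherent formal modules

Helper library (helper19).
-/

set_option autoImplicit false
set_option linter.style.haveILetI false
universe u
open CategoryTheory CategoryTheory.Limits AlgebraicGeometry Opposite

namespace Groth.Agent.H19.TorsSys

section Gamma

variable {X Y : Scheme.{u}} (f : X ⟶ Y)

theorem smulModΓ_eq (M : X.Modules) (r : Coh.Γtop X) :
    Formal.smulModΓ M r = Groth.Agent.H30.SmulMod.smulMod M r := rfl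

/-- Pulling back multiplication by a global function. -/
theorem pullback_map_smulModΓ (G : Y.Modules) (r : Γ(Y, ⊤)) :
    (Scheme.Modules.pullback f).map (Formal.smulModΓ G r) =
      Formal.smulModΓ ((Scheme.Modules.pullback f).obj G) (f.appTop r) := by
  let adj := Scheme.Modules.pullbackPushforwardAdjunction f
  apply (adj.homEquiv _ _).injective
  rw [adj.homEquiv_unit, adj.homEquiv_unit]
  refine (adj.unit.naturality (Formal.smulModΓ G r)).symm.trans ?_
  refine (Groth.Agent.H44.smulModΓ_naturality (adj.unit.app G) r).trans ?_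
  exact congrArg (fun t => adj.unit.app G ≫ t)
    (Groth.Agent.H30.SmulMod.pushforward_map_smulMod f
      ((Scheme.Modules.pullback f).obj G) r).symm

end Gamma

variable {A : Type u} [CommRing A] {X Y : Scheme.{u}} [X.Over (Spec (CommRingCat.of A))]
  [Y.Over (Spec (CommRingCat.of A))] (f : X ⟶ Y)
  (hf : f ≫ (Y ↘ Spec (CommRingCat.of A)) = X ↘ Spec (CommRingCat.of A))

include hf in
theorem toGlobal_eq (a : A) :
    Coh.toGlobal (X ↘ Spec (CommRingCat.of A)) a =
      f.appTop (Coh.toGlobal (Y ↘ Spec (CommRingCat.of A)) a) := by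
  unfold Coh.toGlobal
  rw [← hf, Scheme.Hom.comp_appTop]
  rfl

include hf in
theorem pullback_map_smulMod (G : Y.Modules) (a : A) :
    (Scheme.Modules.pullback f).map (Formal.smulMod A G a) =
      Formal.smulMod A ((Scheme.Modules.pullback f).obj G) a := by
  unfold Formal.smulMod
  rw [pullback_map_smulModΓ, toGlobal_eq f hf a]

include hf in
theorem IsQuot.pullback {J : Ideal A} {M Q : Y.Modules} {π : M ⟶ Q} (h : IsQuot J π) :
    IsQuot J ((Scheme.Modules.pullback f).map π) where
  epi := haveI := h.epi; inferInstance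
  kills a ha := by
    rw [← pullback_map_smulMod f hf, ← Functor.map_comp, h.kills a ha, Functor.map_zero]
  desc {T} g hg := by
    let adj := Scheme.Modules.pullbackPushforwardAdjunction f
    have h1 : ∀ a ∈ J, Formal.smulMod A M a ≫ adj.homEquiv _ _ g = 0 := by
      intro a ha
      rw [← adj.homEquiv_naturality_left, pullback_map_smulMod f hf, hg a ha,
        adj.homEquiv_unit, Functor.map_zero, comp_zero]
    obtain ⟨g', hg'⟩ := h.desc (adj.homEquiv _ _ g) h1
    refine ⟨(adj.homEquiv _ _).symm g', ?_⟩
    rw [← adj.homEquiv_naturality_left_symm, hg', Equiv.symm_apply_apply]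

include hf in
/-- The componentwise pullback of a coherent formal module is a coherent formal module. -/
theorem isCohFormal_comp_pullback (I : Ideal A) (G : ℕᵒᵖ ⥤ Y.Modules)
    (hG : Formal.IsCohFormal I G) :
    Formal.IsCohFormal I (G ⋙ Scheme.Modules.pullback f) := by
  refine ⟨fun n => ?_, fun n a ha => ?_, fun n => ?_⟩
  · haveI : (G.obj (op n)).IsQuasicoherent := (hG.1 n).1
    haveI : SheafOfModules.IsFiniteType (R := Y.ringCatSheaf) (G.obj (op n)) := (hG.1 n).2
    exact ⟨Groth.Agent.H44.isQuasicoherent_pullback f _, Groth.Agent.H44.isFiniteType_pullback f _⟩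
  · change Formal.smulMod A ((Scheme.Modules.pullback f).obj (G.obj (op n))) a = 0
    rw [← pullback_map_smulMod f hf, hG.2.1 n a ha, Functor.map_zero]
  · obtain ⟨h, hiso⟩ := hG.2.2 n
    have hq : IsQuot (I ^ (n + 1)) (G.map (homOfLE (Nat.le_succ n)).op) :=
      isQuot_of_isIso_desc _ _ h
    have hq' := hq.pullback f hf
    have hw := (smulFamily_comp_eq_zero_iff _ _).mpr hq'.kills
    exact ⟨hw, hq'.isIso_desc hw⟩

end Groth.Agent.H19.TorsSys
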