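import Groth.Agent.H19.TorsSysCompl

/-!
# Quotients by an ideal and the tilde construction

Helper library (helper19).  Everything is stated for `R : CommRingCat` (as in Mathlib's `Tilde`
file) so that instances on `tilde.functor R` are found.
-/

set_option autoImplicit false
set_option linter.style.haveILetI false
set_option linter.unusedSectionVars false
universe u
open CategoryTheory CategoryTheory.Limits AlgebraicGeometry Opposite

namespace Groth.Agent.H19.TorsSys

variable (R : CommRingCat.{u}) [(Spec (CommRingCat.of R)).Over (Spec (CommRingCat.of R))]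
  (hX : (Spec (CommRingCat.of R)) ↘ Spec (CommRingCat.of R) = 𝟙 _)

/-- Multiplication by `a` as an endomorphism in `ModuleCat R`. -/
def smulHom (M : ModuleCat.{u} R) (a : R) : M ⟶ M := ModuleCat.ofHom (a • LinearMap.id)

include hX in
theorem toGlobal_self (a : R) :
    Coh.toGlobal ((Spec (CommRingCat.of R)) ↘ Spec (CommRingCat.of R)) a =
      (Scheme.ΓSpecIso (CommRingCat.of R)).inv a := by
  unfold Coh.toGlobal
  rw [hX]
  rfl

include hX in
theorem Γ_map_smulMod (N : (Spec (CommRingCat.of R)).Modules) (a : R) :
    (moduleSpecΓFunctor (R := R)).map (Formal.smulMod R N a) = smulHom R _ a := by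
  apply ModuleCat.hom_ext
  apply LinearMap.ext
  intro x
  have h := toGlobal_self R hX a
  change (Formal.smulModΓ N (Coh.toGlobal _ a)).app ⊤ x = _
  rw [h]
  rfl

theorem smulHom_naturality {M N : ModuleCat.{u} R} (f : M ⟶ N) (a : R) :
    smulHom R M a ≫ f = f ≫ smulHom R N a := by
  apply ModuleCat.hom_ext
  apply LinearMap.ext
  intro x
  exact f.hom.map_smul a x

include hX in
theorem tilde_map_smulHom (M : ModuleCat.{u} R) (a : R) :
    (tilde.functor R).map (smulHom R M a) = Formal.smulMod R ((tilde.functor R).obj M) a := by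
  let adj := tilde.adjunction (R := R)
  apply (adj.homEquiv _ _).injective
  rw [adj.homEquiv_unit, adj.homEquiv_unit]
  refine (adj.unit.naturality (smulHom R M a)).symm.trans ?_
  refine (smulHom_naturality R (adj.unit.app M) a).trans ?_
  exact congrArg (fun t => adj.unit.app M ≫ t) (Γ_map_smulMod R hX _ a).symm

/-- A surjective linear map factors every linear map killing its kernel. -/
theorem exists_factor_of_surjective {M N P : ModuleCat.{u} R} (q : M ⟶ N)
    (hsurj : Function.Surjective q.hom) (f : M ⟶ P)
    (hle : LinearMap.ker q.hom ≤ LinearMap.ker f.hom) : ∃ h : N ⟶ P, q ≫ h = f := by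
  let e := q.hom.quotKerEquivOfSurjective hsurj
  refine ⟨ModuleCat.ofHom (((LinearMap.ker q.hom).liftQ f.hom hle) ∘ₗ e.symm.toLinearMap), ?_⟩
  apply ModuleCat.hom_ext
  apply LinearMap.ext
  intro x
  have h1 : e.symm (q.hom x) = Submodule.Quotient.mk x :=
    LinearMap.quotKerEquivOfSurjective_symm_apply q.hom hsurj x
  change ((LinearMap.ker q.hom).liftQ f.hom hle) (e.symm (q.hom x)) = f.hom x
  rw [h1]
  rfl

include hX in
/-- The tilde of a quotient map `M → M/JM` is a quotient by `J`. -/
theorem isQuot_tilde_map {M N : ModuleCat.{u} R} (J : Ideal R) (q : M ⟶ N)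
    (hsurj : Function.Surjective q.hom)
    (hker : LinearMap.ker q.hom = J • (⊤ : Submodule R M)) :
    IsQuot J ((tilde.functor R).map q) where
  epi := by
    haveI : Epi q := (ModuleCat.epi_iff_surjective q).mpr hsurj
    infer_instance
  kills a ha := by
    rw [← tilde_map_smulHom R hX, ← Functor.map_comp]
    have h0 : smulHom R M a ≫ q = 0 := by
      apply ModuleCat.hom_ext
      apply LinearMap.ext
      intro x
      have hx : a • x ∈ LinearMap.ker q.hom := by
        rw [hker]
        exact Submodule.smul_mem_smul ha Submodule.mem_top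
      exact hx
    rw [h0, Functor.map_zero]
  desc {T} g hg := by
    let adj := tilde.adjunction (R := R)
    haveI : (moduleSpecΓFunctor (R := R)).IsRightAdjoint := adj.isRightAdjoint
    have h1 : ∀ a ∈ J, smulHom R M a ≫ adj.homEquiv _ _ g = 0 := by
      intro a ha
      rw [← adj.homEquiv_naturality_left, tilde_map_smulHom R hX, hg a ha,
        adj.homEquiv_unit, Functor.map_zero, comp_zero]
    have hle : LinearMap.ker q.hom ≤ LinearMap.ker (adj.homEquiv _ _ g).hom := by
      rw [hker, Submodule.smul_le]
      intro a ha x _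
      have := congrArg (fun t => t.hom x) (h1 a ha)
      exact this
    obtain ⟨h, hh⟩ := exists_factor_of_surjective R q hsurj (adj.homEquiv _ _ g) hle
    refine ⟨(adj.homEquiv _ _).symm h, ?_⟩
    rw [← adj.homEquiv_naturality_left_symm, hh, Equiv.symm_apply_apply]

end Groth.Agent.H19.TorsSys
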