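import Groth.Agent.H19.TorsSysStable
import Groth.Agent.H19.TorsSysTilde
import Mathlib.Order.PartialSups

/-!
# The system `M / I^(n+1) M` and its pro-isomorphism with a Mittag-Leffler system

Helper library (helper19).
-/

set_option autoImplicit false
set_option linter.style.haveILetI false
set_option linter.unusedSectionVars false
universe u
open CategoryTheory CategoryTheory.Limits AlgebraicGeometry Opposite

namespace Groth.Agent.H19.TorsSys

section Q

variable {A : Type u} [CommRing A] (I : Ideal A) (M : ModuleCat.{u} A)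

/-- `M / I^(n+1) M`. -/
noncomputable def qObj (n : ℕ) : ModuleCat.{u} A :=
  ModuleCat.of A (M ⧸ (I ^ (n + 1) • (⊤ : Submodule A M)))

/-- The projection `M → M / I^(n+1) M`. -/
noncomputable def qπ (n : ℕ) : M ⟶ qObj I M n :=
  ModuleCat.ofHom (Submodule.mkQ (I ^ (n + 1) • (⊤ : Submodule A M)))

/-- The transition map `M / I^(n+2) M → M / I^(n+1) M`. -/
noncomputable def qTrans (n : ℕ) : qObj I M (n + 1) ⟶ qObj I M n :=
  ModuleCat.ofHom (Submodule.mapQ _ _ LinearMap.id (by
    rw [Submodule.comap_id]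
    exact Submodule.smul_mono_left (Ideal.pow_le_pow_right (Nat.le_succ (n + 1)))))

/-- The system `n ↦ M / I^(n+1) M`. -/
noncomputable def qSys : ℕᵒᵖ ⥤ ModuleCat.{u} A :=
  Functor.ofOpSequence (X := qObj I M) (qTrans I M)

theorem qSys_map_succ (n : ℕ) :
    (qSys I M).map (homOfLE (Nat.le_succ n)).op = qTrans I M n :=
  Functor.ofOpSequence_map_homOfLE_succ (X := qObj I M) (qTrans I M) n

theorem qπ_trans (n : ℕ) : qπ I M (n + 1) ≫ qTrans I M n = qπ I M n := rfl

/-- The projection `M → M / I^(n+1) M`, with target typed as a term of the system. -/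
noncomputable def qSysπ (n : ℕ) : M ⟶ (qSys I M).obj (op n) := qπ I M n

theorem qSysπ_succ (n : ℕ) :
    qSysπ I M (n + 1) ≫ (qSys I M).map (homOfLE (Nat.le_succ n)).op = qSysπ I M n :=
  (congrArg (fun t => qπ I M (n + 1) ≫ t) (qSys_map_succ I M n)).trans (qπ_trans I M n)

theorem qSysπ_tr {i j : ℕ} (h : i ≤ j) :
    qSysπ I M j ≫ ARSys.tr (qSys I M) h = qSysπ I M i := by
  induction j, h using Nat.le_induction with
  | base => rw [tr_self, Category.comp_id]
  | succ j h ih =>
    rw [← tr_comp (qSys I M) h (Nat.le_succ j), ← Category.assoc]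
    change (qSysπ I M (j + 1) ≫ (qSys I M).map (homOfLE (Nat.le_succ j)).op) ≫ _ = _
    rw [qSysπ_succ, ih]

theorem qπ_surjective (n : ℕ) : Function.Surjective (qπ I M n).hom :=
  Submodule.mkQ_surjective _

theorem ker_qπ (n : ℕ) :
    LinearMap.ker (qπ I M n).hom = I ^ (n + 1) • (⊤ : Submodule A M) :=
  Submodule.ker_mkQ _

instance (n : ℕ) : Epi (qπ I M n) :=
  (ModuleCat.epi_iff_surjective _).mpr (qπ_surjective I M n)

theorem qSysπ_surjective (n : ℕ) : Function.Surjective (qSysπ I M n).hom :=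
  qπ_surjective I M n

theorem ker_qSysπ (n : ℕ) :
    LinearMap.ker (qSysπ I M n).hom = I ^ (n + 1) • (⊤ : Submodule A M) :=
  ker_qπ I M n

instance (n : ℕ) : Epi (qSysπ I M n) :=
  (ModuleCat.epi_iff_surjective _).mpr (qSysπ_surjective I M n)

theorem qTrans_surjective (n : ℕ) : Function.Surjective (qTrans I M n).hom := by
  intro y
  obtain ⟨x, rfl⟩ := qπ_surjective I M n y
  exact ⟨(qπ I M (n + 1)).hom x, rfl⟩

theorem ker_qTrans (n : ℕ) :
    LinearMap.ker (qTrans I M n).hom =
      I ^ (n + 1) • (⊤ : Submodule A (qObj I M (n + 1))) := by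
  have h1 : LinearMap.ker (qTrans I M n).hom =
      Submodule.map (qπ I M (n + 1)).hom
        (Submodule.comap (qπ I M (n + 1)).hom (LinearMap.ker (qTrans I M n).hom)) :=
    (Submodule.map_comap_eq_of_surjective (qπ_surjective I M (n + 1)) _).symm
  have h2 : Submodule.comap (qπ I M (n + 1)).hom (LinearMap.ker (qTrans I M n).hom) =
      LinearMap.ker (qπ I M n).hom := by
    rw [← LinearMap.ker_comp]
    rfl
  rw [h1, h2, ker_qπ, Submodule.map_smul'', Submodule.map_top,
    LinearMap.range_eq_top.mpr (qπ_surjective I M (n + 1))]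

end Q

end Groth.Agent.H19.TorsSys
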