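import Groth.Agent.H19.TorsSysQPro
import Groth.Agent.H19.TorsSysExtends
import Groth.Agent.H19.TorsSysCanon

/-!
# Canonical extension from Mittag-Leffler + adic limit topology + finiteness

Helper library (helper19).
-/

set_option autoImplicit false
set_option linter.style.haveILetI false
set_option linter.unusedSectionVars false
universe u
open CategoryTheory CategoryTheory.Limits AlgebraicGeometry Opposite

namespace Groth.Agent.H19.TorsSys

section Fin

variable {A : Type u} [CommRing A]

theorem finite_qObj (X : ℕᵒᵖ ⥤ ModuleCat.{u} A) (I : Ideal A)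
    (hb : ∀ k : ℕ, ∃ n : ℕ, LinearMap.ker (limit.π X (op n)).hom ≤
      I ^ k • (⊤ : Submodule A ↑(limit X)))
    (hc : ∀ n : ℕ, Module.Finite A ↥(LinearMap.range (limit.π X (op n)).hom)) (n : ℕ) :
    Module.Finite A (qObj I (limit X) n) := by
  obtain ⟨n', hn'⟩ := hb (n + 1)
  haveI := hc n'
  let q : limit X ⟶ ModuleCat.of A (LinearMap.range (limit.π X (op n')).hom) :=
    ModuleCat.ofHom (limit.π X (op n')).hom.rangeRestrict
  have hq : Function.Surjective q.hom := LinearMap.surjective_rangeRestrict _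
  have hle : LinearMap.ker q.hom ≤ LinearMap.ker (qπ I (limit X) n).hom := by
    rw [ker_qπ]
    refine le_trans ?_ hn'
    intro y hy
    rw [LinearMap.mem_ker] at hy ⊢
    exact congrArg Subtype.val hy
  obtain ⟨h, hh⟩ := exists_factor_of_surjective' q hq (qπ I (limit X) n) hle
  refine Module.Finite.of_surjective h.hom ?_
  intro z
  obtain ⟨y, rfl⟩ := qπ_surjective I (limit X) n z
  exact ⟨q.hom y, congrArg (fun t => t.hom y) hh⟩

end Fin

variable (R : CommRingCat.{u}) [(Spec (CommRingCat.of R)).Over (Spec (CommRingCat.of R))]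
  (hX : (Spec (CommRingCat.of R)) ↘ Spec (CommRingCat.of R) = 𝟙 _)
  (I : Ideal R)

include hX in
theorem isCohFormal_qSys_tilde (M : ModuleCat.{u} R)
    (hfin : ∀ n, Module.Finite R (qObj I M n)) :
    Formal.IsCohFormal I (qSys I M ⋙ tilde.functor R) := by
  refine ⟨fun n => ?_, fun n a ha => ?_, fun n => ?_⟩
  · haveI := hfin n
    exact ⟨(inferInstance : ((tilde.functor R).obj (qObj I M n)).IsQuasicoherent),
      isFiniteType_tilde R (qObj I M n)⟩
  · change Formal.smulMod R ((tilde.functor R).obj (qObj I M n)) a = 0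
    rw [← tilde_map_smulHom R hX]
    have h0 : smulHom R (qObj I M n) a = 0 := by
      apply ModuleCat.hom_ext
      apply LinearMap.ext
      intro x
      obtain ⟨y, rfl⟩ := qπ_surjective I M n x
      change a • (qπ I M n).hom y = 0
      rw [← map_smul]
      have : a • y ∈ LinearMap.ker (qπ I M n).hom := by
        rw [ker_qπ]
        exact Submodule.smul_mem_smul ha Submodule.mem_top
      exact this
    rw [h0, Functor.map_zero]
  · have hq : IsQuot (I ^ (n + 1))
        ((qSys I M ⋙ tilde.functor R).map (homOfLE (Nat.le_succ n)).op) := by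
      change IsQuot _ ((tilde.functor R).map ((qSys I M).map (homOfLE (Nat.le_succ n)).op))
      rw [qSys_map_succ]
      exact isQuot_tilde_map R hX _ (qTrans I M n) (qTrans_surjective I M n) (ker_qTrans I M n)
    have hw := (smulFamily_comp_eq_zero_iff _ _).mpr hq.kills
    exact ⟨hw, hq.isIso_desc hw⟩

variable (U : (Spec (CommRingCat.of R)).Opens) [(U : Scheme.{u}).Over (Spec (CommRingCat.of R))]
  (hU : U.ι ≫ ((Spec (CommRingCat.of R)) ↘ Spec (CommRingCat.of R)) =
    (U : Scheme.{u}) ↘ Spec (CommRingCat.of R))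

include hX hU in
theorem smul_sectMod_eq_zero (G : ℕᵒᵖ ⥤ (U : Scheme.{u}).Modules) (n : ℕ) (a : R)
    (ha : Formal.smulMod R (G.obj (op n)) a = 0) (x : (Algz.sectMod R U G).obj (op n)) :
    a • x = 0 := by
  have h1 : (Scheme.Modules.pushforward U.ι).map (Formal.smulMod R (G.obj (op n)) a) =
      Formal.smulMod R ((Scheme.Modules.pushforward U.ι).obj (G.obj (op n))) a := by
    unfold Formal.smulMod
    rw [toGlobal_eq U.ι hU a]
    exact Groth.Agent.H30.SmulMod.pushforward_map_smulMod U.ι (G.obj (op n)) _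
  have h2 := Γ_map_smulMod R hX ((Scheme.Modules.pushforward U.ι).obj (G.obj (op n))) a
  haveI : (moduleSpecΓFunctor (R := R)).IsRightAdjoint :=
    (tilde.adjunction (R := R)).isRightAdjoint
  haveI : (moduleSpecΓFunctor (R := R)).PreservesZeroMorphisms :=
    Functor.preservesZeroMorphisms_of_isRightAdjoint _
  rw [← h1, ha, Functor.map_zero, Functor.map_zero] at h2
  exact (congrArg (fun t => t.hom x) h2).symm

include hX hU in
theorem canonicallyExtends_of_isML (G : ℕᵒᵖ ⥤ (U : Scheme.{u}).Modules)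
    (hG : Formal.IsCohFormal I G) (ha : ARSys.IsML (Algz.sectMod R U G))
    (hb : ∀ k : ℕ, ∃ n : ℕ, LinearMap.ker (limit.π (Algz.sectMod R U G) (op n)).hom ≤
      I ^ k • (⊤ : Submodule R ↑(limit (Algz.sectMod R U G))))
    (hc : ∀ n : ℕ, Module.Finite R
      ↥(LinearMap.range (limit.π (Algz.sectMod R U G) (op n)).hom)) :
    ∃ G' : ℕᵒᵖ ⥤ (Spec (CommRingCat.of R)).Modules,
      Formal.IsCohFormal I G' ∧ Algz.IsProIsomorphic (Algz.sectSys R U G) G' := by
  refine ⟨qSys I (limit (Algz.sectMod R U G)) ⋙ tilde.functor (CommRingCat.of R),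
    isCohFormal_qSys_tilde R hX I _ (finite_qObj _ I hb hc), ?_⟩
  have hkill : ∀ n, ∀ a ∈ I ^ (n + 1), ∀ x : (Algz.sectMod R U G).obj (op n), a • x = 0 :=
    fun n a ha' x => smul_sectMod_eq_zero R hX U hU G n a (hG.2.1 n a ha') x
  exact isProIsomorphic_comp_functor (tilde.functor (CommRingCat.of R))
    (isProIsomorphic_qSys (Algz.sectMod R U G) I hkill ha hb)

end Groth.Agent.H19.TorsSys
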