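import Groth.Agent.H19.TorsSysQ

/-!
# A Mittag-Leffler system whose limit has the adic topology is pro-isomorphic to `M / I^(n+1) M`

Helper library (helper19).
-/

set_option autoImplicit false
set_option linter.style.haveILetI false
set_option linter.unusedSectionVars false
universe u
open CategoryTheory CategoryTheory.Limits AlgebraicGeometry Opposite

namespace Groth.Agent.H19.TorsSys

section QPro

variable {A : Type u} [CommRing A]

theorem exists_factor_of_surjective' {M N P : ModuleCat.{u} A} (q : M ⟶ N)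
    (hsurj : Function.Surjective q.hom) (f : M ⟶ P)
    (hle : LinearMap.ker q.hom ≤ LinearMap.ker f.hom) : ∃ h : N ⟶ P, q ≫ h = f := by
  let e := q.hom.quotKerEquivOfSurjective hsurj
  refine ⟨ModuleCat.ofHom (((LinearMap.ker q.hom).liftQ f.hom hle) ∘ₗ e.symm.toLinearMap), ?_⟩
  apply ModuleCat.hom_ext
  apply LinearMap.ext
  intro x
  have h1 : e.symm (q.hom x) = Submodule.Quotient.mk x := by
    rw [LinearEquiv.symm_apply_eq]
    rfl
  change ((LinearMap.ker q.hom).liftQ f.hom hle) (e.symm (q.hom x)) = f.hom x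
  rw [h1]
  rfl

theorem isProIsomorphic_qSys (X : ℕᵒᵖ ⥤ ModuleCat.{u} A) (I : Ideal A)
    (hkill : ∀ n, ∀ a ∈ I ^ (n + 1), ∀ x : X.obj (op n), a • x = 0)
    (hML : ARSys.IsML X)
    (hb : ∀ k : ℕ, ∃ n : ℕ, LinearMap.ker (limit.π X (op n)).hom ≤
      I ^ k • (⊤ : Submodule A ↑(limit X))) :
    Algz.IsProIsomorphic X (qSys I (limit X)) := by
  classical
  let M : ModuleCat.{u} A := limit X
  let π : ∀ n, M ⟶ X.obj (op n) := fun n => limit.π X (op n)
  have hπ : ∀ (i j : ℕ) (h : i ≤ j), π j ≫ ARSys.tr X h = π i := fun i j h => limit.w X _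
  have hπ' : ∀ (i j : ℕ) (h : i ≤ j) (y : M), (ARSys.tr X h).hom ((π j).hom y) = (π i).hom y :=
    fun i j h y => congrArg (fun t => t.hom y) (hπ i j h)
  have htr' : ∀ (i j k : ℕ) (h : i ≤ j) (h' : j ≤ k) (x : X.obj (op k)),
      (ARSys.tr X h).hom ((ARSys.tr X h').hom x) = (ARSys.tr X (h.trans h')).hom x :=
    fun i j k h h' x => congrArg (fun t => t.hom x) (tr_comp X h h')
  have hker_anti : ∀ (i j : ℕ), i ≤ j → LinearMap.ker (π j).hom ≤ LinearMap.ker (π i).hom := by
    intro i j h y hy
    rw [LinearMap.mem_ker] at hy ⊢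
    rw [← hπ' i j h, hy, map_zero]
  choose r₀ hr₀ using fun k => hb (k + 1)
  let r : ℕ → ℕ := fun k => partialSups (fun k => max (r₀ k) k) k
  have hr_mono : Monotone r := (partialSups (fun k => max (r₀ k) k)).monotone
  have hr_ge : ∀ k, k ≤ r k := fun k =>
    (le_max_right (r₀ k) k).trans (le_partialSups (fun k => max (r₀ k) k) k)
  have hr : ∀ k, LinearMap.ker (π (r k)).hom ≤ I ^ (k + 1) • (⊤ : Submodule A M) := fun k =>
    (hker_anti _ _ ((le_max_left (r₀ k) k).trans
      (le_partialSups (fun k => max (r₀ k) k) k))).trans (hr₀ k)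
  choose K hK1 hK2 using fun j => exists_range_limit_π_eq X hML j
  let m : ℕ → ℕ := fun k => partialSups (fun k => K (r k)) k
  have hm_mono : Monotone m := (partialSups (fun k => K (r k))).monotone
  have hm_ge : ∀ k, K (r k) ≤ m k := fun k => le_partialSups (fun k => K (r k)) k
  have hrm : ∀ k, r k ≤ m k := fun k => (hK1 _).trans (hm_ge k)
  have hle : ∀ k, k ≤ m k := fun k => (hr_ge k).trans (hrm k)
  have hE : ∀ k (x : X.obj (op (m k))), ∃ y : M,
      (π (r k)).hom y = (ARSys.tr X (hrm k)).hom x := by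
    intro k x
    have h1 := hK2 (r k) (m k) (hrm k) (hm_ge k)
    have hx : (ARSys.tr X (hrm k)).hom x ∈ LinearMap.range (ARSys.tr X (hrm k)).hom := ⟨x, rfl⟩
    rw [h1] at hx
    exact hx
  have hA : ∀ k, ∃ a : X.obj (op (m k)) ⟶ (qSys I M).obj (op k), ∀ x y,
      (π (r k)).hom y = (ARSys.tr X (hrm k)).hom x → a.hom x = (qSysπ I M k).hom y := by
    intro k
    let f : X.obj (op (m k)) → (qSys I M).obj (op k) := fun x =>
      (qSysπ I M k).hom (Classical.choose (hE k x))
    have hf : ∀ x y, (π (r k)).hom y = (ARSys.tr X (hrm k)).hom x →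
        f x = (qSysπ I M k).hom y := by
      intro x y hy
      have hc := Classical.choose_spec (hE k x)
      have h1 : Classical.choose (hE k x) - y ∈ LinearMap.ker (qSysπ I M k).hom := by
        rw [ker_qSysπ]
        apply hr k
        rw [LinearMap.mem_ker, map_sub, hc, hy, sub_self]
      rw [LinearMap.mem_ker, map_sub, sub_eq_zero] at h1
      exact h1
    refine ⟨ModuleCat.ofHom
      { toFun := f
        map_add' := fun x x' => ?_
        map_smul' := fun c x => ?_ }, fun x y hy => hf x y hy⟩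
    · obtain ⟨y, hy⟩ := hE k x
      obtain ⟨y', hy'⟩ := hE k x'
      rw [hf x y hy, hf x' y' hy', hf (x + x') (y + y') (by rw [map_add, map_add, hy, hy']),
        map_add]
      rfl
    · obtain ⟨y, hy⟩ := hE k x
      rw [hf x y hy, hf (c • x) (c • y) (by rw [map_smul, map_smul, hy]), map_smul]
      rfl
  choose a ha using hA
  have hnat : ∀ (i j : ℕ) (h : i ≤ j),
      ARSys.tr X (hm_mono h) ≫ a i = a j ≫ ARSys.tr (qSys I M) h := by
    intro i j h
    apply ModuleCat.hom_ext
    apply LinearMap.ext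
    intro x
    obtain ⟨y, hy⟩ := hE j x
    have h1 : (π (r i)).hom y =
        (ARSys.tr X (hrm i)).hom ((ARSys.tr X (hm_mono h)).hom x) := by
      rw [← hπ' (r i) (r j) (hr_mono h) y, hy, htr', htr']
    change (a i).hom ((ARSys.tr X (hm_mono h)).hom x) =
      (ARSys.tr (qSys I M) h).hom ((a j).hom x)
    rw [ha i _ y h1, ha j x y hy]
    exact (congrArg (fun t => t.hom y) (qSysπ_tr I M h)).symm
  let anat : DerCA.reindex X hm_mono ⟶ qSys I M :=
    { app := fun j => a j.unop
      naturality := fun j j' f => by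
        have hij : j'.unop ≤ j.unop := leOfHom f.unop
        have hf : f = (homOfLE hij).op := Subsingleton.elim _ _
        subst hf
        exact hnat _ _ hij }
  refine ⟨m, hm_mono, hle, anat, fun n => ?_⟩
  -- the map back
  have hkerle : LinearMap.ker (qSysπ I M (m n)).hom ≤ LinearMap.ker (π (m n)).hom := by
    rw [ker_qSysπ, Submodule.smul_le]
    intro c hc y _
    rw [LinearMap.mem_ker, map_smul]
    exact hkill (m n) c hc _
  obtain ⟨b, hb'⟩ := exists_factor_of_surjective' (qSysπ I M (m n))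
    (qSysπ_surjective I M (m n)) (π (m n)) hkerle
  have hP1 : π (m n) ≫ a n = qSysπ I M n := by
    apply ModuleCat.hom_ext
    apply LinearMap.ext
    intro y
    exact ha n _ y (hπ' (r n) (m n) (hrm n) y).symm
  refine ⟨m n, hle n, b, ?_, ?_⟩
  · change a (m n) ≫ b = ARSys.tr X (hm_mono (hle n))
    apply ModuleCat.hom_ext
    apply LinearMap.ext
    intro x
    obtain ⟨y, hy⟩ := hE (m n) x
    change b.hom ((a (m n)).hom x) = (ARSys.tr X (hm_mono (hle n))).hom x
    rw [ha (m n) x y hy]
    have h2 : b.hom ((qSysπ I M (m n)).hom y) = (π (m n)).hom y :=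
      congrArg (fun t => t.hom y) hb'
    rw [h2, ← hπ' (m n) (r (m n)) (hr_ge (m n)) y, hy, htr']
  · change b ≫ a n = ARSys.tr (qSys I M) (hle n)
    rw [← cancel_epi (qSysπ I M (m n)), reassoc_of% hb', hP1, qSysπ_tr]

end QPro

end Groth.Agent.H19.TorsSys
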