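import Groth.Agent.H19.TorsSysML
import Groth.Agent.H12.LimSys

/-!
# Mittag-Leffler systems of modules: the image of the limit is the stable image

Helper library (helper19).
-/

set_option autoImplicit false
set_option linter.style.haveILetI false
set_option linter.unusedSectionVars false
universe u
open CategoryTheory CategoryTheory.Limits AlgebraicGeometry Opposite

namespace Groth.Agent.H19.TorsSys

section Mod

variable {A : Type u} [CommRing A]

theorem range_le_of_imageSubobject_le {X Y Z : ModuleCat.{u} A} (f : X ⟶ Z) (g : Y ⟶ Z)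
    (h : imageSubobject f ≤ imageSubobject g) :
    LinearMap.range f.hom ≤ LinearMap.range g.hom := by
  have e : f = (factorThruImageSubobject f ≫ Subobject.ofLE _ _ h ≫ (imageSubobjectIso g).hom ≫
      (ModuleCat.imageIsoRange g).hom) ≫ ModuleCat.ofHom (LinearMap.range g.hom).subtype := by
    simp only [Category.assoc]
    rw [ModuleCat.imageIsoRange_hom_subtype, imageSubobject_arrow, Subobject.ofLE_arrow,
      imageSubobject_arrow_comp]
  rintro _ ⟨x, rfl⟩
  rw [e]
  exact Subtype.prop _

theorem range_eq_of_imageSubobject_eq {X Y Z : ModuleCat.{u} A} (f : X ⟶ Z) (g : Y ⟶ Z)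
    (h : imageSubobject f = imageSubobject g) :
    LinearMap.range f.hom = LinearMap.range g.hom :=
  le_antisymm (range_le_of_imageSubobject_le f g h.le) (range_le_of_imageSubobject_le g f h.ge)

theorem tr_self {C : Type*} [Category C] (X : ℕᵒᵖ ⥤ C) (n : ℕ) :
    ARSys.tr X (le_refl n) = 𝟙 _ :=
  (congrArg _ (Subsingleton.elim _ _)).trans (CategoryTheory.Functor.map_id _ _)

/-- A compatible family of elements defines an element of the limit. -/
theorem exists_limit_elt (X : ℕᵒᵖ ⥤ ModuleCat.{u} A) (y : ∀ k, X.obj (op k))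
    (hy : ∀ k, (X.map (homOfLE (Nat.le_succ k)).op).hom (y (k + 1)) = y k) :
    ∃ x : ↑(limit X), ∀ k, (limit.π X (op k)).hom x = y k := by
  have hy' : ∀ (i j : ℕ) (h : i ≤ j), (ARSys.tr X h).hom (y j) = y i := by
    intro i j h
    induction j, h using Nat.le_induction with
    | base => rw [tr_self]; rfl
    | succ j h ih =>
      rw [← tr_comp X h (Nat.le_succ j)]
      change (ARSys.tr X h).hom ((X.map (homOfLE (Nat.le_succ j)).op).hom (y (j + 1))) = y i
      rw [hy j, ih]
  let cone : Cone X :=
    { pt := ModuleCat.of A A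
      π :=
        { app := fun j => ModuleCat.ofHom (LinearMap.toSpanSingleton A _ (y j.unop))
          naturality := fun j j' f => by
            have hij : j'.unop ≤ j.unop := leOfHom f.unop
            have hf : f = (homOfLE hij).op := Subsingleton.elim _ _
            subst hf
            apply ModuleCat.hom_ext
            apply LinearMap.ext_ring
            change (1 : A) • y j'.unop = (ARSys.tr X hij).hom ((1 : A) • y j.unop)
            rw [one_smul, one_smul, hy'] } }
  refine ⟨(limit.lift X cone).hom (1 : A), fun k => ?_⟩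
  change (limit.lift X cone ≫ limit.π X (op k)).hom (1 : A) = y k
  rw [limit.lift_π]
  change (1 : A) • y k = y k
  rw [one_smul]

theorem range_tr_antitone (X : ℕᵒᵖ ⥤ ModuleCat.{u} A) {n k k' : ℕ} (h : n ≤ k) (h' : k ≤ k') :
    LinearMap.range (ARSys.tr X (h.trans h')).hom ≤ LinearMap.range (ARSys.tr X h).hom := by
  rintro _ ⟨x, rfl⟩
  rw [← tr_comp X h h']
  exact ⟨(ARSys.tr X h').hom x, rfl⟩

/-- For a Mittag-Leffler system of modules, the image of the limit in `X_n` is the stable image. -/
theorem exists_range_limit_π_eq (X : ℕᵒᵖ ⥤ ModuleCat.{u} A) (hML : ARSys.IsML X) (n : ℕ) :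
    ∃ K, n ≤ K ∧ ∀ k (hk : n ≤ k), K ≤ k →
      LinearMap.range (ARSys.tr X hk).hom = LinearMap.range (limit.π X (op n)).hom := by
  classical
  choose r hr using hML
  let S : ∀ n, Submodule A (X.obj (op n)) := fun n =>
    LinearMap.range (ARSys.shiftMap X (r n) n).hom
  have hS : ∀ n k (hk : n ≤ k), n + r n ≤ k → LinearMap.range (ARSys.tr X hk).hom = S n := by
    intro n k hk hk'
    obtain ⟨s, rfl⟩ := Nat.exists_eq_add_of_le hk
    exact range_eq_of_imageSubobject_eq _ _ (hr n s (by omega))
  have hmap : ∀ n, Submodule.map (ARSys.tr X (Nat.le_succ n)).hom (S (n + 1)) = S n := by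
    intro n
    let K := max (n + 1 + r (n + 1)) (n + r n)
    have h1 : n + 1 ≤ K := le_trans (Nat.le_add_right _ _) (le_max_left _ _)
    rw [← hS (n + 1) K h1 (le_max_left _ _),
      ← hS n K ((Nat.le_succ n).trans h1) (le_max_right _ _)]
    rw [← tr_comp X (Nat.le_succ n) h1, ModuleCat.hom_comp, LinearMap.range_comp]
  let f : ∀ k, S (k + 1) →ₗ[A] S k := fun k =>
    (ARSys.tr X (Nat.le_succ k)).hom.restrict (fun x hx => by
      rw [← hmap k]
      exact ⟨x, hx, rfl⟩)
  have hf : ∀ k, Function.Surjective (f k) := by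
    intro k ⟨z, hz⟩
    rw [← hmap k] at hz
    obtain ⟨w, hw, rfl⟩ := hz
    exact ⟨⟨w, hw⟩, rfl⟩
  refine ⟨n + r n, Nat.le_add_right _ _, fun k hk hk' => ?_⟩
  rw [hS n k hk hk']
  apply le_antisymm
  · intro z hz
    obtain ⟨y, hy, hyn⟩ := Groth.Agent.H12.exists_compatible (M := fun k => S k) (f := f) hf n
      ⟨z, hz⟩
    obtain ⟨x, hx⟩ := exists_limit_elt X (fun k => (y k).1) (fun k => by
      have := congrArg Subtype.val (hy k)
      exact this)
    exact ⟨x, (hx n).trans (congrArg Subtype.val hyn)⟩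
  · rw [← hS n (n + r n) (Nat.le_add_right _ _) le_rfl]
    rintro _ ⟨x, rfl⟩
    have : limit.π X (op (n + r n)) ≫ ARSys.tr X (Nat.le_add_right n (r n)) = limit.π X (op n) :=
      limit.w X _
    rw [← this]
    exact ⟨(limit.π X (op (n + r n))).hom x, rfl⟩

/-- Categorical packaging: for a Mittag-Leffler system both `lim X ⟶ X_n` and a far enough
transition map `X_k ⟶ X_n` factor through a common object, the first one epimorphically. -/
theorem exists_factor_of_isML (X : ℕᵒᵖ ⥤ ModuleCat.{u} A) (hML : ARSys.IsML X) (n : ℕ) :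
    ∃ (k : ℕ) (hk : n ≤ k) (S : ModuleCat.{u} A) (pM : limit X ⟶ S) (pk : X.obj (op k) ⟶ S)
      (ι : S ⟶ X.obj (op n)),
      Epi pM ∧ pM ≫ ι = limit.π X (op n) ∧ pk ≫ ι = ARSys.tr X hk := by
  obtain ⟨k, hk, hK⟩ := exists_range_limit_π_eq X hML n
  have hrange := hK k hk le_rfl
  refine ⟨k, hk, ModuleCat.of A (LinearMap.range (limit.π X (op n)).hom),
    ModuleCat.ofHom (limit.π X (op n)).hom.rangeRestrict,
    ModuleCat.ofHom ((ARSys.tr X hk).hom.codRestrict _ (fun x => ?_)),
    ModuleCat.ofHom (LinearMap.range (limit.π X (op n)).hom).subtype, ?_, rfl, rfl⟩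
  · rw [← hrange]
    exact ⟨x, rfl⟩
  · exact (ModuleCat.epi_iff_surjective _).mpr (LinearMap.surjective_rangeRestrict _)

end Mod

end Groth.Agent.H19.TorsSys
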