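import Mathlib

/-!
# Weil divisors on the spectrum of a Noetherian UFD are principal (H19)
-/

open CategoryTheory AlgebraicGeometry TopologicalSpace WithZero

namespace Groth.Agent.H19.UFDWeil

universe u

/-- If `ϖ` generates a maximal ideal, its order of vanishing is one. -/
lemma ord_eq_one_of_span_isMaximal {R : Type*} [CommRing R] {ϖ : R}
    (h : (Ideal.span {ϖ}).IsMaximal) : Ring.ord R ϖ = 1 := by
  rw [Ring.ord, Module.length_eq_one_iff]
  rw [isSimpleModule_iff_isSimpleModule_of_algebraMap_surjective (S := R ⧸ Ideal.span {ϖ})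
    Ideal.Quotient.mk_surjective]
  let := Ideal.Quotient.field (Ideal.span {ϖ})
  exact instIsSimpleModule _

lemma ordFrac_eq_of_span_isMaximal {R : Type*} [CommRing R] [IsDomain R] [IsNoetherianRing R]
    [Ring.KrullDimLE 1 R] {K : Type*} [Field K] [Algebra R K] [IsFractionRing R K] {ϖ : R}
    (h : (Ideal.span {ϖ}).IsMaximal) (h0 : ϖ ≠ 0) :
    Ring.ordFrac R (algebraMap R K ϖ) = exp (1 : ℤ) := by
  rw [Ring.ordFrac_eq_ord R h0]
  have := Ring.ordMonoidWithZeroHom_eq_coe (R := R) (mem_nonZeroDivisors_of_ne_zero h0) (n := 1)
    (by rw [ord_eq_one_of_span_isMaximal h]; rfl)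
  rw [this]
  rfl

section Spec

variable (A : Type u) [CommRing A] [IsDomain A] [IsNoetherianRing A]

/-- The map from `A` to the function field of `Spec A`. -/
noncomputable def toFF : A →+* (Spec (CommRingCat.of A)).functionField :=
  (StructureSheaf.toStalk A (genericPoint (Spec (CommRingCat.of A)))).hom

/-- The map from `A` to a stalk of `Spec A`. -/
noncomputable def toSt (x : Spec (CommRingCat.of A)) :
    A →+* (Spec (CommRingCat.of A)).presheaf.stalk x :=
  (StructureSheaf.toStalk A x).hom

/-- The algebra structure of a stalk of `Spec A` over `A`. -/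
noncomputable def stAlg (x : Spec (CommRingCat.of A)) :
    Algebra A ((Spec (CommRingCat.of A)).presheaf.stalk x) := (toSt A x).toAlgebra

lemma stLoc (x : Spec (CommRingCat.of A)) :
    letI := stAlg A x
    IsLocalization.AtPrime ((Spec (CommRingCat.of A)).presheaf.stalk x)
      (show PrimeSpectrum A from x).asIdeal :=
  StructureSheaf.IsLocalization.to_stalk A x

lemma toSt_injective (x : Spec (CommRingCat.of A)) : Function.Injective (toSt A x) := by
  letI := stAlg A x
  have := stLoc A x
  refine IsLocalization.injective (M := (show PrimeSpectrum A from x).asIdeal.primeCompl)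
    ((Spec (CommRingCat.of A)).presheaf.stalk x) ?_
  intro a ha
  refine mem_nonZeroDivisors_of_ne_zero ?_
  rintro rfl
  exact ha (Ideal.zero_mem _)

lemma toFF_injective : Function.Injective (toFF A) := toSt_injective A _

/-- The algebra map to the function field factors through the stalk. -/
lemma toFF_eq (x : Spec (CommRingCat.of A)) (a : A) :
    toFF A a =
      algebraMap ((Spec (CommRingCat.of A)).presheaf.stalk x)
        (Spec (CommRingCat.of A)).functionField (toSt A x a) := by
  have h := StructureSheaf.toStalk_stalkSpecializes (R := A)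
    ((genericPoint_spec (Spec (CommRingCat.of A))).specializes (Set.mem_univ x))
  exact (congrArg (fun φ => φ.hom a) h).symm

lemma ordHom_of_notMem (x : Spec (CommRingCat.of A)) (hx : Order.coheight x = 1) (a : A)
    (ha : a ∉ (show PrimeSpectrum A from x).asIdeal) :
    (Spec (CommRingCat.of A)).ordHom x hx (toFF A a) = 1 := by
  have : Ring.KrullDimLE 1 ((Spec (CommRingCat.of A)).presheaf.stalk x) :=
    krullDimLE_of_coheight_le hx.le
  rw [toFF_eq A x a]
  letI := stAlg A x
  have := stLoc A x
  have hu : IsUnit (toSt A x a) :=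
    IsLocalization.map_units (M := (show PrimeSpectrum A from x).asIdeal.primeCompl)
      ((Spec (CommRingCat.of A)).presheaf.stalk x) ⟨a, ha⟩
  exact Ring.ordFrac_of_isUnit hu

lemma ordHom_of_span_eq (x : Spec (CommRingCat.of A)) (hx : Order.coheight x = 1) (a : A)
    (ha : (show PrimeSpectrum A from x).asIdeal = Ideal.span {a}) (ha0 : a ≠ 0) :
    (Spec (CommRingCat.of A)).ordHom x hx (toFF A a) = exp (1 : ℤ) := by
  have : Ring.KrullDimLE 1 ((Spec (CommRingCat.of A)).presheaf.stalk x) :=
    krullDimLE_of_coheight_le hx.le
  rw [toFF_eq A x a]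
  letI := stAlg A x
  have hloc := stLoc A x
  have hmax : (Ideal.span {toSt A x a}).IsMaximal := by
    have h1 := IsLocalization.AtPrime.map_eq_maximalIdeal
      (show PrimeSpectrum A from x).asIdeal ((Spec (CommRingCat.of A)).presheaf.stalk x)
    rw [ha, Ideal.map_span, Set.image_singleton] at h1
    have h2 : Ideal.span {toSt A x a} = IsLocalRing.maximalIdeal _ := h1
    rw [h2]
    infer_instance
  have h0 : toSt A x a ≠ 0 := fun h => ha0 (toSt_injective A x (h.trans (map_zero _).symm))
  exact ordFrac_eq_of_span_isMaximal hmax h0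

variable [UniqueFactorizationMonoid A]

/-- Points of coheight one in the spectrum of a UFD are generated by a prime element. -/
lemma exists_prime_gen (x : Spec (CommRingCat.of A)) (hx : Order.coheight x = 1) :
    ∃ a : A, Prime a ∧ (show PrimeSpectrum A from x).asIdeal = Ideal.span {a} := by
  have h1 : (show PrimeSpectrum A from x).asIdeal.height = 1 := by
    have := idealHeight_eq_coheight (CommRingCat.of A) x
    rw [hx] at this
    exact this
  have hne : (show PrimeSpectrum A from x).asIdeal ≠ ⊥ := Ideal.ne_bot_of_height_eq_one h1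
  obtain ⟨a, ha, hp⟩ := Ideal.IsPrime.exists_mem_prime_of_ne_bot
    (show PrimeSpectrum A from x).isPrime hne
  exact ⟨a, hp, Ideal.eq_span_singleton_of_height_eq_one h1 ha hp⟩

open Classical in
/-- A chosen generator for each point (one off codimension one). -/
noncomputable def gen (y : Spec (CommRingCat.of A)) : A :=
  if h : Order.coheight y = 1 then (exists_prime_gen A y h).choose else 1

lemma gen_ne_zero (y : Spec (CommRingCat.of A)) : gen A y ≠ 0 := by
  unfold gen
  split_ifs with h
  · exact (exists_prime_gen A y h).choose_spec.1.ne_zero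
  · exact one_ne_zero

lemma gen_span (y : Spec (CommRingCat.of A)) (h : Order.coheight y = 1) :
    (show PrimeSpectrum A from y).asIdeal = Ideal.span {gen A y} := by
  unfold gen
  rw [dif_pos h]
  exact (exists_prime_gen A y h).choose_spec.2

open Classical in
lemma ordHom_gen (x y : Spec (CommRingCat.of A)) (hx : Order.coheight x = 1)
    (hy : Order.coheight y = 1) :
    (Spec (CommRingCat.of A)).ordHom x hx (toFF A (gen A y)) =
      if y = x then exp (1 : ℤ) else 1 := by
  split_ifs with h
  · subst h
    exact ordHom_of_span_eq A y hx (gen A y) (gen_span A y hx) (gen_ne_zero A y)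
  · apply ordHom_of_notMem
    intro hmem
    apply h
    have hle : (show PrimeSpectrum A from y).asIdeal ≤ (show PrimeSpectrum A from x).asIdeal := by
      rw [gen_span A y hy, Ideal.span_singleton_le_iff_mem]
      exact hmem
    have h1 : (show PrimeSpectrum A from x).asIdeal.height = 1 := by
      have := idealHeight_eq_coheight (CommRingCat.of A) x
      rw [hx] at this
      exact this
    have h2 : (show PrimeSpectrum A from y).asIdeal.height = 1 := by
      have := idealHeight_eq_coheight (CommRingCat.of A) y
      rw [hy] at this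
      exact this
    have : (show PrimeSpectrum A from y).asIdeal.FiniteHeight := by
      simp [Ideal.finiteHeight_iff, h2]
    have heq := Ideal.eq_of_le_of_height_le (I := (show PrimeSpectrum A from y).asIdeal) hle
      (le_of_eq (h1.trans h2.symm))
    exact PrimeSpectrum.ext heq

theorem exists_principal (D : ↥(Spec (CommRingCat.of A)) → ℤ)
    (hD : ∀ x, Order.coheight x ≠ 1 → D x = 0) (hfin : {x | D x ≠ 0}.Finite) :
    ∃ f : ↑(Spec (CommRingCat.of A)).functionField, f ≠ 0 ∧
      ∀ x : ↥(Spec (CommRingCat.of A)), Order.coheight x = 1 → Scheme.ord f x = D x := by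
  classical
  have hne : ∀ y, toFF A (gen A y) ≠ 0 := fun y h =>
    gen_ne_zero A y (toFF_injective A (h.trans (map_zero _).symm))
  refine ⟨∏ y ∈ hfin.toFinset, (toFF A (gen A y)) ^ (D y), ?_, ?_⟩
  · rw [Finset.prod_ne_zero_iff]
    intro y _
    exact zpow_ne_zero _ (hne y)
  · intro x hx
    have hf : (∏ y ∈ hfin.toFinset, (toFF A (gen A y)) ^ (D y)) ≠ 0 := by
      rw [Finset.prod_ne_zero_iff]
      intro y _
      exact zpow_ne_zero _ (hne y)
    rw [Scheme.ord_eq_iff hx hf, map_prod]
    have hterm : ∀ y ∈ hfin.toFinset,
        (Spec (CommRingCat.of A)).ordHom x hx ((toFF A (gen A y)) ^ (D y)) =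
          if y = x then exp (D x) else 1 := by
      intro y hy
      have hy1 : Order.coheight y = 1 := by
        by_contra h
        exact (hfin.mem_toFinset.mp hy) (hD y h)
      rw [map_zpow₀, ordHom_gen A x y hx hy1]
      split_ifs with h
      · subst h
        rw [← exp_zsmul]
        simp
      · simp
    rw [Finset.prod_congr rfl hterm, Finset.prod_ite_eq']
    split_ifs with hmem
    · rfl
    · have : D x = 0 := by
        by_contra h
        exact hmem (hfin.mem_toFinset.mpr h)
      rw [this]
      rfl

end Spec

end Groth.Agent.H19.UFDWeil
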